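import Mathlib.RingTheory.Ideal.HasGoingUp
import Mathlib.RingTheory.KrullDimension.Basic
import Mathlib.RingTheory.Ideal.GoingUp

/-! Krull dimension of integral extensions (helper55). -/

set_option autoImplicit false

namespace Groth.Agent.Lib.Helper55

open Order

/-- For an integral algebra, `dim S ≤ dim R` (incomparability). -/
theorem ringKrullDim_le_of_isIntegral (R S : Type*) [CommRing R] [CommRing S] [Algebra R S]
    [Algebra.IsIntegral R S] : ringKrullDim S ≤ ringKrullDim R := by
  refine krullDim_le_of_strictMono (PrimeSpectrum.comap (algebraMap R S)) ?_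
  intro p q hpq
  have : p.asIdeal < q.asIdeal := hpq
  exact Ideal.IsIntegral.comap_lt_comap (R := R) this

/-- For an injective integral algebra, `dim R ≤ dim S` (lying over and going up). -/
theorem ringKrullDim_le_of_isIntegral_of_injective (R S : Type*) [CommRing R] [CommRing S]
    [Algebra R S] [Algebra.IsIntegral R S] (hinj : Function.Injective (algebraMap R S)) :
    ringKrullDim R ≤ ringKrullDim S := by
  unfold ringKrullDim
  rw [krullDim]
  refine iSup_le fun l => ?_
  obtain ⟨Q, -, hQ₁, hQ₂⟩ := Ideal.exists_ideal_over_prime_of_isIntegral (S := S)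
    l.head.asIdeal (⊥ : Ideal S)
    (by rw [← RingHom.ker_eq_comap_bot, (RingHom.injective_iff_ker_eq_bot _).mp hinj]; exact bot_le)
  have : Q.LiesOver l.head.asIdeal := ⟨hQ₂.symm⟩
  obtain ⟨L, hL, -, -⟩ := Ideal.exists_ltSeries_of_hasGoingUp (S := S) l Q
  rw [← hL]
  exact L.length_le_krullDim

theorem ringKrullDim_eq_of_isIntegral_of_injective (R S : Type*) [CommRing R] [CommRing S]
    [Algebra R S] [Algebra.IsIntegral R S] (hinj : Function.Injective (algebraMap R S)) :
    ringKrullDim S = ringKrullDim R :=
  le_antisymm (ringKrullDim_le_of_isIntegral R S) (ringKrullDim_le_of_isIntegral_of_injective R S hinj)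

/-- Ring-hom version. -/
theorem ringKrullDim_eq_of_ringHom_isIntegral_of_injective {R S : Type*} [CommRing R] [CommRing S]
    (f : R →+* S) (hf : f.IsIntegral) (hinj : Function.Injective f) :
    ringKrullDim S = ringKrullDim R := by
  let _ := f.toAlgebra
  have : Algebra.IsIntegral R S := ⟨hf⟩
  exact ringKrullDim_eq_of_isIntegral_of_injective R S hinj

end Groth.Agent.Lib.Helper55
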