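import Mathlib.Topology.KrullDimension
import Mathlib.Topology.Sets.Closeds

/-!
# Chains of irreducible closed subsets restrict to opens meeting the smallest member
-/

set_option autoImplicit false

open TopologicalSpace Order

namespace Groth.Agent.Lib.Helper55

/-- A chain of irreducible closed subsets of `X` whose smallest member meets the open `U`
restricts to a chain of the same length in `U`. -/
theorem length_le_topologicalKrullDim_of_head_inter_nonempty {X : Type*} [TopologicalSpace X]
    (p : LTSeries (IrreducibleCloseds X)) (U : Opens X)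
    (h : ((p.head : Set X) ∩ U).Nonempty) :
    (p.length : WithBot ℕ∞) ≤ topologicalKrullDim U := by
  have hemb : Topology.IsOpenEmbedding (Subtype.val : U → X) := U.2.isOpenEmbedding_subtypeVal
  let e := IrreducibleCloseds.orderIsoOfIsOpenEmbedding (Subtype.val : U → X) hemb
  have hmem : ∀ i, ((Subtype.val : U → X) ⁻¹' (p i : Set X)).Nonempty := by
    intro i
    obtain ⟨x, hx, hxU⟩ := h
    have hle : p.head ≤ p i := LTSeries.head_le p i
    exact ⟨⟨x, hxU⟩, hle hx⟩
  let q : LTSeries (IrreducibleCloseds U) := LTSeries.mk p.length
    (fun i ↦ e.symm ⟨p i, hmem i⟩) (by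
      intro i j hij
      apply e.symm.strictMono
      exact p.strictMono hij)
  exact q.length_le_krullDim

/-- To bound the dimension of a space it suffices to bound the dimension of one open
neighbourhood of each point. -/
theorem topologicalKrullDim_le_of_forall_exists_open {X : Type*} [TopologicalSpace X]
    (d : WithBot ℕ∞) (h : ∀ x : X, ∃ U : Opens X, x ∈ U ∧ topologicalKrullDim U ≤ d) :
    topologicalKrullDim X ≤ d := by
  rw [topologicalKrullDim, krullDim]
  refine iSup_le fun p ↦ ?_
  obtain ⟨x, hx⟩ := p.head.2.nonempty
  obtain ⟨U, hxU, hU⟩ := h x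
  exact (length_le_topologicalKrullDim_of_head_inter_nonempty p U ⟨x, hx, hxU⟩).trans hU

end Groth.Agent.Lib.Helper55
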