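import Groth.Agent.Lib.Helper55.ProjDimAlg
import Groth.Agent.Lib.Helper55.DimOpenCover
import Groth.Agent.S10838
import Mathlib.RingTheory.Jacobson.Ring
import Mathlib.RingTheory.Ideal.MinimalPrime.Noetherian

/-!
# Local dimension of the spectrum of a finitely generated algebra over a field (helper55)

For a prime `𝔭` of a finitely generated `k`-algebra `A`, every open neighbourhood of `𝔭` in
`Spec A` has dimension at least `ht 𝔭 + dim A/𝔭`, and some basic open neighbourhood has exactly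
this dimension.
-/

set_option autoImplicit false

namespace Groth.Agent.Lib.Helper55

universe u

open Order TopologicalSpace

section General

variable {R : Type*} [CommRing R]

/-- The height of `𝔭/𝔮` in `R/𝔮` is at most the height of `𝔭`. -/
theorem height_map_quotient_le (𝔮 𝔭 : Ideal R) [h𝔭 : 𝔭.IsPrime] (h : 𝔮 ≤ 𝔭) :
    (𝔭.map (Ideal.Quotient.mk 𝔮)).height ≤ 𝔭.height := by
  have hsurj : Function.Surjective (Ideal.Quotient.mk 𝔮) := Ideal.Quotient.mk_surjective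
  have hker : RingHom.ker (Ideal.Quotient.mk 𝔮) ≤ 𝔭 := by
    rw [Ideal.mk_ker]
    exact h
  have hprime : (𝔭.map (Ideal.Quotient.mk 𝔮)).IsPrime := Ideal.map_isPrime_of_surjective hsurj hker
  have hcomap : (𝔭.map (Ideal.Quotient.mk 𝔮)).comap (Ideal.Quotient.mk 𝔮) = 𝔭 := by
    rw [Ideal.comap_map_of_surjective _ hsurj, ← RingHom.ker_eq_comap_bot, Ideal.mk_ker]
    exact sup_eq_left.mpr h
  have hmono : StrictMono (PrimeSpectrum.comap (Ideal.Quotient.mk 𝔮)) := by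
    intro a b hab
    refine lt_of_le_of_ne (Ideal.comap_mono hab.le) ?_
    intro heq
    have : a = b := PrimeSpectrum.comap_injective_of_surjective _ hsurj heq
    exact hab.ne this
  have h1 := height_le_height_apply_of_strictMono _ hmono
    (⟨𝔭.map (Ideal.Quotient.mk 𝔮), hprime⟩ : PrimeSpectrum (R ⧸ 𝔮))
  rw [← PrimeSpectrum.height_eq_orderHeight, ← PrimeSpectrum.height_eq_orderHeight] at h1
  have h2 : (PrimeSpectrum.comap (Ideal.Quotient.mk 𝔮)
      (⟨𝔭.map (Ideal.Quotient.mk 𝔮), hprime⟩ : PrimeSpectrum (R ⧸ 𝔮))).asIdeal = 𝔭 := hcomap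
  rw [h2] at h1
  exact h1

/-- `dim R_g` is the dimension of the basic open `D(g)`. -/
theorem ringKrullDim_localizationAway_eq (g : R) :
    ringKrullDim (Localization.Away g) = topologicalKrullDim (PrimeSpectrum.basicOpen g) := by
  rw [← PrimeSpectrum.topologicalKrullDim_eq_ringKrullDim]
  have hemb := PrimeSpectrum.localization_away_isOpenEmbedding (Localization.Away g) g
  have hrange := PrimeSpectrum.localization_away_comap_range (Localization.Away g) g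
  have h1 := IsHomeomorph.topologicalKrullDim_eq _ hemb.isEmbedding.toHomeomorph.isHomeomorph
  rw [h1]
  exact IsHomeomorph.topologicalKrullDim_eq _ (Homeomorph.setCongr hrange).isHomeomorph

end General

section FiniteType

variable (k A : Type u) [Field k] [CommRing A] [Algebra k A] [Algebra.FiniteType k A]

include k

/-- (I1) For primes `𝔮 ≤ 𝔭`, `dim A/𝔮 ≤ dim A/𝔭 + ht 𝔭`. -/
theorem ringKrullDim_quotient_le_add_height (𝔮 𝔭 : Ideal A) [h𝔮 : 𝔮.IsPrime] [h𝔭 : 𝔭.IsPrime]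
    (h : 𝔮 ≤ 𝔭) :
    ringKrullDim (A ⧸ 𝔮) ≤ ringKrullDim (A ⧸ 𝔭) + (𝔭.height : WithBot ℕ∞) := by
  have hsurj : Function.Surjective (Ideal.Quotient.mk 𝔮) := Ideal.Quotient.mk_surjective
  have hker : RingHom.ker (Ideal.Quotient.mk 𝔮) ≤ 𝔭 := by
    rw [Ideal.mk_ker]
    exact h
  have hprime : (𝔭.map (Ideal.Quotient.mk 𝔮)).IsPrime := Ideal.map_isPrime_of_surjective hsurj hker
  have hdom : IsDomain (A ⧸ 𝔮) := (Ideal.Quotient.isDomain_iff_prime _).mpr h𝔮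
  have hH := ringKrullDim_quotient_add_height k (A ⧸ 𝔮) (𝔭.map (Ideal.Quotient.mk 𝔮))
  rw [ringKrullDim_eq_of_ringEquiv (DoubleQuot.quotQuotEquivQuotOfLE h)] at hH
  rw [← hH]
  exact add_le_add_right (by exact_mod_cast height_map_quotient_le 𝔮 𝔭 h) _

/-- (I2) Every prime `𝔭` contains a minimal prime `𝔮` with `dim A/𝔮 = dim A/𝔭 + ht 𝔭`. -/
theorem exists_minimalPrimes_ringKrullDim_quotient_eq (𝔭 : Ideal A) [h𝔭 : 𝔭.IsPrime] :
    ∃ 𝔮 : Ideal A, 𝔮 ∈ minimalPrimes A ∧ 𝔮 ≤ 𝔭 ∧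
      ringKrullDim (A ⧸ 𝔮) = ringKrullDim (A ⧸ 𝔭) + (𝔭.height : WithBot ℕ∞) := by
  have : IsNoetherianRing A := Algebra.FiniteType.isNoetherianRing k A
  obtain ⟨l, hlast, hlen⟩ := Ideal.exists_ltSeries_length_eq_height 𝔭
  have hlen' : (l.length : ℕ∞) = Order.height l.last := by
    rw [hlen, hlast, ← PrimeSpectrum.height_eq_orderHeight]
  have hidx := Order.height_eq_index_of_length_eq_height_last hlen'
  have hsat : ∀ i : Fin l.length, l i.castSucc ⋖ l i.succ := by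
    intro i
    refine ⟨l.strictMono (Fin.castSucc_lt_succ), ?_⟩
    intro 𝔯 h1 h2
    have e1 := Order.height_add_one_le h1
    have e2 := Order.height_add_one_le h2
    rw [hidx] at e1 e2
    have e3 : ((i.castSucc : ℕ) : ℕ∞) + 1 + 1 ≤ ((i.succ : ℕ) : ℕ∞) := (add_le_add_left e1 1).trans e2
    simp only [Fin.val_castSucc, Fin.val_succ] at e3
    norm_cast at e3
    omega
  have hhead : l.head.asIdeal ∈ minimalPrimes A := by
    have h0 : Order.height (l 0) = 0 := by simpa using hidx 0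
    rw [← PrimeSpectrum.height_eq_orderHeight, Ideal.height_eq_zero_iff] at h0
    exact h0
  have hle : l.head.asIdeal ≤ 𝔭 := by
    have h1 : l.head ≤ l.last := LTSeries.head_le_last l
    rw [hlast] at h1
    exact h1
  refine ⟨l.head.asIdeal, hhead, hle, ?_⟩
  have h := ringKrullDim_quotient_head_eq_of_saturated k A l hsat
  rw [hlast] at h
  rw [h, ← hlen]
  rfl

/-- (LD1) A nonempty open subset of the spectrum of a finitely generated domain over a field has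
the same dimension as the whole spectrum. -/
theorem ringKrullDim_le_topologicalKrullDim_of_nonempty_open [IsDomain A]
    (U : Opens (PrimeSpectrum A)) (hU : (U : Set (PrimeSpectrum A)).Nonempty) :
    ringKrullDim A ≤ topologicalKrullDim U := by
  have : IsNoetherianRing A := Algebra.FiniteType.isNoetherianRing k A
  have hJ : IsJacobsonRing A := isJacobsonRing_of_finiteType (A := k) (B := A)
  -- a basic open inside `U`
  obtain ⟨x, hx⟩ := hU
  obtain ⟨_, ⟨g, rfl⟩, hxg, hgU⟩ :=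
    PrimeSpectrum.isTopologicalBasis_basic_opens.exists_subset_of_mem_open hx U.2
  have hg0 : g ≠ 0 := by
    rintro rfl
    simp at hxg
  -- a maximal ideal not containing `g`
  obtain ⟨𝔪, h𝔪, hg𝔪⟩ : ∃ 𝔪 : Ideal A, 𝔪.IsMaximal ∧ g ∉ 𝔪 := by
    by_contra hcon
    push Not at hcon
    have h1 : g ∈ (⊥ : Ideal A).jacobson := by
      rw [Ideal.jacobson, Ideal.mem_sInf]
      rintro J ⟨-, hJmax⟩
      exact hcon J hJmax
    rw [hJ.out Ideal.isRadical_bot] at h1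
    exact hg0 ((Ideal.mem_bot).mp h1)
  have h𝔪p : 𝔪.IsPrime := h𝔪.isPrime
  -- its height is `dim A`
  have hH := ringKrullDim_quotient_add_height k A 𝔪
  have hfield : ringKrullDim (A ⧸ 𝔪) = 0 :=
    ringKrullDim_eq_zero_of_isField ((Ideal.Quotient.maximal_ideal_iff_isField_quotient _).mp h𝔪)
  rw [hfield, zero_add] at hH
  obtain ⟨l, hlast, hlen⟩ := Ideal.exists_ltSeries_length_eq_height 𝔪
  -- the chain of closures
  let c : LTSeries (IrreducibleCloseds (PrimeSpectrum A)) :=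
    LTSeries.mk l.length (fun i => ⟨closure {l i.rev}, isIrreducible_singleton.closure,
      isClosed_closure⟩) (by
      intro i j hij
      have h1 : l j.rev < l i.rev := l.strictMono (Fin.rev_lt_rev.mpr hij)
      refine lt_of_le_of_ne ?_ ?_
      · change closure {l i.rev} ⊆ closure {l j.rev}
        apply closure_minimal _ isClosed_closure
        rw [Set.singleton_subset_iff, ← specializes_iff_mem_closure,
          ← PrimeSpectrum.le_iff_specializes]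
        exact h1.le
      · intro heq
        have h2 : closure {l i.rev} = closure {l j.rev} :=
          congrArg IrreducibleCloseds.carrier heq
        have h3 : l j.rev ∈ closure {l i.rev} := by
          rw [h2]
          exact subset_closure rfl
        rw [← specializes_iff_mem_closure, ← PrimeSpectrum.le_iff_specializes] at h3
        exact absurd h1 (not_lt_of_ge h3))
  have hc := length_le_topologicalKrullDim_of_head_inter_nonempty c U (by
    refine ⟨⟨𝔪, h𝔪p⟩, ?_, hgU hg𝔪⟩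
    change (⟨𝔪, h𝔪p⟩ : PrimeSpectrum A) ∈ closure {l (0 : Fin (l.length + 1)).rev}
    have : (0 : Fin (l.length + 1)).rev = Fin.last _ := by simp
    rw [this]
    change _ ∈ closure {l.last}
    rw [hlast]
    exact subset_closure rfl)
  rw [← hH, ← hlen]
  exact hc

/-- (LD2) Every open neighbourhood of `𝔭` has dimension at least `dim A/𝔭 + ht 𝔭`. -/
theorem ringKrullDim_quotient_add_height_le_topologicalKrullDim (𝔭 : PrimeSpectrum A)
    (U : Opens (PrimeSpectrum A)) (hU : 𝔭 ∈ U) :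
    ringKrullDim (A ⧸ 𝔭.asIdeal) + (𝔭.asIdeal.height : WithBot ℕ∞) ≤ topologicalKrullDim U := by
  obtain ⟨𝔮, h𝔮min, h𝔮𝔭, hdim⟩ := exists_minimalPrimes_ringKrullDim_quotient_eq k A 𝔭.asIdeal
  have h𝔮 : 𝔮.IsPrime := h𝔮min.1.1
  have hdom : IsDomain (A ⧸ 𝔮) := (Ideal.Quotient.isDomain_iff_prime _).mpr h𝔮
  have hsurj : Function.Surjective (Ideal.Quotient.mk 𝔮) := Ideal.Quotient.mk_surjective
  have hemb := PrimeSpectrum.isClosedEmbedding_comap_of_surjective (A ⧸ 𝔮) (Ideal.Quotient.mk 𝔮) hsurj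
  let U' : Opens (PrimeSpectrum (A ⧸ 𝔮)) :=
    ⟨PrimeSpectrum.comap (Ideal.Quotient.mk 𝔮) ⁻¹' (U : Set (PrimeSpectrum A)),
      U.2.preimage hemb.continuous⟩
  have hU' : (U' : Set (PrimeSpectrum (A ⧸ 𝔮))).Nonempty := by
    have hker : RingHom.ker (Ideal.Quotient.mk 𝔮) ≤ 𝔭.asIdeal := by
      rw [Ideal.mk_ker]
      exact h𝔮𝔭
    have hprime : (𝔭.asIdeal.map (Ideal.Quotient.mk 𝔮)).IsPrime :=
      Ideal.map_isPrime_of_surjective hsurj hker
    refine ⟨⟨𝔭.asIdeal.map (Ideal.Quotient.mk 𝔮), hprime⟩, ?_⟩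
    change PrimeSpectrum.comap (Ideal.Quotient.mk 𝔮) _ ∈ U
    have : PrimeSpectrum.comap (Ideal.Quotient.mk 𝔮)
        ⟨𝔭.asIdeal.map (Ideal.Quotient.mk 𝔮), hprime⟩ = 𝔭 := by
      ext1
      change (𝔭.asIdeal.map (Ideal.Quotient.mk 𝔮)).comap (Ideal.Quotient.mk 𝔮) = 𝔭.asIdeal
      rw [Ideal.comap_map_of_surjective _ hsurj, ← RingHom.ker_eq_comap_bot, Ideal.mk_ker]
      exact sup_eq_left.mpr h𝔮𝔭
    rw [this]
    exact hU
  have h1 := ringKrullDim_le_topologicalKrullDim_of_nonempty_open k (A ⧸ 𝔮) U' hU'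
  have h2 : topologicalKrullDim U' ≤ topologicalKrullDim U :=
    (hemb.isInducing.restrictPreimage (U : Set (PrimeSpectrum A))).topologicalKrullDim_le
  rw [← hdim]
  exact h1.trans h2

/-- There is an element outside `𝔭` which lies in every minimal prime not contained in `𝔭`. -/
theorem exists_notMem_forall_minimalPrimes (𝔭 : Ideal A) [h𝔭 : 𝔭.IsPrime] :
    ∃ g : A, g ∉ 𝔭 ∧ ∀ 𝔮 ∈ minimalPrimes A, g ∉ 𝔮 → 𝔮 ≤ 𝔭 := by
  classical
  have : IsNoetherianRing A := Algebra.FiniteType.isNoetherianRing k A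
  have hfin : (minimalPrimes A).Finite := minimalPrimes.finite_of_isNoetherianRing A
  have hchoice : ∀ 𝔮 : Ideal A, ∃ a : A, a ∉ 𝔭 ∧ (¬ 𝔮 ≤ 𝔭 → a ∈ 𝔮) := by
    intro 𝔮
    by_cases h : 𝔮 ≤ 𝔭
    · exact ⟨1, fun h1 => h𝔭.ne_top ((Ideal.eq_top_iff_one _).mpr h1), fun h' => absurd h h'⟩
    · obtain ⟨a, ha𝔮, ha𝔭⟩ := SetLike.not_le_iff_exists.mp h
      exact ⟨a, ha𝔭, fun _ => ha𝔮⟩
  choose a ha1 ha2 using hchoice
  refine ⟨∏ 𝔮 ∈ hfin.toFinset, a 𝔮, ?_, ?_⟩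
  · rw [Ideal.IsPrime.prod_mem_iff]
    rintro ⟨𝔮, -, h⟩
    exact ha1 𝔮 h
  · intro 𝔮 h𝔮 hg
    by_contra hle
    apply hg
    have h1 : a 𝔮 ∣ ∏ 𝔮 ∈ hfin.toFinset, a 𝔮 :=
      Finset.dvd_prod_of_mem a (hfin.mem_toFinset.mpr h𝔮)
    obtain ⟨c, hc⟩ := h1
    rw [hc]
    exact Ideal.mul_mem_right _ _ (ha2 𝔮 hle)

/-- (LD3) If `g ∉ 𝔭` lies in every minimal prime not contained in `𝔭`, then `D(g)` has
dimension at most `dim A/𝔭 + ht 𝔭`. -/
theorem topologicalKrullDim_basicOpen_le (𝔭 : Ideal A) [h𝔭 : 𝔭.IsPrime] (g : A)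
    (hg : ∀ 𝔮 ∈ minimalPrimes A, g ∉ 𝔮 → 𝔮 ≤ 𝔭) :
    topologicalKrullDim (PrimeSpectrum.basicOpen g) ≤
      ringKrullDim (A ⧸ 𝔭) + (𝔭.height : WithBot ℕ∞) := by
  set U := PrimeSpectrum.basicOpen g with hU
  have : QuasiSober ↥U := U.2.isOpenEmbedding_subtypeVal.quasiSober
  refine (Groth.Agent.S10838.topologicalKrullDim_le_specialization ↥U).trans ?_
  rw [krullDim_eq_iSup_height]
  refine iSup_le fun a => ?_
  let φ : Specialization ↥U → (PrimeSpectrum A)ᵒᵈ :=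
    fun b => OrderDual.toDual (Specialization.ofEquiv b).1
  have hφ : StrictMono φ := by
    intro b c hbc
    have h1 : Specialization.ofEquiv c ⤳ Specialization.ofEquiv b := hbc.le
    have h2 : ¬ Specialization.ofEquiv b ⤳ Specialization.ofEquiv c := fun h => hbc.not_ge h
    rw [← Topology.IsInducing.subtypeVal.specializes_iff, ← PrimeSpectrum.le_iff_specializes]
      at h1 h2
    change (Specialization.ofEquiv c).1 < (Specialization.ofEquiv b).1
    exact lt_of_le_not_ge h1 h2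
  have h1 : height a ≤ height (φ a) := height_le_height_apply_of_strictMono φ hφ a
  have h2 : height (φ a) = coheight (Specialization.ofEquiv a).1 := rfl
  set x : PrimeSpectrum A := (Specialization.ofEquiv a).1 with hx
  have hxU : g ∉ x.asIdeal := (Specialization.ofEquiv a).2
  obtain ⟨𝔮, h𝔮min, h𝔮x⟩ := Ideal.exists_minimalPrimes_le (bot_le : (⊥ : Ideal A) ≤ x.asIdeal)
  have h𝔮 : 𝔮.IsPrime := h𝔮min.1.1
  have h𝔮𝔭 : 𝔮 ≤ 𝔭 := hg 𝔮 h𝔮min (fun h => hxU (h𝔮x h))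
  have h3 : coheight x ≤ coheight (⟨𝔮, h𝔮⟩ : PrimeSpectrum A) := coheight_anti h𝔮x
  have h4 := ringKrullDim_quotient_eq_coheight (⟨𝔮, h𝔮⟩ : PrimeSpectrum A)
  have h5 := ringKrullDim_quotient_le_add_height k A 𝔮 𝔭 h𝔮𝔭
  rw [h4] at h5
  refine le_trans ?_ h5
  exact_mod_cast (h1.trans (h2 ▸ h3))

/-- In a finitely generated algebra over a field, for `g ∉ 𝔭` there is a maximal ideal containing
`𝔭` and not `g` (Jacobson property). -/
theorem exists_isMaximal_ge_notMem (𝔭 : Ideal A) [h𝔭 : 𝔭.IsPrime] (g : A) (hg : g ∉ 𝔭) :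
    ∃ 𝔪 : Ideal A, 𝔪.IsMaximal ∧ 𝔭 ≤ 𝔪 ∧ g ∉ 𝔪 := by
  have hJ : IsJacobsonRing A := isJacobsonRing_of_finiteType (A := k) (B := A)
  by_contra hcon
  push Not at hcon
  apply hg
  rw [← hJ.out h𝔭.isRadical, Ideal.jacobson, Ideal.mem_sInf]
  rintro J ⟨hJ1, hJ2⟩
  exact hcon J hJ2 hJ1

/-- For a maximal ideal `𝔪 ⊇ 𝔭`: `dim A/𝔭 + ht 𝔭 ≤ ht 𝔪`. -/
theorem ringKrullDim_quotient_add_height_le_height_of_isMaximal (𝔭 𝔪 : Ideal A) [h𝔭 : 𝔭.IsPrime]
    (h𝔪 : 𝔪.IsMaximal) (h : 𝔭 ≤ 𝔪) :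
    ringKrullDim (A ⧸ 𝔭) + (𝔭.height : WithBot ℕ∞) ≤ (𝔪.height : WithBot ℕ∞) := by
  have h𝔪p : 𝔪.IsPrime := h𝔪.isPrime
  obtain ⟨𝔮, h𝔮min, h𝔮𝔭, hdim⟩ := exists_minimalPrimes_ringKrullDim_quotient_eq k A 𝔭
  have h𝔮 : 𝔮.IsPrime := h𝔮min.1.1
  have h1 := ringKrullDim_quotient_le_add_height k A 𝔮 𝔪 (h𝔮𝔭.trans h)
  have hfield : ringKrullDim (A ⧸ 𝔪) = 0 :=
    ringKrullDim_eq_zero_of_isField ((Ideal.Quotient.maximal_ideal_iff_isField_quotient _).mp h𝔪)
  rw [hfield, zero_add, hdim] at h1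
  exact h1

/-- There is a maximal ideal `𝔪 ⊇ 𝔭` with `ht 𝔪 = dim A/𝔭 + ht 𝔭`. -/
theorem exists_isMaximal_height_eq (𝔭 : Ideal A) [h𝔭 : 𝔭.IsPrime] :
    ∃ 𝔪 : Ideal A, 𝔪.IsMaximal ∧ 𝔭 ≤ 𝔪 ∧
      (𝔪.height : WithBot ℕ∞) = ringKrullDim (A ⧸ 𝔭) + (𝔭.height : WithBot ℕ∞) := by
  obtain ⟨g, hg𝔭, hg⟩ := exists_notMem_forall_minimalPrimes k A 𝔭
  obtain ⟨𝔪, h𝔪, h𝔭𝔪, hg𝔪⟩ := exists_isMaximal_ge_notMem k A 𝔭 g hg𝔭
  have h𝔪p : 𝔪.IsPrime := h𝔪.isPrime
  refine ⟨𝔪, h𝔪, h𝔭𝔪, le_antisymm ?_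
    (ringKrullDim_quotient_add_height_le_height_of_isMaximal k A 𝔭 𝔪 h𝔪 h𝔭𝔪)⟩
  obtain ⟨𝔮, h𝔮min, h𝔮𝔪, hdim⟩ := exists_minimalPrimes_ringKrullDim_quotient_eq k A 𝔪
  have h𝔮 : 𝔮.IsPrime := h𝔮min.1.1
  have hfield : ringKrullDim (A ⧸ 𝔪) = 0 :=
    ringKrullDim_eq_zero_of_isField ((Ideal.Quotient.maximal_ideal_iff_isField_quotient _).mp h𝔪)
  rw [hfield, zero_add] at hdim
  rw [← hdim]
  exact ringKrullDim_quotient_le_add_height k A 𝔮 𝔭 (hg 𝔮 h𝔮min (fun h => hg𝔪 (h𝔮𝔪 h)))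

end FiniteType

end Groth.Agent.Lib.Helper55
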