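import Groth.Agent.Lib.Helper55.LocalDimAffine
import Groth.Prelude.Def_Flat
import Mathlib.RingTheory.LocalRing.ResidueField.Ideal

/-!
# Local dimension of `Spec A` at a prime, `A` a finitely generated algebra over a field (helper55)
-/

set_option autoImplicit false

namespace Groth.Agent.Lib.Helper55

universe u

open Order TopologicalSpace

variable (k A : Type u) [Field k] [CommRing A] [Algebra k A] [Algebra.FiniteType k A]

include k in
/-- **Local dimension formula**: `dim_𝔭 Spec A = dim A/𝔭 + ht 𝔭`. -/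
theorem localDim_primeSpectrum_eq (𝔭 : PrimeSpectrum A) :
    FlatMor.localDim (PrimeSpectrum A) 𝔭 =
      ringKrullDim (A ⧸ 𝔭.asIdeal) + (𝔭.asIdeal.height : WithBot ℕ∞) := by
  apply le_antisymm
  · obtain ⟨g, hg𝔭, hg⟩ := exists_notMem_forall_minimalPrimes k A 𝔭.asIdeal
    have h1 := topologicalKrullDim_basicOpen_le k A 𝔭.asIdeal g hg
    refine le_trans ?_ h1
    exact iInf_le (fun U : {U : Opens (PrimeSpectrum A) // 𝔭 ∈ U} =>
      topologicalKrullDim (U.1 : Set (PrimeSpectrum A))) ⟨PrimeSpectrum.basicOpen g, hg𝔭⟩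
  · refine le_iInf fun U => ?_
    exact ringKrullDim_quotient_add_height_le_topologicalKrullDim k A 𝔭 U.1 U.2

/-- The transcendence degree of the residue field at a prime is `dim A/𝔭`. -/
theorem exists_ringKrullDim_quotient_eq_and_trdeg_residueField_eq (𝔭 : Ideal A) [𝔭.IsPrime] :
    ∃ s : ℕ, ringKrullDim (A ⧸ 𝔭) = s ∧ Algebra.trdeg k 𝔭.ResidueField = s := by
  have hdom : IsDomain (A ⧸ 𝔭) := (Ideal.Quotient.isDomain_iff_prime _).mpr inferInstance
  obtain ⟨s, hs1, hs2⟩ := exists_ringKrullDim_eq_and_trdeg_eq k (A ⧸ 𝔭)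
  refine ⟨s, hs1, ?_⟩
  have halg : Algebra.IsAlgebraic (A ⧸ 𝔭) 𝔭.ResidueField :=
    IsLocalization.isAlgebraic _ (nonZeroDivisors (A ⧸ 𝔭))
  have hf1 : FaithfulSMul k (A ⧸ 𝔭) :=
    (faithfulSMul_iff_algebraMap_injective _ _).mpr (algebraMap k (A ⧸ 𝔭)).injective
  have hf2 : FaithfulSMul (A ⧸ 𝔭) 𝔭.ResidueField :=
    (faithfulSMul_iff_algebraMap_injective _ _).mpr (IsFractionRing.injective _ _)
  have hadd := trdeg_add_eq (R := k) (S := A ⧸ 𝔭) (A := 𝔭.ResidueField)
  rw [trdeg_eq_zero (R := A ⧸ 𝔭) (A := 𝔭.ResidueField), add_zero] at hadd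
  rw [← hadd, hs2]

end Groth.Agent.Lib.Helper55
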