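import Groth.Agent.Lib.Helper55.FlatDim
import Groth.Agent.Lib.Helper55.LocalDimAffine

/-! Equidimensionality and local dimension for schemes locally of finite type over a field, and
the local dimension formula for flat morphisms (helper55). -/

set_option autoImplicit false

universe u

namespace Groth.Agent.Lib.Helper55

open CategoryTheory CategoryTheory.Limits AlgebraicGeometry

section equidim

variable {k : Type u} [Field k] {X : Scheme.{u}} (f : X ⟶ Spec (CommRingCat.of k))
  [LocallyOfFiniteType f]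

include f in
/-- For the generic point `ξ` of an irreducible component, the local dimension at `ξ` is the
dimension of the component. -/
theorem localDim_eq_dim_closure_of_mem_irreducibleComponents (ξ : X)
    (hξ : closure ({ξ} : Set X) ∈ irreducibleComponents (X : Type u)) :
    FlatMor.localDim ↥X ξ = topologicalKrullDim ↥(closure ({ξ} : Set X)) := by
  rw [localDim_eq_dim_closure_add_dim_stalk f ξ,
    ringKrullDim_stalk_eq_zero_of_closure_mem_irreducibleComponents ξ hξ, add_zero]

include f in
/-- Every point lies on an irreducible component whose dimension is the local dimension at the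
point. -/
theorem exists_mem_irreducibleComponents_dim_eq_localDim (x : X) :
    ∃ ξ : X, closure ({ξ} : Set X) ∈ irreducibleComponents (X : Type u) ∧ ξ ⤳ x ∧
      topologicalKrullDim ↥(closure ({ξ} : Set X)) = FlatMor.localDim ↥X x := by
  obtain ⟨U, hU, hxU, -⟩ := exists_isAffineOpen_mem_and_subset (x := x) (U := ⊤) trivial
  let φA : CommRingCat.of k ⟶ Γ(X, U) := Spec.preimage (hU.fromSpec ≫ f)
  let _ : Algebra k Γ(X, U) := φA.hom.toAlgebra
  have ha : hU.fromSpec ≫ f = Spec.map (CommRingCat.ofHom (algebraMap k Γ(X, U))) :=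
    (Spec.map_preimage _).symm
  have hftA : Algebra.FiniteType k Γ(X, U) := by
    have h1 : LocallyOfFiniteType (hU.fromSpec ≫ f) := inferInstance
    rw [ha, HasRingHomProperty.Spec_iff (P := @LocallyOfFiniteType)] at h1
    exact h1
  have h1 := localDim_eq_of_isOpenEmbedding hU.fromSpec hU.fromSpec.isOpenEmbedding
    (hU.primeIdealOf ⟨x, hxU⟩)
  rw [hU.fromSpec_primeIdealOf ⟨x, hxU⟩] at h1
  have h3 := localDim_primeSpectrum_eq k Γ(X, U) (hU.primeIdealOf ⟨x, hxU⟩)
  have hp : (hU.primeIdealOf ⟨x, hxU⟩).asIdeal.IsPrime := (hU.primeIdealOf ⟨x, hxU⟩).2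
  obtain ⟨𝔮, h𝔮min, h𝔮le, h𝔮dim⟩ :=
    exists_minimalPrimes_ringKrullDim_quotient_eq k Γ(X, U) (hU.primeIdealOf ⟨x, hxU⟩).asIdeal
  have h𝔮p : 𝔮.IsPrime := h𝔮min.1.1
  set 𝔮' : PrimeSpectrum Γ(X, U) := ⟨𝔮, h𝔮p⟩ with h𝔮'
  set ξ : X := hU.fromSpec 𝔮' with hξ
  have hξU : ξ ∈ U := by
    have : ξ ∈ Set.range hU.fromSpec := ⟨_, rfl⟩
    rw [hU.range_fromSpec] at this
    exact this
  have hprime : hU.primeIdealOf ⟨ξ, hξU⟩ = 𝔮' := by
    apply hU.fromSpec.isOpenEmbedding.injective
    rw [hU.fromSpec_primeIdealOf ⟨ξ, hξU⟩]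
  refine ⟨ξ, ?_, ?_, ?_⟩
  · apply Groth.Agent.S4442.closure_mem_irreducibleComponents_of_mem_minimalPrimes X hU ξ hξU
    rw [hprime]
    exact h𝔮min
  · rw [← Groth.Agent.S4442.primeIdealOf_le_iff X hU ξ x hξU hxU, hprime]
    exact h𝔮le
  · have h2 := topologicalKrullDim_closure_chart f hU.fromSpec 𝔮'
    rw [h2, ← h1]
    exact h𝔮dim.trans h3.symm

include f in
/-- **Equidimensionality via local dimensions.**  All irreducible components of `X` have dimension
`m` if and only if the local dimension of `X` is `m` at every point. -/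
theorem forall_irreducibleComponents_dim_eq_iff (m : WithBot ℕ∞) :
    (∀ Z ∈ irreducibleComponents (X : Type u), topologicalKrullDim ↥Z = m) ↔
      ∀ x : X, FlatMor.localDim ↥X x = m := by
  constructor
  · intro h x
    obtain ⟨ξ, hξ, -, hdim⟩ := exists_mem_irreducibleComponents_dim_eq_localDim f x
    rw [← hdim]
    exact h _ hξ
  · intro h Z hZ
    obtain ⟨ξ, hξ⟩ := QuasiSober.sober hZ.1 (isClosed_of_mem_irreducibleComponents Z hZ)
    have hcl : closure ({ξ} : Set X) = Z := hξ.def
    have hcomp : closure ({ξ} : Set X) ∈ irreducibleComponents (X : Type u) := by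
      rw [hcl]; exact hZ
    have h1 := localDim_eq_dim_closure_of_mem_irreducibleComponents f ξ hcomp
    rw [h ξ, hcl] at h1
    exact h1.symm

end equidim

section flat

variable {k : Type u} [Field k] {X Y : Scheme.{u}} (q : Y ⟶ Spec (CommRingCat.of k))
  [LocallyOfFiniteType q] (f : X ⟶ Y) [LocallyOfFiniteType f] [Flat f]

include q in
/-- **Local dimension formula for flat morphisms over a field**:
`dim_x X = dim_{f x} Y + dim_x (X_{f x})`. -/
theorem localDim_eq_add_of_flat (y : Y) (z : ↥(f.fiber y)) :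
    FlatMor.localDim ↥X (f.fiberι y z) =
      FlatMor.localDim ↥Y (f (f.fiberι y z)) + FlatMor.localDim ↥(f.fiber y) z := by
  have hX : IsLocallyNoetherian X := LocallyOfFiniteType.isLocallyNoetherian (f ≫ q)
  have hY : IsLocallyNoetherian Y := LocallyOfFiniteType.isLocallyNoetherian q
  have hlft : LocallyOfFiniteType (f.fiberToSpecResidueField y) :=
    MorphismProperty.pullback_snd (P := @LocallyOfFiniteType) _ _ ‹_›
  obtain ⟨a, b, ha, hb, hab⟩ := exists_dim_closure_eq_add' q f y z _ rfl
  have h2 := localDim_eq_dim_closure_add_dim_stalk (f ≫ q) (f.fiberι y z)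
  have h4 := localDim_eq_dim_closure_add_dim_stalk q (f (f.fiberι y z))
  have h5 := dim_stalk_eq_of_flat f y z
  have h6 := localDim_eq_dim_closure_add_dim_stalk (k := ↑(Y.residueField y))
    (f.fiberToSpecResidueField y) z
  rw [h2, h4, h6, hab, ha, hb]
  change _ + ringKrullDim (X.presheaf.stalk (f.fiberι y z)) = _
  rw [h5]
  push_cast
  change ((a : WithBot ℕ∞) + (b : WithBot ℕ∞)) +
      (ringKrullDim (Y.presheaf.stalk (f (f.fiberι y z))) +
        ringKrullDim ((f.fiber y).presheaf.stalk z)) =
    ((a : WithBot ℕ∞) + ringKrullDim (Y.presheaf.stalk (f (f.fiberι y z)))) +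
      ((b : WithBot ℕ∞) + ringKrullDim ((f.fiber y).presheaf.stalk z))
  abel

include q in
/-- Variant with the image point named. -/
theorem localDim_eq_add_of_flat' (y : Y) (z : ↥(f.fiber y)) :
    FlatMor.localDim ↥X (f.fiberι y z) =
      FlatMor.localDim ↥Y y + FlatMor.localDim ↥(f.fiber y) z := by
  have hfx : f (f.fiberι y z) = y := by
    have : f.fiberι y z ∈ Set.range (f.fiberι y) := ⟨z, rfl⟩
    rw [f.range_fiberι y] at this
    exact this
  have h := localDim_eq_add_of_flat q f y z
  rw [hfx] at h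
  exact h

end flat

end Groth.Agent.Lib.Helper55
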