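import Groth.Agent.Lib.Helper55.FieldExtLocalDim
import Groth.Agent.Lib.Helper55.Equidim
import Groth.Prelude.Def_Cyc
import Mathlib.AlgebraicGeometry.Fiber

/-! Fibre dimension and base change (helper55). -/

set_option autoImplicit false

universe u

namespace Groth.Agent.Lib.Helper55

open AlgebraicGeometry CategoryTheory CategoryTheory.Limits

section field

variable {k : Type u} [Field k] (K : Type u) [Field K] [Algebra k K] {P Z : Scheme.{u}}
  (q : Z ⟶ Spec (CommRingCat.of k)) [LocallyOfFiniteType q]

/-- Field-extension invariance of local dimension, for an arbitrary cartesian square. -/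
theorem localDim_eq_of_isPullback_field (p₁ : P ⟶ Z) (p₂ : P ⟶ Spec (CommRingCat.of K))
    (h : IsPullback p₁ p₂ q (Spec.map (CommRingCat.ofHom (algebraMap k K)))) (z : P) :
    FlatMor.localDim ↥P z = FlatMor.localDim ↥Z (p₁ z) := by
  have h1 := localDim_eq_of_isOpenEmbedding h.isoPullback.hom h.isoPullback.hom.isOpenEmbedding z
  have h2 := localDim_baseChange_field_eq K q (h.isoPullback.hom z)
  have h3 : pullback.fst q (Spec.map (CommRingCat.ofHom (algebraMap k K))) (h.isoPullback.hom z) =
      p₁ z := by
    have := congr(($(h.isoPullback_hom_fst)) z)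
    exact this
  rw [h1, h2, h3]

end field

section fibre

variable {X Y : Scheme.{u}} (f : X ⟶ Y)

/-- The local dimension of a fibre at a point, as a `fibreDimAt`. -/
theorem localDim_fiber_eq_fibreDimAt' (s : Y) (x : X) (hx : f x = s) (z : ↥(f.fiber s))
    (hz : f.fiberι s z = x) :
    FlatMor.localDim ↥(f.fiber s) z = FlatMor.fibreDimAt f x := by
  subst hx
  have : z = f.asFiber x := by
    apply (f.fiberι (f x)).isEmbedding.injective
    rw [hz, f.fiberι_asFiber]
  rw [this]
  rfl

theorem localDim_fiber_eq_fibreDimAt (s : Y) (z : ↥(f.fiber s)) :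
    FlatMor.localDim ↥(f.fiber s) z = FlatMor.fibreDimAt f (f.fiberι s z) := by
  have hx : f (f.fiberι s z) = s := by
    have : f.fiberι s z ∈ Set.range (f.fiberι s) := ⟨z, rfl⟩
    rw [f.range_fiberι] at this
    exact this
  exact localDim_fiber_eq_fibreDimAt' f s _ hx z rfl

variable [LocallyOfFiniteType f]

/-- `f` has relative dimension `d` iff all local fibre dimensions equal `d`. -/
theorem hasRelDim_iff_fibreDimAt (d : ℕ) :
    Cyc.HasRelDim f d ↔ ∀ x : X, FlatMor.fibreDimAt f x = (d : WithBot ℕ∞) := by
  have hlft : ∀ y : Y, LocallyOfFiniteType (f.fiberToSpecResidueField y) := fun y =>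
    MorphismProperty.pullback_snd (P := @LocallyOfFiniteType) _ _ ‹_›
  constructor
  · intro h x
    exact (forall_irreducibleComponents_dim_eq_iff (k := ↑(Y.residueField (f x)))
      (f.fiberToSpecResidueField (f x)) (d : WithBot ℕ∞)).mp (h (f x)) (f.asFiber x)
  · intro h y
    refine (forall_irreducibleComponents_dim_eq_iff (k := ↑(Y.residueField y))
      (f.fiberToSpecResidueField y) (d : WithBot ℕ∞)).mpr fun z => ?_
    rw [localDim_fiber_eq_fibreDimAt]
    exact h _

end fibre

section baseChange

variable {X S X' S' : Scheme.{u}} (f : X ⟶ S) [LocallyOfFiniteType f] (g : S' ⟶ S)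
    (g' : X' ⟶ X) (f' : X' ⟶ S') (hsq : IsPullback g' f' f g)

include hsq in
/-- **Fibre dimension is invariant under base change.** -/
theorem fibreDimAt_eq_of_isPullback (x' : X') :
    FlatMor.fibreDimAt f' x' = FlatMor.fibreDimAt f (g' x') := by
  have hlft : LocallyOfFiniteType (f.fiberToSpecResidueField (g (f' x'))) :=
    MorphismProperty.pullback_snd (P := @LocallyOfFiniteType) _ _ ‹_›
  have hpb := isPullback_fiberToSpecResidueField_of_isPullback hsq (f' x')
  let _ : Algebra ↑(S.residueField (g (f' x'))) ↑(S'.residueField (f' x')) :=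
    (g.residueFieldMap (f' x')).hom.toAlgebra
  have h1 := localDim_eq_of_isPullback_field (k := ↑(S.residueField (g (f' x'))))
    (↑(S'.residueField (f' x'))) (f.fiberToSpecResidueField (g (f' x'))) _ _ hpb (f'.asFiber x')
  refine h1.trans ?_
  apply localDim_fiber_eq_fibreDimAt' f
  · have := congr(($(hsq.w)) x')
    exact this
  · have h2 : pullback.map f' (S'.fromSpecResidueField (f' x')) f
        (S.fromSpecResidueField (g (f' x'))) g' (Spec.map (g.residueFieldMap (f' x'))) g
        hsq.w.symm (by simp) ≫ f.fiberι (g (f' x')) = f'.fiberι (f' x') ≫ g' :=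
      pullback.lift_fst _ _ _
    have := congr(($h2) (f'.asFiber x'))
    rw [Scheme.Hom.comp_apply, Scheme.Hom.comp_apply, f'.fiberι_asFiber] at this
    exact this

end baseChange

end Groth.Agent.Lib.Helper55
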