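import Groth.Agent.Lib.Helper55.DimPoint
import Mathlib.AlgebraicGeometry.Fiber

/-! Transcendence degree of residue field extensions along a morphism locally of finite type, as
the dimension of the closure of the point in its fibre (helper55). -/

set_option autoImplicit false

universe u

namespace Groth.Agent.Lib.Helper55

open CategoryTheory CategoryTheory.Limits AlgebraicGeometry

attribute [local instance] Curv2.resAlgebra

section overField

variable (k : Type u) [Field k] (X : Scheme.{u}) [X.Over (Spec (CommRingCat.of k))]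

/-- The dimension of the closure of a point of a scheme locally of finite type over a field is
the transcendence degree of its residue field. -/
theorem exists_dim_closure_eq_trdeg [LocallyOfFiniteType (X ↘ (Spec (CommRingCat.of k)))]
    (ξ : X) :
    ∃ s : ℕ, topologicalKrullDim ↥(closure ({ξ} : Set X)) = s ∧
      Algebra.trdeg k (X.residueField ξ) = s := by
  obtain ⟨U, hU, hξU, -⟩ := exists_isAffineOpen_mem_and_subset (x := ξ) (U := ⊤) trivial
  obtain ⟨s, hs1, hs2⟩ :=
    exists_ringKrullDim_quotient_eq_and_trdeg_residueField_eq_of_isAffineOpen k X U hU ξ hξU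
  refine ⟨s, ?_, hs2⟩
  have h := topologicalKrullDim_closure_chart (X ↘ Spec (CommRingCat.of k)) hU.fromSpec
    (hU.primeIdealOf ⟨ξ, hξU⟩)
  rw [hU.fromSpec_primeIdealOf] at h
  rw [h, hs1]

/-- Auxiliary: the ring map `k → L` attached to `Spec.map φ : Spec L ⟶ Spec k` through the stalk
at the image of the closed point is `φ`. -/
theorem ΓSpecIso_inv_germ_stalkClosedPointTo (L : Type u) [Field L] (φ : k →+* L)
    (g : Spec (CommRingCat.of L) ⟶ Spec (CommRingCat.of k))
    (hg : g = Spec.map (CommRingCat.ofHom φ)) :
    (Scheme.ΓSpecIso (CommRingCat.of k)).inv ≫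
      (Spec (CommRingCat.of k)).presheaf.germ ⊤ (g (IsLocalRing.closedPoint L)) trivial ≫
        Scheme.stalkClosedPointTo g = CommRingCat.ofHom φ := by
  subst hg
  rw [Scheme.germ_stalkClosedPointTo_Spec, Iso.inv_hom_id_assoc]

/-- For a point `a : Spec L ⟶ X` of a `k`-scheme with values in a field `L`, the induced map
`κ(a pt) → L` is a `k`-algebra map. -/
theorem descResidueField_comp_resMap (L : Type u) [Field L] (a : Spec (CommRingCat.of L) ⟶ X)
    (φ : k →+* L)
    (ha : a ≫ (X ↘ Spec (CommRingCat.of k)) = Spec.map (CommRingCat.ofHom φ)) :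
    (Scheme.descResidueField (Scheme.stalkClosedPointTo a)).hom.comp
      (Curv2.resMap k X (a (IsLocalRing.closedPoint L))) = φ := by
  set q := X ↘ Spec (CommRingCat.of k) with hq
  set x := a (IsLocalRing.closedPoint L) with hx
  have h1 : X.residue x ≫ Scheme.descResidueField (Scheme.stalkClosedPointTo a) =
      Scheme.stalkClosedPointTo a := Scheme.residue_descResidueField _
  have h2 : (Spec (CommRingCat.of k)).presheaf.germ ⊤ (q x) trivial ≫ q.stalkMap x =
      q.appTop ≫ X.presheaf.germ ⊤ x trivial := Scheme.Hom.germ_stalkMap q ⊤ x trivial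
  have h3 : Scheme.stalkClosedPointTo (a ≫ q) = q.stalkMap x ≫ Scheme.stalkClosedPointTo a :=
    Scheme.stalkClosedPointTo_comp a q
  have h4 := ΓSpecIso_inv_germ_stalkClosedPointTo k L φ (a ≫ q) ha
  have key : (Scheme.ΓSpecIso (CommRingCat.of k)).inv ≫ q.appTop ≫
      X.presheaf.germ ⊤ x trivial ≫ X.residue x ≫
        Scheme.descResidueField (Scheme.stalkClosedPointTo a) = CommRingCat.ofHom φ := by
    rw [h1, ← reassoc_of% h2, ← h3]
    exact h4
  ext r
  have := congr(($key).hom r)
  exact this

/-- **Residue field of a field-valued point.**  If `a : Spec L ⟶ X` is a point of a `k`-scheme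
with values in a field `L` which is surjective on stalks (e.g. a preimmersion), then
`trdeg_k κ(a pt) = trdeg_k L`. -/
theorem trdeg_residueField_eq_of_surjective (L : Type u) [Field L]
    (a : Spec (CommRingCat.of L) ⟶ X) (φ : k →+* L)
    (ha : a ≫ (X ↘ Spec (CommRingCat.of k)) = Spec.map (CommRingCat.ofHom φ))
    (hsurj : Function.Surjective (Scheme.stalkClosedPointTo a).hom) :
    Algebra.trdeg k (X.residueField (a (IsLocalRing.closedPoint L))) =
      @Algebra.trdeg k L _ _ φ.toAlgebra := by
  let _ : Algebra k L := φ.toAlgebra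
  set d := (Scheme.descResidueField (Scheme.stalkClosedPointTo a)).hom with hd
  have hdinj : Function.Injective d := d.injective
  have hdsurj : Function.Surjective d := by
    intro l
    obtain ⟨w, hw⟩ := hsurj l
    refine ⟨(X.residue _).hom w, ?_⟩
    have h1 : X.residue _ ≫ Scheme.descResidueField (Scheme.stalkClosedPointTo a) =
      Scheme.stalkClosedPointTo a := Scheme.residue_descResidueField _
    have := congr(($h1).hom w)
    exact this.trans hw
  let e : X.residueField (a (IsLocalRing.closedPoint L)) ≃ₐ[k] L :=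
    { RingEquiv.ofBijective d ⟨hdinj, hdsurj⟩ with
      commutes' := fun r => congr(($(descResidueField_comp_resMap k X L a φ ha)) r) }
  exact e.trdeg_eq

/-- The base field acts compatibly on residue fields along a morphism over `k` (this lemma is due
to helper97, `Lib.Helper97.VarTrdeg`; copied here to keep the imports light). -/
theorem residueFieldMap_comp_resMap (Y : Scheme.{u}) [Y.Over (Spec (CommRingCat.of k))]
    (f : X ⟶ Y)
    (hf : f ≫ (Y ↘ Spec (CommRingCat.of k)) = X ↘ Spec (CommRingCat.of k)) (x : X) :
    (f.residueFieldMap x).hom.comp (Curv2.resMap k Y (f x)) = Curv2.resMap k X x := by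
  ext r
  unfold Curv2.resMap Curv2.stalkMap Coh.toGlobal
  simp only [RingHom.comp_apply]
  rw [← hf]
  have h1 : (Y.residue (f x)) ≫ f.residueFieldMap x = f.stalkMap x ≫ X.residue x :=
    Scheme.residue_residueFieldMap f x
  have h2 : Y.presheaf.germ ⊤ (f x) trivial ≫ f.stalkMap x =
      f.appTop ≫ X.presheaf.germ ⊤ x trivial := by
    have := Scheme.Hom.germ_stalkMap f ⊤ x trivial
    exact this
  have h3 : (f ≫ (Y ↘ Spec (CommRingCat.of k))).appTop =
      (Y ↘ Spec (CommRingCat.of k)).appTop ≫ f.appTop := Scheme.Hom.comp_appTop _ _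
  set a := ((Y ↘ Spec (CommRingCat.of k)).appTop).hom
    ((Scheme.ΓSpecIso (CommRingCat.of k)).inv.hom r) with ha
  have e1 := congr($h1 ((Y.presheaf.germ ⊤ (f x) trivial).hom a))
  have e2 := congr($h2 a)
  rw [h3]
  simp only [CommRingCat.hom_comp, RingHom.comp_apply] at e1 e2 ⊢
  rw [e1, e2]

/-- A preimmersion `Spec L ⟶ X` from the spectrum of a field induces a surjection on the stalk. -/
theorem stalkClosedPointTo_surjective_of_isPreimmersion (L : Type u) [Field L]
    (a : Spec (CommRingCat.of L) ⟶ X) [IsPreimmersion a] :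
    Function.Surjective (Scheme.stalkClosedPointTo a).hom := by
  have h1 : Function.Surjective (a.stalkMap (IsLocalRing.closedPoint L)).hom :=
    a.stalkMap_surjective _
  have h2 : Function.Surjective (stalkClosedPointIso (CommRingCat.of L)).hom.hom :=
    (ConcreteCategory.bijective_of_isIso (stalkClosedPointIso (CommRingCat.of L)).hom).2
  exact h2.comp h1

end overField

section fiber

variable {X S : Scheme.{u}} (f : X ⟶ S) [LocallyOfFiniteType f]

/-- **Transcendence degree of a residue field extension as a fibre dimension.**  For `f : X ⟶ S`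
locally of finite type and `x : X`, the transcendence degree of `κ(x)` over `κ(f x)` is the
dimension of the closure of `x` in its fibre. -/
theorem exists_dim_closure_asFiber_eq_trdeg (x : X) :
    ∃ n : ℕ, topologicalKrullDim ↥(closure ({f.asFiber x} : Set ↥(f.fiber (f x)))) = n ∧
      @Algebra.trdeg (S.residueField (f x)) (X.residueField x) _ _
        (f.residueFieldMap x).hom.toAlgebra = n := by
  let K : Type u := S.residueField (f x)
  let L : Type u := X.residueField x
  let _ : (f.fiber (f x)).Over (Spec (CommRingCat.of K)) := ⟨f.fiberToSpecResidueField (f x)⟩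
  have hlft : LocallyOfFiniteType (f.fiber (f x) ↘ Spec (CommRingCat.of K)) :=
    MorphismProperty.pullback_snd (P := @LocallyOfFiniteType) _ _ ‹_›
  let a : Spec (CommRingCat.of L) ⟶ f.fiber (f x) := f.asFiberHom x
  have hpre : IsPreimmersion a := inferInstanceAs (IsPreimmersion (f.asFiberHom x))
  have ha : a ≫ (f.fiber (f x) ↘ Spec (CommRingCat.of K)) =
      Spec.map (CommRingCat.ofHom (f.residueFieldMap x).hom) :=
    f.asFiberHom_fiberToSpecResidueField x
  have hapt : a (IsLocalRing.closedPoint L) = f.asFiber x := f.asFiberHom_apply x _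
  obtain ⟨n, hn1, hn2⟩ := exists_dim_closure_eq_trdeg K (f.fiber (f x))
    (a (IsLocalRing.closedPoint L))
  have h3 := trdeg_residueField_eq_of_surjective K (f.fiber (f x)) L a (f.residueFieldMap x).hom ha
    (stalkClosedPointTo_surjective_of_isPreimmersion (f.fiber (f x)) L a)
  rw [hapt] at hn1
  exact ⟨n, hn1, h3 ▸ hn2⟩

/-- Variant of `exists_dim_closure_asFiber_eq_trdeg` for a point of an arbitrary fibre. -/
theorem exists_dim_closure_fiber_eq_trdeg (s : S) (z : ↥(f.fiber s)) (x : X)
    (hx : f.fiberι s z = x) :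
    ∃ n : ℕ, topologicalKrullDim ↥(closure ({z} : Set ↥(f.fiber s))) = n ∧
      @Algebra.trdeg (S.residueField (f x)) (X.residueField x) _ _
        (f.residueFieldMap x).hom.toAlgebra = n := by
  have hs : f x = s := by
    have : x ∈ Set.range (f.fiberι s) := ⟨z, hx⟩
    rw [f.range_fiberι s] at this
    exact this
  subst hs
  have hz : z = f.asFiber x := by
    apply (f.fiberι (f x)).isEmbedding.injective
    rw [hx, f.fiberι_asFiber]
  subst hz
  exact exists_dim_closure_asFiber_eq_trdeg f x

end fiber

section dimFormula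

variable {k : Type u} [Field k] {X Y : Scheme.{u}} (q : Y ⟶ Spec (CommRingCat.of k))
  [LocallyOfFiniteType q] (f : X ⟶ Y) [LocallyOfFiniteType f]

include q in
/-- **Dimension formula over a field.**  For `f : X ⟶ Y` locally of finite type with `Y` locally
of finite type over a field, `dim cl{x} = dim cl{f x} + dim (closure of x in its fibre)`. -/
theorem exists_dim_closure_eq_add (x : X) :
    ∃ a b : ℕ, topologicalKrullDim ↥(closure ({f x} : Set Y)) = a ∧
      topologicalKrullDim ↥(closure ({f.asFiber x} : Set ↥(f.fiber (f x)))) = b ∧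
      topologicalKrullDim ↥(closure ({x} : Set X)) = ((a + b : ℕ) : WithBot ℕ∞) := by
  let _ : Y.Over (Spec (CommRingCat.of k)) := ⟨q⟩
  let _ : X.Over (Spec (CommRingCat.of k)) := ⟨f ≫ q⟩
  have hq : LocallyOfFiniteType (Y ↘ Spec (CommRingCat.of k)) := ‹LocallyOfFiniteType q›
  have hfq : LocallyOfFiniteType (X ↘ Spec (CommRingCat.of k)) :=
    inferInstanceAs (LocallyOfFiniteType (f ≫ q))
  obtain ⟨a, ha1, ha2⟩ := exists_dim_closure_eq_trdeg k Y (f x)
  obtain ⟨c, hc1, hc2⟩ := exists_dim_closure_eq_trdeg k X x
  obtain ⟨b, hb1, hb2⟩ := exists_dim_closure_asFiber_eq_trdeg f x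
  refine ⟨a, b, ha1, hb1, ?_⟩
  let _ : Algebra (Y.residueField (f x)) (X.residueField x) :=
    (f.residueFieldMap x).hom.toAlgebra
  have htower : IsScalarTower k (Y.residueField (f x)) (X.residueField x) :=
    IsScalarTower.of_algebraMap_eq
      (fun r => (congr($(residueFieldMap_comp_resMap k X Y f rfl x) r)).symm)
  have hf1 : FaithfulSMul k (Y.residueField (f x)) :=
    (faithfulSMul_iff_algebraMap_injective _ _).mpr (algebraMap k (Y.residueField (f x))).injective
  have hf2 : FaithfulSMul (Y.residueField (f x)) (X.residueField x) :=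
    (faithfulSMul_iff_algebraMap_injective _ _).mpr
      (algebraMap (Y.residueField (f x)) (X.residueField x)).injective
  have hadd := trdeg_add_eq (R := k) (S := Y.residueField (f x))
    (A := X.residueField x)
  rw [ha2, hc2] at hadd
  rw [hb2] at hadd
  have hnat : a + b = c := by exact_mod_cast hadd
  rw [hc1, hnat]

include q in
/-- Variant of `exists_dim_closure_eq_add` for a point of an arbitrary fibre. -/
theorem exists_dim_closure_eq_add' (s : Y) (z : ↥(f.fiber s)) (x : X)
    (hx : f.fiberι s z = x) :
    ∃ a b : ℕ, topologicalKrullDim ↥(closure ({f x} : Set Y)) = a ∧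
      topologicalKrullDim ↥(closure ({z} : Set ↥(f.fiber s))) = b ∧
      topologicalKrullDim ↥(closure ({x} : Set X)) = ((a + b : ℕ) : WithBot ℕ∞) := by
  have hs : f x = s := by
    have : x ∈ Set.range (f.fiberι s) := ⟨z, hx⟩
    rw [f.range_fiberι s] at this
    exact this
  subst hs
  have hz : z = f.asFiber x := by
    apply (f.fiberι (f x)).isEmbedding.injective
    rw [hx, f.fiberι_asFiber]
  subst hz
  exact exists_dim_closure_eq_add q f x

end dimFormula

section arith

/-- If a natural number is at most a supremum of natural numbers (in `WithBot ℕ∞`), it is at most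
one of them. -/
theorem exists_le_of_le_iSup_natCast {ι : Sort*} (g : ι → WithBot ℕ∞)
    (hg : ∀ i, ∃ n : ℕ, g i = n) (r : ℕ) (h : (r : WithBot ℕ∞) ≤ ⨆ i, g i) :
    ∃ i, (r : WithBot ℕ∞) ≤ g i := by
  by_contra hcon
  push Not at hcon
  rcases Nat.eq_zero_or_pos r with rfl | hpos
  · have hbot : ∀ i, g i = ⊥ := by
      intro i
      obtain ⟨n, hn⟩ := hg i
      have := hcon i
      rw [hn] at this
      exfalso
      have h0 : ((0 : ℕ) : WithBot ℕ∞) ≤ (n : WithBot ℕ∞) := by exact_mod_cast Nat.zero_le n
      exact absurd h0 (not_le.mpr this)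
    have : (⨆ i, g i) = ⊥ := by
      rw [_root_.eq_bot_iff]
      exact iSup_le fun i => (hbot i).le
    rw [this] at h
    exact absurd h (by simp)
  · obtain ⟨m, rfl⟩ : ∃ m, r = m + 1 := ⟨r - 1, by omega⟩
    have hle : ∀ i, g i ≤ (m : WithBot ℕ∞) := by
      intro i
      obtain ⟨n, hn⟩ := hg i
      have := hcon i
      rw [hn] at this ⊢
      have h1 : n < m + 1 := by exact_mod_cast this
      exact_mod_cast Nat.lt_succ_iff.mp h1
    have h2 : (⨆ i, g i) ≤ (m : WithBot ℕ∞) := iSup_le hle
    have h3 := h.trans h2
    have h4 : m + 1 ≤ m := by exact_mod_cast h3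
    omega

end arith

end Groth.Agent.Lib.Helper55
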