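import Groth.Agent.Lib.Helper55.FlatDim
import Groth.Agent.Lib.Helper55.FiberTrdeg
import Groth.Agent.Lib.Helper55.FiberBaseChange
import Mathlib.RingTheory.TensorProduct.Quotient

/-! Fibre dimension of a composite morphism (helper55). -/

set_option autoImplicit false

universe u

namespace Groth.Agent.Lib.Helper55

open AlgebraicGeometry CategoryTheory CategoryTheory.Limits TensorProduct

section ring

/-- Dimension inequality for a local homomorphism of Noetherian local rings:
`dim B ≤ dim A + dim B / 𝔪_A B`. -/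
theorem ringKrullDim_le_add_quotient {A B : Type u} [CommRing A] [CommRing B]
    [IsLocalRing A] [IsLocalRing B] [IsNoetherianRing A] [IsNoetherianRing B] (φ : A →+* B)
    [IsLocalHom φ] :
    ringKrullDim B ≤ ringKrullDim A +
      ringKrullDim (B ⧸ Ideal.map φ (IsLocalRing.maximalIdeal A)) := by
  algebraize [φ]
  have hover : (IsLocalRing.maximalIdeal B).LiesOver (IsLocalRing.maximalIdeal A) := by
    constructor
    exact (IsLocalRing.maximalIdeal_comap φ).symm
  have h := Ideal.height_le_height_add_of_liesOver (IsLocalRing.maximalIdeal A)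
    (IsLocalRing.maximalIdeal B)
  have hI : Ideal.map φ (IsLocalRing.maximalIdeal A) ≠ ⊤ :=
    (IsLocalRing.map_maximalIdeal_lt_top φ).ne
  have hnt : Nontrivial (B ⧸ Ideal.map φ (IsLocalRing.maximalIdeal A)) :=
    Ideal.Quotient.nontrivial_iff.mpr hI
  have hloc : IsLocalRing (B ⧸ Ideal.map φ (IsLocalRing.maximalIdeal A)) :=
    IsLocalRing.of_surjective' (Ideal.Quotient.mk _) Ideal.Quotient.mk_surjective
  have hmax : ((IsLocalRing.maximalIdeal B).map
      (Ideal.Quotient.mk (Ideal.map φ (IsLocalRing.maximalIdeal A)))).IsMaximal := by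
    refine Ideal.IsMaximal.map_of_surjective_of_ker_le Ideal.Quotient.mk_surjective ?_
    rw [Ideal.mk_ker]
    exact IsLocalRing.le_maximalIdeal hI
  have heq : (IsLocalRing.maximalIdeal B).map
      (Ideal.Quotient.mk (Ideal.map φ (IsLocalRing.maximalIdeal A))) =
      IsLocalRing.maximalIdeal (B ⧸ Ideal.map φ (IsLocalRing.maximalIdeal A)) :=
    IsLocalRing.eq_maximalIdeal hmax
  change (IsLocalRing.maximalIdeal B).height ≤ (IsLocalRing.maximalIdeal A).height +
    ((IsLocalRing.maximalIdeal B).map
      (Ideal.Quotient.mk (Ideal.map φ (IsLocalRing.maximalIdeal A)))).height at h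
  rw [heq] at h
  rw [← IsLocalRing.maximalIdeal_height_eq_ringKrullDim (R := B),
    ← IsLocalRing.maximalIdeal_height_eq_ringKrullDim (R := A),
    ← IsLocalRing.maximalIdeal_height_eq_ringKrullDim
      (R := B ⧸ Ideal.map φ (IsLocalRing.maximalIdeal A)), ← WithBot.coe_add]
  exact WithBot.coe_le_coe.mpr h

variable {B C : Type u} [CommRing B] [CommRing C] [IsLocalRing B] [IsLocalRing C] [Algebra B C]
  [IsLocalHom (algebraMap B C)] (I : Ideal B)

omit [IsLocalRing B] [IsLocalRing C] [IsLocalHom (algebraMap B C)] in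
theorem quotient_algebraMap_comp_mk :
    (algebraMap (B ⧸ I) (C ⧸ I.map (algebraMap B C))).comp (Ideal.Quotient.mk I) =
      (Ideal.Quotient.mk (I.map (algebraMap B C))).comp (algebraMap B C) := by
  ext b
  rfl

include I in
theorem map_algebraMap_ne_top (hI : I ≠ ⊤) : I.map (algebraMap B C) ≠ ⊤ := by
  have h1 : I.map (algebraMap B C) ≤ (IsLocalRing.maximalIdeal B).map (algebraMap B C) :=
    Ideal.map_mono (IsLocalRing.le_maximalIdeal hI)
  exact (lt_of_le_of_lt h1 (IsLocalRing.map_maximalIdeal_lt_top (algebraMap B C))).ne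

/-- Key ring-level inequality: for a local homomorphism `B → C` of local rings and a proper ideal
`I` of `B` with `B/I`, `C/IC` Noetherian, `dim C/IC ≤ dim B/I + dim C/𝔪_B C`, with equality if `C`
is flat over `B`. -/
theorem ringKrullDim_quotient_map_le_aux (hI : I ≠ ⊤) [IsNoetherianRing (B ⧸ I)]
    [IsNoetherianRing (C ⧸ I.map (algebraMap B C))] :
    ringKrullDim (C ⧸ I.map (algebraMap B C)) ≤ ringKrullDim (B ⧸ I) +
        ringKrullDim (C ⧸ (IsLocalRing.maximalIdeal B).map (algebraMap B C)) ∧
      (Module.Flat B C → ringKrullDim (C ⧸ I.map (algebraMap B C)) = ringKrullDim (B ⧸ I) +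
        ringKrullDim (C ⧸ (IsLocalRing.maximalIdeal B).map (algebraMap B C))) := by
  have hJ : I.map (algebraMap B C) ≠ ⊤ := map_algebraMap_ne_top I hI
  have hntB : Nontrivial (B ⧸ I) := Ideal.Quotient.nontrivial_iff.mpr hI
  have hntC : Nontrivial (C ⧸ I.map (algebraMap B C)) := Ideal.Quotient.nontrivial_iff.mpr hJ
  have hlocB : IsLocalRing (B ⧸ I) :=
    IsLocalRing.of_surjective' (Ideal.Quotient.mk _) Ideal.Quotient.mk_surjective
  have hlocC : IsLocalRing (C ⧸ I.map (algebraMap B C)) :=
    IsLocalRing.of_surjective' (Ideal.Quotient.mk _) Ideal.Quotient.mk_surjective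
  have hlh : IsLocalHom (algebraMap (B ⧸ I) (C ⧸ I.map (algebraMap B C))) := by
    constructor
    intro bb hb
    obtain ⟨b, rfl⟩ := Ideal.Quotient.mk_surjective bb
    have h1 : IsLocalHom (Ideal.Quotient.mk (I.map (algebraMap B C))) :=
      IsLocalHom.of_surjective _ Ideal.Quotient.mk_surjective
    have h2 : IsUnit ((Ideal.Quotient.mk (I.map (algebraMap B C))) (algebraMap B C b)) := hb
    have h3 : IsUnit (algebraMap B C b) := h1.map_nonunit _ h2
    have h4 : IsUnit b := IsLocalHom.map_nonunit (f := algebraMap B C) _ h3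
    exact h4.map _
  -- the maximal ideal of `B ⧸ I`
  have hmax : ((IsLocalRing.maximalIdeal B).map (Ideal.Quotient.mk I)).IsMaximal := by
    refine Ideal.IsMaximal.map_of_surjective_of_ker_le Ideal.Quotient.mk_surjective ?_
    rw [Ideal.mk_ker]
    exact IsLocalRing.le_maximalIdeal hI
  have heq : (IsLocalRing.maximalIdeal B).map (Ideal.Quotient.mk I) =
      IsLocalRing.maximalIdeal (B ⧸ I) := IsLocalRing.eq_maximalIdeal hmax
  have hmap : Ideal.map (algebraMap (B ⧸ I) (C ⧸ I.map (algebraMap B C)))
      (IsLocalRing.maximalIdeal (B ⧸ I)) =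
      ((IsLocalRing.maximalIdeal B).map (algebraMap B C)).map
        (Ideal.Quotient.mk (I.map (algebraMap B C))) := by
    rw [← heq, Ideal.map_map, Ideal.map_map, quotient_algebraMap_comp_mk]
  have hle : I.map (algebraMap B C) ≤ (IsLocalRing.maximalIdeal B).map (algebraMap B C) :=
    Ideal.map_mono (IsLocalRing.le_maximalIdeal hI)
  have e := DoubleQuot.quotQuotEquivQuotOfLE hle
  have hdim : ringKrullDim ((C ⧸ I.map (algebraMap B C)) ⧸
      Ideal.map (algebraMap (B ⧸ I) (C ⧸ I.map (algebraMap B C)))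
        (IsLocalRing.maximalIdeal (B ⧸ I))) =
      ringKrullDim (C ⧸ (IsLocalRing.maximalIdeal B).map (algebraMap B C)) := by
    rw [hmap]
    exact ringKrullDim_eq_of_ringEquiv e
  constructor
  · have h := ringKrullDim_le_add_quotient (algebraMap (B ⧸ I) (C ⧸ I.map (algebraMap B C)))
    rwa [hdim] at h
  · intro hflat
    have hflat' : Module.Flat (B ⧸ I) (C ⧸ I.map (algebraMap B C)) :=
      Module.Flat.of_linearEquiv
        (Algebra.TensorProduct.quotIdealMapEquivQuotTensor C I).toLinearEquiv
    have h := ringKrullDim_eq_add_quotient_of_flat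
      (algebraMap (B ⧸ I) (C ⧸ I.map (algebraMap B C)))
      (RingHom.flat_algebraMap_iff.mpr hflat')
    rwa [hdim] at h

end ring

section ring'

variable {B C : Type u} [CommRing B] [CommRing C] [IsLocalRing B] [IsLocalRing C] (ψ : B →+* C)
  [IsLocalHom ψ] (I : Ideal B)

theorem ringKrullDim_quotient_map_le (hI : I ≠ ⊤) [IsNoetherianRing (B ⧸ I)]
    [IsNoetherianRing (C ⧸ I.map ψ)] :
    ringKrullDim (C ⧸ I.map ψ) ≤ ringKrullDim (B ⧸ I) +
        ringKrullDim (C ⧸ (IsLocalRing.maximalIdeal B).map ψ) ∧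
      (ψ.Flat → ringKrullDim (C ⧸ I.map ψ) = ringKrullDim (B ⧸ I) +
        ringKrullDim (C ⧸ (IsLocalRing.maximalIdeal B).map ψ)) := by
  algebraize [ψ]
  have : IsLocalHom (algebraMap B C) := ‹IsLocalHom ψ›
  have h := ringKrullDim_quotient_map_le_aux (C := C) I hI
  exact ⟨h.1, fun hf => h.2 hf⟩

end ring'

section geom

open Groth.Agent.Lib.Helper49 Algebra

variable {X T : Scheme.{u}} (h : X ⟶ T)

/-- The local ring of a fibre is the quotient of the local ring of the total space by the ideal
generated by the maximal ideal of the base point. -/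
theorem nonempty_stalk_fiber_equiv (t : T) (z : ↥(h.fiber t)) (x : X) (hx : h.fiberι t z = x) :
    Nonempty ((X.presheaf.stalk x ⧸ Ideal.map (h.stalkMap x).hom
      (IsLocalRing.maximalIdeal (T.presheaf.stalk (h x)))) ≃+* (h.fiber t).presheaf.stalk z) := by
  subst hx
  have hker : RingHom.ker ((h.fiberι t).stalkMap z).hom =
      Ideal.map (h.stalkMap ((h.fiberι t) z)).hom
        (IsLocalRing.maximalIdeal (T.presheaf.stalk (h ((h.fiberι t) z)))) :=
    le_antisymm (ker_le_map h t z) (map_le_ker h t z)
  have hsurj : Function.Surjective ((h.fiberι t).stalkMap z).hom :=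
    (h.fiberι t).stalkMap_surjective z
  exact ⟨(Ideal.quotEquivOfEq hker.symm).trans (RingHom.quotientKerEquivOfSurjective hsurj)⟩

variable [LocallyOfFiniteType h]

theorem isNoetherianRing_stalk_fiber (t : T) (z : ↥(h.fiber t)) :
    IsNoetherianRing ((h.fiber t).presheaf.stalk z) := by
  have hlft : LocallyOfFiniteType (h.fiberToSpecResidueField t) :=
    MorphismProperty.pullback_snd (P := @LocallyOfFiniteType) _ _ ‹_›
  have : IsLocallyNoetherian (h.fiber t) :=
    LocallyOfFiniteType.isLocallyNoetherian (h.fiberToSpecResidueField t)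
  infer_instance

theorem isNoetherianRing_stalk_quotient (x : X) :
    IsNoetherianRing (X.presheaf.stalk x ⧸ Ideal.map (h.stalkMap x).hom
      (IsLocalRing.maximalIdeal (T.presheaf.stalk (h x)))) := by
  obtain ⟨e⟩ := nonempty_stalk_fiber_equiv h (h x) (h.asFiber x) x (h.fiberι_asFiber x)
  have := isNoetherianRing_stalk_fiber h (h x) (h.asFiber x)
  exact isNoetherianRing_of_ringEquiv _ e.symm

/-- The local fibre dimension is the dimension of the local ring of the fibre plus the
transcendence degree of the residue field extension. -/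
theorem fibreDimAt_eq_stalk_add_trdeg (x : X) :
    ∃ n : ℕ, @Algebra.trdeg (T.residueField (h x)) (X.residueField x) _ _
        (h.residueFieldMap x).hom.toAlgebra = n ∧
      FlatMor.fibreDimAt h x = ringKrullDim (X.presheaf.stalk x ⧸ Ideal.map (h.stalkMap x).hom
        (IsLocalRing.maximalIdeal (T.presheaf.stalk (h x)))) + (n : WithBot ℕ∞) := by
  obtain ⟨n, hn1, hn2⟩ := exists_dim_closure_asFiber_eq_trdeg h x
  refine ⟨n, hn2, ?_⟩
  have hlft : LocallyOfFiniteType (h.fiberToSpecResidueField (h x)) :=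
    MorphismProperty.pullback_snd (P := @LocallyOfFiniteType) _ _ ‹_›
  have h1 := localDim_eq_dim_closure_add_dim_stalk (k := ↑(T.residueField (h x)))
    (h.fiberToSpecResidueField (h x)) (h.asFiber x)
  obtain ⟨e⟩ := nonempty_stalk_fiber_equiv h (h x) (h.asFiber x) x (h.fiberι_asFiber x)
  change FlatMor.localDim _ _ = _
  rw [h1, hn1, ringKrullDim_eq_of_ringEquiv e, add_comm]

end geom

section comp

open Algebra

variable {X Y S : Scheme.{u}} (f : X ⟶ Y) (g : Y ⟶ S)

theorem trdeg_residueField_comp (x : X) :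
    @Algebra.trdeg (S.residueField (g (f x))) (Y.residueField (f x)) _ _
        (g.residueFieldMap (f x)).hom.toAlgebra +
      @Algebra.trdeg (Y.residueField (f x)) (X.residueField x) _ _
        (f.residueFieldMap x).hom.toAlgebra =
    @Algebra.trdeg (S.residueField (g (f x))) (X.residueField x) _ _
        ((f ≫ g).residueFieldMap x).hom.toAlgebra := by
  let _ : Algebra (S.residueField (g (f x))) (Y.residueField (f x)) :=
    (g.residueFieldMap (f x)).hom.toAlgebra
  let _ : Algebra (Y.residueField (f x)) (X.residueField x) :=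
    (f.residueFieldMap x).hom.toAlgebra
  let _ : Algebra (S.residueField (g (f x))) (X.residueField x) :=
    ((f ≫ g).residueFieldMap x).hom.toAlgebra
  have htower : IsScalarTower (S.residueField (g (f x))) (Y.residueField (f x))
      (X.residueField x) :=
    IsScalarTower.of_algebraMap_eq
      (fun r => congr($(Scheme.residueFieldMap_comp f g x) r))
  have hf1 : FaithfulSMul (S.residueField (g (f x))) (Y.residueField (f x)) :=
    (faithfulSMul_iff_algebraMap_injective _ _).mpr
      (algebraMap (S.residueField (g (f x))) (Y.residueField (f x))).injective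
  have hf2 : FaithfulSMul (Y.residueField (f x)) (X.residueField x) :=
    (faithfulSMul_iff_algebraMap_injective _ _).mpr
      (algebraMap (Y.residueField (f x)) (X.residueField x)).injective
  exact trdeg_add_eq (R := S.residueField (g (f x))) (S := Y.residueField (f x))
    (A := X.residueField x)

variable [LocallyOfFiniteType f] [LocallyOfFiniteType g]

/-- **Fibre dimension of a composite.** -/
theorem fibreDimAt_comp_le (x : X) :
    FlatMor.fibreDimAt (f ≫ g) x ≤ FlatMor.fibreDimAt f x + FlatMor.fibreDimAt g (f x) ∧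
      ((f.stalkMap x).hom.Flat →
        FlatMor.fibreDimAt (f ≫ g) x = FlatMor.fibreDimAt f x + FlatMor.fibreDimAt g (f x)) := by
  obtain ⟨n₁, hn₁, h₁⟩ := fibreDimAt_eq_stalk_add_trdeg (f ≫ g) x
  obtain ⟨n₂, hn₂, h₂⟩ := fibreDimAt_eq_stalk_add_trdeg f x
  obtain ⟨n₃, hn₃, h₃⟩ := fibreDimAt_eq_stalk_add_trdeg g (f x)
  have hn : n₁ = n₃ + n₂ := by
    have := trdeg_residueField_comp f g x
    rw [hn₂, hn₃] at this
    have h' : ((n₃ + n₂ : ℕ) : Cardinal) = (n₁ : Cardinal) := by
      rw [← hn₁]; push_cast; exact this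
    exact_mod_cast h'.symm
  have hN1 := isNoetherianRing_stalk_quotient (f ≫ g) x
  have hN3 := isNoetherianRing_stalk_quotient g (f x)
  set φ := (g.stalkMap (f x)).hom with hφ
  set ψ := (f.stalkMap x).hom with hψ
  set I := Ideal.map φ (IsLocalRing.maximalIdeal (S.presheaf.stalk (g (f x)))) with hI
  have hcomp : Ideal.map ((f ≫ g).stalkMap x).hom
      (IsLocalRing.maximalIdeal (S.presheaf.stalk ((f ≫ g) x))) = I.map ψ := by
    rw [hI, Ideal.map_map, Scheme.Hom.stalkMap_comp]
    rfl
  rw [hcomp] at h₁ hN1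
  have hIne : I ≠ ⊤ := (IsLocalRing.map_maximalIdeal_lt_top φ).ne
  have key := ringKrullDim_quotient_map_le ψ I hIne
  rw [h₁, h₂, h₃, hn]
  constructor
  · calc ringKrullDim (X.presheaf.stalk x ⧸ I.map ψ) + ((n₃ + n₂ : ℕ) : WithBot ℕ∞)
        ≤ (ringKrullDim (Y.presheaf.stalk (f x) ⧸ I) + ringKrullDim (X.presheaf.stalk x ⧸
            (IsLocalRing.maximalIdeal (Y.presheaf.stalk (f x))).map ψ)) +
            ((n₃ + n₂ : ℕ) : WithBot ℕ∞) := add_le_add_left key.1 _
      _ = _ := by push_cast; abel
  · intro hflat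
    rw [key.2 hflat]
    push_cast
    abel

end comp

end Groth.Agent.Lib.Helper55
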