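import Groth.Prelude.Def_Flat
import Mathlib.Topology.LocalAtTarget
import Mathlib.Topology.Homeomorph.Lemmas

/-!
# Local dimension is invariant under open embeddings (helper55)
-/

set_option autoImplicit false

namespace Groth.Agent.Lib.Helper55

open Topology TopologicalSpace

/-- The local dimension at a point can be computed in any open neighbourhood: it is invariant
under open embeddings. -/
theorem localDim_eq_of_isOpenEmbedding {X Y : Type*} [TopologicalSpace X] [TopologicalSpace Y]
    (f : X → Y) (hf : IsOpenEmbedding f) (x : X) :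
    FlatMor.localDim X x = FlatMor.localDim Y (f x) := by
  apply le_antisymm
  · refine le_iInf fun W => ?_
    let U : {U : Opens X // x ∈ U} :=
      ⟨⟨f ⁻¹' (W.1 : Set Y), W.1.2.preimage hf.continuous⟩, W.2⟩
    refine le_trans (iInf_le _ U) ?_
    exact (hf.isInducing.restrictPreimage (W.1 : Set Y)).topologicalKrullDim_le
  · refine le_iInf fun U => ?_
    let W : {W : Opens Y // f x ∈ W} :=
      ⟨⟨f '' (U.1 : Set X), hf.isOpenMap _ U.1.2⟩, ⟨x, U.2, rfl⟩⟩
    refine le_trans (iInf_le _ W) ?_
    exact (IsHomeomorph.topologicalKrullDim_eq _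
      (hf.isEmbedding.homeomorphImage (U.1 : Set X)).isHomeomorph).ge

end Groth.Agent.Lib.Helper55
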