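import Mathlib.RingTheory.Spectrum.Prime.Topology
import Mathlib.RingTheory.KrullDimension.NonZeroDivisors
import Mathlib.Topology.KrullDimension

/-!
# Dimension of a closed subset `V(I)` of `Spec R` (helper55)

`topologicalKrullDim ↥(zeroLocus I) = ringKrullDim (R ⧸ I)`.
-/

set_option autoImplicit false

namespace Groth.Agent.Lib.Helper55

open PrimeSpectrum

/-- `V(I) ⊆ Spec R` is homeomorphic to `Spec (R ⧸ I)`. -/
noncomputable def zeroLocusHomeomorph {R : Type*} [CommRing R] (I : Ideal R) :
    PrimeSpectrum (R ⧸ I) ≃ₜ ↥(zeroLocus (I : Set R)) :=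
  ((isClosedEmbedding_comap_of_surjective (R ⧸ I) (Ideal.Quotient.mk I)
    Ideal.Quotient.mk_surjective).isEmbedding.toHomeomorph).trans
    (Homeomorph.setCongr (by
      rw [range_comap_of_surjective _ _ Ideal.Quotient.mk_surjective, Ideal.mk_ker]))

theorem topologicalKrullDim_zeroLocus_eq_ringKrullDim_quotient {R : Type*} [CommRing R]
    (I : Ideal R) :
    topologicalKrullDim ↥(zeroLocus (I : Set R)) = ringKrullDim (R ⧸ I) := by
  rw [← PrimeSpectrum.topologicalKrullDim_eq_ringKrullDim]
  exact (IsHomeomorph.topologicalKrullDim_eq _ (zeroLocusHomeomorph I).isHomeomorph).symm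

theorem topologicalKrullDim_zeroLocus_singleton {R : Type*} [CommRing R] (r : R) :
    topologicalKrullDim ↥(zeroLocus ({r} : Set R)) = ringKrullDim (R ⧸ Ideal.span {r}) := by
  rw [← topologicalKrullDim_zeroLocus_eq_ringKrullDim_quotient, zeroLocus_span]

/-- If `V(I) = V(J)` then `dim R/I = dim R/J`. -/
theorem ringKrullDim_quotient_eq_of_zeroLocus_eq {R : Type*} [CommRing R] {I J : Ideal R}
    (h : zeroLocus (I : Set R) = zeroLocus (J : Set R)) :
    ringKrullDim (R ⧸ I) = ringKrullDim (R ⧸ J) := by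
  rw [ringKrullDim_quotient, ringKrullDim_quotient, h]

end Groth.Agent.Lib.Helper55
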