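import Groth.Agent.Lib.Helper55.DimTrdeg
import Groth.Agent.Lib.Helper55.ZeroLocusDim
import Mathlib.RingTheory.IntegralClosure.GoingDown
import Mathlib.Algebra.MvPolynomial.NoZeroDivisors
import Mathlib.RingTheory.Polynomial.UniqueFactorization
import Mathlib.RingTheory.Polynomial.RationalRoot

/-!
# Dimension formula for finitely generated domains over a field (helper55)
-/

set_option autoImplicit false

namespace Groth.Agent.Lib.Helper55

universe u

open MvPolynomial

/-- For a prime element `p` of `k[x₁,…,x_d]`, `dim k[x]/(p) = d - 1`. -/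
theorem ringKrullDim_quotient_span_prime_mvPolynomial (k : Type u) [Field k] (d : ℕ)
    (p : MvPolynomial (Fin d) k) (hp : Prime p) :
    ringKrullDim (MvPolynomial (Fin d) k ⧸ Ideal.span {p}) + 1 = d := by
  have hdim : ringKrullDim (MvPolynomial (Fin d) k) = d := by
    rw [MvPolynomial.ringKrullDim_of_isNoetherianRing, ringKrullDim_eq_zero_of_field, zero_add,
      Nat.card_eq_fintype_card, Fintype.card_fin]
  apply le_antisymm
  · rw [← hdim]
    exact ringKrullDim_quotient_succ_le_of_nonZeroDivisor (mem_nonZeroDivisors_of_ne_zero hp.ne_zero)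
  · -- some variable occurs in `p`
    have hvars : p.vars.Nonempty := by
      rw [Finset.nonempty_iff_ne_empty]
      intro h
      rw [vars_eq_empty_iff_eq_C] at h
      have hc : p.coeff 0 ≠ 0 := by
        intro h0
        rw [h0, map_zero] at h
        exact hp.ne_zero h
      apply hp.not_isUnit
      rw [h]
      exact (IsUnit.mk0 _ hc).map C
    obtain ⟨j, hj⟩ := hvars
    rw [mem_vars_iff_degreeOf_ne_zero] at hj
    have hprime : (Ideal.span {p}).IsPrime := (Ideal.span_singleton_prime hp.ne_zero).mpr hp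
    let φ : MvPolynomial {i : Fin d // i ≠ j} k →ₐ[k] (MvPolynomial (Fin d) k ⧸ Ideal.span {p}) :=
      (Ideal.Quotient.mkₐ k (Ideal.span {p})).comp (rename Subtype.val)
    have hφ : Function.Injective φ := by
      rw [injective_iff_map_eq_zero]
      intro q hq
      by_contra hq0
      have h1 : rename Subtype.val q ∈ Ideal.span {p} := by
        rw [← Ideal.Quotient.eq_zero_iff_mem]
        exact hq
      obtain ⟨c, hc⟩ := Ideal.mem_span_singleton.mp h1
      have h2 : rename (Subtype.val : {i : Fin d // i ≠ j} → Fin d) q ≠ 0 := by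
        intro h
        apply hq0
        apply rename_injective _ Subtype.val_injective
        rw [h, map_zero]
      have hc0 : c ≠ 0 := by
        rintro rfl
        rw [mul_zero] at hc
        exact h2 hc
      have h3 : degreeOf j (rename (Subtype.val : {i : Fin d // i ≠ j} → Fin d) q) = 0 := by
        by_contra h
        rw [← ne_eq, ← mem_vars_iff_degreeOf_ne_zero] at h
        obtain ⟨i, -, hi⟩ := mem_vars_rename _ _ h
        exact i.2 hi
      rw [hc, degreeOf_mul_eq hp.ne_zero hc0] at h3
      omega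
    have h4 := ringKrullDim_le_of_injective_of_finiteType k φ hφ
    rw [MvPolynomial.ringKrullDim_of_isNoetherianRing, ringKrullDim_eq_zero_of_field, zero_add,
      Nat.card_eq_fintype_card, Fintype.card_subtype_compl, Fintype.card_fin,
      Fintype.card_unique] at h4
    have hd : ((d - 1 : ℕ) : WithBot ℕ∞) + 1 = d := by
      have := j.pos
      norm_cast
      omega
    rw [← hd]
    exact add_le_add_left h4 1

/-- Height one primes in a domain integral over a polynomial ring have coheight `d - 1`. -/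
theorem ringKrullDim_quotient_add_one_of_integral_mvPolynomial (k : Type u) [Field k] (d : ℕ)
    (A : Type u) [CommRing A] [IsDomain A] [Algebra (MvPolynomial (Fin d) k) A]
    [Algebra.IsIntegral (MvPolynomial (Fin d) k) A] [FaithfulSMul (MvPolynomial (Fin d) k) A]
    (𝔮 : Ideal A) [𝔮.IsPrime] (h𝔮 : 𝔮 ≠ ⊥)
    (hcov : ∀ 𝔭 : Ideal A, 𝔭.IsPrime → 𝔭 < 𝔮 → 𝔭 = ⊥) :
    ringKrullDim (A ⧸ 𝔮) + 1 = d := by
  set B := MvPolynomial (Fin d) k with hB
  have hinj : Function.Injective (algebraMap B A) := FaithfulSMul.algebraMap_injective B A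
  have h𝔮' : 𝔮.under B ≠ ⊥ := Ideal.IsIntegral.comap_ne_bot B h𝔮
  obtain ⟨p, hp𝔮, hp⟩ := Ideal.IsPrime.exists_mem_prime_of_ne_bot (I := 𝔮.under B) inferInstance h𝔮'
  have hprime : (Ideal.span {p}).IsPrime := (Ideal.span_singleton_prime hp.ne_zero).mpr hp
  have hle : Ideal.span {p} ≤ 𝔮.under B := (Ideal.span_singleton_le_iff_mem _).mpr hp𝔮
  have heq : Ideal.span {p} = 𝔮.under B := by
    by_contra hne
    have hlt : Ideal.span {p} < 𝔮.under B := lt_of_le_of_ne hle hne
    obtain ⟨P, hPlt, hPprime, hPover⟩ := Ideal.exists_ideal_lt_liesOver_of_lt (S := A) 𝔮 hlt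
    have hP : P = ⊥ := hcov P hPprime hPlt
    have h1 : Ideal.span {p} = P.under B := hPover.over
    rw [hP] at h1
    have h2 : (⊥ : Ideal A).under B = ⊥ := by
      rw [Ideal.under_def, ← RingHom.ker_eq_comap_bot, (RingHom.injective_iff_ker_eq_bot _).mp hinj]
    rw [h2, Ideal.span_singleton_eq_bot] at h1
    exact hp.ne_zero h1
  have h3 : ringKrullDim (A ⧸ 𝔮) = ringKrullDim (B ⧸ 𝔮.under B) := by
    refine ringKrullDim_eq_of_ringHom_isIntegral_of_injective
      (Ideal.quotientMap 𝔮 (algebraMap B A) le_rfl) ?_ ?_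
    · exact RingHom.IsIntegral.quotient (algebraMap B A) Algebra.IsIntegral.isIntegral
    · exact Ideal.quotientMap_injective
  rw [h3, ← heq]
  exact ringKrullDim_quotient_span_prime_mvPolynomial k d p hp

/-- **Height one primes have coheight `dim A - 1`** in a finitely generated domain over a field. -/
theorem ringKrullDim_quotient_add_one_of_forall_lt_eq_bot (k A : Type u) [Field k] [CommRing A]
    [IsDomain A] [Algebra k A] [Algebra.FiniteType k A] (𝔮 : Ideal A) [𝔮.IsPrime] (h𝔮 : 𝔮 ≠ ⊥)
    (hcov : ∀ 𝔭 : Ideal A, 𝔭.IsPrime → 𝔭 < 𝔮 → 𝔭 = ⊥) :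
    ringKrullDim (A ⧸ 𝔮) + 1 = ringKrullDim A := by
  obtain ⟨d, g, hinj, hint⟩ := exists_integral_inj_algHom_of_fg k A
  have hdim : ringKrullDim A = d := by
    rw [ringKrullDim_eq_of_ringHom_isIntegral_of_injective g.toRingHom hint hinj,
      MvPolynomial.ringKrullDim_of_isNoetherianRing, ringKrullDim_eq_zero_of_field, zero_add,
      Nat.card_eq_fintype_card, Fintype.card_fin]
  let _ : Algebra (MvPolynomial (Fin d) k) A := g.toRingHom.toAlgebra
  have : Algebra.IsIntegral (MvPolynomial (Fin d) k) A := ⟨hint⟩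
  have : FaithfulSMul (MvPolynomial (Fin d) k) A :=
    (faithfulSMul_iff_algebraMap_injective _ _).mpr hinj
  rw [hdim]
  exact ringKrullDim_quotient_add_one_of_integral_mvPolynomial k d A 𝔮 h𝔮 hcov

/-- **Dimension formula**: in a finitely generated algebra over a field, if `𝔭 ⋖ 𝔮` are primes
with no prime strictly in between, then `dim A/𝔭 = dim A/𝔮 + 1`. -/
theorem ringKrullDim_quotient_eq_add_one_of_covBy (k A : Type u) [Field k] [CommRing A]
    [Algebra k A] [Algebra.FiniteType k A] (𝔭 𝔮 : PrimeSpectrum A) (h : 𝔭 ⋖ 𝔮) :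
    ringKrullDim (A ⧸ 𝔭.asIdeal) = ringKrullDim (A ⧸ 𝔮.asIdeal) + 1 := by
  have hlt : 𝔭.asIdeal < 𝔮.asIdeal := h.lt
  have hsurj : Function.Surjective (Ideal.Quotient.mk 𝔭.asIdeal) := Ideal.Quotient.mk_surjective
  have hker : RingHom.ker (Ideal.Quotient.mk 𝔭.asIdeal) ≤ 𝔮.asIdeal := by
    rw [Ideal.mk_ker]
    exact hlt.le
  have hprime : (𝔮.asIdeal.map (Ideal.Quotient.mk 𝔭.asIdeal)).IsPrime :=
    Ideal.map_isPrime_of_surjective hsurj hker
  have hcomap : (𝔮.asIdeal.map (Ideal.Quotient.mk 𝔭.asIdeal)).comap (Ideal.Quotient.mk 𝔭.asIdeal) =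
      𝔮.asIdeal := by
    rw [Ideal.comap_map_of_surjective _ hsurj, ← RingHom.ker_eq_comap_bot, Ideal.mk_ker]
    exact sup_eq_left.mpr hlt.le
  have hne : 𝔮.asIdeal.map (Ideal.Quotient.mk 𝔭.asIdeal) ≠ ⊥ := by
    intro h0
    rw [h0, ← RingHom.ker_eq_comap_bot, Ideal.mk_ker] at hcomap
    exact hlt.ne hcomap
  have hcov : ∀ P : Ideal (A ⧸ 𝔭.asIdeal), P.IsPrime →
      P < 𝔮.asIdeal.map (Ideal.Quotient.mk 𝔭.asIdeal) → P = ⊥ := by
    intro P hP hPlt
    have h1 : 𝔭.asIdeal ≤ P.comap (Ideal.Quotient.mk 𝔭.asIdeal) := by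
      intro x hx
      rw [Ideal.mem_comap, Ideal.Quotient.eq_zero_iff_mem.mpr hx]
      exact P.zero_mem
    have h2 : P.comap (Ideal.Quotient.mk 𝔭.asIdeal) < 𝔮.asIdeal := by
      rw [← hcomap]
      refine lt_of_le_of_ne (Ideal.comap_mono hPlt.le) ?_
      intro heq
      apply hPlt.ne
      rw [← Ideal.map_comap_of_surjective _ hsurj P, heq,
        Ideal.map_comap_of_surjective _ hsurj]
    set P' : PrimeSpectrum A := ⟨P.comap (Ideal.Quotient.mk 𝔭.asIdeal), Ideal.comap_isPrime _ P⟩
      with hP'
    have h3 : P' = 𝔭 := by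
      by_contra hne'
      have h5 : 𝔭 < P' := lt_of_le_of_ne (show 𝔭 ≤ P' from h1) (Ne.symm hne')
      exact h.2 h5 (show P' < 𝔮 from h2)
    have h4 : P.comap (Ideal.Quotient.mk 𝔭.asIdeal) = 𝔭.asIdeal := congr_arg PrimeSpectrum.asIdeal h3
    rw [← Ideal.map_comap_of_surjective _ hsurj P, h4, Ideal.map_quotient_self]
  have hdom : IsDomain (A ⧸ 𝔭.asIdeal) := (Ideal.Quotient.isDomain_iff_prime _).mpr 𝔭.2
  have key := ringKrullDim_quotient_add_one_of_forall_lt_eq_bot k (A ⧸ 𝔭.asIdeal)
    (𝔮.asIdeal.map (Ideal.Quotient.mk 𝔭.asIdeal)) hne hcov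
  rw [← key]
  congr 1
  exact ringKrullDim_eq_of_ringEquiv (DoubleQuot.quotQuotEquivQuotOfLE hlt.le)

/-- **Saturated chains of primes** in a finitely generated algebra over a field ending at a
maximal ideal have length `dim A/𝔭₀`. -/
theorem length_eq_ringKrullDim_quotient_head_of_saturated (k A : Type u) [Field k] [CommRing A]
    [Algebra k A] [Algebra.FiniteType k A] (c : LTSeries (PrimeSpectrum A))
    (hmax : c.last.asIdeal.IsMaximal)
    (hsat : ∀ i : Fin c.length, c i.castSucc ⋖ c i.succ) :
    (c.length : WithBot ℕ∞) = ringKrullDim (A ⧸ c.head.asIdeal) := by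
  have key : ∀ i : ℕ, ∀ hi : i ≤ c.length,
      ringKrullDim (A ⧸ (c ⟨c.length - i, by omega⟩).asIdeal) = i := by
    intro i
    induction i with
    | zero =>
      intro _
      have hfield : IsField (A ⧸ c.last.asIdeal) :=
        (Ideal.Quotient.maximal_ideal_iff_isField_quotient _).mp hmax
      have : ringKrullDim (A ⧸ c.last.asIdeal) = 0 := ringKrullDim_eq_zero_of_isField hfield
      have h0 : (⟨c.length - 0, by omega⟩ : Fin (c.length + 1)) = Fin.last _ := by
        ext
        simp
      rw [h0, Nat.cast_zero]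
      exact this
    | succ i ih =>
      intro hi
      have h1 := hsat ⟨c.length - (i + 1), by omega⟩
      have h2 := ringKrullDim_quotient_eq_add_one_of_covBy k A _ _ h1
      have h3 : (⟨c.length - (i + 1), by omega⟩ : Fin c.length).succ =
          ⟨c.length - i, by omega⟩ := by
        ext
        simp only [Fin.val_succ]
        omega
      rw [h3, ih (by omega)] at h2
      simpa using h2
  have := key c.length le_rfl
  have h0 : (⟨c.length - c.length, by omega⟩ : Fin (c.length + 1)) = 0 := by
    ext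
    simp
  rw [h0] at this
  exact this.symm

/-- **Saturated maximal chains of primes in a finitely generated domain over a field have length
`dim A`.** -/
theorem length_eq_ringKrullDim_of_saturated (k A : Type u) [Field k] [CommRing A]
    [IsDomain A] [Algebra k A] [Algebra.FiniteType k A] (c : LTSeries (PrimeSpectrum A))
    (h0 : c.head.asIdeal = ⊥) (hmax : c.last.asIdeal.IsMaximal)
    (hsat : ∀ i : Fin c.length, c i.castSucc ⋖ c i.succ) :
    (c.length : WithBot ℕ∞) = ringKrullDim A := by
  rw [length_eq_ringKrullDim_quotient_head_of_saturated k A c hmax hsat, h0]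
  exact ringKrullDim_eq_of_ringEquiv (RingEquiv.quotientBot A)

/-- Along a saturated chain of primes in a finitely generated algebra over a field, the
dimension of the quotient drops by exactly the length. -/
theorem ringKrullDim_quotient_head_eq_of_saturated (k A : Type u) [Field k] [CommRing A]
    [Algebra k A] [Algebra.FiniteType k A] (c : LTSeries (PrimeSpectrum A))
    (hsat : ∀ i : Fin c.length, c i.castSucc ⋖ c i.succ) :
    ringKrullDim (A ⧸ c.head.asIdeal) = ringKrullDim (A ⧸ c.last.asIdeal) + c.length := by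
  have key : ∀ i : ℕ, ∀ hi : i ≤ c.length,
      ringKrullDim (A ⧸ (c ⟨c.length - i, by omega⟩).asIdeal) =
        ringKrullDim (A ⧸ c.last.asIdeal) + i := by
    intro i
    induction i with
    | zero =>
      intro _
      have h0 : (⟨c.length - 0, by omega⟩ : Fin (c.length + 1)) = Fin.last _ := by
        ext
        simp
      rw [h0, Nat.cast_zero, add_zero]
      rfl
    | succ i ih =>
      intro hi
      have h1 := hsat ⟨c.length - (i + 1), by omega⟩
      have h2 := ringKrullDim_quotient_eq_add_one_of_covBy k A _ _ h1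
      have h3 : (⟨c.length - (i + 1), by omega⟩ : Fin c.length).succ =
          ⟨c.length - i, by omega⟩ := by
        ext
        simp only [Fin.val_succ]
        omega
      rw [h3, ih (by omega)] at h2
      rw [Nat.cast_add, Nat.cast_one, ← add_assoc]
      exact h2
  have := key c.length le_rfl
  have h0 : (⟨c.length - c.length, by omega⟩ : Fin (c.length + 1)) = 0 := by
    ext
    simp
  rw [h0] at this
  exact this

/-- **Dimension formula with heights**: in a finitely generated domain `A` over a field,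
`dim A/Q + ht Q = dim A` for every prime `Q`. -/
theorem ringKrullDim_quotient_add_height (k A : Type u) [Field k] [CommRing A] [IsDomain A]
    [Algebra k A] [Algebra.FiniteType k A] (Q : Ideal A) [Q.IsPrime] :
    ringKrullDim (A ⧸ Q) + (Q.height : WithBot ℕ∞) = ringKrullDim A := by
  have : IsNoetherianRing A := Algebra.FiniteType.isNoetherianRing k A
  obtain ⟨l, hlast, hlen⟩ := Ideal.exists_ltSeries_length_eq_height Q
  have hlen' : (l.length : ℕ∞) = Order.height l.last := by
    rw [hlen, hlast, ← PrimeSpectrum.height_eq_orderHeight]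
  have hidx := Order.height_eq_index_of_length_eq_height_last hlen'
  have hsat : ∀ i : Fin l.length, l i.castSucc ⋖ l i.succ := by
    intro i
    refine ⟨l.strictMono (Fin.castSucc_lt_succ), ?_⟩
    intro 𝔯 h1 h2
    have e1 := Order.height_add_one_le h1
    have e2 := Order.height_add_one_le h2
    rw [hidx] at e1 e2
    have e3 : ((i.castSucc : ℕ) : ℕ∞) + 1 + 1 ≤ ((i.succ : ℕ) : ℕ∞) := (add_le_add_left e1 1).trans e2
    simp only [Fin.val_castSucc, Fin.val_succ] at e3
    norm_cast at e3
    omega
  have hhead : l.head.asIdeal = ⊥ := by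
    have h0 : Order.height (l 0) = 0 := by simpa using hidx 0
    rw [← PrimeSpectrum.height_eq_orderHeight, Ideal.height_eq_zero_iff,
      IsDomain.minimalPrimes_eq_singleton_bot] at h0
    exact h0
  have h := ringKrullDim_quotient_head_eq_of_saturated k A l hsat
  rw [hhead, hlast] at h
  rw [← ringKrullDim_eq_of_ringEquiv (RingEquiv.quotientBot A), h, ← hlen]
  rfl

end Groth.Agent.Lib.Helper55
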