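import Mathlib.AlgebraicGeometry.PullbackCarrier
import Mathlib.AlgebraicGeometry.Pullbacks
import Mathlib.AlgebraicGeometry.Morphisms.FiniteType

/-! Affine charts of a fibre product of schemes over `Spec k` (helper55). -/

set_option autoImplicit false

universe u

namespace Groth.Agent.Lib.Helper55

open AlgebraicGeometry CategoryTheory CategoryTheory.Limits TensorProduct

section chart

variable {k : Type u} [CommRing k] {X Y : Scheme.{u}} (f : X ⟶ Spec (CommRingCat.of k))
  (g : Y ⟶ Spec (CommRingCat.of k)) {A B : Type u} [CommRing A] [CommRing B] [Algebra k A]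
  [Algebra k B] (a : Spec (CommRingCat.of A) ⟶ X) (b : Spec (CommRingCat.of B) ⟶ Y)
  (ha : a ≫ f = Spec.map (CommRingCat.ofHom (algebraMap k A)))
  (hb : b ≫ g = Spec.map (CommRingCat.ofHom (algebraMap k B)))

/-- The chart `Spec (A ⊗[k] B) ⟶ X ×ₖ Y` attached to charts `Spec A ⟶ X`, `Spec B ⟶ Y`. -/
noncomputable def pullbackChart : Spec (CommRingCat.of (A ⊗[k] B)) ⟶ pullback f g :=
  (pullbackSpecIso k A B).inv ≫
    pullback.map _ _ f g a b (𝟙 _) (by rw [Category.comp_id, ha]) (by rw [Category.comp_id, hb])

instance [IsOpenImmersion a] [IsOpenImmersion b] : IsOpenImmersion (pullbackChart f g a b ha hb) := by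
  unfold pullbackChart
  infer_instance

theorem pullbackChart_fst : pullbackChart f g a b ha hb ≫ pullback.fst f g =
    Spec.map (CommRingCat.ofHom (Algebra.TensorProduct.includeLeftRingHom : A →+* A ⊗[k] B)) ≫ a := by
  unfold pullbackChart
  rw [Category.assoc, pullback.lift_fst, ← Category.assoc, pullbackSpecIso_inv_fst]

theorem pullbackChart_snd : pullbackChart f g a b ha hb ≫ pullback.snd f g =
    Spec.map (CommRingCat.ofHom
      ((Algebra.TensorProduct.includeRight : B →ₐ[k] A ⊗[k] B) : B →+* A ⊗[k] B)) ≫ b := by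
  unfold pullbackChart
  rw [Category.assoc, pullback.lift_snd, ← Category.assoc, pullbackSpecIso_inv_snd]

theorem range_pullbackChart : Set.range (pullbackChart f g a b ha hb) =
    pullback.fst f g ⁻¹' Set.range a ∩ pullback.snd f g ⁻¹' Set.range b := by
  unfold pullbackChart
  have hsurj : Function.Surjective (pullbackSpecIso k A B).inv :=
    (pullbackSpecIso k A B).inv.homeomorph.surjective
  rw [Scheme.Hom.comp_base, TopCat.coe_comp, Set.range_comp, Set.range_eq_univ.mpr hsurj,
    Set.image_univ]
  exact Scheme.Pullback.range_map _ _ _ _ _ _ _ _ _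

end chart

end Groth.Agent.Lib.Helper55
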