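import Groth.Agent.Lib.Helper55.LocalDimProduct
import Groth.Agent.Lib.Helper55.DimOpenCover
import Mathlib.CategoryTheory.Monoidal.Grp
import Mathlib.CategoryTheory.Monoidal.Cartesian.Over
import Mathlib.AlgebraicGeometry.Pullbacks

/-! The local dimension of a group scheme locally of finite type over a field is constant
(helper55). -/

set_option autoImplicit false

universe v u

namespace Groth.Agent.Lib.Helper55

open CategoryTheory CategoryTheory.Limits MonoidalCategory CartesianMonoidalCategory MonObj GrpObj
  AlgebraicGeometry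

section shear

variable {C : Type u} [Category.{v} C] [CartesianMonoidalCategory C]

/-- The shear isomorphism `(a, b) ↦ (a, a * b)` of a group object. -/
def shearIso (A : C) [GrpObj A] : A ⊗ A ≅ A ⊗ A where
  hom := lift (fst A A) μ
  inv := lift (fst A A) (lift (fst A A ≫ ι) (snd A A) ≫ μ)
  hom_inv_id := by
    refine CartesianMonoidalCategory.hom_ext _ _ (by simp) ?_
    simp only [Category.assoc, lift_snd, Category.id_comp]
    rw [comp_lift_assoc]
    simp only [lift_fst_assoc, lift_snd]
    have h : lift (fst A A ≫ ι) (μ : A ⊗ A ⟶ A) =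
        lift (fst A A ≫ ι) (lift (fst A A) (snd A A) ≫ μ) := by simp
    rw [h, ← lift_lift_assoc, lift_comp_inv_left, lift_comp_one_left]
  inv_hom_id := by
    refine CartesianMonoidalCategory.hom_ext _ _ (by simp) ?_
    simp only [Category.assoc, lift_snd, Category.id_comp]
    rw [← lift_lift_assoc, lift_comp_inv_right, lift_comp_one_left]

end shear

section top

/-- The dimension of a space is the supremum of its local dimensions. -/
theorem topologicalKrullDim_eq_iSup_localDim (X : Type*) [TopologicalSpace X] :
    topologicalKrullDim X = ⨆ x : X, FlatMor.localDim X x := by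
  apply le_antisymm
  · unfold topologicalKrullDim
    refine iSup_le fun c => ?_
    obtain ⟨x, hx⟩ := c.head.isIrreducible.nonempty
    refine le_trans ?_ (le_iSup (fun x : X => FlatMor.localDim X x) x)
    refine le_iInf fun U => ?_
    exact length_le_topologicalKrullDim_of_head_inter_nonempty c U.1 ⟨x, hx, U.2⟩
  · refine iSup_le fun x => ?_
    refine le_trans (iInf_le _ (⟨⊤, trivial⟩ : {U : TopologicalSpace.Opens X // x ∈ U})) ?_
    exact topologicalKrullDim_subspace_le X _

end top

section group

variable {k : Type u} [Field k] (G : Over (Spec (CommRingCat.of k))) [GrpObj G]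
  [LocallyOfFiniteType G.hom]

/-- Cancellation of a natural number in `WithBot ℕ∞`. -/
theorem withBot_enat_add_left_cancel (n : ℕ) {a b : WithBot ℕ∞}
    (h : (n : WithBot ℕ∞) + a = (n : WithBot ℕ∞) + b) : a = b := by
  induction a using WithBot.recBotCoe with
  | bot =>
    induction b using WithBot.recBotCoe with
    | bot => rfl
    | coe b =>
      exfalso
      rw [WithBot.add_bot] at h
      have : ((n : ℕ∞) : WithBot ℕ∞) + (b : WithBot ℕ∞) = ((n + b : ℕ∞) : WithBot ℕ∞) := by
        push_cast; rfl
      change (⊥ : WithBot ℕ∞) = ((n : ℕ∞) : WithBot ℕ∞) + (b : WithBot ℕ∞) at h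
      rw [this] at h
      exact WithBot.bot_ne_coe h
  | coe a =>
    induction b using WithBot.recBotCoe with
    | bot =>
      exfalso
      rw [WithBot.add_bot] at h
      have : ((n : ℕ∞) : WithBot ℕ∞) + (a : WithBot ℕ∞) = ((n + a : ℕ∞) : WithBot ℕ∞) := by
        push_cast; rfl
      change ((n : ℕ∞) : WithBot ℕ∞) + (a : WithBot ℕ∞) = (⊥ : WithBot ℕ∞) at h
      rw [this] at h
      exact WithBot.coe_ne_bot h
    | coe b =>
      have h' : ((n + a : ℕ∞) : WithBot ℕ∞) = ((n + b : ℕ∞) : WithBot ℕ∞) := by
        push_cast; exact h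
      have h'' : (n : ℕ∞) + a = (n : ℕ∞) + b := WithBot.coe_injective h'
      have : a = b := ENat.add_right_injective_of_ne_top (ENat.natCast_ne_top n) h''
      rw [this]

/-- In a group scheme locally of finite type over a field, the local dimension at `g⁻¹` equals
the local dimension at the unit section. -/
theorem localDim_inv_eq_localDim_one (g : G.left) :
    FlatMor.localDim ↥G.left ((ι : G ⟶ G).left g) =
      FlatMor.localDim ↥G.left ((toUnit G ≫ (η : 𝟙_ _ ⟶ G)).left g) := by
  set z : ↥(pullback G.hom G.hom) := (lift (𝟙 G) (ι : G ⟶ G)).left g with hz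
  have hz1 : pullback.fst G.hom G.hom z = g := by
    have h : (lift (𝟙 G) (ι : G ⟶ G)).left ≫ pullback.fst G.hom G.hom = 𝟙 G.left := by
      rw [← Over.fst_left, ← Over.comp_left, lift_fst]; rfl
    have := congr(($h) g)
    exact this
  have hz2 : pullback.snd G.hom G.hom z = (ι : G ⟶ G).left g := by
    have h : (lift (𝟙 G) (ι : G ⟶ G)).left ≫ pullback.snd G.hom G.hom = (ι : G ⟶ G).left := by
      rw [← Over.snd_left, ← Over.comp_left, lift_snd]
    have := congr(($h) g)
    exact this
  let φi : pullback G.hom G.hom ≅ pullback G.hom G.hom :=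
    (Over.forget _).mapIso (shearIso G)
  have hφ : φi.hom = (shearIso G).hom.left := rfl
  have hcomp : lift (𝟙 G) (ι : G ⟶ G) ≫ (shearIso G).hom =
      lift (𝟙 G) (toUnit G ≫ (η : 𝟙_ _ ⟶ G)) := by
    refine CartesianMonoidalCategory.hom_ext _ _ ?_ ?_
    · simp [shearIso]
    · simp [shearIso]
  have hw1 : pullback.fst G.hom G.hom (φi.hom z) = g := by
    have h : (lift (𝟙 G) (ι : G ⟶ G)).left ≫ φi.hom ≫ pullback.fst G.hom G.hom = 𝟙 G.left := by
      rw [hφ, ← Over.fst_left, ← Over.comp_left, ← Over.comp_left, ← Category.assoc, hcomp,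
        lift_fst]; rfl
    have := congr(($h) g)
    exact this
  have hw2 : pullback.snd G.hom G.hom (φi.hom z) = (toUnit G ≫ (η : 𝟙_ _ ⟶ G)).left g := by
    have h : (lift (𝟙 G) (ι : G ⟶ G)).left ≫ φi.hom ≫ pullback.snd G.hom G.hom =
        (toUnit G ≫ (η : 𝟙_ _ ⟶ G)).left := by
      rw [hφ, ← Over.snd_left, ← Over.comp_left, ← Over.comp_left, ← Category.assoc, hcomp,
        lift_snd]
    have := congr(($h) g)
    exact this
  have h1 := localDim_pullback_eq_add G.hom G.hom z
  have h2 := localDim_pullback_eq_add G.hom G.hom (φi.hom z)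
  have h3 := localDim_eq_of_isOpenEmbedding φi.hom φi.hom.isOpenEmbedding z
  rw [hz1, hz2] at h1
  rw [hw1, hw2] at h2
  obtain ⟨n, hn⟩ := exists_localDim_eq_natCast G.hom g
  rw [h1, h2, hn] at h3
  exact withBot_enat_add_left_cancel n h3

/-- **The local dimension of a group scheme locally of finite type over a field is constant.** -/
theorem localDim_eq_of_grpObj (g g' : G.left) :
    FlatMor.localDim ↥G.left g = FlatMor.localDim ↥G.left g' := by
  have key : ∀ a b : G.left, FlatMor.localDim ↥G.left ((ι : G ⟶ G).left a) =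
      FlatMor.localDim ↥G.left ((ι : G ⟶ G).left b) := by
    intro a b
    rw [localDim_inv_eq_localDim_one, localDim_inv_eq_localDim_one]
    have hss : Subsingleton (PrimeSpectrum k) := inferInstance
    have h : (toUnit G).left a = (toUnit G).left b := hss.elim _ _
    rw [Over.comp_left]
    change FlatMor.localDim ↥G.left ((η : 𝟙_ _ ⟶ G).left ((toUnit G).left a)) =
      FlatMor.localDim ↥G.left ((η : 𝟙_ _ ⟶ G).left ((toUnit G).left b))
    rw [h]
  have hinv : ∀ a : G.left, (ι : G ⟶ G).left ((ι : G ⟶ G).left a) = a := by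
    intro a
    have h : (ι : G ⟶ G).left ≫ (ι : G ⟶ G).left = 𝟙 G.left := by
      rw [← Over.comp_left, GrpObj.inv_comp_inv]; rfl
    have := congr(($h) a)
    exact this
  rw [← hinv g, ← hinv g']
  exact key _ _

/-- The local dimension of a group scheme at any point is its dimension. -/
theorem localDim_eq_topologicalKrullDim_of_grpObj (g : G.left) :
    FlatMor.localDim ↥G.left g = topologicalKrullDim ↥G.left := by
  rw [topologicalKrullDim_eq_iSup_localDim]
  apply le_antisymm
  · exact le_iSup (fun x : G.left => FlatMor.localDim ↥G.left x) g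
  · exact iSup_le fun x => (localDim_eq_of_grpObj G x g).le

end group

end Groth.Agent.Lib.Helper55
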