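import Mathlib.RingTheory.AlgebraicIndependent.TranscendenceBasis
import Mathlib.RingTheory.Ideal.Over
import Mathlib.RingTheory.Ideal.Quotient.Operations
import Mathlib.RingTheory.Algebraic.Integral

/-! Bridging transcendence degrees of quotient domains and of "residue fields" given by evaluation
maps with fractions (helper55). -/

set_option autoImplicit false

universe u

namespace Groth.Agent.Lib.Helper55

open Algebra

section tr0

variable (D₁ D₂ K₁ K₂ : Type u) [CommRing D₁] [CommRing D₂] [IsDomain D₁] [IsDomain D₂]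
  [Field K₁] [Field K₂] [Algebra D₁ D₂] [Algebra D₁ K₁] [Algebra D₂ K₂] [Algebra K₁ K₂]
  [Algebra D₁ K₂] [IsScalarTower D₁ D₂ K₂] [IsScalarTower D₁ K₁ K₂]
  [FaithfulSMul D₁ D₂] [FaithfulSMul D₁ K₁] [FaithfulSMul D₂ K₂]
  [Algebra.IsAlgebraic D₁ K₁] [Algebra.IsAlgebraic D₂ K₂]

/-- If `K₁`, `K₂` are algebraic over the domains `D₁ ⊆ D₂`, compatibly, then
`trdeg D₁ D₂ = trdeg K₁ K₂`. -/
theorem trdeg_eq_of_isAlgebraic : Algebra.trdeg D₁ D₂ = Algebra.trdeg K₁ K₂ := by
  have hf : FaithfulSMul K₁ K₂ :=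
    (faithfulSMul_iff_algebraMap_injective _ _).mpr (algebraMap K₁ K₂).injective
  have h1 := trdeg_add_eq (R := D₁) (S := D₂) (A := K₂)
  have h2 := trdeg_add_eq (R := D₁) (S := K₁) (A := K₂)
  rw [trdeg_eq_zero (R := D₂) (A := K₂), add_zero] at h1
  rw [trdeg_eq_zero (R := D₁) (A := K₁), zero_add] at h2
  rw [h1, h2]

end tr0

section fractions

/-- An evaluation map `ev : A → K` to a field "has fractions" if every element of `K` is a quotient
of two values. -/
def HasFractions {A K : Type u} [CommRing A] [Field K] (ev : A →+* K) : Prop :=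
  ∀ z : K, ∃ a s : A, ev s ≠ 0 ∧ z * ev s = ev a

variable {A K : Type u} [CommRing A] [Field K] (ev : A →+* K) (P : Ideal A)

theorem isAlgebraic_of_hasFractions (hP : RingHom.ker ev = P) (hfrac : HasFractions ev) :
    letI : Algebra (A ⧸ P) K := (Ideal.Quotient.lift P ev (fun a ha => by
      rw [← hP] at ha; exact ha)).toAlgebra
    Algebra.IsAlgebraic (A ⧸ P) K := by
  let _ : Algebra (A ⧸ P) K := (Ideal.Quotient.lift P ev (fun a ha => by
      rw [← hP] at ha; exact ha)).toAlgebra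
  have hmk : ∀ a : A, algebraMap (A ⧸ P) K (Ideal.Quotient.mk P a) = ev a := fun a =>
    Ideal.Quotient.lift_mk P ev _
  refine ⟨fun z ↦ ?_⟩
  obtain ⟨a, s, hs, hz⟩ := hfrac z
  refine ⟨Polynomial.C (Ideal.Quotient.mk _ s) * Polynomial.X -
    Polynomial.C (Ideal.Quotient.mk _ a), ?_, ?_⟩
  · intro h0
    have := congr_arg (fun Q ↦ Polynomial.coeff Q 1) h0
    simp only [Polynomial.coeff_sub, Polynomial.coeff_C_mul, Polynomial.coeff_X_one, mul_one,
      Polynomial.coeff_C_succ, sub_zero, Polynomial.coeff_zero] at this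
    apply hs
    rw [← hmk s, this, map_zero]
  · simp only [map_sub, map_mul, Polynomial.aeval_C, Polynomial.aeval_X, hmk]
    rw [mul_comm, hz, sub_self]

theorem lift_injective_of_ker_eq (hP : RingHom.ker ev = P) :
    Function.Injective (Ideal.Quotient.lift P ev (fun a ha => by
      rw [← hP] at ha; exact ha)) := by
  rw [injective_iff_map_eq_zero]
  intro b hb
  obtain ⟨a, rfl⟩ := Ideal.Quotient.mk_surjective b
  rw [Ideal.Quotient.lift_mk] at hb
  rw [Ideal.Quotient.eq_zero_iff_mem, ← hP]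
  exact hb

end fractions

section tr

variable {R B K₁ K₂ : Type u} [CommRing R] [CommRing B] [Algebra R B] [Field K₁] [Field K₂]
  [Algebra K₁ K₂] (p : Ideal R) (q : Ideal B) [p.IsPrime] [q.IsPrime] [q.LiesOver p]
  (ev₁ : R →+* K₁) (ev₂ : B →+* K₂)

/-- **Bridge lemma.**  If `ev₁ : R → K₁`, `ev₂ : B → K₂` are compatible evaluation maps with
fractions and kernels `p`, `q`, then `trdeg (R/p) (B/q) = trdeg K₁ K₂`. -/
theorem trdeg_quotient_eq_of_hasFractions
    (hcomm : (algebraMap K₁ K₂).comp ev₁ = ev₂.comp (algebraMap R B))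
    (h₁ : RingHom.ker ev₁ = p) (h₂ : RingHom.ker ev₂ = q)
    (hf₁ : HasFractions ev₁) (hf₂ : HasFractions ev₂) :
    Algebra.trdeg (R ⧸ p) (B ⧸ q) = Algebra.trdeg K₁ K₂ := by
  have hd₁ : IsDomain (R ⧸ p) := (Ideal.Quotient.isDomain_iff_prime _).mpr inferInstance
  have hd₂ : IsDomain (B ⧸ q) := (Ideal.Quotient.isDomain_iff_prime _).mpr inferInstance
  let a₁ : Algebra (R ⧸ p) K₁ := (Ideal.Quotient.lift p ev₁ (fun a ha => by
      rw [← h₁] at ha; exact ha)).toAlgebra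
  let a₂ : Algebra (B ⧸ q) K₂ := (Ideal.Quotient.lift q ev₂ (fun a ha => by
      rw [← h₂] at ha; exact ha)).toAlgebra
  let a₃ : Algebra (R ⧸ p) K₂ := ((algebraMap K₁ K₂).comp (algebraMap (R ⧸ p) K₁)).toAlgebra
  have hmk₁ : ∀ a : R, algebraMap (R ⧸ p) K₁ (Ideal.Quotient.mk p a) = ev₁ a := fun a =>
    Ideal.Quotient.lift_mk p ev₁ _
  have hmk₂ : ∀ a : B, algebraMap (B ⧸ q) K₂ (Ideal.Quotient.mk q a) = ev₂ a := fun a =>
    Ideal.Quotient.lift_mk q ev₂ _
  have t₁ : IsScalarTower (R ⧸ p) K₁ K₂ := IsScalarTower.of_algebraMap_eq fun x => rfl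
  have t₂ : IsScalarTower (R ⧸ p) (B ⧸ q) K₂ := by
    refine IsScalarTower.of_algebraMap_eq fun x => ?_
    obtain ⟨a, rfl⟩ := Ideal.Quotient.mk_surjective x
    change algebraMap K₁ K₂ (algebraMap (R ⧸ p) K₁ (Ideal.Quotient.mk p a)) = _
    rw [hmk₁, Ideal.Quotient.algebraMap_mk_of_liesOver, hmk₂]
    exact congr($hcomm a)
  have f₁ : FaithfulSMul (R ⧸ p) K₁ :=
    (faithfulSMul_iff_algebraMap_injective _ _).mpr (lift_injective_of_ker_eq ev₁ p h₁)
  have f₂ : FaithfulSMul (B ⧸ q) K₂ :=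
    (faithfulSMul_iff_algebraMap_injective _ _).mpr (lift_injective_of_ker_eq ev₂ q h₂)
  have i₁ : Algebra.IsAlgebraic (R ⧸ p) K₁ := isAlgebraic_of_hasFractions ev₁ p h₁ hf₁
  have i₂ : Algebra.IsAlgebraic (B ⧸ q) K₂ := isAlgebraic_of_hasFractions ev₂ q h₂ hf₂
  exact trdeg_eq_of_isAlgebraic (R ⧸ p) (B ⧸ q) K₁ K₂

end tr

end Groth.Agent.Lib.Helper55
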