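import Groth.Agent.Lib.Helper55.ResidueFieldTrdeg
import Groth.Agent.Lib.Helper55.TrdegBridge

/-! Affine charts, prime ideals of points and residue fields, relative version (helper55). -/

set_option autoImplicit false

universe u

namespace Groth.Agent.Lib.Helper55

open AlgebraicGeometry CategoryTheory

section

variable {X S : Scheme.{u}} (f : X ⟶ S) {V : S.Opens} {U : X.Opens} (e : U ≤ f ⁻¹ᵁ V) (x : X)
  (hx : x ∈ U)

/-- Compatibility of evaluation at a point with `appLE`. -/
theorem evalResidue_comp_appLE :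
    (f.residueFieldMap x).hom.comp (evalResidue S V (f x) (e hx)) =
      (evalResidue X U x hx).comp (f.appLE V U e).hom := by
  have h1 := f.germ_stalkMap V x (e hx)
  have h2 := Scheme.residue_residueFieldMap f x
  have h4 : X.presheaf.map (homOfLE e).op ≫ X.presheaf.germ U x hx =
      X.presheaf.germ (f ⁻¹ᵁ V) x (e hx) := X.presheaf.germ_res (homOfLE e) x hx
  have hcat : S.presheaf.germ V (f x) (e hx) ≫ S.residue (f x) ≫ f.residueFieldMap x =
      f.appLE V U e ≫ X.presheaf.germ U x hx ≫ X.residue x := by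
    rw [h2, ← Category.assoc, h1, Scheme.Hom.appLE, Category.assoc, Category.assoc,
      ← Category.assoc (X.presheaf.map (homOfLE e).op), h4]
  ext a
  exact congr($hcat a)

include e in
theorem primeIdealOf_comap (hU : IsAffineOpen U) (hV : IsAffineOpen V) :
    (hV.primeIdealOf ⟨f x, e hx⟩).asIdeal =
      (hU.primeIdealOf ⟨x, hx⟩).asIdeal.comap (f.appLE V U e).hom := by
  rw [← ker_evalResidue X U hU x hx, ← ker_evalResidue S V hV (f x) (e hx)]
  ext a
  rw [Ideal.mem_comap, RingHom.mem_ker, RingHom.mem_ker]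
  have := congr($(evalResidue_comp_appLE f e x hx) a)
  simp only [RingHom.comp_apply] at this
  rw [← this]
  exact (map_eq_zero_iff _ (f.residueFieldMap x).hom.injective).symm

end

section spec

variable {X : Scheme.{u}} {U : X.Opens} (hU : IsAffineOpen U)

theorem primeIdealOf_le_iff_specializes (ξ x : X) (hξ : ξ ∈ U) (hx : x ∈ U) :
    (hU.primeIdealOf ⟨ξ, hξ⟩).asIdeal ≤ (hU.primeIdealOf ⟨x, hx⟩).asIdeal ↔ ξ ⤳ x := by
  have h1 := hU.fromSpec.isOpenEmbedding.isInducing.specializes_iff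
    (x := hU.primeIdealOf ⟨ξ, hξ⟩) (y := hU.primeIdealOf ⟨x, hx⟩)
  rw [hU.fromSpec_primeIdealOf, hU.fromSpec_primeIdealOf] at h1
  rw [h1]
  exact (PrimeSpectrum.le_iff_specializes _ _)

theorem primeIdealOf_injective (ξ x : X) (hξ : ξ ∈ U) (hx : x ∈ U)
    (h : hU.primeIdealOf ⟨ξ, hξ⟩ = hU.primeIdealOf ⟨x, hx⟩) : ξ = x := by
  have := congrArg hU.fromSpec h
  rwa [hU.fromSpec_primeIdealOf, hU.fromSpec_primeIdealOf] at this

/-- Every prime of `Γ(X, U)` is the prime of a point of `U`. -/
theorem exists_primeIdealOf_eq (P : PrimeSpectrum Γ(X, U)) :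
    ∃ (z : X) (hz : z ∈ U), hU.primeIdealOf ⟨z, hz⟩ = P := by
  have hz : hU.fromSpec P ∈ U := by
    have : hU.fromSpec P ∈ Set.range hU.fromSpec := ⟨P, rfl⟩
    rw [hU.range_fromSpec] at this
    exact this
  refine ⟨hU.fromSpec P, hz, ?_⟩
  apply hU.fromSpec.isOpenEmbedding.injective
  rw [hU.fromSpec_primeIdealOf]

end spec

end Groth.Agent.Lib.Helper55
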