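import Groth.Agent.Lib.Helper55.IrredComponents
import Groth.Agent.S10838
import Mathlib.Data.ENat.Lattice

/-! The dimension of a sober space as a supremum over points; maximal points (helper55). -/

set_option autoImplicit false

namespace Groth.Agent.Lib.Helper55

open Topology Order

section top

variable {X : Type*} [TopologicalSpace X]

/-- The dimension of a sober space is the supremum of the dimensions of the closures of its
points. -/
theorem topologicalKrullDim_le_iSup_closure [QuasiSober X] [T0Space X] :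
    topologicalKrullDim X ≤ ⨆ x : X, topologicalKrullDim ↥(closure ({x} : Set X)) := by
  refine (Groth.Agent.S10838.topologicalKrullDim_le_specialization X).trans ?_
  rw [krullDim_eq_iSup_height]
  refine iSup_le fun a => ?_
  rw [height_eq_krullDim_Iic]
  set x : X := Specialization.ofEquiv a with hx
  refine le_trans ?_ (le_iSup (fun x : X => topologicalKrullDim ↥(closure ({x} : Set X))) x)
  refine le_trans ?_ (Groth.Agent.S10838.krullDim_specialization_le ↥(closure ({x} : Set X)))
  let F : Set.Iic a → Specialization ↥(closure ({x} : Set X)) := fun b =>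
    Specialization.toEquiv ⟨Specialization.ofEquiv b.1, by
      have h : Specialization.ofEquiv a ⤳ Specialization.ofEquiv b.1 := b.2
      exact specializes_iff_mem_closure.mp h⟩
  refine krullDim_le_of_strictMono F ?_
  intro b c hbc
  have h1 : Specialization.ofEquiv c.1 ⤳ Specialization.ofEquiv b.1 := hbc.le
  have h2 : ¬ Specialization.ofEquiv b.1 ⤳ Specialization.ofEquiv c.1 := fun h => hbc.not_ge h
  refine lt_of_le_not_ge ?_ ?_
  · have h1' : ((Specialization.ofEquiv (F c) : ↥(closure ({x} : Set X))) : X) ⤳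
        ((Specialization.ofEquiv (F b) : ↥(closure ({x} : Set X))) : X) := h1
    exact (IsInducing.subtypeVal.specializes_iff (x := Specialization.ofEquiv (F c))
        (y := Specialization.ofEquiv (F b))).mp h1'
  · intro h
    have h' : Specialization.ofEquiv (F b) ⤳ Specialization.ofEquiv (F c) := h
    have h'' : ((Specialization.ofEquiv (F b) : ↥(closure ({x} : Set X))) : X) ⤳
        ((Specialization.ofEquiv (F c) : ↥(closure ({x} : Set X))) : X) :=
      (IsInducing.subtypeVal.specializes_iff (x := Specialization.ofEquiv (F b))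
        (y := Specialization.ofEquiv (F c))).mpr h'
    exact h2 h''

theorem topologicalKrullDim_eq_iSup_closure [QuasiSober X] [T0Space X] :
    topologicalKrullDim X = ⨆ x : X, topologicalKrullDim ↥(closure ({x} : Set X)) :=
  le_antisymm topologicalKrullDim_le_iSup_closure
    (iSup_le fun _ => topologicalKrullDim_subspace_le X _)

/-- Every point of a closed subset `T` of a quasi-sober space is a specialization of a maximal
point of `T`. -/
theorem exists_maximal_point_specializes [QuasiSober X] (T : Set X) (hT : IsClosed T) (t : X)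
    (ht : t ∈ T) : ∃ q ∈ T, q ⤳ t ∧ ∀ y ∈ T, y ⤳ q → q ⤳ y := by
  obtain ⟨C, hC, htC⟩ := exists_mem_irreducibleComponents_subset_of_isIrreducible
    ({(⟨t, ht⟩ : ↥T)} : Set ↥T) isIrreducible_singleton
  obtain ⟨q, hqT, hCq, hgen, -⟩ := exists_genericPoint_of_mem_irreducibleComponents T hT C hC
  refine ⟨q, hqT, ?_, hgen⟩
  rw [specializes_iff_mem_closure, ← hCq]
  exact ⟨⟨t, ht⟩, htC rfl, rfl⟩

/-- The closure of a maximal point of a quasi-sober space is an irreducible component. -/
theorem closure_mem_irreducibleComponents_of_maximal [QuasiSober X] (q : X)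
    (hq : ∀ y : X, y ⤳ q → q ⤳ y) : closure ({q} : Set X) ∈ irreducibleComponents X := by
  refine ⟨isIrreducible_singleton.closure, ?_⟩
  intro t ht hqt
  obtain ⟨z, hz⟩ := QuasiSober.sober ht.closure isClosed_closure
  have hzq : z ⤳ q := by
    rw [specializes_iff_mem_closure, hz.def]
    exact subset_closure (hqt (subset_closure rfl))
  have h4 : closure ({z} : Set X) ⊆ closure {q} := specializes_iff_closure_subset.mp (hq z hzq)
  exact (subset_closure.trans hz.def.symm.subset).trans h4

/-- The generic point of an irreducible component is a maximal point. -/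
theorem specializes_of_closure_mem_irreducibleComponents (q : X)
    (hq : closure ({q} : Set X) ∈ irreducibleComponents X) (y : X) (hy : y ⤳ q) : q ⤳ y := by
  have h1 : closure ({q} : Set X) ⊆ closure {y} := specializes_iff_closure_subset.mp hy
  exact specializes_iff_closure_subset.mpr (hq.2 isIrreducible_singleton.closure h1)

end top

section arith

/-- `iSup_add_iSup_le` for `WithBot ℕ∞`. -/
theorem iSup_add_iSup_le_withBot {ι κ : Type*} (a : ι → WithBot ℕ∞) (b : κ → WithBot ℕ∞)
    (D : WithBot ℕ∞) (h : ∀ i j, a i + b j ≤ D) : (⨆ i, a i) + (⨆ j, b j) ≤ D := by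
  by_cases ha : ∀ i, a i = ⊥
  · have : (⨆ i, a i) = ⊥ := by
      rw [_root_.eq_bot_iff]
      exact iSup_le fun i => (ha i).le
    rw [this, WithBot.bot_add]
    exact bot_le
  by_cases hb : ∀ j, b j = ⊥
  · have : (⨆ j, b j) = ⊥ := by
      rw [_root_.eq_bot_iff]
      exact iSup_le fun j => (hb j).le
    rw [this, WithBot.add_bot]
    exact bot_le
  push Not at ha hb
  obtain ⟨i0, hi0⟩ := ha
  obtain ⟨j0, hj0⟩ := hb
  -- pass to `ℕ∞`
  let a' : ι → ℕ∞ := fun i => (a i).unbotD 0
  let b' : κ → ℕ∞ := fun j => (b j).unbotD 0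
  have ha' : ∀ i, a i ≤ ((a' i : ℕ∞) : WithBot ℕ∞) := by
    intro i
    cases hai : a i with
    | bot => exact bot_le
    | coe x => simp [a', hai]
  have hb' : ∀ j, b j ≤ ((b' j : ℕ∞) : WithBot ℕ∞) := by
    intro j
    cases hbj : b j with
    | bot => exact bot_le
    | coe x => simp [b', hbj]
  have hne : D ≠ ⊥ := by
    intro hD
    have := h i0 j0
    rw [hD, le_bot_iff, WithBot.add_eq_bot] at this
    rcases this with h1 | h1
    · exact hi0 h1
    · exact hj0 h1
  obtain ⟨d, rfl⟩ := WithBot.ne_bot_iff_exists.mp hne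
  have key : ∀ i j, a' i + b' j ≤ d := by
    intro i j
    -- reduce to indices with non-bottom values
    have hi : ∃ i1, a' i ≤ a' i1 ∧ a i1 = ((a' i1 : ℕ∞) : WithBot ℕ∞) := by
      cases hai : a i with
      | bot =>
        obtain ⟨x, hx⟩ := WithBot.ne_bot_iff_exists.mp hi0
        exact ⟨i0, by simp [a', hai], by simp [a', ← hx]⟩
      | coe x => exact ⟨i, le_rfl, by simp [a', hai]⟩
    have hj : ∃ j1, b' j ≤ b' j1 ∧ b j1 = ((b' j1 : ℕ∞) : WithBot ℕ∞) := by
      cases hbj : b j with
      | bot =>
        obtain ⟨x, hx⟩ := WithBot.ne_bot_iff_exists.mp hj0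
        exact ⟨j0, by simp [b', hbj], by simp [b', ← hx]⟩
      | coe x => exact ⟨j, le_rfl, by simp [b', hbj]⟩
    obtain ⟨i1, hi1, hi1'⟩ := hi
    obtain ⟨j1, hj1, hj1'⟩ := hj
    have h1 := h i1 j1
    rw [hi1', hj1', ← WithBot.coe_add, WithBot.coe_le_coe] at h1
    exact (add_le_add hi1 hj1).trans h1
  have : Nonempty ι := ⟨i0⟩
  have : Nonempty κ := ⟨j0⟩
  have h2 : (⨆ i, a' i) + (⨆ j, b' j) ≤ d := ENat.iSup_add_iSup_le key
  have h3 : (⨆ i, a i) ≤ (((⨆ i, a' i : ℕ∞)) : WithBot ℕ∞) :=
    iSup_le fun i => (ha' i).trans (WithBot.coe_le_coe.mpr (le_iSup a' i))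
  have h4 : (⨆ j, b j) ≤ (((⨆ j, b' j : ℕ∞)) : WithBot ℕ∞) :=
    iSup_le fun j => (hb' j).trans (WithBot.coe_le_coe.mpr (le_iSup b' j))
  refine (add_le_add h3 h4).trans ?_
  rw [← WithBot.coe_add, WithBot.coe_le_coe]
  exact h2

end arith

end Groth.Agent.Lib.Helper55
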