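import Groth.Agent.Lib.Helper55.DimTrdeg
import Groth.Prelude.Def_Curv2
import Mathlib.AlgebraicGeometry.Morphisms.FiniteType
import Mathlib.AlgebraicGeometry.AffineScheme

/-!
# Transcendence degree of residue fields of schemes locally of finite type over a field (helper55)
-/

set_option autoImplicit false

universe u v

namespace Groth.Agent.Lib.Helper55

/-- Let `A` be a finitely generated algebra over a field `k` and `ev : A → κ` a `k`-algebra
homomorphism to a field such that `κ` consists of fractions of elements of the image.  Then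
`dim A/ker ev = trdeg_k κ` (a natural number). -/
theorem exists_ringKrullDim_quotient_ker_eq_and_trdeg_eq (k : Type u) {A κ : Type v} [Field k]
    [CommRing A] [Field κ] [Algebra k A] [Algebra k κ] [Algebra.FiniteType k A] (ev : A →ₐ[k] κ)
    (hfrac : ∀ z : κ, ∃ a s : A, ev s ≠ 0 ∧ z * ev s = ev a) :
    ∃ s : ℕ, ringKrullDim (A ⧸ RingHom.ker ev) = s ∧ Algebra.trdeg k κ = s := by
  have hprime : (RingHom.ker ev).IsPrime := RingHom.ker_isPrime ev
  have hdom : IsDomain (A ⧸ RingHom.ker ev) := (Ideal.Quotient.isDomain_iff_prime _).mpr hprime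
  have hinj : Function.Injective (Ideal.kerLiftAlg ev) := Ideal.kerLiftAlg_injective ev
  let _ : Algebra (A ⧸ RingHom.ker ev) κ := (Ideal.kerLiftAlg ev).toRingHom.toAlgebra
  have htower : IsScalarTower k (A ⧸ RingHom.ker ev) κ :=
    IsScalarTower.of_algebraMap_eq fun r ↦ ((Ideal.kerLiftAlg ev).commutes r).symm
  have hf1 : FaithfulSMul k (A ⧸ RingHom.ker ev) :=
    (faithfulSMul_iff_algebraMap_injective _ _).mpr (algebraMap k (A ⧸ RingHom.ker ev)).injective
  have hf2 : FaithfulSMul (A ⧸ RingHom.ker ev) κ :=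
    (faithfulSMul_iff_algebraMap_injective _ _).mpr hinj
  have halg : Algebra.IsAlgebraic (A ⧸ RingHom.ker ev) κ := by
    refine ⟨fun z ↦ ?_⟩
    obtain ⟨a, s, hs, hz⟩ := hfrac z
    refine ⟨Polynomial.C (Ideal.Quotient.mk _ s) * Polynomial.X -
      Polynomial.C (Ideal.Quotient.mk _ a), ?_, ?_⟩
    · intro h0
      have := congr_arg (fun P ↦ Polynomial.coeff P 1) h0
      simp only [Polynomial.coeff_sub, Polynomial.coeff_C_mul, Polynomial.coeff_X_one, mul_one,
        Polynomial.coeff_C_succ, sub_zero, Polynomial.coeff_zero] at this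
      apply hs
      have h2 : Ideal.kerLiftAlg ev (Ideal.Quotient.mk _ s) = ev s := Ideal.kerLiftAlg_mk ev s
      rw [← h2, this, map_zero]
    · have h1 : algebraMap (A ⧸ RingHom.ker ev) κ (Ideal.Quotient.mk _ s) = ev s :=
        Ideal.kerLiftAlg_mk ev s
      have h2 : algebraMap (A ⧸ RingHom.ker ev) κ (Ideal.Quotient.mk _ a) = ev a :=
        Ideal.kerLiftAlg_mk ev a
      simp only [map_sub, map_mul, Polynomial.aeval_C, Polynomial.aeval_X, h1, h2]
      rw [mul_comm, hz, sub_self]
  have hadd := trdeg_add_eq (R := k) (S := A ⧸ RingHom.ker ev) (A := κ)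
  rw [trdeg_eq_zero (R := A ⧸ RingHom.ker ev) (A := κ), add_zero] at hadd
  obtain ⟨s, hs1, hs2⟩ := exists_ringKrullDim_eq_and_trdeg_eq k (A ⧸ RingHom.ker ev)
  exact ⟨s, hs1, hadd ▸ hs2⟩

end Groth.Agent.Lib.Helper55

namespace Groth.Agent.Lib.Helper55

open CategoryTheory CategoryTheory.Limits AlgebraicGeometry

attribute [local instance] Curv2.stalkAlgebra Curv2.resAlgebra

variable (k : Type u) [Field k] (X : Scheme.{u}) [X.Over (Spec (CommRingCat.of k))]
  [LocallyOfFiniteType (X ↘ (Spec (CommRingCat.of k)))]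

/-- The `k`-algebra structure map on the sections over an open of a `k`-scheme. -/
noncomputable def sectionsMap (U : X.Opens) : k →+* Γ(X, U) :=
  ((X ↘ Spec (CommRingCat.of k)).appLE ⊤ U le_top).hom.comp
    (Scheme.ΓSpecIso (CommRingCat.of k)).inv.hom

theorem sectionsMap_finiteType (U : X.Opens) (hU : IsAffineOpen U) :
    (sectionsMap k X U).FiniteType := by
  have hsurj : Function.Surjective (Scheme.ΓSpecIso (CommRingCat.of k)).inv.hom :=
    (ConcreteCategory.bijective_of_isIso (Scheme.ΓSpecIso (CommRingCat.of k)).inv).2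
  exact ((X ↘ Spec (CommRingCat.of k)).finiteType_appLE (isAffineOpen_top _) hU le_top).comp
    (RingHom.FiniteType.of_surjective _ hsurj)

/-- Evaluation of sections at a point, with values in the residue field. -/
noncomputable def evalResidue (U : X.Opens) (x : X) (hx : x ∈ U) : Γ(X, U) →+* X.residueField x :=
  (X.residue x).hom.comp (X.presheaf.germ U x hx).hom

omit [LocallyOfFiniteType (X ↘ (Spec (CommRingCat.of k)))] in
theorem evalResidue_comp_sectionsMap (U : X.Opens) (x : X) (hx : x ∈ U) :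
    (evalResidue X U x hx).comp (sectionsMap k X U) = Curv2.resMap k X x := by
  have h1 : (X ↘ Spec (CommRingCat.of k)).appLE ⊤ U le_top ≫ X.presheaf.germ U x hx =
      (X ↘ Spec (CommRingCat.of k)).appTop ≫ X.presheaf.germ ⊤ x trivial := by
    rw [Scheme.Hom.appLE, Category.assoc, X.presheaf.germ_res]
    rfl
  ext r
  have h2 := congr($h1 ((Scheme.ΓSpecIso (CommRingCat.of k)).inv.hom r))
  change (X.residue x).hom ((X.presheaf.germ U x hx).hom
    (((X ↘ Spec (CommRingCat.of k)).appLE ⊤ U le_top).hom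
      ((Scheme.ΓSpecIso (CommRingCat.of k)).inv.hom r))) =
    (X.residue x).hom ((X.presheaf.germ ⊤ x trivial).hom
      (((X ↘ Spec (CommRingCat.of k)).appTop).hom
        ((Scheme.ΓSpecIso (CommRingCat.of k)).inv.hom r)))
  exact congr_arg _ h2

theorem ker_evalResidue (U : X.Opens) (hU : IsAffineOpen U) (x : X) (hx : x ∈ U) :
    RingHom.ker (evalResidue X U x hx) = (hU.primeIdealOf ⟨x, hx⟩).asIdeal := by
  ext a
  rw [RingHom.mem_ker, hU.primeIdealOf_eq_map_closedPoint]
  change (X.residue x).hom ((X.presheaf.germ U x hx).hom a) = 0 ↔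
    (X.presheaf.germ U x hx).hom a ∈ IsLocalRing.maximalIdeal (X.presheaf.stalk x)
  rw [← IsLocalRing.residue_eq_zero_iff]
  rfl

theorem evalResidue_fraction (U : X.Opens) (hU : IsAffineOpen U) (x : X) (hx : x ∈ U)
    (z : X.residueField x) :
    ∃ a s : Γ(X, U), evalResidue X U x hx s ≠ 0 ∧ z * evalResidue X U x hx s =
      evalResidue X U x hx a := by
  let _ : Algebra Γ(X, U) (X.presheaf.stalk x) := (X.presheaf.germ U x hx).hom.toAlgebra
  have hloc : IsLocalization.AtPrime (X.presheaf.stalk x) (hU.primeIdealOf ⟨x, hx⟩).asIdeal :=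
    hU.isLocalization_stalk ⟨x, hx⟩
  obtain ⟨w, rfl⟩ := X.residue_surjective x z
  obtain ⟨⟨a, s⟩, h⟩ := IsLocalization.surj (hU.primeIdealOf ⟨x, hx⟩).asIdeal.primeCompl w
  refine ⟨a, s, ?_, ?_⟩
  · have hu : IsUnit ((X.presheaf.germ U x hx).hom s) :=
      IsLocalization.map_units (X.presheaf.stalk x) s
    exact (hu.map (X.residue x).hom).ne_zero
  · change (X.residue x).hom w * (X.residue x).hom ((X.presheaf.germ U x hx).hom s) =
      (X.residue x).hom ((X.presheaf.germ U x hx).hom a)
    rw [← map_mul]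
    exact congr_arg _ h

/-- **Lemma R**: for a point `x` of an affine open `U` of a scheme locally of finite type over a
field `k`, `trdeg_k κ(x) = dim Γ(U)/𝔭_x`, and `Γ(U)` carries a finite type `k`-algebra
structure. -/
theorem exists_ringKrullDim_quotient_eq_and_trdeg_residueField_eq_of_isAffineOpen
    (U : X.Opens) (hU : IsAffineOpen U) (x : X) (hx : x ∈ U) :
    ∃ s : ℕ, ringKrullDim (Γ(X, U) ⧸ (hU.primeIdealOf ⟨x, hx⟩).asIdeal) = s ∧
      Algebra.trdeg k (X.residueField x) = s := by
  let _ : Algebra k Γ(X, U) := (sectionsMap k X U).toAlgebra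
  have hft : Algebra.FiniteType k Γ(X, U) := sectionsMap_finiteType k X U hU
  let ev : Γ(X, U) →ₐ[k] X.residueField x :=
    { evalResidue X U x hx with
      commutes' := fun r ↦ congr($(evalResidue_comp_sectionsMap k X U x hx) r) }
  obtain ⟨s, hs1, hs2⟩ := exists_ringKrullDim_quotient_ker_eq_and_trdeg_eq k ev
    (evalResidue_fraction X U hU x hx)
  have hker : RingHom.ker ev = (hU.primeIdealOf ⟨x, hx⟩).asIdeal := ker_evalResidue X U hU x hx
  rw [hker] at hs1
  exact ⟨s, hs1, hs2⟩

end Groth.Agent.Lib.Helper55
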