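import Groth.Agent.Lib.Helper55.DimFormulaAlg
import Groth.Agent.Lib.Helper55.ChartResidue
import Groth.Agent.Lib.Helper55.FiberTrdeg
import Groth.Agent.Lib.Helper55.DimSup
import Groth.Agent.S4442

/-! The dimension formula (inequality) for morphisms locally of finite type to a locally
Noetherian scheme (helper55). -/

set_option autoImplicit false

universe u

namespace Groth.Agent.Lib.Helper55

open AlgebraicGeometry CategoryTheory

section chart

variable {X S : Scheme.{u}} [IsLocallyNoetherian S] (f : X ⟶ S) [LocallyOfFiniteType f]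
  {V : S.Opens} {U : X.Opens} (hV : IsAffineOpen V) (hU : IsAffineOpen U) (e : U ≤ f ⁻¹ᵁ V)

/-- **Dimension inequality in affine charts.**  For `ξ ⤳ x` in the affine open `U` over `V`:
`ht(𝔭_x/𝔭_ξ) + trdeg κ(x)/κ(f x) ≤ ht(𝔮_{f x}/𝔮_{f ξ}) + trdeg κ(ξ)/κ(f ξ)`. -/
theorem chart_height_add_trdeg_le (ξ x : X) (hξ : ξ ∈ U) (hx : x ∈ U) (hspec : ξ ⤳ x) (n m : ℕ)
    (hn : @Algebra.trdeg (S.residueField (f x)) (X.residueField x) _ _
      (f.residueFieldMap x).hom.toAlgebra = n)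
    (hm : @Algebra.trdeg (S.residueField (f ξ)) (X.residueField ξ) _ _
      (f.residueFieldMap ξ).hom.toAlgebra = m) :
    ((hU.primeIdealOf ⟨x, hx⟩).asIdeal.map
        (Ideal.Quotient.mk (hU.primeIdealOf ⟨ξ, hξ⟩).asIdeal)).height + n ≤
      ((hV.primeIdealOf ⟨f x, e hx⟩).asIdeal.map
        (Ideal.Quotient.mk (hV.primeIdealOf ⟨f ξ, e hξ⟩).asIdeal)).height + m := by
  let _ : Algebra Γ(S, V) Γ(X, U) := (f.appLE V U e).hom.toAlgebra
  have hN : IsNoetherianRing Γ(S, V) := IsLocallyNoetherian.component_noetherian ⟨V, hV⟩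
  have hft : Algebra.FiniteType Γ(S, V) Γ(X, U) := f.finiteType_appLE hV hU e
  have ho1 : (hU.primeIdealOf ⟨ξ, hξ⟩).asIdeal.LiesOver (hV.primeIdealOf ⟨f ξ, e hξ⟩).asIdeal :=
    ⟨primeIdealOf_comap f e ξ hξ hU hV⟩
  have ho2 : (hU.primeIdealOf ⟨x, hx⟩).asIdeal.LiesOver (hV.primeIdealOf ⟨f x, e hx⟩).asIdeal :=
    ⟨primeIdealOf_comap f e x hx hU hV⟩
  let _ : Algebra (S.residueField (f x)) (X.residueField x) := (f.residueFieldMap x).hom.toAlgebra
  let _ : Algebra (S.residueField (f ξ)) (X.residueField ξ) := (f.residueFieldMap ξ).hom.toAlgebra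
  exact (height_add_trdeg_le_of_hasFractions (hV.primeIdealOf ⟨f ξ, e hξ⟩).asIdeal
    (hV.primeIdealOf ⟨f x, e hx⟩).asIdeal (hU.primeIdealOf ⟨ξ, hξ⟩).asIdeal
    (hU.primeIdealOf ⟨x, hx⟩).asIdeal
    (evalResidue S V (f ξ) (e hξ)) (evalResidue X U ξ hξ)
    (evalResidue S V (f x) (e hx)) (evalResidue X U x hx)
    ((primeIdealOf_le_iff_specializes hU ξ x hξ hx).mpr hspec)
    (evalResidue_comp_appLE f e ξ hξ) (evalResidue_comp_appLE f e x hx)
    (ker_evalResidue S V hV (f ξ) (e hξ)) (ker_evalResidue X U hU ξ hξ)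
    (ker_evalResidue S V hV (f x) (e hx)) (ker_evalResidue X U hU x hx)
    (evalResidue_fraction S V hV (f ξ) (e hξ)) (evalResidue_fraction X U hU ξ hξ)
    (evalResidue_fraction S V hV (f x) (e hx)) (evalResidue_fraction X U hU x hx)
    n m hn hm).1

end chart

section point

variable {X S : Scheme.{u}} [IsLocallyNoetherian S] (f : X ⟶ S) [LocallyOfFiniteType f]

omit [IsLocallyNoetherian S] in
/-- The transcendence degree of a residue field extension of a morphism locally of finite type is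
finite. -/
theorem exists_trdeg_residueField_eq_natCast (x : X) :
    ∃ n : ℕ, @Algebra.trdeg (S.residueField (f x)) (X.residueField x) _ _
      (f.residueFieldMap x).hom.toAlgebra = n := by
  obtain ⟨n, -, hn⟩ := exists_dim_closure_asFiber_eq_trdeg f x
  exact ⟨n, hn⟩

/-- **Dimension inequality at a point** (general form). -/
theorem ringKrullDim_stalk_add_trdeg_le (x : X) (n E : ℕ)
    (hn : @Algebra.trdeg (S.residueField (f x)) (X.residueField x) _ _
      (f.residueFieldMap x).hom.toAlgebra = n)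
    (hE : ∀ ξ : X, closure {ξ} ∈ irreducibleComponents ↥X → ξ ⤳ x →
      @Algebra.trdeg (S.residueField (f ξ)) (X.residueField ξ) _ _
        (f.residueFieldMap ξ).hom.toAlgebra ≤ E) :
    ringKrullDim (X.presheaf.stalk x) + n ≤ ringKrullDim (S.presheaf.stalk (f x)) + E := by
  obtain ⟨V, hV, hfxV, -⟩ := exists_isAffineOpen_mem_and_subset (x := f x) (U := ⊤) trivial
  obtain ⟨U, hU, hxU, e⟩ :=
    exists_isAffineOpen_mem_and_subset (x := x) (U := f ⁻¹ᵁ V) hfxV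
  have hNX : IsLocallyNoetherian X := LocallyOfFiniteType.isLocallyNoetherian f
  have hNB : IsNoetherianRing Γ(X, U) := IsLocallyNoetherian.component_noetherian ⟨U, hU⟩
  set 𝔭 := (hU.primeIdealOf ⟨x, hxU⟩).asIdeal with h𝔭
  have h𝔭p : 𝔭.IsPrime := (hU.primeIdealOf ⟨x, hxU⟩).2
  obtain ⟨𝔭₀, h𝔭₀p, h𝔭₀le, hmin, hht⟩ := exists_le_height_map_quotient_eq 𝔭
  obtain ⟨ξ, hξU, hξ𝔭₀⟩ := exists_primeIdealOf_eq hU ⟨𝔭₀, h𝔭₀p⟩
  have hξ𝔭₀' : (hU.primeIdealOf ⟨ξ, hξU⟩).asIdeal = 𝔭₀ := congrArg PrimeSpectrum.asIdeal hξ𝔭₀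
  have hspec : ξ ⤳ x := by
    rw [← primeIdealOf_le_iff_specializes hU ξ x hξU hxU, hξ𝔭₀']
    exact h𝔭₀le
  have hmaxξ : ∀ y : X, y ⤳ ξ → ξ ⤳ y := by
    intro y hy
    have hyU : y ∈ U := hy.mem_open U.2 hξU
    have h1 : (hU.primeIdealOf ⟨y, hyU⟩).asIdeal ≤ 𝔭₀ := by
      rw [← hξ𝔭₀']
      exact (primeIdealOf_le_iff_specializes hU y ξ hyU hξU).mpr hy
    have h2 := hmin _ (hU.primeIdealOf ⟨y, hyU⟩).2 h1
    have h3 : hU.primeIdealOf ⟨y, hyU⟩ = hU.primeIdealOf ⟨ξ, hξU⟩ := by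
      apply PrimeSpectrum.ext
      rw [h2, hξ𝔭₀']
    rw [primeIdealOf_injective hU y ξ hyU hξU h3]
  have hcomp := closure_mem_irreducibleComponents_of_maximal ξ hmaxξ
  obtain ⟨m, hm⟩ := exists_trdeg_residueField_eq_natCast f ξ
  have hmE : m ≤ E := by
    have := hE ξ hcomp hspec
    rw [hm] at this
    exact_mod_cast this
  have key := chart_height_add_trdeg_le f hV hU e ξ x hξU hxU hspec n m hn hm
  rw [hξ𝔭₀'] at key
  have hq : ((hV.primeIdealOf ⟨f x, e hxU⟩).asIdeal.map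
      (Ideal.Quotient.mk (hV.primeIdealOf ⟨f ξ, e hξU⟩).asIdeal)).height ≤
      (hV.primeIdealOf ⟨f x, e hxU⟩).asIdeal.height := by
    have hp : (hV.primeIdealOf ⟨f x, e hxU⟩).asIdeal.IsPrime := (hV.primeIdealOf _).2
    refine height_map_quotient_le _ _ ?_
    exact (primeIdealOf_le_iff_specializes hV (f ξ) (f x) (e hξU) (e hxU)).mpr
      (hspec.map f.continuous)
  rw [Groth.Agent.S4442.ringKrullDim_stalk_eq_height X hU x hxU,
    Groth.Agent.S4442.ringKrullDim_stalk_eq_height S hV (f x) (e hxU)]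
  have hfinal : 𝔭.height + (n : ℕ∞) ≤ (hV.primeIdealOf ⟨f x, e hxU⟩).asIdeal.height + (E : ℕ∞) :=
    calc 𝔭.height + (n : ℕ∞) ≤ (𝔭.map (Ideal.Quotient.mk 𝔭₀)).height + n :=
          add_le_add_left hht _
      _ ≤ _ := key
      _ ≤ (hV.primeIdealOf ⟨f x, e hxU⟩).asIdeal.height + (E : ℕ∞) :=
          add_le_add hq (by exact_mod_cast hmE)
  exact_mod_cast WithBot.coe_le_coe.mpr hfinal

end point

end Groth.Agent.Lib.Helper55
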