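import Groth.Agent.S0553
import Groth.Agent.Lib.Helper55.DimFormulaScheme

/-! Universally catenary rings of sections; the dimension formula (equality) in affine charts
(helper55). -/

set_option autoImplicit false

universe u

namespace Groth.Agent.Lib.Helper55

open AlgebraicGeometry CategoryTheory

section ring

theorem isUniversallyCatenary_of_ringEquiv {R₁ R₂ : Type u} [CommRing R₁] [CommRing R₂]
    (e : R₁ ≃+* R₂) (h : CAlg.IsUniversallyCatenary R₁) : CAlg.IsUniversallyCatenary R₂ := by
  have hN : IsNoetherianRing R₁ := h.1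
  refine ⟨isNoetherianRing_of_ringEquiv R₁ e, ?_⟩
  intro T _ _ hT
  let _ : Algebra R₁ T := ((algebraMap R₂ T).comp e.toRingHom).toAlgebra
  have hft : Algebra.FiniteType R₁ T := by
    have h1 : (algebraMap R₂ T).FiniteType := (RingHom.finiteType_algebraMap).mpr hT
    have h2 : (e.toRingHom).FiniteType := RingHom.FiniteType.of_surjective _ e.surjective
    exact h1.comp h2
  exact h.2 T hft

theorem isUniversallyCatenary_quotient {R : Type u} [CommRing R] (I : Ideal R)
    (h : CAlg.IsUniversallyCatenary R) : CAlg.IsUniversallyCatenary (R ⧸ I) := by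
  have hN : IsNoetherianRing R := h.1
  refine ⟨inferInstance, ?_⟩
  intro T _ _ hT
  let _ : Algebra R T := ((algebraMap (R ⧸ I) T).comp (Ideal.Quotient.mk I)).toAlgebra
  have hft : Algebra.FiniteType R T := by
    have h1 : (algebraMap (R ⧸ I) T).FiniteType := (RingHom.finiteType_algebraMap).mpr hT
    have h2 : (Ideal.Quotient.mk I).FiniteType :=
      RingHom.FiniteType.of_surjective _ Ideal.Quotient.mk_surjective
    exact h1.comp h2
  exact h.2 T hft

end ring

section sections

variable {S : Scheme.{u}} [IsLocallyNoetherian S] {V : S.Opens} (hV : IsAffineOpen V)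

include hV in
/-- If all local rings of a locally Noetherian scheme are universally catenary, so are the rings
of sections over affine opens. -/
theorem isUniversallyCatenary_sections
    (h : ∀ s : S, CAlg.IsUniversallyCatenary (S.presheaf.stalk s)) :
    CAlg.IsUniversallyCatenary Γ(S, V) := by
  have hN : IsNoetherianRing Γ(S, V) := IsLocallyNoetherian.component_noetherian ⟨V, hV⟩
  rw [Groth.Agent.S0553.result]
  intro m hm
  have hmp : m.IsPrime := hm.isPrime
  obtain ⟨z, hz, hzm⟩ := exists_primeIdealOf_eq hV ⟨m, hmp⟩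
  let _ : Algebra Γ(S, V) (S.presheaf.stalk z) := (S.presheaf.germ V z hz).hom.toAlgebra
  have hloc : IsLocalization.AtPrime (S.presheaf.stalk z) (hV.primeIdealOf ⟨z, hz⟩).asIdeal :=
    hV.isLocalization_stalk ⟨z, hz⟩
  have hm' : (hV.primeIdealOf ⟨z, hz⟩).asIdeal = m := congrArg PrimeSpectrum.asIdeal hzm
  have hloc' : IsLocalization.AtPrime (S.presheaf.stalk z) m := by
    have : (hV.primeIdealOf ⟨z, hz⟩).asIdeal.primeCompl = m.primeCompl := by
      ext a; simp [Ideal.primeCompl, hm']
    unfold IsLocalization.AtPrime at hloc ⊢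
    rwa [this] at hloc
  let e : S.presheaf.stalk z ≃ₐ[Γ(S, V)] Localization.AtPrime m :=
    IsLocalization.algEquiv m.primeCompl _ _
  exact isUniversallyCatenary_of_ringEquiv e.toRingEquiv (h z)

end sections

section chart

variable {X S : Scheme.{u}} [IsLocallyNoetherian S] (f : X ⟶ S) [LocallyOfFiniteType f]
  {V : S.Opens} {U : X.Opens} (hV : IsAffineOpen V) (hU : IsAffineOpen U) (e : U ≤ f ⁻¹ᵁ V)

/-- **Dimension formula in affine charts** (universally catenary case). -/
theorem chart_height_add_trdeg_eq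
    (hcat : ∀ s : S, CAlg.IsUniversallyCatenary (S.presheaf.stalk s))
    (ξ x : X) (hξ : ξ ∈ U) (hx : x ∈ U) (hspec : ξ ⤳ x) (n m : ℕ)
    (hn : @Algebra.trdeg (S.residueField (f x)) (X.residueField x) _ _
      (f.residueFieldMap x).hom.toAlgebra = n)
    (hm : @Algebra.trdeg (S.residueField (f ξ)) (X.residueField ξ) _ _
      (f.residueFieldMap ξ).hom.toAlgebra = m) :
    ((hU.primeIdealOf ⟨x, hx⟩).asIdeal.map
        (Ideal.Quotient.mk (hU.primeIdealOf ⟨ξ, hξ⟩).asIdeal)).height + n =
      ((hV.primeIdealOf ⟨f x, e hx⟩).asIdeal.map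
        (Ideal.Quotient.mk (hV.primeIdealOf ⟨f ξ, e hξ⟩).asIdeal)).height + m := by
  let _ : Algebra Γ(S, V) Γ(X, U) := (f.appLE V U e).hom.toAlgebra
  have hN : IsNoetherianRing Γ(S, V) := IsLocallyNoetherian.component_noetherian ⟨V, hV⟩
  have hft : Algebra.FiniteType Γ(S, V) Γ(X, U) := f.finiteType_appLE hV hU e
  have ho1 : (hU.primeIdealOf ⟨ξ, hξ⟩).asIdeal.LiesOver (hV.primeIdealOf ⟨f ξ, e hξ⟩).asIdeal :=
    ⟨primeIdealOf_comap f e ξ hξ hU hV⟩
  have ho2 : (hU.primeIdealOf ⟨x, hx⟩).asIdeal.LiesOver (hV.primeIdealOf ⟨f x, e hx⟩).asIdeal :=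
    ⟨primeIdealOf_comap f e x hx hU hV⟩
  let _ : Algebra (S.residueField (f x)) (X.residueField x) := (f.residueFieldMap x).hom.toAlgebra
  let _ : Algebra (S.residueField (f ξ)) (X.residueField ξ) := (f.residueFieldMap ξ).hom.toAlgebra
  exact (height_add_trdeg_le_of_hasFractions (hV.primeIdealOf ⟨f ξ, e hξ⟩).asIdeal
    (hV.primeIdealOf ⟨f x, e hx⟩).asIdeal (hU.primeIdealOf ⟨ξ, hξ⟩).asIdeal
    (hU.primeIdealOf ⟨x, hx⟩).asIdeal
    (evalResidue S V (f ξ) (e hξ)) (evalResidue X U ξ hξ)
    (evalResidue S V (f x) (e hx)) (evalResidue X U x hx)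
    ((primeIdealOf_le_iff_specializes hU ξ x hξ hx).mpr hspec)
    (evalResidue_comp_appLE f e ξ hξ) (evalResidue_comp_appLE f e x hx)
    (ker_evalResidue S V hV (f ξ) (e hξ)) (ker_evalResidue X U hU ξ hξ)
    (ker_evalResidue S V hV (f x) (e hx)) (ker_evalResidue X U hU x hx)
    (evalResidue_fraction S V hV (f ξ) (e hξ)) (evalResidue_fraction X U hU ξ hξ)
    (evalResidue_fraction S V hV (f x) (e hx)) (evalResidue_fraction X U hU x hx)
    n m hn hm).2 (isUniversallyCatenary_quotient _ (isUniversallyCatenary_sections hV hcat))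

end chart

end Groth.Agent.Lib.Helper55
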