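import Groth.Agent.Lib.Helper55.LocalADF
import Groth.Agent.Lib.Helper55.UnivCatenaryChart

/-! The dimension formula (equality) in affine charts when only the local ring of the base point
is universally catenary (helper55). -/

set_option autoImplicit false

universe u

namespace Groth.Agent.Lib.Helper55

open AlgebraicGeometry CategoryTheory

section ring

theorem isUniversallyCatenary_of_surjective {R₁ R₂ : Type u} [CommRing R₁] [CommRing R₂]
    (φ : R₁ →+* R₂) (hφ : Function.Surjective φ) (h : CAlg.IsUniversallyCatenary R₁) :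
    CAlg.IsUniversallyCatenary R₂ :=
  isUniversallyCatenary_of_ringEquiv (RingHom.quotientKerEquivOfSurjective hφ)
    (isUniversallyCatenary_quotient _ h)

theorem isUniversallyCatenary_atPrime_congr {R : Type u} [CommRing R] {I J : Ideal R}
    [_hI : I.IsPrime] [hJ : J.IsPrime] (h : I = J)
    (hcat : CAlg.IsUniversallyCatenary (Localization.AtPrime I)) :
    CAlg.IsUniversallyCatenary (Localization.AtPrime J) := by
  subst h
  exact hcat

/-- If `R_𝔮` is universally catenary, so is `(R/𝔮₀)_{𝔮/𝔮₀}`. -/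
theorem isUniversallyCatenary_localization_quotient {R : Type u} [CommRing R] (𝔮₀ 𝔮 : Ideal R)
    [𝔮.IsPrime] (h : 𝔮₀ ≤ 𝔮) [hP : (𝔮.map (Ideal.Quotient.mk 𝔮₀)).IsPrime]
    (hcat : CAlg.IsUniversallyCatenary (Localization.AtPrime 𝔮)) :
    CAlg.IsUniversallyCatenary (Localization.AtPrime (𝔮.map (Ideal.Quotient.mk 𝔮₀))) := by
  have hc : (𝔮.map (Ideal.Quotient.mk 𝔮₀)).comap (Ideal.Quotient.mk 𝔮₀) = 𝔮 :=
    comap_map_mk_of_le 𝔮₀ 𝔮 h
  have h1 : CAlg.IsUniversallyCatenary (Localization.AtPrime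
      ((𝔮.map (Ideal.Quotient.mk 𝔮₀)).comap (Ideal.Quotient.mk 𝔮₀))) :=
    isUniversallyCatenary_atPrime_congr hc.symm hcat
  exact isUniversallyCatenary_of_surjective _
    (RingHom.surjective_localRingHom_of_surjective (Ideal.Quotient.mk 𝔮₀)
      Ideal.Quotient.mk_surjective (𝔮.map (Ideal.Quotient.mk 𝔮₀))) h1

end ring

section adf

variable {R B : Type u} [CommRing R] [CommRing B] [Algebra R B]
  (𝔮₀ 𝔮 : Ideal R) (𝔭₀ 𝔭 : Ideal B) [𝔮₀.IsPrime] [𝔮.IsPrime] [𝔭₀.IsPrime] [𝔭.IsPrime]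
  [𝔭₀.LiesOver 𝔮₀] [𝔭.LiesOver 𝔮]

variable {K₁ K₂ L₁ L₂ : Type u} [Field K₁] [Field K₂] [Field L₁] [Field L₂]
  [Algebra K₁ K₂] [Algebra L₁ L₂]
  (evσ : R →+* L₁) (evξ : B →+* L₂) (evs : R →+* K₁) (evx : B →+* K₂)

/-- **Dimension formula with evaluation maps, local form.**  As
`height_add_trdeg_le_of_hasFractions`, with equality as soon as `R_𝔮` is universally catenary. -/
theorem height_add_trdeg_eq_of_hasFractions_local [IsNoetherianRing R] [Algebra.FiniteType R B]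
    (h𝔭 : 𝔭₀ ≤ 𝔭)
    (hcσ : (algebraMap L₁ L₂).comp evσ = evξ.comp (algebraMap R B))
    (hcs : (algebraMap K₁ K₂).comp evs = evx.comp (algebraMap R B))
    (hkσ : RingHom.ker evσ = 𝔮₀) (hkξ : RingHom.ker evξ = 𝔭₀)
    (hks : RingHom.ker evs = 𝔮) (hkx : RingHom.ker evx = 𝔭)
    (hfσ : HasFractions evσ) (hfξ : HasFractions evξ) (hfs : HasFractions evs)
    (hfx : HasFractions evx) (n m : ℕ) (hn : Algebra.trdeg K₁ K₂ = n)
    (hm : Algebra.trdeg L₁ L₂ = m)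
    (hcat : CAlg.IsUniversallyCatenary (Localization.AtPrime 𝔮)) :
    (𝔭.map (Ideal.Quotient.mk 𝔭₀)).height + n = (𝔮.map (Ideal.Quotient.mk 𝔮₀)).height + m := by
  have h𝔮 : 𝔮₀ ≤ 𝔮 := by
    rw [Ideal.LiesOver.over (P := 𝔭₀) (p := 𝔮₀), Ideal.LiesOver.over (P := 𝔭) (p := 𝔮)]
    exact Ideal.comap_mono h𝔭
  have hd₁ : IsDomain (R ⧸ 𝔮₀) := (Ideal.Quotient.isDomain_iff_prime _).mpr inferInstance
  have hd₂ : IsDomain (B ⧸ 𝔭₀) := (Ideal.Quotient.isDomain_iff_prime _).mpr inferInstance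
  have hft1 : Algebra.FiniteType R (B ⧸ 𝔭₀) :=
    Algebra.FiniteType.of_surjective (Ideal.Quotient.mkₐ R 𝔭₀) (Ideal.Quotient.mkₐ_surjective R 𝔭₀)
  have hft : Algebra.FiniteType (R ⧸ 𝔮₀) (B ⧸ 𝔭₀) :=
    Algebra.FiniteType.of_restrictScalars_finiteType R (R ⧸ 𝔮₀) (B ⧸ 𝔭₀)
  have hpq : (𝔭.map (Ideal.Quotient.mk 𝔭₀)).LiesOver (𝔮.map (Ideal.Quotient.mk 𝔮₀)) :=
    liesOver_map_mk 𝔮₀ 𝔮 𝔭₀ 𝔭 h𝔭 h𝔮
  have hpp : (𝔮.map (Ideal.Quotient.mk 𝔮₀)).IsPrime := map_mk_isPrime_of_le 𝔮₀ 𝔮 h𝔮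
  have hqp : (𝔭.map (Ideal.Quotient.mk 𝔭₀)).IsPrime := map_mk_isPrime_of_le 𝔭₀ 𝔭 h𝔭
  -- lifted evaluation maps
  have hσle : ∀ a ∈ 𝔮₀, evs a = 0 := fun a ha => by
    have : a ∈ RingHom.ker evs := by rw [hks]; exact h𝔮 ha
    exact this
  have hξle : ∀ a ∈ 𝔭₀, evx a = 0 := fun a ha => by
    have : a ∈ RingHom.ker evx := by rw [hkx]; exact h𝔭 ha
    exact this
  set evs' := Ideal.Quotient.lift 𝔮₀ evs hσle with hevs'
  set evx' := Ideal.Quotient.lift 𝔭₀ evx hξle with hevx'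
  have hks' : RingHom.ker evs' = 𝔮.map (Ideal.Quotient.mk 𝔮₀) := by
    rw [hevs', Ideal.ker_quotient_lift, hks]
  have hkx' : RingHom.ker evx' = 𝔭.map (Ideal.Quotient.mk 𝔭₀) := by
    rw [hevx', Ideal.ker_quotient_lift, hkx]
  have hfs' : HasFractions evs' := by
    intro z
    obtain ⟨a, s, hs, hz⟩ := hfs z
    exact ⟨Ideal.Quotient.mk _ a, Ideal.Quotient.mk _ s, by simpa [hevs'] using hs,
      by simpa [hevs'] using hz⟩
  have hfx' : HasFractions evx' := by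
    intro z
    obtain ⟨a, s, hs, hz⟩ := hfx z
    exact ⟨Ideal.Quotient.mk _ a, Ideal.Quotient.mk _ s, by simpa [hevx'] using hs,
      by simpa [hevx'] using hz⟩
  have hcs' : (algebraMap K₁ K₂).comp evs' = evx'.comp (algebraMap (R ⧸ 𝔮₀) (B ⧸ 𝔭₀)) := by
    apply Ideal.Quotient.ringHom_ext
    ext a
    simp only [RingHom.comp_apply, hevs', hevx', Ideal.Quotient.lift_mk,
      Ideal.Quotient.algebraMap_mk_of_liesOver]
    exact congr($hcs a)
  have hT1 := trdeg_quotient_eq_of_hasFractions (𝔮.map (Ideal.Quotient.mk 𝔮₀))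
    (𝔭.map (Ideal.Quotient.mk 𝔭₀)) evs' evx' hcs' hks' hkx' hfs' hfx'
  have hT2 := trdeg_quotient_eq_of_hasFractions 𝔮₀ 𝔭₀ evσ evξ hcσ hkσ hkξ hfσ hfξ
  rw [hn] at hT1
  rw [hm] at hT2
  have hcat' := isUniversallyCatenary_localization_quotient 𝔮₀ 𝔮 h𝔮 hcat
  have key := dimEQ_of_isUniversallyCatenary_localization (R ⧸ 𝔮₀) (B ⧸ 𝔭₀)
    (𝔮.map (Ideal.Quotient.mk 𝔮₀)) (𝔭.map (Ideal.Quotient.mk 𝔭₀)) hcat'
  rw [hT1, hT2] at key
  have key' : ((((𝔭.map (Ideal.Quotient.mk 𝔭₀)).height + (n : ℕ∞) : ℕ∞)) : Cardinal) =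
      ((((𝔮.map (Ideal.Quotient.mk 𝔮₀)).height + (m : ℕ∞) : ℕ∞)) : Cardinal) := by
    rw [Cardinal.ofENat_add, Cardinal.ofENat_add]
    exact key
  exact Cardinal.ofENat_injective key'

end adf

section chart

variable {X S : Scheme.{u}} [IsLocallyNoetherian S] (f : X ⟶ S) [LocallyOfFiniteType f]
  {V : S.Opens} {U : X.Opens} (hV : IsAffineOpen V) (hU : IsAffineOpen U) (e : U ≤ f ⁻¹ᵁ V)

omit [IsLocallyNoetherian S] in
/-- If the local ring at `s ∈ V` is universally catenary, so is the localization of `Γ(S, V)` at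
the prime of `s`. -/
theorem isUniversallyCatenary_localization_primeIdealOf (s : S) (hs : s ∈ V)
    (h : CAlg.IsUniversallyCatenary (S.presheaf.stalk s)) :
    haveI : (hV.primeIdealOf ⟨s, hs⟩).asIdeal.IsPrime := (hV.primeIdealOf ⟨s, hs⟩).2
    CAlg.IsUniversallyCatenary (Localization.AtPrime (hV.primeIdealOf ⟨s, hs⟩).asIdeal) := by
  have hp : (hV.primeIdealOf ⟨s, hs⟩).asIdeal.IsPrime := (hV.primeIdealOf ⟨s, hs⟩).2
  let _ : Algebra Γ(S, V) (S.presheaf.stalk s) := (S.presheaf.germ V s hs).hom.toAlgebra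
  have hloc : IsLocalization.AtPrime (S.presheaf.stalk s) (hV.primeIdealOf ⟨s, hs⟩).asIdeal :=
    hV.isLocalization_stalk ⟨s, hs⟩
  let e' : S.presheaf.stalk s ≃ₐ[Γ(S, V)] Localization.AtPrime (hV.primeIdealOf ⟨s, hs⟩).asIdeal :=
    IsLocalization.algEquiv (hV.primeIdealOf ⟨s, hs⟩).asIdeal.primeCompl _ _
  exact isUniversallyCatenary_of_ringEquiv e'.toRingEquiv h

/-- **Dimension formula in affine charts** (universally catenary at the image point). -/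
theorem chart_height_add_trdeg_eq_local
    (ξ x : X) (hξ : ξ ∈ U) (hx : x ∈ U) (hspec : ξ ⤳ x)
    (hcat : CAlg.IsUniversallyCatenary (S.presheaf.stalk (f x))) (n m : ℕ)
    (hn : @Algebra.trdeg (S.residueField (f x)) (X.residueField x) _ _
      (f.residueFieldMap x).hom.toAlgebra = n)
    (hm : @Algebra.trdeg (S.residueField (f ξ)) (X.residueField ξ) _ _
      (f.residueFieldMap ξ).hom.toAlgebra = m) :
    ((hU.primeIdealOf ⟨x, hx⟩).asIdeal.map
        (Ideal.Quotient.mk (hU.primeIdealOf ⟨ξ, hξ⟩).asIdeal)).height + n =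
      ((hV.primeIdealOf ⟨f x, e hx⟩).asIdeal.map
        (Ideal.Quotient.mk (hV.primeIdealOf ⟨f ξ, e hξ⟩).asIdeal)).height + m := by
  let _ : Algebra Γ(S, V) Γ(X, U) := (f.appLE V U e).hom.toAlgebra
  have hN : IsNoetherianRing Γ(S, V) := IsLocallyNoetherian.component_noetherian ⟨V, hV⟩
  have hft : Algebra.FiniteType Γ(S, V) Γ(X, U) := f.finiteType_appLE hV hU e
  have ho1 : (hU.primeIdealOf ⟨ξ, hξ⟩).asIdeal.LiesOver (hV.primeIdealOf ⟨f ξ, e hξ⟩).asIdeal :=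
    ⟨primeIdealOf_comap f e ξ hξ hU hV⟩
  have ho2 : (hU.primeIdealOf ⟨x, hx⟩).asIdeal.LiesOver (hV.primeIdealOf ⟨f x, e hx⟩).asIdeal :=
    ⟨primeIdealOf_comap f e x hx hU hV⟩
  let _ : Algebra (S.residueField (f x)) (X.residueField x) := (f.residueFieldMap x).hom.toAlgebra
  let _ : Algebra (S.residueField (f ξ)) (X.residueField ξ) := (f.residueFieldMap ξ).hom.toAlgebra
  exact height_add_trdeg_eq_of_hasFractions_local (hV.primeIdealOf ⟨f ξ, e hξ⟩).asIdeal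
    (hV.primeIdealOf ⟨f x, e hx⟩).asIdeal (hU.primeIdealOf ⟨ξ, hξ⟩).asIdeal
    (hU.primeIdealOf ⟨x, hx⟩).asIdeal
    (evalResidue S V (f ξ) (e hξ)) (evalResidue X U ξ hξ)
    (evalResidue S V (f x) (e hx)) (evalResidue X U x hx)
    ((primeIdealOf_le_iff_specializes hU ξ x hξ hx).mpr hspec)
    (evalResidue_comp_appLE f e ξ hξ) (evalResidue_comp_appLE f e x hx)
    (ker_evalResidue S V hV (f ξ) (e hξ)) (ker_evalResidue X U hU ξ hξ)
    (ker_evalResidue S V hV (f x) (e hx)) (ker_evalResidue X U hU x hx)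
    (evalResidue_fraction S V hV (f ξ) (e hξ)) (evalResidue_fraction X U hU ξ hξ)
    (evalResidue_fraction S V hV (f x) (e hx)) (evalResidue_fraction X U hU x hx)
    n m hn hm (isUniversallyCatenary_localization_primeIdealOf hV (f x) (e hx) hcat)

end chart

end Groth.Agent.Lib.Helper55
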