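import Groth.Agent.Lib.Helper55.DimFormulaIrred
import Groth.Agent.Lib.Helper55.LocalADFChart
import Groth.Agent.Lib.Helper55.FiberCompDim

/-! The dimension formula at a point whose image has a universally catenary local ring
(helper55). -/

set_option autoImplicit false

universe u

namespace Groth.Agent.Lib.Helper55

open AlgebraicGeometry CategoryTheory

section fibre

variable {X Y : Scheme.{u}} (f : X ⟶ Y) [LocallyOfFiniteType f]

/-- The local dimension of the fibre at `x` is `dim O_{X_y,x} + trdeg κ(x)/κ(y)`. -/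
theorem fibreDimAt_eq_stalk_fiber_add_trdeg (x : X) :
    ∃ n : ℕ, @Algebra.trdeg (Y.residueField (f x)) (X.residueField x) _ _
        (f.residueFieldMap x).hom.toAlgebra = n ∧
      FlatMor.fibreDimAt f x =
        ringKrullDim ((f.fiber (f x)).presheaf.stalk (f.asFiber x)) + (n : WithBot ℕ∞) := by
  obtain ⟨n, hn, h⟩ := fibreDimAt_eq_stalk_add_trdeg f x
  obtain ⟨e⟩ := nonempty_stalk_fiber_equiv f (f x) (f.asFiber x) x (f.fiberι_asFiber x)
  refine ⟨n, hn, ?_⟩
  rw [h, ringKrullDim_eq_of_ringEquiv e]

end fibre

section point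

variable {X Y : Scheme.{u}} [IrreducibleSpace X] [IsLocallyNoetherian Y] (f : X ⟶ Y)
  [LocallyOfFiniteType f]

/-- **Dimension formula at a point** (local form): for a dominant morphism locally of finite type
of irreducible schemes, with `Y` locally Noetherian and `O_{Y,f x}` universally catenary,
`dim O_{X,x} + trdeg κ(x)/κ(f x) = dim O_{Y,f x} + trdeg K(X)/K(Y)`. -/
theorem ringKrullDim_stalk_add_trdeg_eq_of_irreducible_local [IrreducibleSpace Y]
    (hf : DenseRange f) (x : X)
    (hcat : CAlg.IsUniversallyCatenary (Y.presheaf.stalk (f x))) (n m : ℕ)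
    (hn : @Algebra.trdeg (Y.residueField (f x)) (X.residueField x) _ _
      (f.residueFieldMap x).hom.toAlgebra = n)
    (hm : @Algebra.trdeg (Y.residueField (f (genericPoint ↥X))) (X.residueField (genericPoint ↥X))
      _ _ (f.residueFieldMap (genericPoint ↥X)).hom.toAlgebra = m) :
    ringKrullDim (X.presheaf.stalk x) + n = ringKrullDim (Y.presheaf.stalk (f x)) + m := by
  obtain ⟨V, hV, hfxV, -⟩ := exists_isAffineOpen_mem_and_subset (x := f x) (U := ⊤) trivial
  obtain ⟨U, hU, hxU, e⟩ :=
    exists_isAffineOpen_mem_and_subset (x := x) (U := f ⁻¹ᵁ V) hfxV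
  have hNX : IsLocallyNoetherian X := LocallyOfFiniteType.isLocallyNoetherian f
  set ξ := genericPoint ↥X with hξdef
  have hspec : ξ ⤳ x := (genericPoint_spec ↥X).specializes (Set.mem_univ _)
  have hξU : ξ ∈ U := hspec.mem_open U.2 hxU
  have key := chart_height_add_trdeg_eq_local f hV hU e ξ x hξU hxU hspec hcat n m hn hm
  rw [chart_height_map_quotient_eq hU ξ x hξU hxU
    (fun y => (genericPoint_spec ↥X).specializes (Set.mem_univ _)),
    chart_height_map_quotient_eq hV (f ξ) (f x) (e hξU) (e hxU) (fun y => by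
      rw [map_genericPoint_eq_of_denseRange f hf]
      exact (genericPoint_spec ↥Y).specializes (Set.mem_univ _))] at key
  rw [Groth.Agent.S4442.ringKrullDim_stalk_eq_height X hU x hxU,
    Groth.Agent.S4442.ringKrullDim_stalk_eq_height Y hV (f x) (e hxU)]
  exact_mod_cast congrArg (WithBot.some) key

end point

end Groth.Agent.Lib.Helper55
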