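import Groth.Agent.Lib.Helper55.Generizations

/-! Primes of a local ring of a scheme and generizations of the point (helper55). -/

set_option autoImplicit false

universe u

namespace Groth.Agent.Lib.Helper55

open AlgebraicGeometry CategoryTheory Topology

section stalkpoints

variable {X : Scheme.{u}} (x : X)

/-- The point of `X` corresponding to a prime of the local ring at `x`. -/
noncomputable def stalkPoint (p : PrimeSpectrum (X.presheaf.stalk x)) : X :=
  X.fromSpecStalk x p

theorem stalkPoint_specializes (p : PrimeSpectrum (X.presheaf.stalk x)) : stalkPoint x p ⤳ x := by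
  have h : stalkPoint x p ∈ Set.range (X.fromSpecStalk x) := ⟨p, rfl⟩
  rw [Scheme.range_fromSpecStalk] at h
  exact h

theorem exists_stalkPoint_eq (t : X) (ht : t ⤳ x) :
    ∃ p : PrimeSpectrum (X.presheaf.stalk x), stalkPoint x p = t := by
  have h : t ∈ Set.range (X.fromSpecStalk x) := by
    rw [Scheme.range_fromSpecStalk]
    exact ht
  exact h

theorem stalkPoint_specializes_iff (p q : PrimeSpectrum (X.presheaf.stalk x)) :
    stalkPoint x p ⤳ stalkPoint x q ↔ p ≤ q := by
  rw [PrimeSpectrum.le_iff_specializes]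
  exact (X.fromSpecStalk x).isEmbedding.isInducing.specializes_iff

theorem stalkPoint_injective : Function.Injective (stalkPoint x) :=
  (X.fromSpecStalk x).isEmbedding.injective

/-- The dimension of the quotient of a local ring of a scheme by a prime is the dimension of the
corresponding interval of points. -/
theorem ringKrullDim_stalk_quotient_eq (p : PrimeSpectrum (X.presheaf.stalk x)) :
    ringKrullDim (X.presheaf.stalk x ⧸ p.asIdeal) =
      topologicalKrullDim ↥{t : X | stalkPoint x p ⤳ t ∧ t ⤳ x} := by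
  have e1 : IsEmbedding (PrimeSpectrum.comap (Ideal.Quotient.mk p.asIdeal)) :=
    (PrimeSpectrum.isClosedEmbedding_comap_of_surjective _ _
      Ideal.Quotient.mk_surjective).isEmbedding
  have e2 : IsEmbedding (stalkPoint x) := (X.fromSpecStalk x).isEmbedding
  have ej : IsEmbedding (fun q : PrimeSpectrum (X.presheaf.stalk x ⧸ p.asIdeal) =>
      stalkPoint x (PrimeSpectrum.comap (Ideal.Quotient.mk p.asIdeal) q)) := e2.comp e1
  have hrange : Set.range (fun q : PrimeSpectrum (X.presheaf.stalk x ⧸ p.asIdeal) =>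
      stalkPoint x (PrimeSpectrum.comap (Ideal.Quotient.mk p.asIdeal) q)) =
      {t : X | stalkPoint x p ⤳ t ∧ t ⤳ x} := by
    ext t
    constructor
    · rintro ⟨q, rfl⟩
      refine ⟨?_, stalkPoint_specializes x _⟩
      rw [stalkPoint_specializes_iff]
      exact le_comap_mk p.asIdeal _
    · rintro ⟨h1, h2⟩
      obtain ⟨q, rfl⟩ := exists_stalkPoint_eq x t h2
      rw [stalkPoint_specializes_iff] at h1
      have hq : q ∈ Set.range (PrimeSpectrum.comap (Ideal.Quotient.mk p.asIdeal)) := by
        rw [_root_.range_comap_of_surjective _ _ Ideal.Quotient.mk_surjective,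
          Ideal.mk_ker]
        exact h1
      obtain ⟨q', rfl⟩ := hq
      exact ⟨q', rfl⟩
  rw [← hrange, ← IsHomeomorph.topologicalKrullDim_eq _ ej.toHomeomorph.isHomeomorph,
    PrimeSpectrum.topologicalKrullDim_eq_ringKrullDim]

theorem stalkPoint_maximal_of_mem_minimalPrimes (p : PrimeSpectrum (X.presheaf.stalk x))
    (hp : p.asIdeal ∈ minimalPrimes (X.presheaf.stalk x)) (w : X) (hw : w ⤳ stalkPoint x p) :
    stalkPoint x p ⤳ w := by
  obtain ⟨q, rfl⟩ := exists_stalkPoint_eq x w (hw.trans (stalkPoint_specializes x p))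
  rw [stalkPoint_specializes_iff] at hw ⊢
  exact hp.2 ⟨q.2, bot_le⟩ hw

theorem mem_minimalPrimes_of_stalkPoint_maximal (p : PrimeSpectrum (X.presheaf.stalk x))
    (h : ∀ w : X, w ⤳ stalkPoint x p → stalkPoint x p ⤳ w) :
    p.asIdeal ∈ minimalPrimes (X.presheaf.stalk x) := by
  refine ⟨⟨p.2, bot_le⟩, ?_⟩
  rintro q ⟨hq, -⟩ hqp
  have h1 : stalkPoint x ⟨q, hq⟩ ⤳ stalkPoint x p := (stalkPoint_specializes_iff x _ _).mpr hqp
  exact (stalkPoint_specializes_iff x _ _).mp (h _ h1)

end stalkpoints

section functorial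

variable {X Y : Scheme.{u}} (f : X ⟶ Y) (x : X)

theorem stalkPoint_comap (p : PrimeSpectrum (X.presheaf.stalk x)) :
    stalkPoint (f x) (PrimeSpectrum.comap (f.stalkMap x).hom p) = f (stalkPoint x p) := by
  have h := Scheme.SpecMap_stalkMap_fromSpecStalk (f := f) (x := x)
  have h2 := congrArg (fun g => g p) h
  exact h2

end functorial

end Groth.Agent.Lib.Helper55
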