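import Groth.Prelude.Def_EGA43
import Groth.Agent.Lib.Helper55.StalkPoints
import Groth.Agent.Lib.Helper55.DimFormulaIrredLocal
import Groth.Agent.Lib.Helper55.Equidim
import Groth.Agent.H52.FibreDimChart

/-! Morphisms equidimensional at a point (helper55). -/

set_option autoImplicit false

universe u

namespace Groth.Agent.Lib.Helper55

open AlgebraicGeometry CategoryTheory Topology

section openimm

variable {X Y : Scheme.{u}} (f : X ⟶ Y) (U : X.Opens)

/-- The transcendence degree of a residue field extension is unchanged by restricting the source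
to an open subscheme. -/
theorem trdeg_residueField_ι_comp (w : ↥U) :
    @Algebra.trdeg (Y.residueField ((U.ι ≫ f) w)) ((U : Scheme.{u}).residueField w) _ _
        ((U.ι ≫ f).residueFieldMap w).hom.toAlgebra =
      @Algebra.trdeg (Y.residueField (f (U.ι w))) (X.residueField (U.ι w)) _ _
        (f.residueFieldMap (U.ι w)).hom.toAlgebra := by
  have h := trdeg_residueField_comp U.ι f w
  have h0 : @Algebra.trdeg (X.residueField (U.ι w)) ((U : Scheme.{u}).residueField w) _ _
      (U.ι.residueFieldMap w).hom.toAlgebra = 0 := by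
    let _ : Algebra (X.residueField (U.ι w)) ((U : Scheme.{u}).residueField w) :=
      (U.ι.residueFieldMap w).hom.toAlgebra
    have hs : Function.Surjective (algebraMap (X.residueField (U.ι w))
        ((U : Scheme.{u}).residueField w)) :=
      (ConcreteCategory.bijective_of_isIso (U.ι.residueFieldMap w)).2
    have := Algebra.isIntegral_of_surjective hs
    exact _root_.trdeg_eq_zero
  rw [h0, add_zero] at h
  exact h.symm

end openimm

section equidim

variable {X Y : Scheme.{u}} (f : X ⟶ Y) [LocallyOfFiniteType f] (x : X) {U : X.Opens} {e : ℕ}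

omit [LocallyOfFiniteType f] in
/-- A maximal point of `X` lying in `U` maps to a maximal point of `Y`, when every irreducible
component of `U` dominates an irreducible component of `Y`. -/
theorem map_maximal_of_isEquidimAt
    (h1 : ∀ Z ∈ irreducibleComponents (↥U : Type u),
      ∃ W ∈ irreducibleComponents (Y : Type u), f.base x ∈ W ∧
        closure ((U.ι ≫ f).base '' Z) = W)
    (ξ : X) (hξU : ξ ∈ U) (hmax : ∀ w : X, w ⤳ ξ → ξ ⤳ w) (v : Y) (hv : v ⤳ f ξ) : f ξ ⤳ v := by
  set ξ' : ↥(U : Scheme.{u}) := ⟨ξ, hξU⟩ with hξ'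
  have hιξ : U.ι ξ' = ξ := rfl
  have hmax' : ∀ w' : ↥(U : Scheme.{u}), w' ⤳ ξ' → ξ' ⤳ w' := by
    intro w' hw'
    have h2 : U.ι w' ⤳ ξ := hw'.map U.ι.continuous
    exact (U.ι.isOpenEmbedding.isInducing.specializes_iff).mp (hmax _ h2)
  have hcomp : closure ({ξ'} : Set ↥(U : Scheme.{u})) ∈
      irreducibleComponents (↥(U : Scheme.{u}) : Type u) :=
    closure_mem_irreducibleComponents_of_maximal ξ' hmax'
  obtain ⟨W, hW, -, hcl⟩ := h1 _ hcomp
  have h3 : closure ((U.ι ≫ f).base '' closure ({ξ'} : Set ↥(U : Scheme.{u}))) =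
      closure {f ξ} := by
    rw [closure_image_closure (U.ι ≫ f).continuous, Set.image_singleton]
    rfl
  have h4 : closure ({f ξ} : Set Y) ∈ irreducibleComponents (Y : Type u) := by
    rw [← h3, hcl]
    exact hW
  exact specializes_of_closure_mem_irreducibleComponents (f ξ) h4 v hv

/-- A point of `U` that is maximal in its fibre has residue field of transcendence degree `e` over
the residue field of its image, when all irreducible components of the fibres of `U` have
dimension `e`. -/
theorem trdeg_eq_of_isEquidimAt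
    (h2 : ∀ x' : (↥U : Type u), ∀ Z ∈ irreducibleComponents
      (↥((U.ι ≫ f).fiber ((U.ι ≫ f).base x')) : Type u), topologicalKrullDim (↥Z : Type u) = e)
    (w : X) (hwU : w ∈ U) (hmax : ∀ w₁ : X, f w₁ = f w → w₁ ⤳ w → w ⤳ w₁) :
    @Algebra.trdeg (Y.residueField (f w)) (X.residueField w) _ _
      (f.residueFieldMap w).hom.toAlgebra = e := by
  set w' : ↥(U : Scheme.{u}) := ⟨w, hwU⟩ with hw'
  set g := U.ι ≫ f with hg
  obtain ⟨n, hn1, hn2⟩ := exists_dim_closure_asFiber_eq_trdeg g w'
  have hcomp : closure ({g.asFiber w'} : Set ↥(g.fiber (g w'))) ∈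
      irreducibleComponents (↥(g.fiber (g w')) : Type u) := by
    apply closure_mem_irreducibleComponents_of_maximal
    intro v hv
    have h3 : g.fiberι (g w') v ⤳ w' := by
      have := hv.map (g.fiberι (g w')).continuous
      rwa [g.fiberι_asFiber w'] at this
    have h4 : U.ι (g.fiberι (g w') v) ⤳ w := h3.map U.ι.continuous
    have h5 : f (U.ι (g.fiberι (g w') v)) = f w := by
      have : g.fiberι (g w') v ∈ Set.range (g.fiberι (g w')) := ⟨v, rfl⟩
      rw [g.range_fiberι] at this
      exact this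
    have h6 : w ⤳ U.ι (g.fiberι (g w') v) := hmax _ h5 h4
    have h7 : w' ⤳ g.fiberι (g w') v :=
      (U.ι.isOpenEmbedding.isInducing.specializes_iff).mp h6
    have h7' : g.fiberι (g w') (g.asFiber w') ⤳ g.fiberι (g w') v := by
      rw [g.fiberι_asFiber w']
      exact h7
    exact ((g.fiberι (g w')).isEmbedding.isInducing.specializes_iff).mp h7'
  have hdim := h2 w' _ hcomp
  rw [hn1] at hdim
  have hne : n = e := by exact_mod_cast hdim
  have htr := trdeg_residueField_ι_comp f U w'
  rw [← hne, ← hn2]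
  exact htr.symm

/-- The local fibre dimension at a point of `U` is `e`. -/
theorem fibreDimAt_eq_of_isEquidimAt
    (h2 : ∀ x' : (↥U : Type u), ∀ Z ∈ irreducibleComponents
      (↥((U.ι ≫ f).fiber ((U.ι ≫ f).base x')) : Type u), topologicalKrullDim (↥Z : Type u) = e)
    (hxU : x ∈ U) : FlatMor.fibreDimAt f x = e := by
  set u : ↥(U : Scheme.{u}) := ⟨x, hxU⟩ with hu
  set g := U.ι ≫ f with hg
  have h := Groth.Agent.H52.fibreDimAt_eq_of_etale_square U.ι (𝟙 Y) g f
    (by rw [hg, Category.comp_id]) u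
  have hlft : LocallyOfFiniteType (g.fiberToSpecResidueField (g u)) :=
    MorphismProperty.pullback_snd (P := @LocallyOfFiniteType) _ _ inferInstance
  have h3 := (forall_irreducibleComponents_dim_eq_iff (k := ↑(Y.residueField (g u)))
    (g.fiberToSpecResidueField (g u)) (e : WithBot ℕ∞)).mp (h2 u) (g.asFiber u)
  change FlatMor.fibreDimAt f (U.ι u) = e
  rw [← h]
  exact h3

end equidim

section main

/-- In a locally Noetherian scheme, some minimal prime of the local ring at `x` computes its
dimension. -/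
theorem exists_mem_minimalPrimes_ringKrullDim_quotient_eq (X : Scheme.{u}) [IsLocallyNoetherian X]
    (x : X) : ∃ p : PrimeSpectrum (X.presheaf.stalk x),
      p.asIdeal ∈ minimalPrimes (X.presheaf.stalk x) ∧
        ringKrullDim (X.presheaf.stalk x ⧸ p.asIdeal) = ringKrullDim (X.presheaf.stalk x) := by
  obtain ⟨U₀, hU₀, hxU₀, -⟩ := exists_isAffineOpen_mem_and_subset (x := x) (U := ⊤) trivial
  obtain ⟨ξ, hξU₀, hξx, hmax, hht⟩ := exists_maximal_point_chart hU₀ x hxU₀
  obtain ⟨p, hp⟩ := exists_stalkPoint_eq x ξ hξx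
  refine ⟨p, mem_minimalPrimes_of_stalkPoint_maximal x p (by rw [hp]; exact hmax), ?_⟩
  rw [ringKrullDim_stalk_quotient_eq x p, hp,
    topologicalKrullDim_between_eq_height hU₀ ξ x hξU₀ hxU₀ hξx, hht,
    Groth.Agent.S4442.ringKrullDim_stalk_eq_height X hU₀ x hxU₀]

variable {X Y : Scheme.{u}} [IsLocallyNoetherian Y] (f : X ⟶ Y) [LocallyOfFiniteType f] (x : X)
  {U : X.Opens} {e : ℕ}

/-- **Dimension formula along an irreducible component** for a morphism equidimensional at `x`. -/
theorem ringKrullDim_stalk_quotient_add_trdeg_eq_of_isEquidimAt (hxU : x ∈ U)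
    (h2 : ∀ x' : (↥U : Type u), ∀ Z ∈ irreducibleComponents
      (↥((U.ι ≫ f).fiber ((U.ι ≫ f).base x')) : Type u), topologicalKrullDim (↥Z : Type u) = e)
    (hcat : CAlg.IsUniversallyCatenary (Y.presheaf.stalk (f x)))
    (p : PrimeSpectrum (X.presheaf.stalk x))
    (hp : p.asIdeal ∈ minimalPrimes (X.presheaf.stalk x)) (t : ℕ)
    (ht : @Algebra.trdeg (Y.residueField (f x)) (X.residueField x) _ _
      (f.residueFieldMap x).hom.toAlgebra = t) :
    ringKrullDim (X.presheaf.stalk x ⧸ p.asIdeal) + (t : WithBot ℕ∞) =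
      ringKrullDim (Y.presheaf.stalk (f x) ⧸ p.asIdeal.comap (f.stalkMap x).hom) +
        (e : WithBot ℕ∞) := by
  have hNX : IsLocallyNoetherian X := LocallyOfFiniteType.isLocallyNoetherian f
  have hξx : stalkPoint x p ⤳ x := stalkPoint_specializes x p
  have hξmax := stalkPoint_maximal_of_mem_minimalPrimes x p hp
  have hξU : stalkPoint x p ∈ U := hξx.mem_open U.2 hxU
  have hm := trdeg_eq_of_isEquidimAt f h2 (stalkPoint x p) hξU (fun w₁ _ hw => hξmax w₁ hw)
  obtain ⟨V₀, hV₀, hfxV₀, -⟩ := exists_isAffineOpen_mem_and_subset (x := f x) (U := ⊤) trivial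
  obtain ⟨U₀, hU₀, hxU₀, e₀⟩ :=
    exists_isAffineOpen_mem_and_subset (x := x) (U := f ⁻¹ᵁ V₀) hfxV₀
  have hξU₀ : stalkPoint x p ∈ U₀ := hξx.mem_open U₀.2 hxU₀
  have key := chart_height_add_trdeg_eq_local f hV₀ hU₀ e₀ (stalkPoint x p) x hξU₀ hxU₀ hξx hcat
    t e ht hm
  have hG1 := topologicalKrullDim_between_eq_height hU₀ (stalkPoint x p) x hξU₀ hxU₀ hξx
  have hG2 := topologicalKrullDim_between_eq_height hV₀ (f (stalkPoint x p)) (f x) (e₀ hξU₀)
    (e₀ hxU₀) (hξx.map f.continuous)
  have hD1 := ringKrullDim_stalk_quotient_eq x p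
  have hD2 := ringKrullDim_stalk_quotient_eq (f x) (PrimeSpectrum.comap (f.stalkMap x).hom p)
  rw [stalkPoint_comap f x p] at hD2
  change ringKrullDim (X.presheaf.stalk x ⧸ p.asIdeal) + _ =
    ringKrullDim (Y.presheaf.stalk (f x) ⧸
      (PrimeSpectrum.comap (f.stalkMap x).hom p).asIdeal) + _
  rw [hD1, hD2, hG1, hG2]
  exact_mod_cast congrArg (WithBot.some) key

omit [IsLocallyNoetherian Y] [LocallyOfFiniteType f] in
/-- The contraction of a minimal prime of `O_{X,x}` is a minimal prime of `O_{Y,f x}` for a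
morphism equidimensional at `x`. -/
theorem comap_mem_minimalPrimes_of_isEquidimAt (hxU : x ∈ U)
    (h1 : ∀ Z ∈ irreducibleComponents (↥U : Type u),
      ∃ W ∈ irreducibleComponents (Y : Type u), f.base x ∈ W ∧
        closure ((U.ι ≫ f).base '' Z) = W)
    (p : PrimeSpectrum (X.presheaf.stalk x))
    (hp : p.asIdeal ∈ minimalPrimes (X.presheaf.stalk x)) :
    p.asIdeal.comap (f.stalkMap x).hom ∈ minimalPrimes (Y.presheaf.stalk (f x)) := by
  have hξx : stalkPoint x p ⤳ x := stalkPoint_specializes x p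
  have hξmax := stalkPoint_maximal_of_mem_minimalPrimes x p hp
  have hξU : stalkPoint x p ∈ U := hξx.mem_open U.2 hxU
  have := mem_minimalPrimes_of_stalkPoint_maximal (f x)
    (PrimeSpectrum.comap (f.stalkMap x).hom p) (by
      rw [stalkPoint_comap f x p]
      exact map_maximal_of_isEquidimAt f x h1 (stalkPoint x p) hξU hξmax)
  exact this

end main

end Groth.Agent.Lib.Helper55
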