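import Groth.Agent.Lib.Helper55.ZeroLocusDim
import Groth.Agent.Lib.Helper55.DimOpenCover
import Groth.Agent.Lib.Helper55.ResidueFieldTrdeg

/-! Dimension of the closure of a point of a scheme locally of finite type over a field, computed in
charts (helper55). -/

set_option autoImplicit false

universe u

namespace Groth.Agent.Lib.Helper55

open Topology TopologicalSpace

section top

variable {X Y : Type*} [TopologicalSpace X] [TopologicalSpace Y]

/-- Under an embedding `j`, the closure of `y` is homeomorphic to the trace on the range of the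
closure of `j y`. -/
theorem topologicalKrullDim_closure_inter_range_eq (j : Y → X) (hj : IsEmbedding j) (y : Y) :
    topologicalKrullDim ↥(closure ({j y} : Set X) ∩ Set.range j) =
      topologicalKrullDim ↥(closure ({y} : Set Y)) := by
  symm
  let g : ↥(closure ({y} : Set Y)) → ↥(closure ({j y} : Set X) ∩ Set.range j) := fun z =>
    ⟨j z.1, by
      have h1 : y ⤳ z.1 := specializes_iff_mem_closure.mpr z.2
      exact specializes_iff_mem_closure.mp (h1.map hj.continuous), ⟨z.1, rfl⟩⟩
  have hg : IsEmbedding g := by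
    refine IsEmbedding.of_comp ?_ continuous_subtype_val ?_
    · exact (hj.continuous.comp continuous_subtype_val).subtype_mk _
    · exact hj.comp IsEmbedding.subtypeVal
  have hsurj : Function.Surjective g := by
    rintro ⟨x, hx, z, rfl⟩
    have h1 : j y ⤳ j z := specializes_iff_mem_closure.mpr hx
    have h2 : y ⤳ z := hj.isInducing.specializes_iff.mp h1
    exact ⟨⟨z, specializes_iff_mem_closure.mp h2⟩, rfl⟩
  exact IsHomeomorph.topologicalKrullDim_eq g
    (isHomeomorph_iff_isEmbedding_surjective.mpr ⟨hg, hsurj⟩)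

/-- Dimension of the closure of a point of a prime spectrum. -/
theorem topologicalKrullDim_closure_singleton_primeSpectrum {C : Type*} [CommRing C]
    (𝔔 : PrimeSpectrum C) :
    topologicalKrullDim ↥(closure ({𝔔} : Set (PrimeSpectrum C))) = ringKrullDim (C ⧸ 𝔔.asIdeal) := by
  rw [PrimeSpectrum.closure_singleton]
  exact topologicalKrullDim_zeroLocus_eq_ringKrullDim_quotient 𝔔.asIdeal

/-- The dimension of `Z ∩ W` is at most that of `Z`. -/
theorem topologicalKrullDim_inter_le (Z W : Set X) :
    topologicalKrullDim ↥(Z ∩ W) ≤ topologicalKrullDim ↥Z := by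
  let g : ↥(Z ∩ W) → ↥Z := fun z => ⟨z.1, z.2.1⟩
  have hg : IsInducing g := by
    refine IsInducing.of_comp ?_ continuous_subtype_val ?_
    · exact continuous_subtype_val.subtype_mk _
    · exact IsInducing.subtypeVal
  exact hg.topologicalKrullDim_le

theorem topologicalKrullDim_mono_set {Z Z' : Set X} (h : Z ⊆ Z') :
    topologicalKrullDim ↥Z ≤ topologicalKrullDim ↥Z' := by
  let g : ↥Z → ↥Z' := fun z => ⟨z.1, h z.2⟩
  have hg : IsInducing g := by
    refine IsInducing.of_comp ?_ continuous_subtype_val ?_
    · exact continuous_subtype_val.subtype_mk _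
    · exact IsInducing.subtypeVal
  exact hg.topologicalKrullDim_le

/-- A cover criterion for subsets: if every point of `Z` has an open neighbourhood `W` in `X`
with `dim (Z ∩ W) ≤ d`, then `dim Z ≤ d`. -/
theorem topologicalKrullDim_le_of_forall_exists_open_inter (Z : Set X) (d : WithBot ℕ∞)
    (h : ∀ z ∈ Z, ∃ W : Opens X, z ∈ W ∧ topologicalKrullDim ↥(Z ∩ (W : Set X)) ≤ d) :
    topologicalKrullDim ↥Z ≤ d := by
  refine topologicalKrullDim_le_of_forall_exists_open d ?_
  rintro ⟨z, hz⟩
  obtain ⟨W, hzW, hW⟩ := h z hz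
  let O : Opens ↥Z := ⟨Subtype.val ⁻¹' (W : Set X), W.2.preimage continuous_subtype_val⟩
  refine ⟨O, hzW, le_trans ?_ hW⟩
  let g : ↥O → ↥(Z ∩ (W : Set X)) := fun z => ⟨z.1.1, z.1.2, z.2⟩
  have hg : IsInducing g := by
    refine IsInducing.of_comp ?_ continuous_subtype_val ?_
    · exact (continuous_subtype_val.comp continuous_subtype_val).subtype_mk _
    · exact (IsInducing.subtypeVal.comp IsInducing.subtypeVal :
        IsInducing ((Subtype.val : ↥Z → X) ∘ (Subtype.val : ↥O → ↥Z)))
  exact hg.topologicalKrullDim_le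

end top

section scheme

open AlgebraicGeometry CategoryTheory

attribute [local instance] Curv2.resAlgebra

variable {k : Type u} [Field k] {X : Scheme.{u}} (f : X ⟶ Spec (CommRingCat.of k))
  [LocallyOfFiniteType f]

include f

/-- For a point `ξ` of a scheme locally of finite type over a field, the trace of the closure of
`ξ` on every affine open neighbourhood of `ξ` has the same (finite) dimension. -/
theorem exists_nat_forall_isAffineOpen_dim_closure_inter (ξ : X) :
    ∃ s : ℕ, ∀ (U : X.Opens), IsAffineOpen U → ξ ∈ U →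
      topologicalKrullDim ↥(closure ({ξ} : Set X) ∩ (U : Set X)) = s := by
  let _ : X.Over (Spec (CommRingCat.of k)) := ⟨f⟩
  have hlft : LocallyOfFiniteType (X ↘ Spec (CommRingCat.of k)) := ‹LocallyOfFiniteType f›
  obtain ⟨U0, hU0, hξU0, -⟩ := exists_isAffineOpen_mem_and_subset (x := ξ) (U := ⊤) trivial
  obtain ⟨s, hs1, hs2⟩ :=
    exists_ringKrullDim_quotient_eq_and_trdeg_residueField_eq_of_isAffineOpen k X U0 hU0 ξ hξU0
  refine ⟨s, fun U hU hξU => ?_⟩
  obtain ⟨s', hs'1, hs'2⟩ :=
    exists_ringKrullDim_quotient_eq_and_trdeg_residueField_eq_of_isAffineOpen k X U hU ξ hξU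
  have hss' : s = s' := by
    rw [hs2] at hs'2
    exact_mod_cast hs'2
  have h1 := topologicalKrullDim_closure_inter_range_eq hU.fromSpec
    hU.fromSpec.isOpenEmbedding.isEmbedding (hU.primeIdealOf ⟨ξ, hξU⟩)
  rw [hU.fromSpec_primeIdealOf, hU.range_fromSpec] at h1
  rw [h1]
  have h2 := topologicalKrullDim_closure_singleton_primeSpectrum (hU.primeIdealOf ⟨ξ, hξU⟩)
  exact h2.trans (by rw [hs'1, hss'])

/-- The dimension of the closure of a point can be computed in any open neighbourhood of the
point. -/
theorem topologicalKrullDim_closure_inter_opens_eq (ξ : X) (W : X.Opens) (hξ : ξ ∈ W) :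
    topologicalKrullDim ↥(closure ({ξ} : Set X) ∩ (W : Set X)) =
      topologicalKrullDim ↥(closure ({ξ} : Set X)) := by
  obtain ⟨s, hs⟩ := exists_nat_forall_isAffineOpen_dim_closure_inter f ξ
  have hle : topologicalKrullDim ↥(closure ({ξ} : Set X)) ≤ s := by
    refine topologicalKrullDim_le_of_forall_exists_open_inter _ _ ?_
    intro z hz
    obtain ⟨U, hU, hzU, -⟩ := exists_isAffineOpen_mem_and_subset (x := z) (U := ⊤) trivial
    have hξU : ξ ∈ U := (specializes_iff_mem_closure.mpr hz).mem_open U.2 hzU
    exact ⟨U, hzU, (hs U hU hξU).le⟩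
  obtain ⟨U, hU, hξU, hUW⟩ := exists_isAffineOpen_mem_and_subset (x := ξ) (U := W) hξ
  refine le_antisymm (topologicalKrullDim_inter_le _ _) (hle.trans ?_)
  rw [← hs U hU hξU]
  exact topologicalKrullDim_mono_set (Set.inter_subset_inter_right _ hUW)

/-- **Chart formula**: the dimension of the closure of a point, computed in an affine chart. -/
theorem topologicalKrullDim_closure_chart {C : CommRingCat.{u}} (j : Spec C ⟶ X)
    [IsOpenImmersion j] (𝔔 : Spec C) :
    topologicalKrullDim ↥(closure ({j 𝔔} : Set X)) = ringKrullDim (C ⧸ 𝔔.asIdeal) := by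
  rw [← topologicalKrullDim_closure_inter_opens_eq f (j 𝔔) j.opensRange ⟨𝔔, rfl⟩]
  have h1 := topologicalKrullDim_closure_inter_range_eq j j.isOpenEmbedding.isEmbedding 𝔔
  rw [Scheme.Hom.coe_opensRange, h1]
  exact topologicalKrullDim_closure_singleton_primeSpectrum 𝔔

end scheme

end Groth.Agent.Lib.Helper55
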