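import Mathlib
import Groth.Agent.Lib.Helper55.KrullDimIntegral

/-! Lifting a Noether normalization of a fibre to a quasi-finite map to affine space
(helper55). -/

set_option autoImplicit false

universe u

namespace Groth.Agent.Lib.Helper55

open TensorProduct

section lift

variable {R B : Type u} [CommRing R] [CommRing B] [Algebra R B]

/-- **Noether normalization of a fibre, with lifted coordinates.**  If the fibre ring
`κ(p) ⊗ B` of a finite type algebra is nontrivial of dimension `≤ n`, there are `m ≤ n` elements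
`b i` of `B` such that `κ(p)[T₁,…,T_m] → κ(p) ⊗ B`, `T i ↦ 1 ⊗ b i`, is finite. -/
theorem exists_finite_aeval_fiber [Algebra.FiniteType R B] (p : Ideal R) [p.IsPrime] (n : ℕ)
    (hdim : ringKrullDim (p.Fiber B) ≤ n) [Nontrivial (p.Fiber B)] :
    ∃ (m : ℕ) (_ : m ≤ n) (b : Fin m → B),
      (MvPolynomial.aeval (R := p.ResidueField)
        (fun i => (1 : p.ResidueField) ⊗ₜ[R] b i) :
          MvPolynomial (Fin m) p.ResidueField →ₐ[p.ResidueField] p.Fiber B).Finite := by
  have hft : Algebra.FiniteType p.ResidueField (p.Fiber B) := inferInstance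
  obtain ⟨m, g, hinj, hfin⟩ := exists_finite_inj_algHom_of_fg p.ResidueField (p.Fiber B)
  have hm : m ≤ n := by
    have h1 := ringKrullDim_eq_of_ringHom_isIntegral_of_injective g.toRingHom
      hfin.to_isIntegral hinj
    rw [MvPolynomial.ringKrullDim_of_isNoetherianRing, ringKrullDim_eq_zero_of_field] at h1
    rw [h1] at hdim
    simp only [zero_add, Nat.card_fin] at hdim
    exact_mod_cast hdim
  have hex : ∀ i : Fin m, ∃ r : R, r ∉ p ∧ ∃ s : B, r • g (MvPolynomial.X i) = 1 ⊗ₜ[R] s :=
    fun i => Ideal.Fiber.exists_smul_eq_one_tmul p (g (MvPolynomial.X i))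
  choose r hr b hb using hex
  refine ⟨m, hm, b, ?_⟩
  have hrK : ∀ i, algebraMap R p.ResidueField (r i) ≠ 0 := by
    intro i h0
    rw [Ideal.algebraMap_residueField_eq_zero] at h0
    exact hr i h0
  let σ : MvPolynomial (Fin m) p.ResidueField →ₐ[p.ResidueField]
      MvPolynomial (Fin m) p.ResidueField :=
    MvPolynomial.aeval (fun i => MvPolynomial.C (algebraMap R p.ResidueField (r i)) *
      MvPolynomial.X i)
  let τ : MvPolynomial (Fin m) p.ResidueField →ₐ[p.ResidueField]
      MvPolynomial (Fin m) p.ResidueField :=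
    MvPolynomial.aeval (fun i => MvPolynomial.C ((algebraMap R p.ResidueField (r i))⁻¹) *
      MvPolynomial.X i)
  have hστ : σ.comp τ = AlgHom.id _ _ := by
    apply MvPolynomial.algHom_ext
    intro i
    simp only [σ, τ, AlgHom.comp_apply, MvPolynomial.aeval_X, map_mul, MvPolynomial.aeval_C,
      AlgHom.id_apply, MvPolynomial.algebraMap_eq]
    rw [← mul_assoc, ← MvPolynomial.C_mul, inv_mul_cancel₀ (hrK i), MvPolynomial.C_1, one_mul]
  have hσsurj : Function.Surjective σ := by
    intro x
    exact ⟨τ x, by rw [← AlgHom.comp_apply, hστ]; rfl⟩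
  have hcomp : (MvPolynomial.aeval (R := p.ResidueField)
      (fun i => (1 : p.ResidueField) ⊗ₜ[R] b i) :
        MvPolynomial (Fin m) p.ResidueField →ₐ[p.ResidueField] p.Fiber B) = g.comp σ := by
    apply MvPolynomial.algHom_ext
    intro i
    simp only [σ, AlgHom.comp_apply, MvPolynomial.aeval_X, map_mul]
    rw [← hb i, Algebra.smul_def]
    congr 1
    rw [← MvPolynomial.algebraMap_eq, AlgHom.commutes, ← IsScalarTower.algebraMap_apply]
  rw [hcomp]
  exact RingHom.Finite.comp hfin (RingHom.Finite.of_surjective σ.toRingHom hσsurj)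

end lift

section qf

attribute [local instance] MvPolynomial.algebraMvPolynomial

/-- `S[T]` is quasi-finite over `R[T]` when `S` is quasi-finite over `R`. -/
theorem quasiFinite_mvPolynomial (σ : Type*) (R S : Type*) [CommRing R] [CommRing S]
    [Algebra R S] [Algebra.QuasiFinite R S] :
    Algebra.QuasiFinite (MvPolynomial σ R) (MvPolynomial σ S) :=
  (Algebra.QuasiFinite.iff_of_algEquiv
    (Algebra.IsPushout.equiv R (MvPolynomial σ R) S (MvPolynomial σ S))).mp inferInstance

variable {R B : Type u} [CommRing R] [CommRing B] [Algebra R B] [Algebra.FiniteType R B]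
  (p : Ideal R) [p.IsPrime] {m : ℕ} (b : Fin m → B)

/-- **Quasi-finiteness from the fibre.**  If `κ(p)[T] → κ(p) ⊗ B`, `T i ↦ 1 ⊗ b i` is finite,
then `R[T] → B`, `T i ↦ b i`, is quasi-finite at every prime of `B` over `p`. -/
theorem quasiFiniteAt_aeval_of_finite_fiber
    (hfin : (MvPolynomial.aeval (R := p.ResidueField)
        (fun i => (1 : p.ResidueField) ⊗ₜ[R] b i) :
          MvPolynomial (Fin m) p.ResidueField →ₐ[p.ResidueField] p.Fiber B).Finite)
    (q : Ideal B) [q.IsPrime] [q.LiesOver p] :
    ((MvPolynomial.aeval b : MvPolynomial (Fin m) R →ₐ[R] B) :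
      MvPolynomial (Fin m) R →+* B).QuasiFiniteAt q := by
  let ψ : MvPolynomial (Fin m) R →ₐ[R] B := MvPolynomial.aeval b
  let φ' : MvPolynomial (Fin m) p.ResidueField →ₐ[p.ResidueField] p.Fiber B :=
    MvPolynomial.aeval (R := p.ResidueField) (fun i => (1 : p.ResidueField) ⊗ₜ[R] b i)
  letI algAB : Algebra (MvPolynomial (Fin m) R) B := ψ.toRingHom.toAlgebra
  have towerRAB : IsScalarTower R (MvPolynomial (Fin m) R) B :=
    IsScalarTower.of_algebraMap_eq' ψ.comp_algebraMap.symm
  change Algebra.QuasiFiniteAt (MvPolynomial (Fin m) R) q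
  have ftAB : Algebra.FiniteType (MvPolynomial (Fin m) R) B :=
    Algebra.FiniteType.of_restrictScalars_finiteType R (MvPolynomial (Fin m) R) B
  suffices h : Algebra.WeaklyQuasiFiniteAt (MvPolynomial (Fin m) R) q from
    Algebra.QuasiFiniteAt.of_weaklyQuasiFiniteAt q
  rw [Algebra.weaklyQuasiFiniteAt_iff]
  -- the `R[T]`-algebra structure on the fibre ring
  letI algAF : Algebra (MvPolynomial (Fin m) R) (p.Fiber B) :=
    (Algebra.TensorProduct.includeRight.toRingHom.comp
      (algebraMap (MvPolynomial (Fin m) R) B)).toAlgebra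
  letI algKTF : Algebra (MvPolynomial (Fin m) p.ResidueField) (p.Fiber B) :=
    φ'.toRingHom.toAlgebra
  have towerAKF : IsScalarTower (MvPolynomial (Fin m) R) (MvPolynomial (Fin m) p.ResidueField)
      (p.Fiber B) := by
    apply IsScalarTower.of_algebraMap_eq'
    apply MvPolynomial.ringHom_ext
    · intro r
      change (1 : p.ResidueField) ⊗ₜ[R] (ψ (MvPolynomial.C r)) =
        φ' (MvPolynomial.map (algebraMap R p.ResidueField) (MvPolynomial.C r))
      rw [MvPolynomial.map_C]
      simp only [ψ, φ', MvPolynomial.aeval_C]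
      rw [Algebra.TensorProduct.algebraMap_apply, Algebra.algebraMap_eq_smul_one r,
        ← TensorProduct.smul_tmul, Algebra.algebraMap_eq_smul_one r]
      rfl
    · intro i
      change (1 : p.ResidueField) ⊗ₜ[R] (ψ (MvPolynomial.X i)) =
        φ' (MvPolynomial.map (algebraMap R p.ResidueField) (MvPolynomial.X i))
      rw [MvPolynomial.map_X]
      simp only [ψ, φ', MvPolynomial.aeval_X]
  have finKF : Module.Finite (MvPolynomial (Fin m) p.ResidueField) (p.Fiber B) := hfin
  have qfAK : Algebra.QuasiFinite (MvPolynomial (Fin m) R)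
      (MvPolynomial (Fin m) p.ResidueField) := quasiFinite_mvPolynomial (Fin m) R p.ResidueField
  have qfAF : Algebra.QuasiFinite (MvPolynomial (Fin m) R) (p.Fiber B) :=
    Algebra.QuasiFinite.trans (MvPolynomial (Fin m) R) (MvPolynomial (Fin m) p.ResidueField)
      (p.Fiber B)
  -- the target ring
  set P := q.under (MvPolynomial (Fin m) R) with hP
  -- `κ(p) → T`
  have hker : p ≤ RingHom.ker (Algebra.ofId R (Localization.AtPrime q ⧸
      P.map (algebraMap (MvPolynomial (Fin m) R) (Localization.AtPrime q)))) := by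
    intro r hr
    rw [RingHom.mem_ker]
    have h1 : (MvPolynomial.C r : MvPolynomial (Fin m) R) ∈ P := by
      rw [hP, Ideal.mem_comap]
      change ψ (MvPolynomial.C r) ∈ q
      simp only [ψ, MvPolynomial.aeval_C]
      have : r ∈ q.under R := by rw [← Ideal.over_def q p]; exact hr
      exact this
    have h2 : algebraMap (MvPolynomial (Fin m) R) (Localization.AtPrime q) (MvPolynomial.C r) ∈
        P.map (algebraMap (MvPolynomial (Fin m) R) (Localization.AtPrime q)) :=
      Ideal.mem_map_of_mem _ h1
    have h3 : algebraMap R (Localization.AtPrime q ⧸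
        P.map (algebraMap (MvPolynomial (Fin m) R) (Localization.AtPrime q))) r =
        Ideal.Quotient.mk _ (algebraMap (MvPolynomial (Fin m) R) (Localization.AtPrime q)
          (MvPolynomial.C r)) := by
      rw [IsScalarTower.algebraMap_apply R (Localization.AtPrime q)]
      congr 1
      rw [IsScalarTower.algebraMap_apply (MvPolynomial (Fin m) R) B (Localization.AtPrime q),
        IsScalarTower.algebraMap_apply R B (Localization.AtPrime q)]
      congr 1
      change _ = ψ (MvPolynomial.C r)
      simp only [ψ, MvPolynomial.aeval_C]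
    change algebraMap R _ r = 0
    rw [h3, Ideal.Quotient.eq_zero_iff_mem]
    exact h2
  have hunit : p.primeCompl ≤ (IsUnit.submonoid (Localization.AtPrime q ⧸
      P.map (algebraMap (MvPolynomial (Fin m) R) (Localization.AtPrime q)))).comap
      (Algebra.ofId R _) := by
    intro r hr
    rw [Submonoid.mem_comap, IsUnit.mem_submonoid_iff]
    have h1 : algebraMap R B r ∉ q := by
      intro h
      apply hr
      rw [Ideal.over_def q p]
      exact h
    have h2 : IsUnit (algebraMap B (Localization.AtPrime q) (algebraMap R B r)) :=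
      IsLocalization.map_units (M := q.primeCompl) _ ⟨_, h1⟩
    have h3 := h2.map (Ideal.Quotient.mk (P.map (algebraMap (MvPolynomial (Fin m) R)
      (Localization.AtPrime q))))
    change IsUnit (algebraMap R _ r)
    rw [IsScalarTower.algebraMap_apply R (Localization.AtPrime q),
      IsScalarTower.algebraMap_apply R B (Localization.AtPrime q)]
    exact h3
  let fK : p.ResidueField →ₐ[R] (Localization.AtPrime q ⧸
      P.map (algebraMap (MvPolynomial (Fin m) R) (Localization.AtPrime q))) :=
    Ideal.ResidueField.liftₐ p (Algebra.ofId R _) hker hunit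
  let gB : B →ₐ[R] (Localization.AtPrime q ⧸
      P.map (algebraMap (MvPolynomial (Fin m) R) (Localization.AtPrime q))) :=
    (Ideal.Quotient.mkₐ R _).comp (IsScalarTower.toAlgHom R B (Localization.AtPrime q))
  let ψR : p.Fiber B →ₐ[R] (Localization.AtPrime q ⧸
      P.map (algebraMap (MvPolynomial (Fin m) R) (Localization.AtPrime q))) :=
    Algebra.TensorProduct.lift fK gB (fun _ _ => Commute.all _ _)
  have hψR : ∀ x : B, ψR ((1 : p.ResidueField) ⊗ₜ[R] x) =
      Ideal.Quotient.mk _ (algebraMap B (Localization.AtPrime q) x) := by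
    intro x
    simp only [ψR, Algebra.TensorProduct.lift_tmul, map_one, one_mul]
    rfl
  let ψ' : p.Fiber B →ₐ[MvPolynomial (Fin m) R] (Localization.AtPrime q ⧸
      P.map (algebraMap (MvPolynomial (Fin m) R) (Localization.AtPrime q))) :=
    { ψR.toRingHom with
      commutes' := by
        intro a
        change ψR ((1 : p.ResidueField) ⊗ₜ[R] (algebraMap (MvPolynomial (Fin m) R) B a)) = _
        rw [hψR, IsScalarTower.algebraMap_apply (MvPolynomial (Fin m) R)
          (Localization.AtPrime q) (Localization.AtPrime q ⧸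
            P.map (algebraMap (MvPolynomial (Fin m) R) (Localization.AtPrime q))),
          IsScalarTower.algebraMap_apply (MvPolynomial (Fin m) R) B
          (Localization.AtPrime q)]
        rfl }
  have hψ' : ∀ x : B, ψ' ((1 : p.ResidueField) ⊗ₜ[R] x) =
      Ideal.Quotient.mk _ (algebraMap B (Localization.AtPrime q) x) := hψR
  refine Algebra.QuasiFinite.of_forall_exists_mul_mem_range ψ' ?_
  intro x
  obtain ⟨y, rfl⟩ := Ideal.Quotient.mk_surjective x
  obtain ⟨b₀, ⟨s, hs⟩, rfl⟩ := IsLocalization.exists_mk'_eq q.primeCompl y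
  refine ⟨(1 : p.ResidueField) ⊗ₜ[R] s, ?_, ⟨(1 : p.ResidueField) ⊗ₜ[R] b₀, ?_⟩⟩
  · rw [hψ']
    exact (IsLocalization.map_units (M := q.primeCompl) (Localization.AtPrime q) ⟨s, hs⟩).map
      (Ideal.Quotient.mk _)
  · change ψ' ((1 : p.ResidueField) ⊗ₜ[R] b₀) = _ * ψ' ((1 : p.ResidueField) ⊗ₜ[R] s)
    rw [hψ', hψ', ← map_mul, IsLocalization.mk'_spec]

end qf

end Groth.Agent.Lib.Helper55
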