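import Mathlib
import Groth.Agent.Lib.Helper55.QuasiFiniteLift
import Groth.Agent.Lib.Helper55.FiberCompDim
import Groth.Agent.Lib.Helper55.ChartResidue
import Groth.Agent.Lib.Helper55.DimPoint
import Groth.Agent.H52.FibreDimChart

/-! Chevalley's upper semicontinuity of fibre dimension (helper55). -/

set_option autoImplicit false

universe u

namespace Groth.Agent.Lib.Helper55

open AlgebraicGeometry CategoryTheory Topology TensorProduct

section L1

set_option backward.isDefEq.respectTransparency false in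
/-- Quasi-finiteness at a point of a morphism of affine schemes, in terms of rings. -/
theorem quasiFiniteAt_SpecMap_iff {R S : CommRingCat.{u}} (φ : R ⟶ S) (x : Spec S) :
    (Spec.map φ).QuasiFiniteAt x ↔ φ.hom.QuasiFiniteAt x.asIdeal := by
  algebraize [φ.hom]
  let := Localization.AtPrime.algebraOfLiesOver (x.asIdeal.under R) x.asIdeal
  trans Algebra.QuasiFinite (Localization.AtPrime (x.asIdeal.under R))
    (Localization.AtPrime x.asIdeal)
  · rw [Scheme.Hom.QuasiFiniteAt, ← RingHom.quasiFinite_algebraMap]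
    exact RingHom.QuasiFinite.respectsIso.arrow_mk_iso_iff (Scheme.arrowStalkMapSpecIso ..)
  exact ⟨fun _ ↦ .trans _ (Localization.AtPrime (x.asIdeal.under R)) _,
    fun _ ↦ .of_restrictScalars R _ _⟩

end L1

section L2

variable {X W : Scheme.{u}} (h : X ⟶ W) [LocallyOfFiniteType h]

/-- At a quasi-finite point the local fibre dimension is `≤ 0`. -/
theorem fibreDimAt_le_zero_of_quasiFiniteAt (x : X) (hx : h.QuasiFiniteAt x) :
    FlatMor.fibreDimAt h x ≤ 0 := by
  have hopen : IsOpen ({h.asFiber x} : Set ↥(h.fiber (h x))) :=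
    Scheme.Hom.quasiFiniteAt_iff_isOpen_singleton_asFiber.mp hx
  unfold FlatMor.fibreDimAt FlatMor.localDim
  let U : {U : TopologicalSpace.Opens ↥(h.fiber (h x)) // h.asFiber x ∈ U} :=
    ⟨⟨{h.asFiber x}, hopen⟩, rfl⟩
  refine le_trans (iInf_le _ U) ?_
  change topologicalKrullDim ↥({h.asFiber x} : Set ↥(h.fiber (h x))) ≤ 0
  exact topologicalKrullDim_zero_of_discreteTopology _

end L2

section L4

variable (R B : Type u) [CommRing R] [CommRing B] [Algebra R B]

/-- The dimension of a set-theoretic fibre of `Spec B → Spec R` is the dimension of the fibre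
ring. -/
theorem topologicalKrullDim_comap_preimage_singleton (p : PrimeSpectrum R) :
    topologicalKrullDim ↥(PrimeSpectrum.comap (algebraMap R B) ⁻¹' {p}) =
      ringKrullDim (p.asIdeal.Fiber B) := by
  rw [← PrimeSpectrum.topologicalKrullDim_eq_ringKrullDim]
  exact IsHomeomorph.topologicalKrullDim_eq _
    (PrimeSpectrum.preimageHomeomorphFiber R B p).isHomeomorph

/-- The dimension of a scheme-theoretic fibre of `Spec B → Spec R`. -/
theorem topologicalKrullDim_fiber_SpecMap (y : Spec (CommRingCat.of R)) :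
    topologicalKrullDim ↥((Spec.map (CommRingCat.ofHom (algebraMap R B))).fiber y) =
      ringKrullDim (y.asIdeal.Fiber B) := by
  rw [← topologicalKrullDim_comap_preimage_singleton R B y]
  exact IsHomeomorph.topologicalKrullDim_eq _
    ((Spec.map (CommRingCat.ofHom (algebraMap R B))).fiberHomeo y).isHomeomorph

/-- The fibres of affine space `𝔸^m_R → Spec R` have local dimension `≤ m`. -/
theorem fibreDimAt_SpecMap_C_le (m : ℕ) (w : Spec (CommRingCat.of (MvPolynomial (Fin m) R))) :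
    FlatMor.fibreDimAt (Spec.map (CommRingCat.ofHom
      (algebraMap R (MvPolynomial (Fin m) R)))) w ≤ m := by
  set π := Spec.map (CommRingCat.ofHom (algebraMap R (MvPolynomial (Fin m) R))) with hπ
  have h1 : FlatMor.fibreDimAt π w ≤ topologicalKrullDim ↥(π.fiber (π w)) := by
    unfold FlatMor.fibreDimAt FlatMor.localDim
    let U : {U : TopologicalSpace.Opens ↥(π.fiber (π w)) // π.asFiber w ∈ U} :=
      ⟨⊤, trivial⟩
    refine le_trans (iInf_le _ U) ?_
    exact (IsHomeomorph.topologicalKrullDim_eq _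
      (Homeomorph.Set.univ ↥(π.fiber (π w))).isHomeomorph).le
  refine h1.trans ?_
  rw [hπ, topologicalKrullDim_fiber_SpecMap R (MvPolynomial (Fin m) R)]
  set K := (π w).asIdeal.ResidueField with hK
  have e : (π w).asIdeal.Fiber (MvPolynomial (Fin m) R) ≃ₐ[K] MvPolynomial (Fin m) K :=
    MvPolynomial.algebraTensorAlgEquiv R K
  rw [ringKrullDim_eq_of_ringEquiv e.toRingEquiv, MvPolynomial.ringKrullDim_of_isNoetherianRing,
    ringKrullDim_eq_zero_of_field]
  simp

end L4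

section L5

variable {X S : Scheme.{u}} (f : X ⟶ S) {U : X.Opens} {V : S.Opens} (hU : IsAffineOpen U)
  (hV : IsAffineOpen V) (e : U ≤ f ⁻¹ᵁ V)

include hU in
/-- The fibre ring of an affine chart computes the dimension of the part of the fibre in the
chart. -/
theorem ringKrullDim_fiber_chart (s : S) (hs : s ∈ V) :
    letI : Algebra Γ(S, V) Γ(X, U) := (f.appLE V U e).hom.toAlgebra
    ringKrullDim ((hV.primeIdealOf ⟨s, hs⟩).asIdeal.Fiber Γ(X, U)) =
      topologicalKrullDim ↥((U : Set X) ∩ f ⁻¹' {s}) := by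
  let _ : Algebra Γ(S, V) Γ(X, U) := (f.appLE V U e).hom.toAlgebra
  set p := hV.primeIdealOf ⟨s, hs⟩ with hp
  rw [← topologicalKrullDim_comap_preimage_singleton Γ(S, V) Γ(X, U) p]
  have e1 : IsEmbedding (fun Q : ↥(PrimeSpectrum.comap (algebraMap Γ(S, V) Γ(X, U)) ⁻¹' {p}) =>
      (hU.fromSpec Q.1 : X)) :=
    hU.fromSpec.isOpenEmbedding.isEmbedding.comp IsEmbedding.subtypeVal
  have hcomm : ∀ Q : PrimeSpectrum Γ(X, U),
      f (hU.fromSpec Q) = hV.fromSpec (PrimeSpectrum.comap (algebraMap Γ(S, V) Γ(X, U)) Q) := by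
    intro Q
    have h := IsAffineOpen.SpecMap_appLE_fromSpec f hV hU e
    exact (congrArg (fun g : Spec Γ(X, U) ⟶ S => g Q) h).symm
  have hrange : Set.range (fun Q : ↥(PrimeSpectrum.comap (algebraMap Γ(S, V) Γ(X, U)) ⁻¹' {p}) =>
      (hU.fromSpec Q.1 : X)) = (U : Set X) ∩ f ⁻¹' {s} := by
    ext x'
    constructor
    · rintro ⟨⟨Q, hQ⟩, rfl⟩
      refine ⟨?_, ?_⟩
      · have : hU.fromSpec Q ∈ Set.range hU.fromSpec := ⟨Q, rfl⟩
        rw [hU.range_fromSpec] at this
        exact this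
      · rw [Set.mem_preimage, Set.mem_singleton_iff, hcomm Q]
        have hQ' : PrimeSpectrum.comap (algebraMap Γ(S, V) Γ(X, U)) Q = p := hQ
        rw [hQ', hp, hV.fromSpec_primeIdealOf ⟨s, hs⟩]
    · rintro ⟨hx'U, hx's⟩
      have hx's' : f x' = s := hx's
      refine ⟨⟨hU.primeIdealOf ⟨x', hx'U⟩, ?_⟩, hU.fromSpec_primeIdealOf ⟨x', hx'U⟩⟩
      rw [Set.mem_preimage, Set.mem_singleton_iff]
      apply PrimeSpectrum.ext
      have h1 := primeIdealOf_comap f e x' hx'U hU hV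
      have h2 : hV.primeIdealOf ⟨f x', e hx'U⟩ = p :=
        congrArg (fun w : ↥V => hV.primeIdealOf w) (Subtype.ext hx's')
      rw [← h2]
      exact h1.symm
  rw [← hrange]
  exact IsHomeomorph.topologicalKrullDim_eq _ e1.toHomeomorph.isHomeomorph

end L5

section L6

/-- The local dimension is attained on some open neighbourhood. -/
theorem exists_open_dim_le_of_localDim_le {T : Type*} [TopologicalSpace T] (t : T)
    (c : WithBot ℕ∞) (h : FlatMor.localDim T t ≤ c) :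
    ∃ O : TopologicalSpace.Opens T, t ∈ O ∧ topologicalKrullDim ↥(O : Set T) ≤ c := by
  let D : Set (WithBot ℕ∞) := Set.range
    (fun U : {U : TopologicalSpace.Opens T // t ∈ U} => topologicalKrullDim ↥(U.1 : Set T))
  have hne : D.Nonempty := ⟨_, ⟨⟨⊤, trivial⟩, rfl⟩⟩
  have hwf : WellFounded ((· < ·) : WithBot ℕ∞ → WithBot ℕ∞ → Prop) := wellFounded_lt
  obtain ⟨U₀, hU₀⟩ := hwf.min_mem D hne
  refine ⟨U₀.1, U₀.2, ?_⟩
  refine le_trans ?_ h
  unfold FlatMor.localDim
  refine le_iInf fun U => ?_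
  have hmem : topologicalKrullDim ↥(U.1 : Set T) ∈ D := ⟨U, rfl⟩
  have h1 : ¬ topologicalKrullDim ↥(U.1 : Set T) < hwf.min D ⟨_, hmem⟩ :=
    hwf.not_lt_min D hmem
  have h2 : hwf.min D ⟨_, hmem⟩ = hwf.min D hne := rfl
  rw [h2, ← hU₀] at h1
  exact not_lt.mp h1

variable {X S : Scheme.{u}} (f : X ⟶ S)

/-- If the local fibre dimension at `x` is `≤ n`, some open neighbourhood of `x` meets the fibre
in a set of dimension `≤ n`. -/
theorem exists_open_fibre_dim_le (x : X) (c : WithBot ℕ∞) (h : FlatMor.fibreDimAt f x ≤ c) :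
    ∃ N : X.Opens, x ∈ N ∧ topologicalKrullDim ↥((N : Set X) ∩ f ⁻¹' {f x}) ≤ c := by
  obtain ⟨O, hzO, hO⟩ := exists_open_dim_le_of_localDim_le (f.asFiber x) c h
  have hι : IsEmbedding (f.fiberι (f x)) := (f.fiberι (f x)).isEmbedding
  obtain ⟨N', hN'open, hN'O⟩ := hι.isInducing.isOpen_iff.mp O.2
  refine ⟨⟨N', hN'open⟩, ?_, ?_⟩
  · have h1 : f.asFiber x ∈ (f.fiberι (f x)) ⁻¹' N' := by rw [hN'O]; exact hzO
    have h2 : f.fiberι (f x) (f.asFiber x) ∈ N' := h1
    rw [f.fiberι_asFiber x] at h2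
    exact h2
  · have h3 : (f.fiberι (f x)) '' (O : Set ↥(f.fiber (f x))) = N' ∩ f ⁻¹' {f x} := by
      have hO' : (O : Set ↥(f.fiber (f x))) = (f.fiberι (f x)) ⁻¹' N' := hN'O.symm
      rw [hO', Set.image_preimage_eq_inter_range, f.range_fiberι]
    change topologicalKrullDim ↥(N' ∩ f ⁻¹' {f x}) ≤ c
    rw [← h3]
    exact (IsHomeomorph.topologicalKrullDim_eq _
      (hι.homeomorphImage (O : Set ↥(f.fiber (f x)))).isHomeomorph).ge.trans hO

end L6

section main

variable {X S : Scheme.{u}} (f : X ⟶ S) [LocallyOfFiniteType f]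

/-- **Chevalley's semicontinuity theorem**, local form. -/
theorem exists_open_forall_fibreDimAt_le (x : X) (n : ℕ) (hx : FlatMor.fibreDimAt f x ≤ n) :
    ∃ N : X.Opens, x ∈ N ∧ ∀ x' ∈ N, FlatMor.fibreDimAt f x' ≤ n := by
  obtain ⟨N₀, hxN₀, hN₀⟩ := exists_open_fibre_dim_le f x n hx
  obtain ⟨V, hV, hsV, -⟩ := exists_isAffineOpen_mem_and_subset (x := f x) (U := ⊤) trivial
  obtain ⟨U, hU, hxU, hUle⟩ := exists_isAffineOpen_mem_and_subset (x := x)
    (U := N₀ ⊓ f ⁻¹ᵁ V) ⟨hxN₀, hsV⟩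
  have e : U ≤ f ⁻¹ᵁ V := hUle.trans inf_le_right
  have hUN : (U : Set X) ⊆ N₀ := fun y hy => (hUle hy).1
  have hdimU : topologicalKrullDim ↥((U : Set X) ∩ f ⁻¹' {f x}) ≤ n :=
    (topologicalKrullDim_mono_set (Set.inter_subset_inter_left _ hUN)).trans hN₀
  -- rings
  let alg : Algebra Γ(S, V) Γ(X, U) := (f.appLE V U e).hom.toAlgebra
  have hft : Algebra.FiniteType Γ(S, V) Γ(X, U) := f.finiteType_appLE hV hU e
  have hqp : (hU.primeIdealOf ⟨x, hxU⟩).asIdeal.LiesOver (hV.primeIdealOf ⟨f x, hsV⟩).asIdeal :=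
    ⟨primeIdealOf_comap f e x hxU hU hV⟩
  have hFdim : ringKrullDim ((hV.primeIdealOf ⟨f x, hsV⟩).asIdeal.Fiber Γ(X, U)) ≤ n := by
    rw [ringKrullDim_fiber_chart f hU hV e (f x) hsV]
    exact hdimU
  have hnt : Nontrivial ((hV.primeIdealOf ⟨f x, hsV⟩).asIdeal.Fiber Γ(X, U)) := by
    have : Nonempty (PrimeSpectrum ((hV.primeIdealOf ⟨f x, hsV⟩).asIdeal.Fiber Γ(X, U))) :=
      ⟨PrimeSpectrum.preimageEquivFiber Γ(S, V) Γ(X, U) (hV.primeIdealOf ⟨f x, hsV⟩)
        ⟨hU.primeIdealOf ⟨x, hxU⟩, PrimeSpectrum.ext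
          (primeIdealOf_comap f e x hxU hU hV).symm⟩⟩
    exact PrimeSpectrum.nonempty_iff_nontrivial.mp this
  obtain ⟨m, hm, b, hfin⟩ := exists_finite_aeval_fiber
    (hV.primeIdealOf ⟨f x, hsV⟩).asIdeal n hFdim
  have hqf := quasiFiniteAt_aeval_of_finite_fiber (hV.primeIdealOf ⟨f x, hsV⟩).asIdeal b hfin
    (hU.primeIdealOf ⟨x, hxU⟩).asIdeal
  -- schemes
  let ψ : MvPolynomial (Fin m) Γ(S, V) →ₐ[Γ(S, V)] Γ(X, U) := MvPolynomial.aeval b
  let h : Spec Γ(X, U) ⟶ Spec (CommRingCat.of (MvPolynomial (Fin m) Γ(S, V))) :=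
    Spec.map (CommRingCat.ofHom ψ.toRingHom)
  let π : Spec (CommRingCat.of (MvPolynomial (Fin m) Γ(S, V))) ⟶ Spec Γ(S, V) :=
    Spec.map (CommRingCat.ofHom (algebraMap Γ(S, V) (MvPolynomial (Fin m) Γ(S, V))))
  have hcomp : h ≫ π = Spec.map (f.appLE V U e) := by
    rw [← Spec.map_comp]
    congr 1
    ext r
    exact ψ.commutes r
  have hlfth : LocallyOfFiniteType h := by
    rw [HasRingHomProperty.Spec_iff (P := @LocallyOfFiniteType)]
    apply RingHom.FiniteType.of_comp_finiteType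
      (f := algebraMap Γ(S, V) (MvPolynomial (Fin m) Γ(S, V)))
    have : ψ.toRingHom.comp (algebraMap Γ(S, V) (MvPolynomial (Fin m) Γ(S, V))) =
        algebraMap Γ(S, V) Γ(X, U) := ψ.comp_algebraMap
    change (ψ.toRingHom.comp (algebraMap Γ(S, V) (MvPolynomial (Fin m) Γ(S, V)))).FiniteType
    rw [this]
    exact RingHom.finiteType_algebraMap.mpr hft
  have hlftπ : LocallyOfFiniteType π := by
    rw [HasRingHomProperty.Spec_iff (P := @LocallyOfFiniteType)]
    exact RingHom.finiteType_algebraMap.mpr inferInstance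
  have hQopen : IsOpen {q' : Spec Γ(X, U) | h.QuasiFiniteAt q'} := h.isOpen_quasiFiniteAt
  have hqQ : h.QuasiFiniteAt (hU.primeIdealOf ⟨x, hxU⟩) :=
    (quasiFiniteAt_SpecMap_iff _ _).mpr hqf
  refine ⟨⟨hU.fromSpec '' {q' : Spec Γ(X, U) | h.QuasiFiniteAt q'},
    hU.fromSpec.isOpenEmbedding.isOpenMap _ hQopen⟩,
    ⟨hU.primeIdealOf ⟨x, hxU⟩, hqQ, hU.fromSpec_primeIdealOf ⟨x, hxU⟩⟩, ?_⟩
  rintro x' ⟨q', hq', rfl⟩
  have h1 := Groth.Agent.H52.fibreDimAt_eq_of_etale_square hU.fromSpec hV.fromSpec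
    (Spec.map (f.appLE V U e)) f (IsAffineOpen.SpecMap_appLE_fromSpec f hV hU e).symm q'
  rw [← h1, ← hcomp]
  refine (fibreDimAt_comp_le h π q').1.trans ?_
  have h2 : FlatMor.fibreDimAt h q' ≤ 0 := fibreDimAt_le_zero_of_quasiFiniteAt h q' hq'
  have h3 : FlatMor.fibreDimAt π (h q') ≤ m := fibreDimAt_SpecMap_C_le Γ(S, V) m (h q')
  calc FlatMor.fibreDimAt h q' + FlatMor.fibreDimAt π (h q') ≤ 0 + (m : WithBot ℕ∞) :=
        add_le_add h2 h3
    _ = (m : WithBot ℕ∞) := zero_add _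
    _ ≤ n := by exact_mod_cast hm

/-- **Chevalley's semicontinuity theorem**: the local fibre dimension is upper semicontinuous on
the source. -/
theorem isOpen_setOf_fibreDimAt_le (n : ℕ) : IsOpen {x : X | FlatMor.fibreDimAt f x ≤ n} := by
  rw [isOpen_iff_forall_mem_open]
  intro x hx
  obtain ⟨N, hxN, hN⟩ := exists_open_forall_fibreDimAt_le f x n hx
  exact ⟨N, fun x' hx' => hN x' hx', N.2, hxN⟩

end main

end Groth.Agent.Lib.Helper55
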