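import Groth.Agent.Lib.Helper55.FiberTrdeg
import Groth.Agent.Lib.Helper55.LocalDim
import Groth.Agent.Lib.Helper55.LocalDimTop
import Groth.Agent.Lib.Helper49.FiberStalk
import Groth.Agent.S4442
import Mathlib.RingTheory.Ideal.GoingDown
import Mathlib.AlgebraicGeometry.Morphisms.Flat

/-! Dimension formulas for flat morphisms, and local dimension in terms of closures and local
rings (helper55). -/

set_option autoImplicit false

universe u

namespace Groth.Agent.Lib.Helper55

open CategoryTheory CategoryTheory.Limits AlgebraicGeometry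

section ring

/-- Ring-level statement: for a flat local homomorphism `φ : A → B` of Noetherian local rings,
`dim B = dim A + dim B / 𝔪_A B`. -/
theorem ringKrullDim_eq_add_quotient_of_flat {A B : Type u} [CommRing A] [CommRing B]
    [IsLocalRing A] [IsLocalRing B] [IsNoetherianRing A] [IsNoetherianRing B] (φ : A →+* B)
    [IsLocalHom φ] (hφ : φ.Flat) :
    ringKrullDim B = ringKrullDim A +
      ringKrullDim (B ⧸ Ideal.map φ (IsLocalRing.maximalIdeal A)) := by
  algebraize [φ]
  have hover : (IsLocalRing.maximalIdeal B).LiesOver (IsLocalRing.maximalIdeal A) := by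
    constructor
    exact (IsLocalRing.maximalIdeal_comap φ).symm
  have h := Ideal.height_eq_height_add_of_liesOver_of_hasGoingDown (IsLocalRing.maximalIdeal A)
    (IsLocalRing.maximalIdeal B)
  have hI : Ideal.map φ (IsLocalRing.maximalIdeal A) ≠ ⊤ :=
    (IsLocalRing.map_maximalIdeal_lt_top φ).ne
  have hnt : Nontrivial (B ⧸ Ideal.map φ (IsLocalRing.maximalIdeal A)) :=
    Ideal.Quotient.nontrivial_iff.mpr hI
  have hloc : IsLocalRing (B ⧸ Ideal.map φ (IsLocalRing.maximalIdeal A)) :=
    IsLocalRing.of_surjective' (Ideal.Quotient.mk _) Ideal.Quotient.mk_surjective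
  have hmax : ((IsLocalRing.maximalIdeal B).map
      (Ideal.Quotient.mk (Ideal.map φ (IsLocalRing.maximalIdeal A)))).IsMaximal := by
    refine Ideal.IsMaximal.map_of_surjective_of_ker_le Ideal.Quotient.mk_surjective ?_
    rw [Ideal.mk_ker]
    exact IsLocalRing.le_maximalIdeal hI
  have heq : (IsLocalRing.maximalIdeal B).map
      (Ideal.Quotient.mk (Ideal.map φ (IsLocalRing.maximalIdeal A))) =
      IsLocalRing.maximalIdeal (B ⧸ Ideal.map φ (IsLocalRing.maximalIdeal A)) :=
    IsLocalRing.eq_maximalIdeal hmax
  change (IsLocalRing.maximalIdeal B).height = (IsLocalRing.maximalIdeal A).height +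
    ((IsLocalRing.maximalIdeal B).map
      (Ideal.Quotient.mk (Ideal.map φ (IsLocalRing.maximalIdeal A)))).height at h
  rw [heq] at h
  rw [← IsLocalRing.maximalIdeal_height_eq_ringKrullDim (R := B),
    ← IsLocalRing.maximalIdeal_height_eq_ringKrullDim (R := A),
    ← IsLocalRing.maximalIdeal_height_eq_ringKrullDim
      (R := B ⧸ Ideal.map φ (IsLocalRing.maximalIdeal A)), ← WithBot.coe_add]
  exact congrArg _ h

end ring

section scheme

open Groth.Agent.Lib.Helper49

/-- **Dimension formula for flat morphisms**: for a flat morphism of locally Noetherian schemes,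
`dim O_{X,x} = dim O_{Y,f x} + dim O_{X_y,x}`. -/
theorem dim_stalk_eq_of_flat {X Y : Scheme.{u}} [IsLocallyNoetherian X] [IsLocallyNoetherian Y]
    (f : X ⟶ Y) [Flat f] (s : Y) (y : ↥(f.fiber s)) :
    ringKrullDim (X.presheaf.stalk ((f.fiberι s).base y)) =
      ringKrullDim (Y.presheaf.stalk (f.base ((f.fiberι s).base y))) +
        ringKrullDim ((f.fiber s).presheaf.stalk y) := by
  have h := ringKrullDim_eq_add_quotient_of_flat (f.stalkMap ((f.fiberι s).base y)).hom
    (Flat.stalkMap f _)
  have hker : RingHom.ker ((f.fiberι s).stalkMap y).hom =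
      Ideal.map (f.stalkMap ((f.fiberι s).base y)).hom
        (IsLocalRing.maximalIdeal (Y.presheaf.stalk (f.base ((f.fiberι s).base y)))) :=
    le_antisymm (ker_le_map f s y) (map_le_ker f s y)
  have hsurj : Function.Surjective ((f.fiberι s).stalkMap y).hom :=
    (f.fiberι s).stalkMap_surjective y
  have e := RingHom.quotientKerEquivOfSurjective hsurj
  rw [← ringKrullDim_eq_of_ringEquiv e, hker]
  exact h

/-- The generic point of an irreducible component has a zero-dimensional local ring. -/
theorem ringKrullDim_stalk_eq_zero_of_closure_mem_irreducibleComponents {X : Scheme.{u}} (ξ : X)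
    (hξ : closure ({ξ} : Set X) ∈ irreducibleComponents (X : Type u)) :
    ringKrullDim (X.presheaf.stalk ξ) = 0 := by
  obtain ⟨U, hU, hxU, -⟩ := exists_isAffineOpen_mem_and_subset (x := ξ) (U := ⊤) trivial
  rw [Groth.Agent.S4442.ringKrullDim_stalk_eq_height X hU ξ hxU]
  have hmin :=
    Groth.Agent.S4442.mem_minimalPrimes_of_closure_mem_irreducibleComponents X hU ξ hxU hξ
  have hp : (hU.primeIdealOf ⟨ξ, hxU⟩).asIdeal.IsPrime := (hU.primeIdealOf ⟨ξ, hxU⟩).2
  rw [Ideal.height_eq_zero_iff.mpr hmin]
  rfl

variable {k : Type u} [Field k] {X : Scheme.{u}} (f : X ⟶ Spec (CommRingCat.of k))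
  [LocallyOfFiniteType f]

include f in
/-- For a scheme locally of finite type over a field,
`dim_x X = dim closure{x} + dim O_{X,x}`. -/
theorem localDim_eq_dim_closure_add_dim_stalk (x : X) :
    FlatMor.localDim ↥X x =
      topologicalKrullDim ↥(closure ({x} : Set X)) + ringKrullDim (X.presheaf.stalk x) := by
  obtain ⟨U, hU, hxU, -⟩ := exists_isAffineOpen_mem_and_subset (x := x) (U := ⊤) trivial
  let φA : CommRingCat.of k ⟶ Γ(X, U) := Spec.preimage (hU.fromSpec ≫ f)
  let _ : Algebra k Γ(X, U) := φA.hom.toAlgebra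
  have ha : hU.fromSpec ≫ f = Spec.map (CommRingCat.ofHom (algebraMap k Γ(X, U))) :=
    (Spec.map_preimage _).symm
  have hftA : Algebra.FiniteType k Γ(X, U) := by
    have h1 : LocallyOfFiniteType (hU.fromSpec ≫ f) := inferInstance
    rw [ha, HasRingHomProperty.Spec_iff (P := @LocallyOfFiniteType)] at h1
    exact h1
  have h1 := localDim_eq_of_isOpenEmbedding hU.fromSpec hU.fromSpec.isOpenEmbedding
    (hU.primeIdealOf ⟨x, hxU⟩)
  rw [hU.fromSpec_primeIdealOf ⟨x, hxU⟩] at h1
  rw [← h1]
  have h3 := localDim_primeSpectrum_eq k Γ(X, U) (hU.primeIdealOf ⟨x, hxU⟩)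
  refine h3.trans ?_
  rw [Groth.Agent.S4442.ringKrullDim_stalk_eq_height X hU x hxU]
  have h2 := topologicalKrullDim_closure_chart f hU.fromSpec (hU.primeIdealOf ⟨x, hxU⟩)
  rw [hU.fromSpec_primeIdealOf ⟨x, hxU⟩] at h2
  rw [h2]

/-- Local dimension is monotone along specializations. -/
theorem localDim_le_of_specializes {T : Type*} [TopologicalSpace T] {x x' : T} (h : x ⤳ x') :
    FlatMor.localDim T x ≤ FlatMor.localDim T x' := by
  refine le_iInf fun U => ?_
  exact iInf_le (fun U : {U : TopologicalSpace.Opens T // x ∈ U} =>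
    topologicalKrullDim (U.1 : Set T)) ⟨U.1, h.mem_open U.1.2 U.2⟩

include f in
/-- On an irreducible scheme locally of finite type over a field, the local dimension at every
point is the dimension. -/
theorem localDim_eq_topologicalKrullDim_of_irreducibleSpace [IrreducibleSpace ↥X] (x : X) :
    FlatMor.localDim ↥X x = topologicalKrullDim ↥X := by
  apply le_antisymm
  · refine le_trans (iInf_le _ (⟨⊤, trivial⟩ : {U : TopologicalSpace.Opens X // x ∈ U})) ?_
    exact topologicalKrullDim_subspace_le X _
  · refine le_trans ?_ (localDim_le_of_specializes (genericPoint_specializes x))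
    have hcl : closure ({genericPoint ↥X} : Set X) = Set.univ := genericPoint_closure ↥X
    have hcomp : closure ({genericPoint ↥X} : Set X) ∈ irreducibleComponents (X : Type u) := by
      rw [hcl, irreducibleComponents_eq_singleton]
      rfl
    rw [localDim_eq_dim_closure_add_dim_stalk f (genericPoint ↥X),
      ringKrullDim_stalk_eq_zero_of_closure_mem_irreducibleComponents _ hcomp, add_zero, hcl]
    exact (IsHomeomorph.topologicalKrullDim_eq _ (Homeomorph.Set.univ ↥X).isHomeomorph).ge

end scheme

end Groth.Agent.Lib.Helper55
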