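import Groth.Agent.Lib.Helper55.DimFormulaIrredLocal
import Groth.Agent.Lib.Helper55.Equidim
import Groth.Agent.Lib.Helper55.FiberBaseChange
import Groth.Agent.Lib.Helper55.GroupLocalDim
import Groth.Agent.S3447

/-! Toolkit for dimension formulas at points of fibres (helper55). -/

set_option autoImplicit false

universe u

namespace Groth.Agent.Lib.Helper55

open AlgebraicGeometry CategoryTheory

section alg

theorem le_comap_mk {A : Type*} [CommRing A] (I : Ideal A) (Q : Ideal (A ⧸ I)) :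
    I ≤ Q.comap (Ideal.Quotient.mk I) := by
  have h0 : I = Ideal.comap (Ideal.Quotient.mk I) ⊥ := by
    rw [← RingHom.ker_eq_comap_bot, Ideal.mk_ker]
  exact h0.le.trans (Ideal.comap_mono bot_le)

variable {R B : Type u} [CommRing R] [CommRing B] [Algebra R B]
  [IsNoetherianRing R] [IsNoetherianRing B]
  (𝔮₀ 𝔮 : Ideal R) (𝔭₀ 𝔭 : Ideal B) [𝔮₀.IsPrime] [𝔮.IsPrime] [𝔭₀.IsPrime] [𝔭.IsPrime]
  [𝔭₀.LiesOver 𝔮₀] [𝔭.LiesOver 𝔮]

omit [𝔮₀.IsPrime] [𝔭₀.IsPrime] in
/-- **Krull-type inequality**: if `𝔭` is minimal among primes containing `𝔭₀ + 𝔮 B`, then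
`ht(𝔭/𝔭₀) ≤ ht(𝔮/𝔮₀)`. -/
theorem height_map_quotient_le_of_minimal (h𝔭 : 𝔭₀ ≤ 𝔭)
    (hmin : ∀ Q : Ideal B, Q.IsPrime → 𝔭₀ ≤ Q → 𝔮.map (algebraMap R B) ≤ Q → Q ≤ 𝔭 → Q = 𝔭) :
    (𝔭.map (Ideal.Quotient.mk 𝔭₀)).height ≤ (𝔮.map (Ideal.Quotient.mk 𝔮₀)).height := by
  have h𝔮 : 𝔮₀ ≤ 𝔮 := by
    rw [Ideal.LiesOver.over (P := 𝔭₀) (p := 𝔮₀), Ideal.LiesOver.over (P := 𝔭) (p := 𝔮)]
    exact Ideal.comap_mono h𝔭
  have hpq : (𝔭.map (Ideal.Quotient.mk 𝔭₀)).LiesOver (𝔮.map (Ideal.Quotient.mk 𝔮₀)) :=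
    liesOver_map_mk 𝔮₀ 𝔮 𝔭₀ 𝔭 h𝔭 h𝔮
  have hpp : (𝔮.map (Ideal.Quotient.mk 𝔮₀)).IsPrime := map_mk_isPrime_of_le 𝔮₀ 𝔮 h𝔮
  have hqp : (𝔭.map (Ideal.Quotient.mk 𝔭₀)).IsPrime := map_mk_isPrime_of_le 𝔭₀ 𝔭 h𝔭
  set p := 𝔮.map (Ideal.Quotient.mk 𝔮₀) with hp
  set P := 𝔭.map (Ideal.Quotient.mk 𝔭₀) with hP
  set J := p.map (algebraMap (R ⧸ 𝔮₀) (B ⧸ 𝔭₀)) with hJ
  have hJP : J ≤ P := by
    rw [hJ, Ideal.map_le_iff_le_comap]
    exact (Ideal.LiesOver.over (P := P) (p := p)).le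
  have hPbar : (P.map (Ideal.Quotient.mk J)).IsPrime := map_mk_isPrime_of_le J P hJP
  have key := Ideal.height_le_height_add_of_liesOver p P
  have h0 : (P.map (Ideal.Quotient.mk J)).height = 0 := by
    rw [Ideal.height_eq_zero_iff]
    refine ⟨⟨hPbar, bot_le⟩, ?_⟩
    rintro Qbar ⟨hQbar, -⟩ hQP
    -- pull `Qbar` back to `B`
    set Q' := Qbar.comap (Ideal.Quotient.mk J) with hQ'
    have hQ'p : Q'.IsPrime := Ideal.IsPrime.comap _
    have hJQ' : J ≤ Q' := le_comap_mk J Qbar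
    have hQ'P : Q' ≤ P := by
      have := Ideal.comap_mono (f := Ideal.Quotient.mk J) hQP
      rwa [comap_map_mk_of_le J P hJP] at this
    set Q := Q'.comap (Ideal.Quotient.mk 𝔭₀) with hQ
    have hQp : Q.IsPrime := Ideal.IsPrime.comap _
    have h𝔭₀Q : 𝔭₀ ≤ Q := le_comap_mk 𝔭₀ Q'
    have hQ𝔭 : Q ≤ 𝔭 := by
      have := Ideal.comap_mono (f := Ideal.Quotient.mk 𝔭₀) hQ'P
      rwa [comap_map_mk_of_le 𝔭₀ 𝔭 h𝔭] at this
    have h𝔮Q : 𝔮.map (algebraMap R B) ≤ Q := by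
      rw [Ideal.map_le_iff_le_comap]
      intro a ha
      rw [Ideal.mem_comap, hQ, Ideal.mem_comap]
      apply hJQ'
      rw [← Ideal.Quotient.algebraMap_mk_of_liesOver (p := 𝔮₀) (P := 𝔭₀)]
      exact Ideal.mem_map_of_mem _ (Ideal.mem_map_of_mem _ ha)
    have hQeq : Q = 𝔭 := hmin Q hQp h𝔭₀Q h𝔮Q hQ𝔭
    have hQ'eq : Q' = P := by
      rw [hP, ← hQeq, hQ]
      exact (Ideal.map_comap_of_surjective _ Ideal.Quotient.mk_surjective _).symm
    have : Qbar = P.map (Ideal.Quotient.mk J) := by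
      rw [← hQ'eq, hQ']
      exact (Ideal.map_comap_of_surjective _ Ideal.Quotient.mk_surjective _).symm
    rw [this]
  rw [h0, add_zero] at key
  exact key

end alg

section chart

variable {X S : Scheme.{u}} [IsLocallyNoetherian S] (f : X ⟶ S) [LocallyOfFiniteType f]
  {V : S.Opens} {U : X.Opens} (hV : IsAffineOpen V) (hU : IsAffineOpen U) (e : U ≤ f ⁻¹ᵁ V)

/-- **Krull-type inequality in charts**: if `z` is maximal among the points of its fibre lying
in the closure of `ξ`, then `ht(𝔭_z/𝔭_ξ) ≤ ht(𝔮_{f z}/𝔮_{f ξ})`. -/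
theorem chart_height_le_of_minimal (ξ z : X) (hξ : ξ ∈ U) (hz : z ∈ U) (hspec : ξ ⤳ z)
    (hmin : ∀ w : X, ξ ⤳ w → w ⤳ z → f w = f z → w = z) :
    ((hU.primeIdealOf ⟨z, hz⟩).asIdeal.map
        (Ideal.Quotient.mk (hU.primeIdealOf ⟨ξ, hξ⟩).asIdeal)).height ≤
      ((hV.primeIdealOf ⟨f z, e hz⟩).asIdeal.map
        (Ideal.Quotient.mk (hV.primeIdealOf ⟨f ξ, e hξ⟩).asIdeal)).height := by
  let _ : Algebra Γ(S, V) Γ(X, U) := (f.appLE V U e).hom.toAlgebra
  have hN : IsNoetherianRing Γ(S, V) := IsLocallyNoetherian.component_noetherian ⟨V, hV⟩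
  have hNX : IsLocallyNoetherian X := LocallyOfFiniteType.isLocallyNoetherian f
  have hNB : IsNoetherianRing Γ(X, U) := IsLocallyNoetherian.component_noetherian ⟨U, hU⟩
  have hp1 : (hU.primeIdealOf ⟨ξ, hξ⟩).asIdeal.IsPrime := (hU.primeIdealOf _).2
  have hp2 : (hU.primeIdealOf ⟨z, hz⟩).asIdeal.IsPrime := (hU.primeIdealOf _).2
  have hq1 : (hV.primeIdealOf ⟨f ξ, e hξ⟩).asIdeal.IsPrime := (hV.primeIdealOf _).2
  have hq2 : (hV.primeIdealOf ⟨f z, e hz⟩).asIdeal.IsPrime := (hV.primeIdealOf _).2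
  have ho1 : (hU.primeIdealOf ⟨ξ, hξ⟩).asIdeal.LiesOver (hV.primeIdealOf ⟨f ξ, e hξ⟩).asIdeal :=
    ⟨primeIdealOf_comap f e ξ hξ hU hV⟩
  have ho2 : (hU.primeIdealOf ⟨z, hz⟩).asIdeal.LiesOver (hV.primeIdealOf ⟨f z, e hz⟩).asIdeal :=
    ⟨primeIdealOf_comap f e z hz hU hV⟩
  refine height_map_quotient_le_of_minimal _ _ _ _
    ((primeIdealOf_le_iff_specializes hU ξ z hξ hz).mpr hspec) ?_
  intro Q hQ h1 h2 h3
  obtain ⟨w, hw, hwQ⟩ := exists_primeIdealOf_eq hU ⟨Q, hQ⟩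
  have hwQ' : (hU.primeIdealOf ⟨w, hw⟩).asIdeal = Q := congrArg PrimeSpectrum.asIdeal hwQ
  have hξw : ξ ⤳ w := by
    rw [← primeIdealOf_le_iff_specializes hU ξ w hξ hw, hwQ']
    exact h1
  have hwz : w ⤳ z := by
    rw [← primeIdealOf_le_iff_specializes hU w z hw hz, hwQ']
    exact h3
  have hfw : f w = f z := by
    apply primeIdealOf_injective hV (f w) (f z) (e hw) (e hz)
    apply PrimeSpectrum.ext
    rw [primeIdealOf_comap f e w hw hU hV, primeIdealOf_comap f e z hz hU hV, hwQ']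
    apply le_antisymm
    · exact Ideal.comap_mono h3
    · rw [← primeIdealOf_comap f e z hz hU hV]
      exact Ideal.map_le_iff_le_comap.mp h2
  have := hmin w hξw hwz hfw
  rw [← hwQ']
  exact congrArg (fun t : ↥U => (hU.primeIdealOf t).asIdeal) (Subtype.ext this : (⟨w, hw⟩ : ↥U) = ⟨z, hz⟩)

end chart

section maximal

variable {X : Scheme.{u}} [IsLocallyNoetherian X] {U : X.Opens} (hU : IsAffineOpen U)

/-- In an affine chart of a locally Noetherian scheme, every point `x` is a specialization of a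
maximal point `ξ` with `ht(𝔭_x/𝔭_ξ) = ht 𝔭_x = dim O_{X,x}`. -/
theorem exists_maximal_point_chart (x : X) (hx : x ∈ U) :
    ∃ (ξ : X) (hξ : ξ ∈ U), ξ ⤳ x ∧ (∀ w : X, w ⤳ ξ → ξ ⤳ w) ∧
      ((hU.primeIdealOf ⟨x, hx⟩).asIdeal.map
        (Ideal.Quotient.mk (hU.primeIdealOf ⟨ξ, hξ⟩).asIdeal)).height =
        (hU.primeIdealOf ⟨x, hx⟩).asIdeal.height := by
  have hNB : IsNoetherianRing Γ(X, U) := IsLocallyNoetherian.component_noetherian ⟨U, hU⟩
  set 𝔭 := (hU.primeIdealOf ⟨x, hx⟩).asIdeal with h𝔭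
  have h𝔭p : 𝔭.IsPrime := (hU.primeIdealOf ⟨x, hx⟩).2
  obtain ⟨𝔭₀, h𝔭₀p, h𝔭₀le, hmin, hht⟩ := exists_le_height_map_quotient_eq 𝔭
  obtain ⟨ξ, hξU, hξ𝔭₀⟩ := exists_primeIdealOf_eq hU ⟨𝔭₀, h𝔭₀p⟩
  have hξ𝔭₀' : (hU.primeIdealOf ⟨ξ, hξU⟩).asIdeal = 𝔭₀ := congrArg PrimeSpectrum.asIdeal hξ𝔭₀
  have hspec : ξ ⤳ x := by
    rw [← primeIdealOf_le_iff_specializes hU ξ x hξU hx, hξ𝔭₀']
    exact h𝔭₀le
  have hmaxξ : ∀ y : X, y ⤳ ξ → ξ ⤳ y := by
    intro y hy
    have hyU : y ∈ U := hy.mem_open U.2 hξU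
    have h1 : (hU.primeIdealOf ⟨y, hyU⟩).asIdeal ≤ 𝔭₀ := by
      rw [← hξ𝔭₀']
      exact (primeIdealOf_le_iff_specializes hU y ξ hyU hξU).mpr hy
    have h2 := hmin _ (hU.primeIdealOf ⟨y, hyU⟩).2 h1
    have h3 : hU.primeIdealOf ⟨y, hyU⟩ = hU.primeIdealOf ⟨ξ, hξU⟩ := by
      apply PrimeSpectrum.ext
      rw [h2, hξ𝔭₀']
    rw [primeIdealOf_injective hU y ξ hyU hξU h3]
  refine ⟨ξ, hξU, hspec, hmaxξ, ?_⟩
  rw [hξ𝔭₀']
  exact le_antisymm (height_map_quotient_le _ _ h𝔭₀le) hht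

end maximal

section fibre

variable {X Y : Scheme.{u}} (f : X ⟶ Y) [LocallyOfFiniteType f]

/-- Every point `x` is a specialization of a maximal point `z` of its fibre with
`trdeg κ(z)/κ(f z) = dim_x X_{f x} = dim_z X_{f x}`; the local ring of the fibre at `z` has
dimension `0`. -/
theorem exists_maximal_point_fiber (x : X) :
    ∃ z : X, f z = f x ∧ z ⤳ x ∧ (∀ w : X, f w = f x → w ⤳ z → w = z) ∧
      ∃ n : ℕ, @Algebra.trdeg (Y.residueField (f z)) (X.residueField z) _ _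
          (f.residueFieldMap z).hom.toAlgebra = n ∧
        FlatMor.fibreDimAt f x = n ∧ FlatMor.fibreDimAt f z = n ∧
        ringKrullDim ((f.fiber (f z)).presheaf.stalk (f.asFiber z)) = 0 := by
  let K : Type u := Y.residueField (f x)
  let g : f.fiber (f x) ⟶ Spec (CommRingCat.of K) := f.fiberToSpecResidueField (f x)
  have hlft : LocallyOfFiniteType g :=
    MorphismProperty.pullback_snd (P := @LocallyOfFiniteType) _ _ ‹_›
  obtain ⟨z', hz'comp, hz'spec, hz'dim⟩ :=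
    exists_mem_irreducibleComponents_dim_eq_localDim g (f.asFiber x)
  have hfz : f (f.fiberι (f x) z') = f x := by
    have : f.fiberι (f x) z' ∈ Set.range (f.fiberι (f x)) := ⟨z', rfl⟩
    rw [f.range_fiberι] at this
    exact this
  obtain ⟨n, hn1, hn2⟩ := exists_dim_closure_fiber_eq_trdeg f (f x) z' (f.fiberι (f x) z') rfl
  have hFx : FlatMor.fibreDimAt f x = n := by
    rw [← hn1, hz'dim]
    rfl
  have hFz : FlatMor.fibreDimAt f (f.fiberι (f x) z') = n := by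
    rw [← localDim_fiber_eq_fibreDimAt f (f x) z',
      localDim_eq_dim_closure_of_mem_irreducibleComponents g z' hz'comp, hn1]
  refine ⟨f.fiberι (f x) z', hfz, ?_, ?_, n, hn2, hFx, hFz, ?_⟩
  · have := hz'spec.map (f.fiberι (f x)).continuous
    rwa [f.fiberι_asFiber] at this
  · intro w hw hwz
    have hwr : w ∈ Set.range (f.fiberι (f x)) := by
      rw [f.range_fiberι]
      exact hw
    obtain ⟨w', rfl⟩ := hwr
    have h1 : w' ⤳ z' := (f.fiberι (f x)).isEmbedding.isInducing.specializes_iff.mp hwz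
    have h2 : z' ⤳ w' := specializes_of_closure_mem_irreducibleComponents z' hz'comp w' h1
    rw [(h1.antisymm h2).eq]
  · obtain ⟨n', hn', hfd⟩ := fibreDimAt_eq_stalk_fiber_add_trdeg f (f.fiberι (f x) z')
    have hnn : n' = n := by
      have : ((n' : ℕ) : Cardinal) = ((n : ℕ) : Cardinal) := by rw [← hn', ← hn2]
      exact_mod_cast this
    rw [hFz, hnn] at hfd
    refine withBot_enat_add_left_cancel n ?_
    rw [add_zero, add_comm]
    exact hfd.symm

end fibre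

section finite

variable {X : Scheme.{u}} [IsLocallyNoetherian X] {U : X.Opens} (hU : IsAffineOpen U)

include hU in
/-- Relative heights in charts of locally Noetherian schemes are finite. -/
theorem exists_nat_height_map_quotient (ξ x : X) (hξ : ξ ∈ U) (hx : x ∈ U) (hspec : ξ ⤳ x) :
    ∃ c : ℕ, ((hU.primeIdealOf ⟨x, hx⟩).asIdeal.map
        (Ideal.Quotient.mk (hU.primeIdealOf ⟨ξ, hξ⟩).asIdeal)).height = c := by
  have hNB : IsNoetherianRing Γ(X, U) := IsLocallyNoetherian.component_noetherian ⟨U, hU⟩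
  have hp1 : (hU.primeIdealOf ⟨ξ, hξ⟩).asIdeal.IsPrime := (hU.primeIdealOf _).2
  have hp2 : (hU.primeIdealOf ⟨x, hx⟩).asIdeal.IsPrime := (hU.primeIdealOf _).2
  have hP : ((hU.primeIdealOf ⟨x, hx⟩).asIdeal.map
      (Ideal.Quotient.mk (hU.primeIdealOf ⟨ξ, hξ⟩).asIdeal)).IsPrime :=
    map_mk_isPrime_of_le _ _ ((primeIdealOf_le_iff_specializes hU ξ x hξ hx).mpr hspec)
  obtain ⟨c, hc⟩ := ENat.ne_top_iff_exists.mp
    (Ideal.height_ne_top_of_isPrime (I := (hU.primeIdealOf ⟨x, hx⟩).asIdeal.map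
      (Ideal.Quotient.mk (hU.primeIdealOf ⟨ξ, hξ⟩).asIdeal)))
  exact ⟨c, hc.symm⟩

/-- The local rings of a locally Noetherian scheme have finite dimension. -/
theorem exists_nat_ringKrullDim_stalk (x : X) :
    ∃ k : ℕ, ringKrullDim (X.presheaf.stalk x) = k := by
  obtain ⟨W, hW, hxW, -⟩ := exists_isAffineOpen_mem_and_subset (x := x) (U := ⊤) trivial
  have hNB : IsNoetherianRing Γ(X, W) := IsLocallyNoetherian.component_noetherian ⟨W, hW⟩
  have hp2 : (hW.primeIdealOf ⟨x, hxW⟩).asIdeal.IsPrime := (hW.primeIdealOf _).2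
  obtain ⟨c, hc⟩ := ENat.ne_top_iff_exists.mp
    (Ideal.height_ne_top_of_isPrime (I := (hW.primeIdealOf ⟨x, hxW⟩).asIdeal))
  refine ⟨c, ?_⟩
  rw [Groth.Agent.S4442.ringKrullDim_stalk_eq_height X hW x hxW, ← hc]
  rfl

omit [IsLocallyNoetherian X] in
/-- A point whose local ring has dimension zero is a maximal point. -/
theorem eq_of_specializes_of_ringKrullDim_stalk_eq_zero (z w : X)
    (h0 : ringKrullDim (X.presheaf.stalk z) = 0) (hwz : w ⤳ z) : w = z := by
  obtain ⟨W, hW, hzW, -⟩ := exists_isAffineOpen_mem_and_subset (x := z) (U := ⊤) trivial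
  have hwW : w ∈ W := hwz.mem_open W.2 hzW
  have hp2 : (hW.primeIdealOf ⟨z, hzW⟩).asIdeal.IsPrime := (hW.primeIdealOf _).2
  rw [Groth.Agent.S4442.ringKrullDim_stalk_eq_height X hW z hzW] at h0
  have h1 : (hW.primeIdealOf ⟨z, hzW⟩).asIdeal.height = 0 := by exact_mod_cast h0
  rw [Ideal.height_eq_zero_iff] at h1
  have h2 : (hW.primeIdealOf ⟨w, hwW⟩).asIdeal ≤ (hW.primeIdealOf ⟨z, hzW⟩).asIdeal :=
    (primeIdealOf_le_iff_specializes hW w z hwW hzW).mpr hwz
  have h3 := h1.2 ⟨(hW.primeIdealOf ⟨w, hwW⟩).2, bot_le⟩ h2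
  exact primeIdealOf_injective hW w z hwW hzW (PrimeSpectrum.ext (le_antisymm h2 h3))

end finite

section general

variable {X Y : Scheme.{u}} [IsLocallyNoetherian Y] (f : X ⟶ Y) [LocallyOfFiniteType f]

/-- `dim O_{X,x} ≤ dim O_{Y,f x} + dim O_{X_{f x},x}`. -/
theorem ringKrullDim_stalk_le_add_stalk_fiber (x : X) :
    ringKrullDim (X.presheaf.stalk x) ≤ ringKrullDim (Y.presheaf.stalk (f x)) +
      ringKrullDim ((f.fiber (f x)).presheaf.stalk (f.asFiber x)) := by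
  have hX : IsLocallyNoetherian X := LocallyOfFiniteType.isLocallyNoetherian f
  have h := Groth.Agent.S3447.dim_stalk_le f (f x) (f.asFiber x)
  have hx : (f.fiberι (f x)) (f.asFiber x) = x := f.fiberι_asFiber x
  have h1 := congrArg (fun z => ringKrullDim (X.presheaf.stalk z)) hx
  have h2 := congrArg (fun z => ringKrullDim (Y.presheaf.stalk (f z))) hx
  simp only at h1 h2
  rw [h1, h2] at h
  exact h

/-- Cancellation of a natural number on the right in `WithBot ℕ∞`. -/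
theorem withBot_enat_add_right_cancel (n : ℕ) {a b : WithBot ℕ∞}
    (h : a + (n : WithBot ℕ∞) = b + (n : WithBot ℕ∞)) : a = b := by
  refine withBot_enat_add_left_cancel n ?_
  rw [add_comm, h, add_comm]

/-- **Lemma B.**  Suppose `O_{Y,f x}` is universally catenary and `z` is a generization of `x` in
the fibre through `x` with `dim O_{X,z} = dim O_{Y,f x}` and
`trdeg κ(z)/κ(f z) = dim_x X_{f x}`. Then `dim O_{X,x} = dim O_{Y,f x} + dim O_{X_{f x},x}`. -/
theorem ringKrullDim_stalk_eq_add_of_exists (x z : X)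
    (hcat : CAlg.IsUniversallyCatenary (Y.presheaf.stalk (f x))) (hfz : f z = f x) (hzx : z ⤳ x)
    (hdimz : ringKrullDim (X.presheaf.stalk z) = ringKrullDim (Y.presheaf.stalk (f x)))
    (n : ℕ) (hnz : @Algebra.trdeg (Y.residueField (f z)) (X.residueField z) _ _
      (f.residueFieldMap z).hom.toAlgebra = n)
    (hFx : FlatMor.fibreDimAt f x = n) :
    ringKrullDim (X.presheaf.stalk x) = ringKrullDim (Y.presheaf.stalk (f x)) +
      ringKrullDim ((f.fiber (f x)).presheaf.stalk (f.asFiber x)) := by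
  have hX : IsLocallyNoetherian X := LocallyOfFiniteType.isLocallyNoetherian f
  obtain ⟨V, hV, hfxV, -⟩ := exists_isAffineOpen_mem_and_subset (x := f x) (U := ⊤) trivial
  obtain ⟨U, hU, hxU, e⟩ := exists_isAffineOpen_mem_and_subset (x := x) (U := f ⁻¹ᵁ V) hfxV
  have hzU : z ∈ U := hzx.mem_open U.2 hxU
  obtain ⟨ξ, hξU, hξz, -, hcz⟩ := exists_maximal_point_chart hU z hzU
  have hξx : ξ ⤳ x := hξz.trans hzx
  obtain ⟨nx, hnx, hfd⟩ := fibreDimAt_eq_stalk_fiber_add_trdeg f x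
  obtain ⟨nξ, hnξ⟩ := exists_trdeg_residueField_eq_natCast f ξ
  have hcat' : CAlg.IsUniversallyCatenary (Y.presheaf.stalk (f z)) := by rw [hfz]; exact hcat
  have E1 := chart_height_add_trdeg_eq_local f hV hU e ξ z hξU hzU hξz hcat' n nξ hnz hnξ
  have E2 := chart_height_add_trdeg_eq_local f hV hU e ξ x hξU hxU hξx hcat nx nξ hnx hnξ
  have hbase : hV.primeIdealOf ⟨f z, e hzU⟩ = hV.primeIdealOf ⟨f x, e hxU⟩ :=
    congrArg hV.primeIdealOf (Subtype.ext hfz)
  rw [hbase] at E1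
  obtain ⟨cz, hcz'⟩ := exists_nat_height_map_quotient hU ξ z hξU hzU hξz
  obtain ⟨cx, hcx'⟩ := exists_nat_height_map_quotient hU ξ x hξU hxU hξx
  obtain ⟨h, hh'⟩ := exists_nat_height_map_quotient hV (f ξ) (f x) (e hξU) (e hxU)
    (hξx.map f.continuous)
  rw [hcz', hh'] at E1
  rw [hcx', hh'] at E2
  have E1n : cz + n = h + nξ := by exact_mod_cast E1
  have E2n : cx + nx = h + nξ := by exact_mod_cast E2
  -- `D = cz`
  have hD : ringKrullDim (Y.presheaf.stalk (f x)) = (cz : WithBot ℕ∞) := by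
    rw [← hdimz, Groth.Agent.S4442.ringKrullDim_stalk_eq_height X hU z hzU, ← hcz, hcz']
    rfl
  -- `cx ≤ dim O_{X,x}`
  have hcxle : (cx : WithBot ℕ∞) ≤ ringKrullDim (X.presheaf.stalk x) := by
    rw [Groth.Agent.S4442.ringKrullDim_stalk_eq_height X hU x hxU]
    have hp : (hU.primeIdealOf ⟨x, hxU⟩).asIdeal.IsPrime := (hU.primeIdealOf _).2
    have := height_map_quotient_le (hU.primeIdealOf ⟨ξ, hξU⟩).asIdeal
      (hU.primeIdealOf ⟨x, hxU⟩).asIdeal ((primeIdealOf_le_iff_specializes hU ξ x hξU hxU).mpr hξx)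
    rw [hcx'] at this
    exact_mod_cast WithBot.coe_le_coe.mpr this
  rw [hFx] at hfd
  set δ := ringKrullDim ((f.fiber (f x)).presheaf.stalk (f.asFiber x)) with hδ
  have hkey : (cz : WithBot ℕ∞) + δ = (cx : WithBot ℕ∞) := by
    refine withBot_enat_add_right_cancel nx ?_
    rw [add_assoc, ← hfd]
    have : cz + n = cx + nx := by omega
    exact_mod_cast this
  apply le_antisymm (ringKrullDim_stalk_le_add_stalk_fiber f x)
  rw [hD, hkey]
  exact hcxle

omit [IsLocallyNoetherian Y] [LocallyOfFiniteType f] in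
/-- Local fibre dimension is monotone along specializations inside a fibre. -/
theorem fibreDimAt_le_of_specializes (z x : X) (hfz : f z = f x) (hzx : z ⤳ x) :
    FlatMor.fibreDimAt f z ≤ FlatMor.fibreDimAt f x := by
  have hzr : z ∈ Set.range (f.fiberι (f x)) := by
    rw [f.range_fiberι]
    exact hfz
  obtain ⟨z', hz'⟩ := hzr
  rw [← localDim_fiber_eq_fibreDimAt' f (f x) z hfz z' hz']
  change _ ≤ FlatMor.localDim ↥(f.fiber (f x)) (f.asFiber x)
  apply localDim_le_of_specializes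
  rw [← (f.fiberι (f x)).isEmbedding.isInducing.specializes_iff, hz', f.fiberι_asFiber]
  exact hzx

omit [IsLocallyNoetherian Y] in
/-- The local rings of the fibres of a morphism locally of finite type have finite dimension. -/
theorem exists_nat_ringKrullDim_stalk_fiber (x : X) :
    ∃ d : ℕ, ringKrullDim ((f.fiber (f x)).presheaf.stalk (f.asFiber x)) = d := by
  have hN := isNoetherianRing_stalk_fiber f (f x) (f.asFiber x)
  rw [← IsLocalRing.maximalIdeal_height_eq_ringKrullDim]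
  obtain ⟨c, hc⟩ := ENat.ne_top_iff_exists.mp (Ideal.height_ne_top_of_isPrime
    (I := IsLocalRing.maximalIdeal ((f.fiber (f x)).presheaf.stalk (f.asFiber x))))
  exact ⟨c, by rw [← hc]; rfl⟩

/-- **Lemma C.**  Suppose `O_{Y,f x}` is universally catenary and
`dim O_{X,x} = dim O_{Y,f x} + dim O_{X_{f x},x}`. Then there is a maximal point `z` of the fibre
through `x`, generizing `x`, with `dim_z X_{f x} = dim_x X_{f x}` and
`dim O_{X,z} = dim O_{Y,f x}`. -/
theorem exists_maximal_fiber_point_of_ringKrullDim_stalk_eq_add (x : X)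
    (hcat : CAlg.IsUniversallyCatenary (Y.presheaf.stalk (f x)))
    (hE : ringKrullDim (X.presheaf.stalk x) = ringKrullDim (Y.presheaf.stalk (f x)) +
      ringKrullDim ((f.fiber (f x)).presheaf.stalk (f.asFiber x))) :
    ∃ z : X, f z = f x ∧ z ⤳ x ∧ (∀ w : X, f w = f x → w ⤳ z → w = z) ∧
      FlatMor.fibreDimAt f z = FlatMor.fibreDimAt f x ∧
      ringKrullDim (X.presheaf.stalk z) = ringKrullDim (Y.presheaf.stalk (f z)) := by
  have hX : IsLocallyNoetherian X := LocallyOfFiniteType.isLocallyNoetherian f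
  obtain ⟨V, hV, hfxV, -⟩ := exists_isAffineOpen_mem_and_subset (x := f x) (U := ⊤) trivial
  obtain ⟨U, hU, hxU, e⟩ := exists_isAffineOpen_mem_and_subset (x := x) (U := f ⁻¹ᵁ V) hfxV
  obtain ⟨ξ, hξU, hξx, -, hcx⟩ := exists_maximal_point_chart hU x hxU
  -- the point `z`
  let T : Set X := closure {ξ} ∩ f ⁻¹' closure {f x}
  have hT : IsClosed T := isClosed_closure.inter (isClosed_closure.preimage f.continuous)
  have hxT : x ∈ T := ⟨specializes_iff_mem_closure.mp hξx, subset_closure rfl⟩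
  obtain ⟨z, hzT, hzx, hzmax⟩ := exists_maximal_point_specializes T hT x hxT
  have hξz : ξ ⤳ z := specializes_iff_mem_closure.mpr hzT.1
  have hfz : f z = f x := by
    have h1 : f z ⤳ f x := hzx.map f.continuous
    have h2 : f x ⤳ f z := specializes_iff_mem_closure.mpr hzT.2
    exact (h1.antisymm h2).eq
  have hzU : z ∈ U := hzx.mem_open U.2 hxU
  have hmin : ∀ w : X, ξ ⤳ w → w ⤳ z → f w = f z → w = z := by
    intro w h1 h2 h3
    have hwT : w ∈ T := ⟨specializes_iff_mem_closure.mp h1, by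
      change f w ∈ closure {f x}
      rw [h3, hfz]
      exact subset_closure rfl⟩
    exact (h2.antisymm (hzmax w hwT h2)).eq
  have hK := chart_height_le_of_minimal f hV hU e ξ z hξU hzU hξz hmin
  obtain ⟨nx, hnx, hfdx⟩ := fibreDimAt_eq_stalk_fiber_add_trdeg f x
  obtain ⟨nz, hnz, hfdz⟩ := fibreDimAt_eq_stalk_fiber_add_trdeg f z
  obtain ⟨nξ, hnξ⟩ := exists_trdeg_residueField_eq_natCast f ξ
  have hcat' : CAlg.IsUniversallyCatenary (Y.presheaf.stalk (f z)) := by rw [hfz]; exact hcat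
  have E1 := chart_height_add_trdeg_eq_local f hV hU e ξ z hξU hzU hξz hcat' nz nξ hnz hnξ
  have E2 := chart_height_add_trdeg_eq_local f hV hU e ξ x hξU hxU hξx hcat nx nξ hnx hnξ
  have hbase : hV.primeIdealOf ⟨f z, e hzU⟩ = hV.primeIdealOf ⟨f x, e hxU⟩ :=
    congrArg hV.primeIdealOf (Subtype.ext hfz)
  rw [hbase] at E1 hK
  obtain ⟨cz, hcz'⟩ := exists_nat_height_map_quotient hU ξ z hξU hzU hξz
  obtain ⟨cx, hcx'⟩ := exists_nat_height_map_quotient hU ξ x hξU hxU hξx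
  obtain ⟨h, hh'⟩ := exists_nat_height_map_quotient hV (f ξ) (f x) (e hξU) (e hxU)
    (hξx.map f.continuous)
  rw [hcz', hh'] at E1 hK
  rw [hcx', hh'] at E2
  have E1n : cz + nz = h + nξ := by exact_mod_cast E1
  have E2n : cx + nx = h + nξ := by exact_mod_cast E2
  have hKn : cz ≤ h := by exact_mod_cast hK
  obtain ⟨D, hD⟩ := exists_nat_ringKrullDim_stalk (f x)
  obtain ⟨dx, hdx⟩ := exists_nat_ringKrullDim_stalk_fiber f x
  obtain ⟨dz, hdz⟩ := exists_nat_ringKrullDim_stalk_fiber f z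
  -- `h ≤ D`
  have hhD : h ≤ D := by
    have hp : (hV.primeIdealOf ⟨f x, e hxU⟩).asIdeal.IsPrime := (hV.primeIdealOf _).2
    have h1 := height_map_quotient_le (hV.primeIdealOf ⟨f ξ, e hξU⟩).asIdeal
      (hV.primeIdealOf ⟨f x, e hxU⟩).asIdeal
      ((primeIdealOf_le_iff_specializes hV (f ξ) (f x) (e hξU) (e hxU)).mpr
        (hξx.map f.continuous))
    rw [hh'] at h1
    have h2 : ((h : ℕ∞) : WithBot ℕ∞) ≤ ringKrullDim (Y.presheaf.stalk (f x)) := by
      rw [Groth.Agent.S4442.ringKrullDim_stalk_eq_height Y hV (f x) (e hxU)]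
      exact WithBot.coe_le_coe.mpr h1
    rw [hD] at h2
    exact_mod_cast h2
  -- `cx = D + dx`
  have hcxD : cx = D + dx := by
    have h1 : ringKrullDim (X.presheaf.stalk x) = (cx : WithBot ℕ∞) := by
      rw [Groth.Agent.S4442.ringKrullDim_stalk_eq_height X hU x hxU, ← hcx, hcx']
      rfl
    rw [h1, hD, hdx] at hE
    exact_mod_cast hE
  -- `F_z ≤ F_x`
  have hFle := fibreDimAt_le_of_specializes f z x hfz hzx
  rw [hfdz, hfdx, hdz, hdx] at hFle
  have hFn : dz + nz ≤ dx + nx := by exact_mod_cast hFle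
  have hdz0 : dz = 0 := by omega
  have hnzξ : nz = dx + nx := by omega
  have hczD : cz = D := by omega
  refine ⟨z, hfz, hzx, ?_, ?_, ?_⟩
  · intro w hw hwz
    have hwr : w ∈ Set.range (f.fiberι (f z)) := by
      rw [f.range_fiberι]
      exact hw.trans hfz.symm
    obtain ⟨w', rfl⟩ := hwr
    have hlft : LocallyOfFiniteType (f.fiberToSpecResidueField (f z)) :=
      MorphismProperty.pullback_snd (P := @LocallyOfFiniteType) _ _ ‹_›
    have h1 : w' ⤳ f.asFiber z := by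
      rw [← (f.fiberι (f z)).isEmbedding.isInducing.specializes_iff, f.fiberι_asFiber]
      exact hwz
    have h2 := eq_of_specializes_of_ringKrullDim_stalk_eq_zero (f.asFiber z) w'
      (by rw [hdz, hdz0]; rfl) h1
    rw [h2, f.fiberι_asFiber]
  · rw [hfdz, hfdx, hdz, hdx, hdz0, hnzξ]
    push_cast
    ring
  · have h2 := congrArg (fun t => ringKrullDim (Y.presheaf.stalk t)) hfz
    simp only at h2
    rw [h2, hD]
    apply le_antisymm
    · have h3 := ringKrullDim_stalk_le_add_stalk_fiber f z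
      rw [h2, hD, hdz, hdz0] at h3
      simpa using h3
    · rw [Groth.Agent.S4442.ringKrullDim_stalk_eq_height X hU z hzU]
      have hp : (hU.primeIdealOf ⟨z, hzU⟩).asIdeal.IsPrime := (hU.primeIdealOf _).2
      have h1 := height_map_quotient_le (hU.primeIdealOf ⟨ξ, hξU⟩).asIdeal
        (hU.primeIdealOf ⟨z, hzU⟩).asIdeal
        ((primeIdealOf_le_iff_specializes hU ξ z hξU hzU).mpr hξz)
      rw [hcz', hczD] at h1
      exact_mod_cast WithBot.coe_le_coe.mpr h1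

end general

end Groth.Agent.Lib.Helper55
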