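import Groth.Prelude.Def_AlgSpInf

/-! Helper lemmas on infinitesimal lifting squares `AlgSp.InfSq` (helper55). -/

set_option autoImplicit false
universe u
open CategoryTheory CategoryTheory.Limits AlgebraicGeometry

namespace Groth.Agent.Lib.Helper55

open AlgSp

variable {S : Scheme.{u}}

/-- Replace the morphism, the top and the bottom arrow of an infinitesimal square, keeping the
thickening of affine schemes. -/
noncomputable def InfSq.change {F G F' G' : AlgSp.Sp S} {f : F ⟶ G} (sq : AlgSp.InfSq f) (f' : F' ⟶ G')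
    (top' : (yon S).obj sq.ptT ⟶ F') (bot' : (yon S).obj sq.ptT' ⟶ G')
    (comm' : top' ≫ f' = (yon S).map sq.j ≫ bot') : AlgSp.InfSq f' where
  A := sq.A
  I := sq.I
  sq_zero := sq.sq_zero
  str := sq.str
  top := top'
  bot := bot'
  comm := comm'

theorem InfSq.change_hasLift_iff {F G F' G' : AlgSp.Sp S} {f : F ⟶ G} (sq : AlgSp.InfSq f) (f' : F' ⟶ G')
    (top' : (yon S).obj sq.ptT ⟶ F') (bot' : (yon S).obj sq.ptT' ⟶ G')
    (comm' : top' ≫ f' = (yon S).map sq.j ≫ bot') :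
    (InfSq.change sq f' top' bot' comm').HasLift ↔
      ∃ l : (yon S).obj sq.ptT' ⟶ F', (yon S).map sq.j ≫ l = top' ∧ l ≫ f' = bot' := Iff.rfl

theorem InfSq.change_hasUniq_iff {F G F' G' : AlgSp.Sp S} {f : F ⟶ G} (sq : AlgSp.InfSq f) (f' : F' ⟶ G')
    (top' : (yon S).obj sq.ptT ⟶ F') (bot' : (yon S).obj sq.ptT' ⟶ G')
    (comm' : top' ≫ f' = (yon S).map sq.j ≫ bot') :
    (InfSq.change sq f' top' bot' comm').HasUniq ↔
      ∀ l l' : (yon S).obj sq.ptT' ⟶ F', (yon S).map sq.j ≫ l = top' → l ≫ f' = bot' →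
        (yon S).map sq.j ≫ l' = top' → l' ≫ f' = bot' → l = l' := Iff.rfl

theorem hasUniqLift_iff {F G : AlgSp.Sp S} {f : F ⟶ G} (sq : AlgSp.InfSq f) :
    sq.HasUniqLift ↔ sq.HasLift ∧ sq.HasUniq := by
  constructor
  · rintro ⟨l, ⟨h1, h2⟩, huniq⟩
    refine ⟨⟨l, h1, h2⟩, fun m m' hm1 hm2 hm1' hm2' => ?_⟩
    rw [huniq m ⟨hm1, hm2⟩, huniq m' ⟨hm1', hm2'⟩]
  · rintro ⟨⟨l, h1, h2⟩, huniq⟩
    exact ⟨l, ⟨h1, h2⟩, fun m hm => huniq m l hm.1 hm.2 h1 h2⟩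

theorem isFormallyEtaleMor_iff {F G : AlgSp.Sp S} (f : F ⟶ G) :
    AlgSp.IsFormallyEtaleMor f ↔ AlgSp.IsFormallySmoothMor f ∧ AlgSp.IsFormallyUnramifiedMor f := by
  constructor
  · intro h
    exact ⟨fun sq => ((hasUniqLift_iff sq).1 (h sq)).1, fun sq => ((hasUniqLift_iff sq).1 (h sq)).2⟩
  · rintro ⟨h1, h2⟩ sq
    exact (hasUniqLift_iff sq).2 ⟨h1 sq, h2 sq⟩

end Groth.Agent.Lib.Helper55
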