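import Groth.Agent.Lib.Helper55.DimSup
import Groth.Agent.Lib.Helper55.DimPoint

/-! A finite dimension of a closed subset of a sober space is attained by the closure of a point
(helper55). -/

set_option autoImplicit false

namespace Groth.Agent.Lib.Helper55

open Topology

/-- A supremum in `WithBot ℕ∞` which is a natural number is attained. -/
theorem exists_eq_of_iSup_eq_natCast {ι : Sort*} (f : ι → WithBot ℕ∞) (r : ℕ)
    (h : ⨆ i, f i = (r : WithBot ℕ∞)) : ∃ i, f i = r := by
  by_contra hcon
  push Not at hcon
  have hlt : ∀ i, f i < (r : WithBot ℕ∞) := fun i =>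
    lt_of_le_of_ne (h ▸ le_iSup f i) (hcon i)
  rcases Nat.eq_zero_or_pos r with rfl | hpos
  · have hbot : ∀ i, f i = ⊥ := by
      intro i
      have h1 := hlt i
      have h0 : ((0 : ℕ) : WithBot ℕ∞) = 0 := rfl
      rw [h0] at h1
      exact (WithBot.lt_coe_bot).mp h1
    simp only [hbot, iSup_bot] at h
    exact absurd h (by simp)
  · obtain ⟨m, rfl⟩ : ∃ m, r = m + 1 := ⟨r - 1, by omega⟩
    have hle : ∀ i, f i ≤ (m : WithBot ℕ∞) := by
      intro i
      have h1 := hlt i
      generalize f i = a at h1 ⊢
      induction a with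
      | bot => exact bot_le
      | coe a =>
        have h' : a < ((m + 1 : ℕ) : ℕ∞) := by exact_mod_cast h1
        have h'' : a ≤ (m : ℕ∞) := by
          rw [Nat.cast_add, Nat.cast_one] at h'
          exact (ENat.lt_add_one_iff (ENat.natCast_ne_top m)).mp h'
        exact_mod_cast h''
    have h2 : ⨆ i, f i ≤ (m : WithBot ℕ∞) := iSup_le hle
    rw [h] at h2
    have h3 : (m + 1 : ℕ) ≤ m := by exact_mod_cast h2
    omega

variable {X : Type*} [TopologicalSpace X]

/-- In a closed subspace, the closure of a point has the same dimension as its closure in the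
ambient space. -/
theorem topologicalKrullDim_closure_subtype (Z : Set X) (hZ : IsClosed Z) (w : ↥Z) :
    topologicalKrullDim ↥(closure ({w} : Set ↥Z)) =
      topologicalKrullDim ↥(closure ({w.1} : Set X)) := by
  have h1 := topologicalKrullDim_closure_inter_range_eq (Subtype.val : ↥Z → X)
    IsEmbedding.subtypeVal w
  rw [← h1, Subtype.range_coe]
  have h2 : closure ({w.1} : Set X) ∩ Z = closure ({w.1} : Set X) :=
    Set.inter_eq_left.mpr (closure_minimal (by rintro _ rfl; exact w.2) hZ)
  rw [h2]

/-- If a closed subset `Z` of a sober space has dimension `r ∈ ℕ`, then some point of `Z` has a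
closure of dimension `r`. -/
theorem exists_topologicalKrullDim_closure_eq [QuasiSober X] [T0Space X] (Z : Set X)
    (hZ : IsClosed Z) (r : ℕ) (h : topologicalKrullDim ↥Z = r) :
    ∃ x ∈ Z, topologicalKrullDim ↥(closure ({x} : Set X)) = r := by
  have : QuasiSober ↥Z := hZ.isClosedEmbedding_subtypeVal.quasiSober
  rw [topologicalKrullDim_eq_iSup_closure (X := ↥Z)] at h
  obtain ⟨w, hw⟩ := exists_eq_of_iSup_eq_natCast _ r h
  exact ⟨w.1, w.2, (topologicalKrullDim_closure_subtype Z hZ w) ▸ hw⟩

end Groth.Agent.Lib.Helper55
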