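import Groth.Agent.S10838
import Mathlib.AlgebraicGeometry.Properties

/-! The dimension of a scheme is the supremum of the dimensions of its local rings (helper55). -/

set_option autoImplicit false

namespace Groth.Agent.Lib.Helper55

open AlgebraicGeometry Order

universe u

/-- The order-theoretic Krull dimension of the points of a scheme (specialization order) is the
dimension of the underlying space. -/
theorem topologicalKrullDim_eq_krullDim_scheme (X : Scheme.{u}) :
    topologicalKrullDim ↥X = krullDim ↥X := by
  have h1 : topologicalKrullDim ↥X = krullDim (Specialization ↥X) :=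
    le_antisymm (Groth.Agent.S10838.topologicalKrullDim_le_specialization _)
      (Groth.Agent.S10838.krullDim_specialization_le _)
  rw [h1]
  rfl

/-- **The dimension of a scheme is the supremum of the dimensions of its local rings.** -/
theorem topologicalKrullDim_eq_iSup_ringKrullDim_stalk (X : Scheme.{u}) :
    topologicalKrullDim ↥X = ⨆ x : X, ringKrullDim (X.presheaf.stalk x) := by
  rw [topologicalKrullDim_eq_krullDim_scheme, krullDim_eq_iSup_coheight]
  exact iSup_congr fun x => (ringKrullDim_stalk_eq_coheight x).symm

theorem ringKrullDim_stalk_le_topologicalKrullDim (X : Scheme.{u}) (x : X) :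
    ringKrullDim (X.presheaf.stalk x) ≤ topologicalKrullDim ↥X := by
  rw [topologicalKrullDim_eq_iSup_ringKrullDim_stalk]
  exact le_iSup (fun x : X => ringKrullDim (X.presheaf.stalk x)) x

end Groth.Agent.Lib.Helper55
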