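import Groth.Agent.Lib.Helper55.Equidim
import Groth.Agent.Lib.Helper55.DimStalk
import Groth.Agent.Lib.Helper55.DimAttained
import Groth.Agent.Lib.Helper55.GroupLocalDim
import Mathlib.AlgebraicGeometry.Morphisms.UniversallyOpen

/-! Local dimension along a flat morphism of relative dimension `d` between locally Noetherian
schemes (helper55). -/

set_option autoImplicit false

universe u

namespace Groth.Agent.Lib.Helper55

open CategoryTheory CategoryTheory.Limits AlgebraicGeometry

section opens

/-- The dimension of an open subset of a scheme is the supremum of the dimensions of the local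
rings at its points. -/
theorem topologicalKrullDim_opens_eq_iSup_stalk {X : Scheme.{u}} (U : X.Opens) :
    topologicalKrullDim ↥(U : Set X) =
      ⨆ a : ↥(U : Set X), ringKrullDim (X.presheaf.stalk a.1) := by
  have h := topologicalKrullDim_eq_iSup_ringKrullDim_stalk (U : Scheme.{u})
  refine h.trans ?_
  refine iSup_congr fun a => ?_
  exact (ringKrullDim_eq_of_ringEquiv
    (asIso (U.ι.stalkMap a)).commRingCatIsoToRingEquiv).symm

/-- A nonempty open subset of a space with constant local dimension `m` has dimension `m`. -/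
theorem topologicalKrullDim_opens_eq_of_localDim_eq {T : Type*} [TopologicalSpace T]
    (m : WithBot ℕ∞) (h : ∀ t : T, FlatMor.localDim T t = m) (W : TopologicalSpace.Opens T)
    (hW : (W : Set T).Nonempty) : topologicalKrullDim ↥(W : Set T) = m := by
  rw [topologicalKrullDim_eq_iSup_localDim]
  have hloc : ∀ w : ↥(W : Set T), FlatMor.localDim ↥(W : Set T) w = m := fun w =>
    (localDim_eq_of_isOpenEmbedding (Subtype.val : ↥(W : Set T) → T)
      W.2.isOpenEmbedding_subtypeVal w).trans (h w.1)
  have : Nonempty ↥(W : Set T) := hW.to_subtype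
  simp_rw [hloc]
  exact ciSup_const

end opens

section flat

variable {X Y : Scheme.{u}} [IsLocallyNoetherian X] [IsLocallyNoetherian Y] (f : X ⟶ Y) [Flat f]
  [LocallyOfFiniteType f] (d : ℕ)
  (hd : ∀ y : Y, ∀ T ∈ irreducibleComponents ↥(f.fiber y),
    topologicalKrullDim ↥T = (d : WithBot ℕ∞))

include hd in
omit [IsLocallyNoetherian X] [IsLocallyNoetherian Y] [Flat f] in
/-- If all irreducible components of all fibres have dimension `d`, the fibres have local dimension
`d` everywhere. -/
theorem localDim_fiber_eq_of_hasRelDim (y : Y) (z : ↥(f.fiber y)) :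
    FlatMor.localDim ↥(f.fiber y) z = (d : WithBot ℕ∞) := by
  have hlft : LocallyOfFiniteType (f.fiberToSpecResidueField y) :=
    MorphismProperty.pullback_snd (P := @LocallyOfFiniteType) _ _ ‹_›
  exact (forall_irreducibleComponents_dim_eq_iff (k := ↑(Y.residueField y))
    (f.fiberToSpecResidueField y) (d : WithBot ℕ∞)).mp (hd y) z

include hd in
/-- **Key identity**: for a flat morphism of relative dimension `d` between locally Noetherian
schemes and an open `U` of the source, `dim U = dim f(U) + d`. -/
theorem topologicalKrullDim_opens_eq_image_add (U : X.Opens) (V : Y.Opens)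
    (hV : (V : Set Y) = f '' (U : Set X)) :
    topologicalKrullDim ↥(U : Set X) = topologicalKrullDim ↥(V : Set Y) + (d : WithBot ℕ∞) := by
  rw [topologicalKrullDim_opens_eq_iSup_stalk U, topologicalKrullDim_opens_eq_iSup_stalk V]
  apply le_antisymm
  · refine iSup_le fun a => ?_
    have h5 := dim_stalk_eq_of_flat f (f a.1) (f.asFiber a.1)
    have hx : (f.fiberι (f a.1)) (f.asFiber a.1) = a.1 := f.fiberι_asFiber a.1
    have h1 := congrArg (fun z => ringKrullDim (X.presheaf.stalk z)) hx
    have h2 := congrArg (fun z => ringKrullDim (Y.presheaf.stalk (f z))) hx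
    simp only at h1 h2
    rw [h1, h2] at h5
    rw [h5]
    have hfa : f a.1 ∈ (V : Set Y) := by rw [hV]; exact ⟨a.1, a.2, rfl⟩
    refine add_le_add (le_iSup (fun b : ↥(V : Set Y) => ringKrullDim (Y.presheaf.stalk b.1))
      ⟨f a.1, hfa⟩) ?_
    refine (ringKrullDim_stalk_le_topologicalKrullDim _ _).trans ?_
    rw [topologicalKrullDim_eq_iSup_localDim]
    exact iSup_le fun z => (localDim_fiber_eq_of_hasRelDim f d hd (f a.1) z).le
  · have hconst : (d : WithBot ℕ∞) = ⨆ _ : Unit, (d : WithBot ℕ∞) := (iSup_const).symm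
    rw [hconst]
    refine iSup_add_iSup_le_withBot _ _ _ ?_
    rintro ⟨b, hb⟩ ⟨⟩
    rw [hV] at hb
    obtain ⟨a₀, ha₀U, ha₀b⟩ := hb
    -- the open subset of the fibre over `b` lying in `U`
    set W : (f.fiber b).Opens := (f.fiberι b) ⁻¹ᵁ U with hWdef
    have hWne : (W : Set ↥(f.fiber b)).Nonempty := by
      refine ⟨(f.fiberHomeo b).symm ⟨a₀, ha₀b⟩, ?_⟩
      change f.fiberι b ((f.fiberHomeo b).symm ⟨a₀, ha₀b⟩) ∈ U
      rw [f.fiberι_fiberHomeo_symm]
      exact ha₀U
    have hWdim := topologicalKrullDim_opens_eq_of_localDim_eq (d : WithBot ℕ∞)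
      (localDim_fiber_eq_of_hasRelDim f d hd b) W hWne
    rw [topologicalKrullDim_opens_eq_iSup_stalk W] at hWdim
    obtain ⟨w, hw⟩ := exists_eq_of_iSup_eq_natCast _ d hWdim
    have h5 := dim_stalk_eq_of_flat f b w.1
    have hfb : f (f.fiberι b w.1) = b := by
      have : f.fiberι b w.1 ∈ Set.range (f.fiberι b) := ⟨w.1, rfl⟩
      rw [f.range_fiberι b] at this
      exact this
    have h2 := congrArg (fun z => ringKrullDim (Y.presheaf.stalk z)) hfb
    simp only at h2
    rw [h2, hw] at h5
    change ringKrullDim (Y.presheaf.stalk b) + (d : WithBot ℕ∞) ≤ _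
    rw [← h5]
    exact le_iSup (fun a : ↥(U : Set X) => ringKrullDim (X.presheaf.stalk a.1))
      ⟨f.fiberι b w.1, w.2⟩

include hd in
/-- **Local dimension formula**: for a flat morphism locally of finite type and of relative
dimension `d` between locally Noetherian schemes, `dim_x X = dim_{f x} Y + d`. -/
theorem localDim_eq_add_of_flat_of_hasRelDim (x : X) :
    FlatMor.localDim ↥X x = FlatMor.localDim ↥Y (f x) + (d : WithBot ℕ∞) := by
  have hopen : IsOpenMap f := isOpenMap_of_generalizingMap f (Flat.generalizingMap f)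
  apply le_antisymm
  · -- the infimum defining the local dimension of `Y` at `f x` is attained
    have : Nonempty {V : TopologicalSpace.Opens Y // f x ∈ V} := ⟨⟨⊤, trivial⟩⟩
    obtain ⟨V₀, hV₀⟩ := ciInf_mem (fun V : {V : TopologicalSpace.Opens Y // f x ∈ V} =>
      topologicalKrullDim (V.1 : Set Y))
    have hV₀' : topologicalKrullDim (V₀.1 : Set Y) = FlatMor.localDim ↥Y (f x) := hV₀
    set U₀ : X.Opens := f ⁻¹ᵁ V₀.1 with hU₀
    have hxU₀ : x ∈ U₀ := V₀.2
    refine le_trans (iInf_le (fun U : {U : TopologicalSpace.Opens X // x ∈ U} =>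
      topologicalKrullDim (U.1 : Set X)) ⟨U₀, hxU₀⟩) ?_
    have h1 := topologicalKrullDim_opens_eq_image_add f d hd U₀
      ⟨f '' (U₀ : Set X), hopen _ U₀.2⟩ rfl
    change topologicalKrullDim ↥(U₀ : Set X) ≤ _
    rw [h1, ← hV₀']
    refine add_le_add_left ?_ _
    refine topologicalKrullDim_mono_set ?_
    rintro _ ⟨a, ha, rfl⟩
    exact ha
  · refine le_iInf fun U => ?_
    have h1 := topologicalKrullDim_opens_eq_image_add f d hd U.1
      ⟨f '' (U.1 : Set X), hopen _ U.1.2⟩ rfl
    change _ ≤ topologicalKrullDim ↥(U.1 : Set X)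
    rw [h1]
    refine add_le_add_left ?_ _
    exact iInf_le (fun V : {V : TopologicalSpace.Opens Y // f x ∈ V} =>
      topologicalKrullDim (V.1 : Set Y)) ⟨⟨f '' (U.1 : Set X), hopen _ U.1.2⟩, ⟨x, U.2, rfl⟩⟩

end flat

end Groth.Agent.Lib.Helper55
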