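import Groth.Agent.Lib.Helper55.ClosedSubschemeDim
import Groth.Agent.Lib.Helper55.EquidimAt

/-! Equidimensional morphisms restricted to irreducible closed subschemes (EGA IV 13.3)
(helper55). -/

set_option autoImplicit false

universe u

namespace Groth.Agent.Lib.Helper55

open AlgebraicGeometry CategoryTheory Topology

section fibreStalk

variable {X Y : Scheme.{u}} (f : X ⟶ Y)

/-- The local ring of the fibre is a quotient of the local ring of the total space. -/
theorem ringKrullDim_stalk_fiber_le (x : X) :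
    ringKrullDim ((f.fiber (f x)).presheaf.stalk (f.asFiber x)) ≤
      ringKrullDim (X.presheaf.stalk x) := by
  obtain ⟨e⟩ := nonempty_stalk_fiber_equiv f (f x) (f.asFiber x) x (f.fiberι_asFiber x)
  rw [← ringKrullDim_eq_of_ringEquiv e]
  exact ringKrullDim_quotient_le _

variable [IsLocallyNoetherian Y] [LocallyOfFiniteType f]

/-- If the local ring of the fibre at `x'` has the same dimension as the local ring of `X` at
`x'`, then some maximal point of `X` lies in the fibre through `x'` and specializes to `x'`. -/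
theorem exists_maximal_point_of_stalk_fiber_dim_eq (x' : X)
    (h : ringKrullDim ((f.fiber (f x')).presheaf.stalk (f.asFiber x')) =
      ringKrullDim (X.presheaf.stalk x')) :
    ∃ z' : X, z' ⤳ x' ∧ f z' = f x' ∧ ∀ w : X, w ⤳ z' → z' ⤳ w := by
  have hX : IsLocallyNoetherian X := LocallyOfFiniteType.isLocallyNoetherian f
  have hlft : LocallyOfFiniteType (f.fiberToSpecResidueField (f x')) :=
    MorphismProperty.pullback_snd (P := @LocallyOfFiniteType) _ _ ‹_›
  have hF : IsLocallyNoetherian (f.fiber (f x')) :=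
    LocallyOfFiniteType.isLocallyNoetherian (f.fiberToSpecResidueField (f x'))
  obtain ⟨W, hW, hzW, -⟩ :=
    exists_isAffineOpen_mem_and_subset (x := f.asFiber x') (U := ⊤) trivial
  obtain ⟨ζ, hζW, hζz, -, hht⟩ := exists_maximal_point_chart hW (f.asFiber x') hzW
  have hdF := topologicalKrullDim_between_eq_height hW ζ (f.asFiber x') hζW hzW hζz
  rw [hht] at hdF
  set z' := f.fiberι (f x') ζ with hz'
  have hz'x' : z' ⤳ x' := by
    have := hζz.map (f.fiberι (f x')).continuous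
    rwa [f.fiberι_asFiber] at this
  have hfz' : f z' = f x' := by
    have : z' ∈ Set.range (f.fiberι (f x')) := ⟨ζ, rfl⟩
    rw [f.range_fiberι] at this
    exact this
  obtain ⟨U₀, hU₀, hx'U₀, -⟩ := exists_isAffineOpen_mem_and_subset (x := x') (U := ⊤) trivial
  have hz'U₀ : z' ∈ U₀ := hz'x'.mem_open U₀.2 hx'U₀
  have hdX := topologicalKrullDim_between_eq_height hU₀ z' x' hz'U₀ hx'U₀ hz'x'
  -- the fibre interval embeds into the interval of `X`
  let j : ↥{t : ↥(f.fiber (f x')) | ζ ⤳ t ∧ t ⤳ f.asFiber x'} → ↥{t : X | z' ⤳ t ∧ t ⤳ x'} :=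
    fun t => ⟨f.fiberι (f x') t.1, t.2.1.map (f.fiberι (f x')).continuous, by
      have := t.2.2.map (f.fiberι (f x')).continuous
      rwa [f.fiberι_asFiber] at this⟩
  have hj : IsInducing j := by
    refine IsInducing.of_comp ?_ continuous_subtype_val ?_
    · exact ((f.fiberι (f x')).continuous.comp continuous_subtype_val).subtype_mk _
    · exact (f.fiberι (f x')).isEmbedding.isInducing.comp IsInducing.subtypeVal
  have hle := hj.topologicalKrullDim_le
  rw [hdF, hdX] at hle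
  -- heights
  have hp1 : (hU₀.primeIdealOf ⟨x', hx'U₀⟩).asIdeal.IsPrime := (hU₀.primeIdealOf _).2
  have hp2 : (hU₀.primeIdealOf ⟨z', hz'U₀⟩).asIdeal.IsPrime := (hU₀.primeIdealOf _).2
  have hle' : (hU₀.primeIdealOf ⟨z', hz'U₀⟩).asIdeal ≤ (hU₀.primeIdealOf ⟨x', hx'U₀⟩).asIdeal :=
    (primeIdealOf_le_iff_specializes hU₀ z' x' hz'U₀ hx'U₀).mpr hz'x'
  have hPp : ((hU₀.primeIdealOf ⟨x', hx'U₀⟩).asIdeal.map
      (Ideal.Quotient.mk (hU₀.primeIdealOf ⟨z', hz'U₀⟩).asIdeal)).IsPrime :=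
    map_mk_isPrime_of_le _ _ hle'
  have hadd := Groth.Agent.H8.DimFormula.height_map_mk_add_height_le Γ(X, U₀)
    (hU₀.primeIdealOf ⟨z', hz'U₀⟩).asIdeal (hU₀.primeIdealOf ⟨x', hx'U₀⟩).asIdeal hle'
  rw [Groth.Agent.S4442.ringKrullDim_stalk_eq_height _ hW (f.asFiber x') hzW,
    Groth.Agent.S4442.ringKrullDim_stalk_eq_height X hU₀ x' hx'U₀] at h
  have hIsN : IsNoetherianRing Γ(X, U₀) := IsLocallyNoetherian.component_noetherian ⟨U₀, hU₀⟩
  obtain ⟨c, hc⟩ := ENat.ne_top_iff_exists.mp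
    (Ideal.height_ne_top_of_isPrime (I := (hU₀.primeIdealOf ⟨x', hx'U₀⟩).asIdeal))
  obtain ⟨r, hr⟩ := exists_nat_height_map_quotient hU₀ z' x' hz'U₀ hx'U₀ hz'x'
  obtain ⟨s, hs⟩ := ENat.ne_top_iff_exists.mp
    (Ideal.height_ne_top_of_isPrime (I := (hU₀.primeIdealOf ⟨z', hz'U₀⟩).asIdeal))
  rw [← hc] at h hadd
  rw [h, hr] at hle
  rw [hr, ← hs] at hadd
  have h1 : c ≤ r := by exact_mod_cast hle
  have h2 : r + s ≤ c := by exact_mod_cast hadd
  have hs0 : s = 0 := by omega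
  have hz'0 : ringKrullDim (X.presheaf.stalk z') = 0 := by
    rw [Groth.Agent.S4442.ringKrullDim_stalk_eq_height X hU₀ z' hz'U₀, ← hs, hs0]
    rfl
  refine ⟨z', hz'x', hfz', fun w hw => ?_⟩
  rw [eq_of_specializes_of_ringKrullDim_stalk_eq_zero z' w hz'0 hw]

end fibreStalk

section main

variable {X Y X₁ : Scheme.{u}} [IrreducibleSpace Y] [IsLocallyNoetherian Y] (f : X ⟶ Y)
  [LocallyOfFiniteType f] (iX : X₁ ⟶ X) [IsClosedImmersion iX] [IrreducibleSpace X₁]

/-- **EGA IV 13.3 (restriction of an equidimensional morphism to an irreducible closed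
subscheme).**  Let `f` be equidimensional at `iX w`, `X₁` an irreducible closed subscheme of
codimension `≤ n` whose fibre dimension at `w` drops by at least `n`. Then the codimension is `n`,
the drop is exactly `n`, and `X₁ ⟶ Y` is equidimensional at `w`. -/
theorem equidim_sub (w : X₁) (hf : EGA43.IsEquidimAt f (iX w)) (n : ℕ)
    (hcodim : ringKrullDim (X.presheaf.stalk (iX (genericPoint ↥X₁))) ≤ n)
    (hdim : FlatMor.fibreDimAt (iX ≫ f) w + (n : WithBot ℕ∞) ≤ FlatMor.fibreDimAt f (iX w)) :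
    ringKrullDim (X.presheaf.stalk (iX (genericPoint ↥X₁))) = n ∧
      FlatMor.fibreDimAt (iX ≫ f) w + (n : WithBot ℕ∞) = FlatMor.fibreDimAt f (iX w) ∧
      EGA43.IsEquidimAt (iX ≫ f) w := by
  obtain ⟨e, U, hxU, h1, h2⟩ := hf
  have hX : IsLocallyNoetherian X := LocallyOfFiniteType.isLocallyNoetherian f
  have hX₁ : IsLocallyNoetherian X₁ := LocallyOfFiniteType.isLocallyNoetherian (iX ≫ f)
  have hspec₁ : genericPoint ↥X₁ ⤳ w := genericPoint_specializes w
  have hspec : iX (genericPoint ↥X₁) ⤳ iX w := hspec₁.map iX.continuous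
  have hx'U : iX (genericPoint ↥X₁) ∈ U := hspec.mem_open U.2 hxU
  have hfe : FlatMor.fibreDimAt f (iX w) = e := fibreDimAt_eq_of_isEquidimAt f (iX w) h2 hxU
  have hfe' : FlatMor.fibreDimAt f (iX (genericPoint ↥X₁)) = e :=
    fibreDimAt_eq_of_isEquidimAt f _ h2 hx'U
  obtain ⟨c, hc⟩ := exists_nat_ringKrullDim_stalk (iX (genericPoint ↥X₁))
  obtain ⟨m, hm, hfd⟩ := fibreDimAt_eq_stalk_fiber_add_trdeg f (iX (genericPoint ↥X₁))
  obtain ⟨kf, hkf⟩ := exists_nat_ringKrullDim_stalk_fiber f (iX (genericPoint ↥X₁))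
  have hle := ringKrullDim_stalk_fiber_le f (iX (genericPoint ↥X₁))
  have hm₁ := (trdeg_residueField_preimmersion_comp iX f (genericPoint ↥X₁)).trans hm
  have hche := trdeg_le_fibreDimAt_of_specializes (iX ≫ f) (genericPoint ↥X₁) w hspec₁ m hm₁
  obtain ⟨t, ht, hfg⟩ := fibreDimAt_eq_stalk_fiber_add_trdeg (iX ≫ f) w
  obtain ⟨k', hk'⟩ := exists_nat_ringKrullDim_stalk_fiber (iX ≫ f) w
  rw [hk'] at hfg
  rw [hfg] at hche hdim ⊢
  rw [hfe] at hdim ⊢
  rw [hfe', hkf] at hfd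
  rw [hc] at hcodim hle ⊢
  rw [hkf] at hle
  have a1 : k' + t + n ≤ e := by exact_mod_cast hdim
  have a2 : c ≤ n := by exact_mod_cast hcodim
  have a3 : e = kf + m := by exact_mod_cast hfd
  have a4 : kf ≤ c := by exact_mod_cast hle
  have a5 : m ≤ k' + t := by exact_mod_cast hche
  have b1 : c = n := by omega
  have b2 : k' + t + n = e := by omega
  have b3 : kf = c := by omega
  have b4 : m = k' + t := by omega
  refine ⟨by exact_mod_cast b1, by exact_mod_cast b2, ?_⟩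
  -- `X₁` dominates `Y`
  have hstalk : ringKrullDim ((f.fiber (f (iX (genericPoint ↥X₁)))).presheaf.stalk
      (f.asFiber (iX (genericPoint ↥X₁)))) =
      ringKrullDim (X.presheaf.stalk (iX (genericPoint ↥X₁))) := by
    rw [hkf, hc, b3]
  obtain ⟨z', hz'x', hfz', hz'max⟩ := exists_maximal_point_of_stalk_fiber_dim_eq f _ hstalk
  have hz'U : z' ∈ U := hz'x'.mem_open U.2 hx'U
  have hηz' : genericPoint ↥Y ⤳ f z' := genericPoint_specializes (f z')
  have hz'η := map_maximal_of_isEquidimAt f (iX w) h1 z' hz'U hz'max _ hηz'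
  have hgξ : (iX ≫ f) (genericPoint ↥X₁) = genericPoint ↥Y := by
    change f (iX (genericPoint ↥X₁)) = _
    rw [← hfz']
    exact (hz'η.antisymm hηz').eq
  -- the neighbourhood
  let U₁ : X₁.Opens := ⟨{p : X₁ | FlatMor.fibreDimAt (iX ≫ f) p ≤ (m : WithBot ℕ∞)},
    isOpen_setOf_fibreDimAt_le (iX ≫ f) m⟩
  have hwU₁ : w ∈ U₁ := by
    change FlatMor.fibreDimAt (iX ≫ f) w ≤ (m : WithBot ℕ∞)
    rw [hfg, b4]
    push_cast
    exact le_refl _
  have hξU₁ : genericPoint ↥X₁ ∈ U₁ := hspec₁.mem_open U₁.2 hwU₁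
  refine ⟨m, U₁, hwU₁, ?_, ?_⟩
  · intro Z hZ
    refine ⟨Set.univ, by rw [irreducibleComponents_eq_singleton]; rfl, Set.mem_univ _, ?_⟩
    -- the generic point of `Z`
    have hqs : QuasiSober ↥(U₁ : Scheme.{u}) := inferInstance
    obtain ⟨ζ, hζ⟩ := hqs.sober hZ.1 (isClosed_of_mem_irreducibleComponents Z hZ)
    have hcomp : closure ({ζ} : Set ↥(U₁ : Scheme.{u})) ∈
        irreducibleComponents (↥(U₁ : Scheme.{u}) : Type u) := by
      rw [hζ.def]; exact hZ
    have hξζ : (⟨genericPoint ↥X₁, hξU₁⟩ : ↥(U₁ : Scheme.{u})) ⤳ ζ := by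
      apply (U₁.ι.isOpenEmbedding.isInducing.specializes_iff).mp
      exact genericPoint_specializes (U₁.ι ζ)
    have hζξ := specializes_of_closure_mem_irreducibleComponents ζ hcomp _ hξζ
    have hξZ : (⟨genericPoint ↥X₁, hξU₁⟩ : ↥(U₁ : Scheme.{u})) ∈ Z := by
      rw [← hζ.def]
      exact specializes_iff_mem_closure.mp hζξ
    apply Set.eq_univ_of_univ_subset
    rw [← (genericPoint_spec ↥Y).def]
    apply closure_mono
    rintro _ rfl
    exact ⟨⟨genericPoint ↥X₁, hξU₁⟩, hξZ, hgξ⟩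
  · intro p
    have hlft : LocallyOfFiniteType ((U₁.ι ≫ iX ≫ f).fiberToSpecResidueField
        ((U₁.ι ≫ iX ≫ f) p)) :=
      MorphismProperty.pullback_snd (P := @LocallyOfFiniteType) _ _ inferInstance
    refine (forall_irreducibleComponents_dim_eq_iff
      (k := ↑(Y.residueField ((U₁.ι ≫ iX ≫ f) p)))
      ((U₁.ι ≫ iX ≫ f).fiberToSpecResidueField ((U₁.ι ≫ iX ≫ f) p))
      (m : WithBot ℕ∞)).mpr ?_
    intro zf
    rw [localDim_fiber_eq_fibreDimAt (U₁.ι ≫ iX ≫ f) _ zf]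
    have hsq := Groth.Agent.H52.fibreDimAt_eq_of_etale_square U₁.ι (𝟙 Y) (U₁.ι ≫ iX ≫ f)
      (iX ≫ f) (by rw [Category.comp_id]) ((U₁.ι ≫ iX ≫ f).fiberι _ zf)
    rw [hsq]
    apply le_antisymm
    · exact ((U₁.ι ≫ iX ≫ f).fiberι _ zf).2
    · exact trdeg_le_fibreDimAt_of_specializes (iX ≫ f) (genericPoint ↥X₁) _
        (genericPoint_specializes _) m hm₁

end main

end Groth.Agent.Lib.Helper55
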