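import Groth.Agent.Lib.Helper55.StalkPoints
import Groth.Agent.S3404

/-! The dimension of the local ring at a point where a morphism is open (EGA IV 14.2.1): a
commutative-algebra lemma (lifting of generizations bounds heights from below) and its
scheme-theoretic form (helper55). -/

set_option autoImplicit false

universe u

namespace Groth.Agent.Lib.Helper55

open AlgebraicGeometry CategoryTheory Topology

section algebra

variable {A B : Type u} [CommRing A] [CommRing B] [IsNoetherianRing A] [IsNoetherianRing B]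

/-- Let `φ : A → B` be a homomorphism of Noetherian rings and `P` a prime of `B` lying over `Q`.
If every prime of `A` below `Q` lifts to a prime of `B` below `P`, and `P` is minimal over `Q B`,
then `ht Q ≤ ht P`. -/
theorem height_comap_le_of_lifting (φ : A →+* B) (P : Ideal B) [hP : P.IsPrime]
    (hS : ∀ q : Ideal A, q.IsPrime → q ≤ P.comap φ →
      ∃ p : Ideal B, p.IsPrime ∧ p ≤ P ∧ p.comap φ = q)
    (hF : ∀ p : Ideal B, p.IsPrime → (P.comap φ).map φ ≤ p → p ≤ P → p = P) :
    (P.comap φ).height ≤ P.height := by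
  classical
  obtain ⟨n, hn⟩ := ENat.ne_top_iff_exists.mp (Ideal.height_ne_top_of_isPrime (I := P))
  have key : ∀ i : ℕ, i ≤ n → ∃ s : Finset A, (↑s : Set A) ⊆ P.comap φ ∧ s.card ≤ i ∧
      ∀ p : Ideal B, p.IsPrime → (∀ a ∈ s, φ a ∈ p) → p ≤ P → (i : ℕ∞) ≤ p.height := by
    intro i
    induction i with
    | zero =>
      intro _
      exact ⟨∅, by simp, by simp, fun p _ _ _ => by simp⟩
    | succ i ih =>
      intro hi
      obtain ⟨s, hsQ, hcard, hs⟩ := ih (Nat.le_of_succ_le hi)
      set J : Ideal B := Ideal.span (φ '' (s : Set A)) with hJ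
      have hJle : ∀ p : Ideal B, J ≤ p ↔ ∀ a ∈ s, φ a ∈ p := by
        intro p
        rw [hJ, Ideal.span_le]
        constructor
        · intro h a ha
          exact h ⟨a, ha, rfl⟩
        · rintro h _ ⟨a, ha, rfl⟩
          exact h a ha
      set M : Set (Ideal B) := {p | p ∈ J.minimalPrimes ∧ p ≤ P ∧ p.height = i} with hM
      have hMfin : M.Finite :=
        (J.finite_minimalPrimes_of_isNoetherianRing).subset (fun p hp => hp.1)
      have hMprime : ∀ p ∈ hMfin.toFinset, (p.comap φ).IsPrime := by
        intro p hp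
        have hpM : p ∈ M := hMfin.mem_toFinset.mp hp
        have hpp : p.IsPrime := hpM.1.1.1
        infer_instance
      have hnot : ¬ ∃ p ∈ hMfin.toFinset, P.comap φ ≤ p.comap φ := by
        rintro ⟨p, hp, hle⟩
        have hpM : p ∈ M := hMfin.mem_toFinset.mp hp
        have hpp : p.IsPrime := hpM.1.1.1
        have hpP := hF p hpp (Ideal.map_le_iff_le_comap.mpr hle) hpM.2.1
        have h1 : P.height = i := hpP ▸ hpM.2.2
        rw [← hn] at h1
        have h2 : n = i := by exact_mod_cast h1
        omega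
      rw [← Ideal.subset_union_prime ⊥ ⊥ (fun p hp _ _ => hMprime p hp)] at hnot
      rw [Set.not_subset] at hnot
      obtain ⟨a, haQ, hau⟩ := hnot
      refine ⟨insert a s, ?_, ?_, ?_⟩
      · intro x hx
        rw [Finset.coe_insert] at hx
        rcases hx with rfl | hx
        · exact haQ
        · exact hsQ hx
      · exact (Finset.card_insert_le a s).trans (Nat.succ_le_succ hcard)
      · intro p hpp hps hpP
        have h1 : (i : ℕ∞) ≤ p.height :=
          hs p hpp (fun b hb => hps b (Finset.mem_insert_of_mem hb)) hpP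
        by_contra hlt
        rw [not_le] at hlt
        obtain ⟨k, hk⟩ := ENat.ne_top_iff_exists.mp (Ideal.height_ne_top_of_isPrime (I := p))
        rw [← hk] at h1 hlt
        have h1' : i ≤ k := by exact_mod_cast h1
        have h2' : k < i + 1 := by exact_mod_cast hlt
        have hki : k = i := by omega
        have hpi : p.height = i := by rw [← hk, hki]
        have hJp : J ≤ p := (hJle p).mpr (fun b hb => hps b (Finset.mem_insert_of_mem hb))
        obtain ⟨p', hp'min, hp'le⟩ := Ideal.exists_minimalPrimes_le hJp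
        have hp'p : p'.IsPrime := hp'min.1.1
        have h2 : (i : ℕ∞) ≤ p'.height :=
          hs p' hp'p ((hJle p').mp hp'min.1.2) (hp'le.trans hpP)
        have hpp' : p' = p := Ideal.eq_of_le_of_height_le p' hp'le (hpi ▸ h2)
        have hpM : p ∈ M := ⟨hpp' ▸ hp'min, hpP, hpi⟩
        apply hau
        simp only [Set.mem_iUnion]
        exact ⟨p, Finset.mem_coe.mpr (hMfin.mem_toFinset.mpr hpM),
          hps a (Finset.mem_insert_self a s)⟩
  obtain ⟨s, hsQ, hcard, hs⟩ := key n le_rfl
  have hQp : (P.comap φ).IsPrime := inferInstance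
  have hmin : P.comap φ ∈ (Ideal.span (s : Set A)).minimalPrimes := by
    refine ⟨⟨hQp, Ideal.span_le.mpr hsQ⟩, ?_⟩
    rintro q ⟨hq, hsq⟩ hqQ
    obtain ⟨p, hpp, hpP, hpq⟩ := hS q hq hqQ
    have h1 : (n : ℕ∞) ≤ p.height := hs p hpp (fun a ha => by
      have : a ∈ q := hsq (Ideal.subset_span ha)
      rw [← hpq] at this
      exact this) hpP
    have hpeq : p = P := Ideal.eq_of_le_of_height_le p hpP (hn ▸ h1)
    rw [← hpq, hpeq]
  calc (P.comap φ).height ≤ s.card := Ideal.height_le_card_of_mem_minimalPrimes_span_finset hmin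
    _ ≤ n := by exact_mod_cast hcard
    _ = P.height := hn

end algebra

section scheme

variable {X Y : Scheme.{u}} [IsLocallyNoetherian X] [IsLocallyNoetherian Y] (f : X ⟶ Y)

/-- **EGA IV 14.2.1 (key step).**  If `f` is open at a maximal point `z` of its fibre, then
`dim O_{Y,f z} ≤ dim O_{X,z}`. -/
theorem ringKrullDim_stalk_le_of_isOpenAt (z : X) (hopen : EGA43.IsOpenAt f.base z)
    (hmax : ∀ z' : X, f z' = f z → z' ⤳ z → z' = z) :
    ringKrullDim (Y.presheaf.stalk (f z)) ≤ ringKrullDim (X.presheaf.stalk z) := by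
  have hcomap : (IsLocalRing.maximalIdeal (X.presheaf.stalk z)).comap (f.stalkMap z).hom =
      IsLocalRing.maximalIdeal (Y.presheaf.stalk (f z)) :=
    IsLocalRing.maximalIdeal_comap (f.stalkMap z).hom
  rw [← IsLocalRing.maximalIdeal_height_eq_ringKrullDim (R := Y.presheaf.stalk (f z)),
    ← IsLocalRing.maximalIdeal_height_eq_ringKrullDim (R := X.presheaf.stalk z),
    WithBot.coe_le_coe, ← hcomap]
  apply height_comap_le_of_lifting
  · intro q hq _
    have hy' : stalkPoint (f z) ⟨q, hq⟩ ⤳ f z := stalkPoint_specializes (f z) ⟨q, hq⟩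
    obtain ⟨x', hx'z, hfx'⟩ := (Groth.Agent.S3404.result f z).1 hopen _ hy'
    obtain ⟨p, hp⟩ := exists_stalkPoint_eq z x' hx'z
    refine ⟨p.asIdeal, p.2, IsLocalRing.le_maximalIdeal p.2.ne_top, ?_⟩
    have h1 := stalkPoint_comap f z p
    rw [hp] at h1
    have h2 : PrimeSpectrum.comap (f.stalkMap z).hom p = ⟨q, hq⟩ :=
      stalkPoint_injective (f z) (h1.trans hfx')
    exact congrArg PrimeSpectrum.asIdeal h2
  · intro p hp hle _
    rw [hcomap, Ideal.map_le_iff_le_comap] at hle
    have hpc : (p.comap (f.stalkMap z).hom).IsPrime := inferInstance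
    have hcm : IsLocalRing.maximalIdeal (Y.presheaf.stalk (f z)) = p.comap (f.stalkMap z).hom :=
      (IsLocalRing.maximalIdeal.isMaximal _).eq_of_le hpc.ne_top hle
    have h1 := stalkPoint_comap f z ⟨p, hp⟩
    have h2 : PrimeSpectrum.comap (f.stalkMap z).hom ⟨p, hp⟩ =
        IsLocalRing.closedPoint (Y.presheaf.stalk (f z)) := by
      apply PrimeSpectrum.ext
      exact hcm.symm
    rw [h2] at h1
    have h3 : stalkPoint (f z) (IsLocalRing.closedPoint (Y.presheaf.stalk (f z))) = f z :=
      Scheme.fromSpecStalk_closedPoint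
    have h4 : stalkPoint z ⟨p, hp⟩ = z :=
      hmax _ (h1.symm.trans h3) (stalkPoint_specializes z ⟨p, hp⟩)
    have h5 : stalkPoint z (IsLocalRing.closedPoint (X.presheaf.stalk z)) = z :=
      Scheme.fromSpecStalk_closedPoint
    have h6 : (⟨p, hp⟩ : PrimeSpectrum (X.presheaf.stalk z)) =
        IsLocalRing.closedPoint (X.presheaf.stalk z) :=
      stalkPoint_injective z (h4.trans h5.symm)
    exact congrArg PrimeSpectrum.asIdeal h6

end scheme

end Groth.Agent.Lib.Helper55
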