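import Groth.Agent.Lib.Helper55.ChevalleySemicont
import Groth.Agent.Lib.Helper55.DimFormulaIrredLocal
import Groth.Agent.Lib.Helper55.GroupLocalDim
import Groth.Agent.Lib.Helper55.FiberBaseChange

/-! Chevalley's lower bound for fibre dimensions (helper55). -/

set_option autoImplicit false

universe u

namespace Groth.Agent.Lib.Helper55

open AlgebraicGeometry CategoryTheory Topology

theorem exists_nat_eq_of_nonneg_of_lt (c : WithBot ℕ∞) (m : ℕ) (h0 : 0 ≤ c)
    (h : c < (m : WithBot ℕ∞)) : ∃ k : ℕ, c = k ∧ k < m := by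
  induction c using WithBot.recBotCoe with
  | bot => simp at h0
  | coe a =>
    induction a using ENat.recTopCoe with
    | top =>
      exfalso
      have h1 : ((⊤ : ℕ∞) : WithBot ℕ∞) < ((m : ℕ∞) : WithBot ℕ∞) := h
      rw [WithBot.coe_lt_coe] at h1
      exact absurd h1 (by simp)
    | coe k =>
      refine ⟨k, rfl, ?_⟩
      have h1 : ((k : ℕ∞) : WithBot ℕ∞) < ((m : ℕ∞) : WithBot ℕ∞) := h
      rw [WithBot.coe_lt_coe] at h1
      exact_mod_cast h1

theorem withBot_enat_le_of_add_le_add_left (d : ℕ) {a b : WithBot ℕ∞}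
    (h : (d : WithBot ℕ∞) + a ≤ (d : WithBot ℕ∞) + b) : a ≤ b := by
  induction a using WithBot.recBotCoe with
  | bot => exact bot_le
  | coe a =>
    induction b using WithBot.recBotCoe with
    | bot =>
      exfalso
      rw [WithBot.add_bot] at h
      have h1 : ((d : ℕ∞) : WithBot ℕ∞) + (a : WithBot ℕ∞) = (((d : ℕ∞) + a : ℕ∞) : WithBot ℕ∞) :=
        (WithBot.coe_add _ _).symm
      have h2 : (((d : ℕ∞) + a : ℕ∞) : WithBot ℕ∞) ≤ ⊥ := h1 ▸ h
      exact absurd (le_bot_iff.mp h2) (WithBot.coe_ne_bot)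
    | coe b =>
      have h1 : (((d : ℕ∞) + a : ℕ∞) : WithBot ℕ∞) ≤ (((d : ℕ∞) + b : ℕ∞) : WithBot ℕ∞) := by
        rw [WithBot.coe_add, WithBot.coe_add]
        exact h
      rw [WithBot.coe_le_coe] at h1 ⊢
      exact (ENat.add_le_add_iff_left (ENat.natCast_ne_top d)).mp h1

theorem localDim_nonneg {T : Type*} [TopologicalSpace T] (t : T) : 0 ≤ FlatMor.localDim T t := by
  unfold FlatMor.localDim
  refine le_iInf fun U => ?_
  have : Nonempty (TopologicalSpace.IrreducibleCloseds ↥(U.1 : Set T)) :=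
    ⟨⟨closure {⟨t, U.2⟩}, isIrreducible_singleton.closure, isClosed_closure⟩⟩
  exact Order.krullDim_nonneg

section

variable {X Y : Scheme.{u}} (f : X ⟶ Y) [LocallyOfFiniteType f]

/-- The transcendence degree of the residue field extension is a lower bound for the local fibre
dimension. -/
theorem trdeg_le_fibreDimAt (x : X) (n : ℕ)
    (hn : @Algebra.trdeg (Y.residueField (f x)) (X.residueField x) _ _
      (f.residueFieldMap x).hom.toAlgebra = n) :
    (n : WithBot ℕ∞) ≤ FlatMor.fibreDimAt f x := by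
  obtain ⟨n', hn', hfd⟩ := fibreDimAt_eq_stalk_fiber_add_trdeg f x
  have hnn : n' = n := by
    have := hn'.symm.trans hn
    exact_mod_cast this
  rw [hfd, hnn]
  have h0 : 0 ≤ ringKrullDim ((f.fiber (f x)).presheaf.stalk (f.asFiber x)) :=
    ringKrullDim_nonneg_of_nontrivial
  calc (n : WithBot ℕ∞) = 0 + n := (zero_add _).symm
    _ ≤ _ := add_le_add_left h0 _

/-- **Chevalley's bound**: if `ξ ⤳ x`, the transcendence degree of `κ(ξ)/κ(f ξ)` is at most the
local fibre dimension at `x`. -/
theorem trdeg_le_fibreDimAt_of_specializes (ξ x : X) (hξx : ξ ⤳ x) (m : ℕ)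
    (hm : @Algebra.trdeg (Y.residueField (f ξ)) (X.residueField ξ) _ _
      (f.residueFieldMap ξ).hom.toAlgebra = m) :
    (m : WithBot ℕ∞) ≤ FlatMor.fibreDimAt f x := by
  by_contra hlt
  rw [not_le] at hlt
  obtain ⟨k, hk, hkm⟩ := exists_nat_eq_of_nonneg_of_lt _ m (localDim_nonneg _) hlt
  obtain ⟨N, hxN, hN⟩ := exists_open_forall_fibreDimAt_le f x k hk.le
  have hξN : ξ ∈ N := hξx.mem_open N.2 hxN
  have h1 := hN ξ hξN
  have h2 := trdeg_le_fibreDimAt f ξ m hm
  have h3 : (m : WithBot ℕ∞) ≤ (k : WithBot ℕ∞) := h2.trans h1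
  have h4 : m ≤ k := by exact_mod_cast h3
  omega

/-- Chevalley's semicontinuity theorem for arbitrary bounds. -/
theorem isOpen_setOf_fibreDimAt_le' (c : WithBot ℕ∞) :
    IsOpen {x : X | FlatMor.fibreDimAt f x ≤ c} := by
  induction c using WithBot.recBotCoe with
  | bot =>
    have : {x : X | FlatMor.fibreDimAt f x ≤ ⊥} = ∅ := by
      ext x
      simp only [Set.mem_ofPred_eq, Set.mem_empty_iff_false, iff_false, le_bot_iff]
      intro h
      have h0 : (0 : WithBot ℕ∞) ≤ FlatMor.fibreDimAt f x := localDim_nonneg _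
      rw [h] at h0
      simp at h0
    rw [this]
    exact isOpen_empty
  | coe a =>
    induction a using ENat.recTopCoe with
    | top =>
      have : {x : X | FlatMor.fibreDimAt f x ≤ ((⊤ : ℕ∞) : WithBot ℕ∞)} = Set.univ := by
        ext x
        simp only [Set.mem_ofPred_eq, Set.mem_univ, iff_true]
        exact le_top
      rw [this]
      exact isOpen_univ
    | coe n => exact isOpen_setOf_fibreDimAt_le f n

omit [LocallyOfFiniteType f] in
/-- The dimension of a fibre is the supremum of the local fibre dimensions at its points. -/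
theorem topologicalKrullDim_fiber_le_iff (s : Y) (c : WithBot ℕ∞) :
    topologicalKrullDim ↥(f.fiber s) ≤ c ↔ ∀ x : X, f x = s → FlatMor.fibreDimAt f x ≤ c := by
  rw [topologicalKrullDim_eq_iSup_localDim, iSup_le_iff]
  constructor
  · intro h x hx
    subst hx
    exact h (f.asFiber x)
  · intro h z
    rw [localDim_fiber_eq_fibreDimAt]
    refine h _ ?_
    have : f.fiberι s z ∈ Set.range (f.fiberι s) := ⟨z, rfl⟩
    rw [f.range_fiberι] at this
    exact this

/-- For a closed morphism locally of finite type, fibre dimension is upper semicontinuous on the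
target. -/
theorem isOpen_setOf_dim_fiber_le_of_isClosedMap (hcl : IsClosedMap f) (c : WithBot ℕ∞) :
    IsOpen {s : Y | topologicalKrullDim ↥(f.fiber s) ≤ c} := by
  have hset : {s : Y | topologicalKrullDim ↥(f.fiber s) ≤ c} =
      (f '' {x : X | FlatMor.fibreDimAt f x ≤ c}ᶜ)ᶜ := by
    ext s
    simp only [Set.mem_ofPred_eq, Set.mem_compl_iff, Set.mem_image, not_exists, not_and]
    rw [topologicalKrullDim_fiber_le_iff]
    constructor
    · intro h x hx hfx
      exact hx (h x hfx)
    · intro h x hfx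
      by_contra hx
      exact h x hx hfx
  rw [hset]
  exact (hcl _ (isOpen_setOf_fibreDimAt_le' f c).isClosed_compl).isOpen_compl

/-- The local fibre dimension does not decrease under specialization. -/
theorem fibreDimAt_le_of_specializes' (ξ x : X) (hξx : ξ ⤳ x) :
    FlatMor.fibreDimAt f ξ ≤ FlatMor.fibreDimAt f x := by
  by_contra hlt
  rw [not_le] at hlt
  have hne : FlatMor.fibreDimAt f x ≠ ⊤ := ne_top_of_lt hlt
  -- `fibreDimAt f x` is a natural number
  obtain ⟨k, hk⟩ : ∃ k : ℕ, FlatMor.fibreDimAt f x = k := by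
    have h0 : 0 ≤ FlatMor.fibreDimAt f x := localDim_nonneg _
    generalize FlatMor.fibreDimAt f x = c at h0 hne
    induction c using WithBot.recBotCoe with
    | bot => simp at h0
    | coe a =>
      induction a using ENat.recTopCoe with
      | top => exact absurd rfl hne
      | coe k => exact ⟨k, rfl⟩
  obtain ⟨N, hxN, hN⟩ := exists_open_forall_fibreDimAt_le f x k hk.le
  have hξN : ξ ∈ N := hξx.mem_open N.2 hxN
  have h1 := hN ξ hξN
  rw [hk] at hlt
  exact absurd h1 (not_le.mpr hlt)

end

end Groth.Agent.Lib.Helper55
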