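import Groth.Agent.Lib.Helper55.FibreDimFormula

/-! The Krull dimension of the set of points between two points of a scheme (helper55). -/

set_option autoImplicit false

universe u

namespace Groth.Agent.Lib.Helper55

open AlgebraicGeometry CategoryTheory Topology

section gen

variable {S : Scheme.{u}} {V : S.Opens} (hV : IsAffineOpen V)

include hV in
/-- **The dimension of an interval of points.**  For `σ ⤳ s` in an affine open `V`, the Krull
dimension of the subspace `{t | σ ⤳ t ⤳ s}` is `ht(𝔮_s/𝔮_σ)`. -/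
theorem topologicalKrullDim_between_eq_height (σ s : S) (hσ : σ ∈ V) (hs : s ∈ V) (hσs : σ ⤳ s) :
    topologicalKrullDim ↥{t : S | σ ⤳ t ∧ t ⤳ s} =
      ((((hV.primeIdealOf ⟨s, hs⟩).asIdeal.map
        (Ideal.Quotient.mk (hV.primeIdealOf ⟨σ, hσ⟩).asIdeal)).height : ℕ∞) : WithBot ℕ∞) := by
  set 𝔮σ := (hV.primeIdealOf ⟨σ, hσ⟩).asIdeal with h𝔮σ
  set 𝔮s := (hV.primeIdealOf ⟨s, hs⟩).asIdeal with h𝔮s
  have hpσ : 𝔮σ.IsPrime := (hV.primeIdealOf ⟨σ, hσ⟩).2
  have hps : 𝔮s.IsPrime := (hV.primeIdealOf ⟨s, hs⟩).2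
  have hle : 𝔮σ ≤ 𝔮s := (primeIdealOf_le_iff_specializes hV σ s hσ hs).mpr hσs
  have hP : (𝔮s.map (Ideal.Quotient.mk 𝔮σ)).IsPrime := map_mk_isPrime_of_le 𝔮σ 𝔮s hle
  set P := 𝔮s.map (Ideal.Quotient.mk 𝔮σ) with hPdef
  -- the three embeddings
  have e1 : IsEmbedding (PrimeSpectrum.comap (algebraMap (Γ(S, V) ⧸ 𝔮σ) (Localization.AtPrime P))) :=
    PrimeSpectrum.localization_comap_isEmbedding (Localization.AtPrime P) P.primeCompl
  have e2 : IsEmbedding (PrimeSpectrum.comap (Ideal.Quotient.mk 𝔮σ)) :=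
    (PrimeSpectrum.isClosedEmbedding_comap_of_surjective _ _
      Ideal.Quotient.mk_surjective).isEmbedding
  have e3 : IsEmbedding (hV.fromSpec : PrimeSpectrum Γ(S, V) → S) :=
    hV.fromSpec.isOpenEmbedding.isEmbedding
  set j : PrimeSpectrum (Localization.AtPrime P) → S := fun p =>
    hV.fromSpec (PrimeSpectrum.comap (Ideal.Quotient.mk 𝔮σ)
      (PrimeSpectrum.comap (algebraMap (Γ(S, V) ⧸ 𝔮σ) (Localization.AtPrime P)) p)) with hj
  have ej : IsEmbedding j := e3.comp (e2.comp e1)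
  have hrange : Set.range j = {t : S | σ ⤳ t ∧ t ⤳ s} := by
    ext t
    constructor
    · rintro ⟨p, rfl⟩
      set Q : PrimeSpectrum Γ(S, V) := PrimeSpectrum.comap (Ideal.Quotient.mk 𝔮σ)
        (PrimeSpectrum.comap (algebraMap (Γ(S, V) ⧸ 𝔮σ) (Localization.AtPrime P)) p) with hQ
      have hQV : hV.fromSpec Q ∈ V := by
        have : hV.fromSpec Q ∈ Set.range hV.fromSpec := ⟨Q, rfl⟩
        rw [hV.range_fromSpec] at this
        exact this
      have hQeq : hV.primeIdealOf ⟨hV.fromSpec Q, hQV⟩ = Q := by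
        apply hV.fromSpec.isOpenEmbedding.injective
        rw [hV.fromSpec_primeIdealOf ⟨hV.fromSpec Q, hQV⟩]
      have hQeq' : (hV.primeIdealOf ⟨hV.fromSpec Q, hQV⟩).asIdeal = Q.asIdeal :=
        congrArg PrimeSpectrum.asIdeal hQeq
      have h1 : 𝔮σ ≤ Q.asIdeal := le_comap_mk 𝔮σ _
      have h2 : Q.asIdeal ≤ 𝔮s := by
        have hdisj : Disjoint (P.primeCompl : Set (Γ(S, V) ⧸ 𝔮σ))
            ((PrimeSpectrum.comap (algebraMap (Γ(S, V) ⧸ 𝔮σ) (Localization.AtPrime P)) p).asIdeal) :=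
          ((IsLocalization.isPrime_iff_isPrime_disjoint P.primeCompl (Localization.AtPrime P)
            p.asIdeal).mp p.2).2
        have h3 : (PrimeSpectrum.comap (algebraMap (Γ(S, V) ⧸ 𝔮σ) (Localization.AtPrime P))
            p).asIdeal ≤ P := by
          intro a ha
          by_contra hna
          exact Set.disjoint_left.mp hdisj hna ha
        have h4 := Ideal.comap_mono (f := Ideal.Quotient.mk 𝔮σ) h3
        have hcomapP : Ideal.comap (Ideal.Quotient.mk 𝔮σ) P = 𝔮s :=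
          comap_map_mk_of_le 𝔮σ 𝔮s hle
        exact h4.trans hcomapP.le
      constructor
      · rw [← primeIdealOf_le_iff_specializes hV σ _ hσ hQV, hQeq']
        exact h1
      · rw [← primeIdealOf_le_iff_specializes hV _ s hQV hs, hQeq']
        exact h2
    · rintro ⟨hσt, hts⟩
      have htV : t ∈ V := hts.mem_open V.2 hs
      set 𝔮t := (hV.primeIdealOf ⟨t, htV⟩).asIdeal with h𝔮t
      have hpt : 𝔮t.IsPrime := (hV.primeIdealOf ⟨t, htV⟩).2
      have h1 : 𝔮σ ≤ 𝔮t := (primeIdealOf_le_iff_specializes hV σ t hσ htV).mpr hσt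
      have h2 : 𝔮t ≤ 𝔮s := (primeIdealOf_le_iff_specializes hV t s htV hs).mpr hts
      have hp₀ : (𝔮t.map (Ideal.Quotient.mk 𝔮σ)).IsPrime := map_mk_isPrime_of_le 𝔮σ 𝔮t h1
      have hp₀P : 𝔮t.map (Ideal.Quotient.mk 𝔮σ) ≤ P := Ideal.map_mono h2
      have hdisj : Disjoint (P.primeCompl : Set (Γ(S, V) ⧸ 𝔮σ))
          (𝔮t.map (Ideal.Quotient.mk 𝔮σ) : Set (Γ(S, V) ⧸ 𝔮σ)) := by
        rw [Set.disjoint_left]
        intro a ha ha'
        exact ha (hp₀P ha')
      have hp : ((𝔮t.map (Ideal.Quotient.mk 𝔮σ)).map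
          (algebraMap (Γ(S, V) ⧸ 𝔮σ) (Localization.AtPrime P))).IsPrime :=
        IsLocalization.isPrime_of_isPrime_disjoint P.primeCompl _ _ hp₀ hdisj
      refine ⟨⟨_, hp⟩, ?_⟩
      have hc1 : PrimeSpectrum.comap (algebraMap (Γ(S, V) ⧸ 𝔮σ) (Localization.AtPrime P))
          ⟨_, hp⟩ = ⟨𝔮t.map (Ideal.Quotient.mk 𝔮σ), hp₀⟩ := by
        apply PrimeSpectrum.ext
        exact IsLocalization.under_map_of_isPrime_disjoint P.primeCompl _ hp₀ hdisj
      have hc2 : PrimeSpectrum.comap (Ideal.Quotient.mk 𝔮σ)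
          ⟨𝔮t.map (Ideal.Quotient.mk 𝔮σ), hp₀⟩ = hV.primeIdealOf ⟨t, htV⟩ := by
        apply PrimeSpectrum.ext
        exact comap_map_mk_of_le 𝔮σ 𝔮t h1
      simp only [hj]
      rw [hc1, hc2, hV.fromSpec_primeIdealOf ⟨t, htV⟩]
  rw [← hrange]
  rw [← IsHomeomorph.topologicalKrullDim_eq _ ej.toHomeomorph.isHomeomorph,
    PrimeSpectrum.topologicalKrullDim_eq_ringKrullDim,
    IsLocalization.AtPrime.ringKrullDim_eq_height P (Localization.AtPrime P)]

end gen

end Groth.Agent.Lib.Helper55
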