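import Groth.Agent.Lib.Helper55.FibreComponents
import Groth.Agent.Lib.Helper55.ChevalleyBound
import Groth.Agent.Lib.Helper55.Generizations
import Groth.Agent.Lib.Helper55.LocalDimTop
import Groth.Agent.Lib.Helper55.DimPoint

/-! Dimension theory of closed (irreducible) subschemes relative to a morphism (helper55). -/

set_option autoImplicit false

universe u

namespace Groth.Agent.Lib.Helper55

open AlgebraicGeometry CategoryTheory Topology

section top

variable {A B : Type*} [TopologicalSpace A] [TopologicalSpace B]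

/-- The local dimension does not increase along an inducing map. -/
theorem localDim_le_of_isInducing (j : A → B) (hj : IsInducing j) (a : A) :
    FlatMor.localDim A a ≤ FlatMor.localDim B (j a) := by
  refine le_iInf fun W => ?_
  let U : {U : TopologicalSpace.Opens A // a ∈ U} :=
    ⟨⟨j ⁻¹' (W.1 : Set B), W.1.2.preimage hj.continuous⟩, W.2⟩
  refine le_trans (iInf_le _ U) ?_
  exact (hj.restrictPreimage (W.1 : Set B)).topologicalKrullDim_le

/-- The local dimension is invariant under homeomorphisms. -/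
theorem localDim_eq_of_isHomeomorph (j : A → B) (hj : IsHomeomorph j) (a : A) :
    FlatMor.localDim A a = FlatMor.localDim B (j a) :=
  localDim_eq_of_isOpenEmbedding j hj.isOpenEmbedding a

/-- A closed embedding identifies intervals of points. -/
theorem topologicalKrullDim_between_eq_of_isClosedEmbedding (j : A → B) (hj : IsClosedEmbedding j)
    (σ s : A) :
    topologicalKrullDim ↥{t : A | σ ⤳ t ∧ t ⤳ s} =
      topologicalKrullDim ↥{t : B | j σ ⤳ t ∧ t ⤳ j s} := by
  let g : ↥{t : A | σ ⤳ t ∧ t ⤳ s} → ↥{t : B | j σ ⤳ t ∧ t ⤳ j s} := fun t =>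
    ⟨j t.1, t.2.1.map hj.continuous, t.2.2.map hj.continuous⟩
  have hg : IsEmbedding g := by
    refine IsEmbedding.of_comp ?_ continuous_subtype_val ?_
    · exact (hj.continuous.comp continuous_subtype_val).subtype_mk _
    · exact hj.isEmbedding.comp IsEmbedding.subtypeVal
  have hsurj : Function.Surjective g := by
    rintro ⟨t, ht1, ht2⟩
    have htr : t ∈ Set.range j := by
      have h1 : t ∈ closure ({j σ} : Set B) := specializes_iff_mem_closure.mp ht1
      exact closure_minimal (by rintro _ rfl; exact ⟨σ, rfl⟩) hj.isClosed_range h1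
    obtain ⟨t', rfl⟩ := htr
    exact ⟨⟨t', hj.isInducing.specializes_iff.mp ht1, hj.isInducing.specializes_iff.mp ht2⟩, rfl⟩
  exact IsHomeomorph.topologicalKrullDim_eq g
    (isHomeomorph_iff_isEmbedding_surjective.mpr ⟨hg, hsurj⟩)

/-- A space embedded with irreducible range is irreducible. -/
theorem irreducibleSpace_of_isEmbedding (j : A → B) (hj : IsEmbedding j)
    (hirr : IsIrreducible (Set.range j)) : IrreducibleSpace A := by
  have h1 : IrreducibleSpace ↥(Set.range j) := Subtype.irreducibleSpace hirr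
  exact (hj.toHomeomorph.irreducibleSpace_iff).mpr h1

end top

section irreducible

/-- In an irreducible scheme, a maximal point is the generic point. -/
theorem eq_genericPoint_of_maximal {Y : Scheme.{u}} [IrreducibleSpace Y] (w : Y)
    (hw : ∀ t : Y, t ⤳ w → w ⤳ t) : w = genericPoint ↥Y := by
  have h1 : genericPoint ↥Y ⤳ w := (genericPoint_spec ↥Y).specializes (Set.mem_univ _)
  exact ((hw _ h1).antisymm h1).eq

variable {Z : Scheme.{u}} [IrreducibleSpace Z] [IsLocallyNoetherian Z]

omit [IsLocallyNoetherian Z] in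
theorem genericPoint_specializes (z : Z) : genericPoint ↥Z ⤳ z :=
  (genericPoint_spec ↥Z).specializes (Set.mem_univ _)

/-- In an irreducible locally Noetherian scheme, `dim O_{Z,z} = ht(𝔮_z/𝔮_ξ)` in any affine chart,
where `ξ` is the generic point. -/
theorem ringKrullDim_stalk_eq_height_map_genericPoint {U : Z.Opens} (hU : IsAffineOpen U) (z : Z)
    (hz : z ∈ U) (hξ : genericPoint ↥Z ∈ U) :
    ringKrullDim (Z.presheaf.stalk z) =
      ((((hU.primeIdealOf ⟨z, hz⟩).asIdeal.map
        (Ideal.Quotient.mk (hU.primeIdealOf ⟨genericPoint ↥Z, hξ⟩).asIdeal)).height : ℕ∞) :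
          WithBot ℕ∞) := by
  obtain ⟨ξ', hξ'U, -, hξ'max, hht⟩ := exists_maximal_point_chart hU z hz
  have hξ'eq : ξ' = genericPoint ↥Z := eq_genericPoint_of_maximal ξ' hξ'max
  subst hξ'eq
  rw [Groth.Agent.S4442.ringKrullDim_stalk_eq_height Z hU z hz, ← hht]

/-- In an irreducible locally Noetherian scheme, `dim O_{Z,z}` is the dimension of the space of
generizations of `z`. -/
theorem ringKrullDim_stalk_eq_dim_between (z : Z) :
    ringKrullDim (Z.presheaf.stalk z) =
      topologicalKrullDim ↥{t : Z | genericPoint ↥Z ⤳ t ∧ t ⤳ z} := by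
  obtain ⟨U, hU, hzU, -⟩ := exists_isAffineOpen_mem_and_subset (x := z) (U := ⊤) trivial
  have hξU : genericPoint ↥Z ∈ U := (genericPoint_specializes z).mem_open U.2 hzU
  rw [ringKrullDim_stalk_eq_height_map_genericPoint hU z hzU hξU,
    topologicalKrullDim_between_eq_height hU (genericPoint ↥Z) z hξU hzU (genericPoint_specializes z)]

end irreducible

section closedImm

variable {Y₁ Y : Scheme.{u}} [IsLocallyNoetherian Y] (i : Y₁ ⟶ Y) [IsClosedImmersion i]
  [IrreducibleSpace Y₁]

/-- The dimension of the local ring of an irreducible closed subscheme `Y₁` of `Y` at `v` is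
`ht(𝔭_{i v}/𝔭_{i η₁})` in any chart of `Y`, with `η₁` the generic point of `Y₁`. -/
theorem ringKrullDim_stalk_closedImmersion (v : Y₁) {V : Y.Opens} (hV : IsAffineOpen V)
    (hv : i v ∈ V) (hη : i (genericPoint ↥Y₁) ∈ V) :
    ringKrullDim (Y₁.presheaf.stalk v) =
      ((((hV.primeIdealOf ⟨i v, hv⟩).asIdeal.map
        (Ideal.Quotient.mk (hV.primeIdealOf ⟨i (genericPoint ↥Y₁), hη⟩).asIdeal)).height : ℕ∞) :
          WithBot ℕ∞) := by
  have hY₁ : IsLocallyNoetherian Y₁ := LocallyOfFiniteType.isLocallyNoetherian i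
  rw [ringKrullDim_stalk_eq_dim_between v,
    topologicalKrullDim_between_eq_of_isClosedEmbedding i i.isClosedEmbedding,
    topologicalKrullDim_between_eq_height hV _ _ hη hv ((genericPoint_specializes v).map i.continuous)]

end closedImm

section relative

variable {X₁ Y : Scheme.{u}} [IsLocallyNoetherian Y] (g : X₁ ⟶ Y) [LocallyOfFiniteType g]
  [IrreducibleSpace X₁]

omit [IsLocallyNoetherian Y] in
/-- Heights of quotient primes in a chart only depend on the points. -/
theorem height_map_quotient_congr {V : Y.Opens} (hV : IsAffineOpen V) (p p' q q' : Y) (hp : p ∈ V)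
    (hp' : p' ∈ V) (hq : q ∈ V) (hq' : q' ∈ V) (e1 : p = p') (e2 : q = q') :
    ((hV.primeIdealOf ⟨p, hp⟩).asIdeal.map
        (Ideal.Quotient.mk (hV.primeIdealOf ⟨q, hq⟩).asIdeal)).height =
      ((hV.primeIdealOf ⟨p', hp'⟩).asIdeal.map
        (Ideal.Quotient.mk (hV.primeIdealOf ⟨q', hq'⟩).asIdeal)).height := by
  subst e1 e2
  rfl

/-- **Dimension inequality** for an irreducible source, with the height of the quotient prime in
a chart of the target. -/
theorem stalk_add_trdeg_le_chart_of_irreducible (w : X₁) {V : Y.Opens} (hV : IsAffineOpen V)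
    (hw : g w ∈ V) (hξ : g (genericPoint ↥X₁) ∈ V) (t m : ℕ)
    (ht : @Algebra.trdeg (Y.residueField (g w)) (X₁.residueField w) _ _
      (g.residueFieldMap w).hom.toAlgebra = t)
    (hm : @Algebra.trdeg (Y.residueField (g (genericPoint ↥X₁)))
      (X₁.residueField (genericPoint ↥X₁)) _ _
      (g.residueFieldMap (genericPoint ↥X₁)).hom.toAlgebra = m) :
    ringKrullDim (X₁.presheaf.stalk w) + (t : WithBot ℕ∞) ≤
      ((((hV.primeIdealOf ⟨g w, hw⟩).asIdeal.map
        (Ideal.Quotient.mk (hV.primeIdealOf ⟨g (genericPoint ↥X₁), hξ⟩).asIdeal)).height : ℕ∞) :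
          WithBot ℕ∞) + (m : WithBot ℕ∞) := by
  have hX₁ : IsLocallyNoetherian X₁ := LocallyOfFiniteType.isLocallyNoetherian g
  obtain ⟨U, hU, hwU, e⟩ := exists_isAffineOpen_mem_and_subset (x := w) (U := g ⁻¹ᵁ V) hw
  have hspec : genericPoint ↥X₁ ⤳ w := genericPoint_specializes w
  have hξU : genericPoint ↥X₁ ∈ U := hspec.mem_open U.2 hwU
  have hK := chart_height_add_trdeg_le g hV hU e (genericPoint ↥X₁) w hξU hwU hspec t m ht hm
  rw [ringKrullDim_stalk_eq_height_map_genericPoint hU w hwU hξU]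
  exact_mod_cast hK

end relative

section residue

variable {X₁ X : Scheme.{u}} (i : X₁ ⟶ X) [IsPreimmersion i]

/-- The residue field maps of a preimmersion are surjective. -/
theorem residueFieldMap_surjective_of_isPreimmersion (w : X₁) :
    Function.Surjective (i.residueFieldMap w).hom := by
  intro z
  obtain ⟨a, rfl⟩ := IsLocalRing.residue_surjective z
  obtain ⟨b, rfl⟩ := i.stalkMap_surjective w a
  exact ⟨IsLocalRing.residue _ b, rfl⟩

variable {Y : Scheme.{u}} (f : X ⟶ Y)

/-- Composing with a preimmersion does not change the transcendence degree of the residue field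
extension. -/
theorem trdeg_residueField_preimmersion_comp (w : X₁) :
    @Algebra.trdeg (Y.residueField ((i ≫ f) w)) (X₁.residueField w) _ _
        ((i ≫ f).residueFieldMap w).hom.toAlgebra =
      @Algebra.trdeg (Y.residueField (f (i w))) (X.residueField (i w)) _ _
        (f.residueFieldMap (i w)).hom.toAlgebra := by
  have h := trdeg_residueField_comp i f w
  have h0 : @Algebra.trdeg (X.residueField (i w)) (X₁.residueField w) _ _
      (i.residueFieldMap w).hom.toAlgebra = 0 := by
    let _ : Algebra (X.residueField (i w)) (X₁.residueField w) :=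
      (i.residueFieldMap w).hom.toAlgebra
    have hs : Function.Surjective (algebraMap (X.residueField (i w)) (X₁.residueField w)) :=
      residueFieldMap_surjective_of_isPreimmersion i w
    have := Algebra.isIntegral_of_surjective hs
    exact _root_.trdeg_eq_zero
  rw [h0, add_zero] at h
  exact h.symm

end residue

section fibreTop

variable {X Y : Scheme.{u}} (f : X ⟶ Y)

/-- The local fibre dimension as a local dimension of the set-theoretic fibre. -/
theorem fibreDimAt_eq_localDim_preimage (x : X) :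
    FlatMor.fibreDimAt f x = FlatMor.localDim ↥(f ⁻¹' {f x}) ⟨x, rfl⟩ := by
  unfold FlatMor.fibreDimAt
  rw [localDim_eq_of_isHomeomorph _ (f.fiberHomeo (f x)).isHomeomorph]
  congr 1
  exact Subtype.ext (f.fiberι_asFiber x)

variable {X₁ : Scheme.{u}} (i : X₁ ⟶ X) [IsPreimmersion i]

/-- The local fibre dimension does not increase on passing to a subscheme. -/
theorem fibreDimAt_preimmersion_comp_le (w : X₁) :
    FlatMor.fibreDimAt (i ≫ f) w ≤ FlatMor.fibreDimAt f (i w) := by
  rw [fibreDimAt_eq_localDim_preimage, fibreDimAt_eq_localDim_preimage]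
  let ρ : ↥((i ≫ f) ⁻¹' {(i ≫ f) w}) → ↥(f ⁻¹' {f (i w)}) := fun z => ⟨i z.1, z.2⟩
  have hρ : IsInducing ρ := by
    refine IsInducing.of_comp ?_ continuous_subtype_val ?_
    · exact (i.continuous.comp continuous_subtype_val).subtype_mk _
    · exact i.isEmbedding.isInducing.comp IsInducing.subtypeVal
  exact localDim_le_of_isInducing ρ hρ ⟨w, rfl⟩

/-- The local fibre dimension of a subscheme as the local dimension of the trace of the fibre. -/
theorem fibreDimAt_preimmersion_comp_eq (w : X₁) :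
    FlatMor.fibreDimAt (i ≫ f) w =
      FlatMor.localDim ↥(Set.range i ∩ f ⁻¹' {f (i w)}) ⟨i w, ⟨w, rfl⟩, rfl⟩ := by
  rw [fibreDimAt_eq_localDim_preimage]
  let ρ : ↥((i ≫ f) ⁻¹' {(i ≫ f) w}) → ↥(Set.range i ∩ f ⁻¹' {f (i w)}) :=
    fun z => ⟨i z.1, ⟨z.1, rfl⟩, z.2⟩
  have hρ : IsEmbedding ρ := by
    refine IsEmbedding.of_comp ?_ continuous_subtype_val ?_
    · exact (i.continuous.comp continuous_subtype_val).subtype_mk _
    · exact i.isEmbedding.comp IsEmbedding.subtypeVal
  have hsurj : Function.Surjective ρ := by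
    rintro ⟨_, ⟨z, rfl⟩, hz⟩
    exact ⟨⟨z, hz⟩, rfl⟩
  exact localDim_eq_of_isHomeomorph ρ (isHomeomorph_iff_isEmbedding_surjective.mpr ⟨hρ, hsurj⟩)
    ⟨w, rfl⟩

/-- The trace of the fibre over `y` on the range of a preimmersion has the dimension of the fibre
of the composite. -/
theorem topologicalKrullDim_range_inter_preimage (y : Y) :
    topologicalKrullDim ↥(Set.range i ∩ f ⁻¹' {y}) =
      topologicalKrullDim ↥((i ≫ f) ⁻¹' {y}) := by
  symm
  let ρ : ↥((i ≫ f) ⁻¹' {y}) → ↥(Set.range i ∩ f ⁻¹' {y}) :=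
    fun z => ⟨i z.1, ⟨z.1, rfl⟩, z.2⟩
  have hρ : IsEmbedding ρ := by
    refine IsEmbedding.of_comp ?_ continuous_subtype_val ?_
    · exact (i.continuous.comp continuous_subtype_val).subtype_mk _
    · exact i.isEmbedding.comp IsEmbedding.subtypeVal
  have hsurj : Function.Surjective ρ := by
    rintro ⟨_, ⟨z, rfl⟩, hz⟩
    exact ⟨⟨z, hz⟩, rfl⟩
  exact IsHomeomorph.topologicalKrullDim_eq ρ
    (isHomeomorph_iff_isEmbedding_surjective.mpr ⟨hρ, hsurj⟩)

end fibreTop

section genericFibre

variable {X₁ Y : Scheme.{u}} (g : X₁ ⟶ Y) [LocallyOfFiniteType g] [IrreducibleSpace X₁]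

/-- The set-theoretic fibre through the generic point `ξ` of an irreducible scheme has dimension
`trdeg κ(ξ)/κ(g ξ)`. -/
theorem exists_dim_closure_fiber_eq_trdeg' (ξ : X₁) (hξ : ξ = genericPoint ↥X₁) :
    ∃ m : ℕ, topologicalKrullDim ↥(g ⁻¹' {g ξ}) = m ∧
      @Algebra.trdeg (Y.residueField (g ξ)) (X₁.residueField ξ) _ _
        (g.residueFieldMap ξ).hom.toAlgebra = m := by
  obtain ⟨m, hm1, hm2⟩ := exists_dim_closure_asFiber_eq_trdeg g ξ
  refine ⟨m, ?_, hm2⟩
  rw [← hm1]
  have h := topologicalKrullDim_closure_inter_range_eq (g.fiberι (g ξ)) (g.fiberι (g ξ)).isEmbedding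
    (g.asFiber ξ)
  rw [g.fiberι_asFiber, g.range_fiberι] at h
  rw [← h]
  have hcl : closure ({ξ} : Set X₁) = Set.univ := by
    rw [hξ]
    exact (genericPoint_spec ↥X₁).def
  rw [hcl, Set.univ_inter]

end genericFibre

section chain

variable {X Y X₁ Y₁ : Scheme.{u}} [IsLocallyNoetherian Y] (f : X ⟶ Y) [LocallyOfFiniteType f]
  (iX : X₁ ⟶ X) [IsClosedImmersion iX] [IrreducibleSpace X₁]
  (iY : Y₁ ⟶ Y) [IsClosedImmersion iY] [IrreducibleSpace Y₁]

/-- **The chain of inequalities** relating the dimensions of the local rings of an irreducible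
closed subscheme `X₁` of `X`, of the closure `Y₁` of its image, and of the fibres
(EGA IV 13.3.x). -/
theorem closed_subscheme_dim_chain
    (hη : iY (genericPoint ↥Y₁) = f (iX (genericPoint ↥X₁))) (w : X₁) (v : Y₁)
    (hv : iY v = f (iX w)) :
    ∃ a a' b' k k' t m : ℕ,
      ringKrullDim (Y.presheaf.stalk (f (iX w))) = a ∧
      ringKrullDim (Y₁.presheaf.stalk v) = a' ∧
      ringKrullDim (X₁.presheaf.stalk w) = b' ∧
      ringKrullDim ((f.fiber (f (iX w))).presheaf.stalk (f.asFiber (iX w))) = k ∧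
      ringKrullDim (((iX ≫ f).fiber ((iX ≫ f) w)).presheaf.stalk ((iX ≫ f).asFiber w)) = k' ∧
      FlatMor.fibreDimAt (iX ≫ f) w = ((k' + t : ℕ) : WithBot ℕ∞) ∧
      FlatMor.fibreDimAt f (iX w) = ((k + t : ℕ) : WithBot ℕ∞) ∧
      topologicalKrullDim ↥(Set.range iX ∩ f ⁻¹' {f (iX (genericPoint ↥X₁))}) = m ∧
      b' + t ≤ a' + m ∧ m ≤ k' + t ∧ a' ≤ a ∧ k' ≤ k := by
  have hX₁ : IsLocallyNoetherian X₁ := LocallyOfFiniteType.isLocallyNoetherian (iX ≫ f)
  have hY₁ : IsLocallyNoetherian Y₁ := LocallyOfFiniteType.isLocallyNoetherian iY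
  have hspec : genericPoint ↥X₁ ⤳ w := genericPoint_specializes w
  obtain ⟨V, hV, hwV, -⟩ := exists_isAffineOpen_mem_and_subset (x := (iX ≫ f) w) (U := ⊤) trivial
  have hξV : (iX ≫ f) (genericPoint ↥X₁) ∈ V :=
    (hspec.map (iX ≫ f).continuous).mem_open V.2 hwV
  obtain ⟨t, ht, hfdg⟩ := fibreDimAt_eq_stalk_fiber_add_trdeg (iX ≫ f) w
  obtain ⟨t', ht', hfdf⟩ := fibreDimAt_eq_stalk_fiber_add_trdeg f (iX w)
  have htt : t' = t := by
    have h := trdeg_residueField_preimmersion_comp iX f w
    have : ((t : ℕ) : Cardinal) = ((t' : ℕ) : Cardinal) := by rw [← ht, ← ht', h]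
    exact_mod_cast this.symm
  subst htt
  obtain ⟨m, hm⟩ := exists_trdeg_residueField_eq_natCast (iX ≫ f) (genericPoint ↥X₁)
  have hchart := stalk_add_trdeg_le_chart_of_irreducible (iX ≫ f) w hV hwV hξV t' m ht hm
  -- the local ring of `Y₁`
  have hvV : iY v ∈ V := by rw [hv]; exact hwV
  have hηV : iY (genericPoint ↥Y₁) ∈ V := by rw [hη]; exact hξV
  have hA' := ringKrullDim_stalk_closedImmersion iY v hV hvV hηV
  rw [height_map_quotient_congr hV _ ((iX ≫ f) w) _ ((iX ≫ f) (genericPoint ↥X₁)) hvV hwV hηV hξV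
    hv hη] at hA'
  -- Chevalley
  have hche := trdeg_le_fibreDimAt_of_specializes (iX ≫ f) (genericPoint ↥X₁) w hspec m hm
  -- naturals
  obtain ⟨a, ha⟩ := exists_nat_ringKrullDim_stalk ((iX ≫ f) w)
  obtain ⟨b', hb'⟩ := exists_nat_ringKrullDim_stalk w
  obtain ⟨a', ha'⟩ := exists_nat_height_map_quotient hV ((iX ≫ f) (genericPoint ↥X₁))
    ((iX ≫ f) w) hξV hwV (hspec.map (iX ≫ f).continuous)
  obtain ⟨k, hk⟩ := exists_nat_ringKrullDim_stalk_fiber f (iX w)
  obtain ⟨k', hk'⟩ := exists_nat_ringKrullDim_stalk_fiber (iX ≫ f) w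
  rw [ha'] at hA' hchart
  rw [hb'] at hchart
  rw [hk'] at hfdg
  rw [hk] at hfdf
  rw [hfdg] at hche
  -- `a' ≤ a`
  have hpz : (hV.primeIdealOf ⟨(iX ≫ f) w, hwV⟩).asIdeal.IsPrime := (hV.primeIdealOf _).2
  have hle : (hV.primeIdealOf ⟨(iX ≫ f) (genericPoint ↥X₁), hξV⟩).asIdeal ≤
      (hV.primeIdealOf ⟨(iX ≫ f) w, hwV⟩).asIdeal :=
    (primeIdealOf_le_iff_specializes hV _ _ hξV hwV).mpr (hspec.map (iX ≫ f).continuous)
  have hht := height_map_quotient_le _ _ hle
  rw [ha'] at hht
  have hah : ((hV.primeIdealOf ⟨(iX ≫ f) w, hwV⟩).asIdeal.height : WithBot ℕ∞) = a := by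
    rw [← ha, Groth.Agent.S4442.ringKrullDim_stalk_eq_height Y hV ((iX ≫ f) w) hwV]
  have hah' : (hV.primeIdealOf ⟨(iX ≫ f) w, hwV⟩).asIdeal.height = (a : ℕ∞) := by
    exact_mod_cast hah
  rw [hah'] at hht
  have h1 : a' ≤ a := by exact_mod_cast hht
  -- `k' ≤ k`
  have hfle := fibreDimAt_preimmersion_comp_le f iX w
  rw [hfdg, hfdf] at hfle
  have h2 : k' + t' ≤ k + t' := by exact_mod_cast hfle
  -- the generic fibre
  obtain ⟨m', hm'1, hm'2⟩ := exists_dim_closure_fiber_eq_trdeg' (iX ≫ f) (genericPoint ↥X₁) rfl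
  have hm'm : m' = m := by
    have : ((m' : ℕ) : Cardinal) = ((m : ℕ) : Cardinal) := by rw [← hm'2, ← hm]
    exact_mod_cast this
  have he' : topologicalKrullDim ↥(Set.range iX ∩ f ⁻¹' {f (iX (genericPoint ↥X₁))}) = m := by
    rw [topologicalKrullDim_range_inter_preimage f iX, ← hm'm, ← hm'1]
    rfl
  refine ⟨a, a', b', k, k', t', m, ha, by exact_mod_cast hA', hb', hk, hk', ?_, ?_, he', ?_, ?_, h1,
    by omega⟩
  · rw [hfdg]; push_cast; rfl
  · rw [hfdf]; push_cast; rfl
  · exact_mod_cast hchart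
  · exact_mod_cast hche

end chain

end Groth.Agent.Lib.Helper55
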