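import Groth.Agent.Lib.Helper55.FibreDimFormula

/-! Dimensions of irreducible components of fibres versus the generic fibre (helper55). -/

set_option autoImplicit false

universe u

namespace Groth.Agent.Lib.Helper55

open AlgebraicGeometry CategoryTheory

section main

variable {X Y : Scheme.{u}} [IsLocallyNoetherian Y] (f : X ⟶ Y) [LocallyOfFiniteType f]

/-- **Lemma D.**  Let `Y` be irreducible and locally Noetherian, `O_{Y,y}` universally catenary, and
suppose `dim O_{X,z} = dim O_{Y,y}` for every maximal point `z` of the fibre `X_y`. Then the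
dimension of every irreducible component of `X_y` is the dimension of an irreducible component of
the generic fibre. -/
theorem exists_irreducibleComponent_genericFiber [IrreducibleSpace Y] (y : Y)
    (hcat : CAlg.IsUniversallyCatenary (Y.presheaf.stalk y))
    (hb : ∀ z : X, f z = y → (∀ z' : X, f z' = y → z' ⤳ z → z' = z) →
      ringKrullDim (X.presheaf.stalk z) = ringKrullDim (Y.presheaf.stalk y))
    (Z : Set ↥(f.fiber y)) (hZ : Z ∈ irreducibleComponents ↥(f.fiber y)) :
    ∃ Z' ∈ irreducibleComponents ↥(f.fiber (genericPoint ↥Y)),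
      topologicalKrullDim ↥Z' = topologicalKrullDim ↥Z := by
  have hX : IsLocallyNoetherian X := LocallyOfFiniteType.isLocallyNoetherian f
  -- the generic point of `Z`
  have hZcl : IsClosed Z := isClosed_of_mem_irreducibleComponents Z hZ
  have hq : closure {hZ.1.genericPoint} = Z := (hZ.1.isGenericPoint_genericPoint hZcl).def
  set z' := hZ.1.genericPoint with hz'def
  have hz'comp : closure ({z'} : Set ↥(f.fiber y)) ∈ irreducibleComponents ↥(f.fiber y) := by
    rw [hq]; exact hZ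
  set z := f.fiberι y z' with hzdef
  have hfz : f z = y := by
    have : z ∈ Set.range (f.fiberι y) := ⟨z', rfl⟩
    rw [f.range_fiberι] at this
    exact this
  have hzmax : ∀ w : X, f w = y → w ⤳ z → w = z := by
    intro w hw hwz
    have hwr : w ∈ Set.range (f.fiberι y) := by
      rw [f.range_fiberι]
      exact hw
    obtain ⟨w', rfl⟩ := hwr
    have h1 : w' ⤳ z' := (f.fiberι y).isEmbedding.isInducing.specializes_iff.mp hwz
    have h2 : z' ⤳ w' := specializes_of_closure_mem_irreducibleComponents z' hz'comp w' h1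
    rw [(h1.antisymm h2).eq]
  have hdimz := hb z hfz hzmax
  obtain ⟨nz, hnz1, hnz2⟩ := exists_dim_closure_fiber_eq_trdeg f y z' z rfl
  -- charts
  obtain ⟨V, hV, hyV, -⟩ := exists_isAffineOpen_mem_and_subset (x := f z) (U := ⊤) trivial
  obtain ⟨U, hU, hzU, e⟩ := exists_isAffineOpen_mem_and_subset (x := z) (U := f ⁻¹ᵁ V) hyV
  obtain ⟨ξ, hξU, hξz, hξmax, hcz⟩ := exists_maximal_point_chart hU z hzU
  have hmin : ∀ w : X, ξ ⤳ w → w ⤳ z → f w = f z → w = z :=
    fun w _ h2 h3 => hzmax w (h3.trans hfz) h2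
  have hK := chart_height_le_of_minimal f hV hU e ξ z hξU hzU hξz hmin
  obtain ⟨nξ, hnξ⟩ := exists_trdeg_residueField_eq_natCast f ξ
  have hcat' : CAlg.IsUniversallyCatenary (Y.presheaf.stalk (f z)) := by rw [hfz]; exact hcat
  have E1 := chart_height_add_trdeg_eq_local f hV hU e ξ z hξU hzU hξz hcat' nz nξ hnz2 hnξ
  obtain ⟨cz, hcz'⟩ := exists_nat_height_map_quotient hU ξ z hξU hzU hξz
  obtain ⟨h, hh'⟩ := exists_nat_height_map_quotient hV (f ξ) (f z) (e hξU) (e hzU)
    (hξz.map f.continuous)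
  obtain ⟨D, hD⟩ := exists_nat_ringKrullDim_stalk (f z)
  obtain ⟨k, hk⟩ := exists_nat_ringKrullDim_stalk (f ξ)
  have hpz : (hV.primeIdealOf ⟨f z, e hzU⟩).asIdeal.IsPrime := (hV.primeIdealOf _).2
  have hpξ : (hV.primeIdealOf ⟨f ξ, e hξU⟩).asIdeal.IsPrime := (hV.primeIdealOf _).2
  have hle : (hV.primeIdealOf ⟨f ξ, e hξU⟩).asIdeal ≤ (hV.primeIdealOf ⟨f z, e hzU⟩).asIdeal :=
    (primeIdealOf_le_iff_specializes hV (f ξ) (f z) (e hξU) (e hzU)).mpr (hξz.map f.continuous)
  have hPp : ((hV.primeIdealOf ⟨f z, e hzU⟩).asIdeal.map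
      (Ideal.Quotient.mk (hV.primeIdealOf ⟨f ξ, e hξU⟩).asIdeal)).IsPrime :=
    map_mk_isPrime_of_le _ _ hle
  have hadd := Groth.Agent.H8.DimFormula.height_map_mk_add_height_le Γ(Y, V)
    (hV.primeIdealOf ⟨f ξ, e hξU⟩).asIdeal (hV.primeIdealOf ⟨f z, e hzU⟩).asIdeal hle
  rw [hh'] at hadd hK E1
  rw [hcz'] at hK E1
  have hDh : ((hV.primeIdealOf ⟨f z, e hzU⟩).asIdeal.height : WithBot ℕ∞) = D := by
    rw [← hD, Groth.Agent.S4442.ringKrullDim_stalk_eq_height Y hV (f z) (e hzU)]
  have hkh : ((hV.primeIdealOf ⟨f ξ, e hξU⟩).asIdeal.height : WithBot ℕ∞) = k := by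
    rw [← hk, Groth.Agent.S4442.ringKrullDim_stalk_eq_height Y hV (f ξ) (e hξU)]
  have hDh' : (hV.primeIdealOf ⟨f z, e hzU⟩).asIdeal.height = (D : ℕ∞) := by exact_mod_cast hDh
  have hkh' : (hV.primeIdealOf ⟨f ξ, e hξU⟩).asIdeal.height = (k : ℕ∞) := by exact_mod_cast hkh
  rw [hDh', hkh'] at hadd
  have haddn : h + k ≤ D := by exact_mod_cast hadd
  have hKn : cz ≤ h := by exact_mod_cast hK
  have E1n : cz + nz = h + nξ := by exact_mod_cast E1
  -- `cz = D`
  have hczD : cz = D := by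
    have h1 : ringKrullDim (X.presheaf.stalk z) = (cz : WithBot ℕ∞) := by
      rw [Groth.Agent.S4442.ringKrullDim_stalk_eq_height X hU z hzU, ← hcz, hcz']
      rfl
    have h2 := congrArg (fun t => ringKrullDim (Y.presheaf.stalk t)) hfz
    simp only at h2
    rw [h1, ← h2, hD] at hdimz
    exact_mod_cast hdimz
  have hk0 : k = 0 := by omega
  have hnn : nz = nξ := by omega
  -- `f ξ` is the generic point
  have hfξ : f ξ = genericPoint ↥Y := by
    have h1 : genericPoint ↥Y ⤳ f ξ := (genericPoint_spec ↥Y).specializes (Set.mem_univ _)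
    exact (eq_of_specializes_of_ringKrullDim_stalk_eq_zero (f ξ) (genericPoint ↥Y)
      (by rw [hk, hk0]; rfl) h1).symm
  have hξr : ξ ∈ Set.range (f.fiberι (genericPoint ↥Y)) := by
    rw [f.range_fiberι]
    exact hfξ
  obtain ⟨ξ', hξ'⟩ := hξr
  obtain ⟨n', hn'1, hn'2⟩ := exists_dim_closure_fiber_eq_trdeg f (genericPoint ↥Y) ξ' ξ hξ'
  have hn'n : n' = nξ := by
    have : ((n' : ℕ) : Cardinal) = ((nξ : ℕ) : Cardinal) := by rw [← hn'2, ← hnξ]
    exact_mod_cast this
  refine ⟨closure {ξ'}, ?_, ?_⟩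
  · apply closure_mem_irreducibleComponents_of_maximal
    intro w' hw'
    have h1 : f.fiberι (genericPoint ↥Y) w' ⤳ ξ := by
      rw [← hξ']
      exact hw'.map (f.fiberι (genericPoint ↥Y)).continuous
    have h2 := hξmax _ h1
    rw [← hξ'] at h2
    exact (f.fiberι (genericPoint ↥Y)).isEmbedding.isInducing.specializes_iff.mp h2
  · rw [hn'1, hn'n, ← hnn, ← hnz1, hq]

end main

end Groth.Agent.Lib.Helper55
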