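import Groth.Agent.Lib.Helper55.EquidimSub
import Groth.Agent.S3393

/-! A criterion for equidimensionality at a point in terms of the irreducible components through
the point (EGA IV 13.3.1) (helper55). -/

set_option autoImplicit false

universe u

namespace Groth.Agent.Lib.Helper55

open AlgebraicGeometry CategoryTheory Topology

section maximalNear

variable {X : Scheme.{u}} [IsLocallyNoetherian X]

/-- In a locally Noetherian scheme every point `x` has an open neighbourhood all of whose maximal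
points specialize to `x`. -/
theorem exists_open_forall_maximal_specializes (x : X) :
    ∃ W : X.Opens, x ∈ W ∧ ∀ ζ : X, ζ ∈ W → (∀ w : X, w ⤳ ζ → ζ ⤳ w) → ζ ⤳ x := by
  obtain ⟨U₀, hU₀, hxU₀, -⟩ := exists_isAffineOpen_mem_and_subset (x := x) (U := ⊤) trivial
  have hN : IsNoetherianRing Γ(X, U₀) := IsLocallyNoetherian.component_noetherian ⟨U₀, hU₀⟩
  have hNS : TopologicalSpace.NoetherianSpace ↥(U₀ : Scheme.{u}) :=
    noetherianSpace_of_isAffineOpen U₀ hU₀
  have hfin : (irreducibleComponents ↥(U₀ : Scheme.{u})).Finite :=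
    TopologicalSpace.NoetherianSpace.finite_irreducibleComponents
  set x' : ↥(U₀ : Scheme.{u}) := ⟨x, hxU₀⟩ with hx'
  set S : Set (Set ↥(U₀ : Scheme.{u})) :=
    {C | C ∈ irreducibleComponents ↥(U₀ : Scheme.{u}) ∧ x' ∉ C} with hS
  have hSfin : S.Finite := hfin.subset fun C hC => hC.1
  have hBcl : IsClosed (⋃ C ∈ S, C) :=
    hSfin.isClosed_biUnion fun C hC => isClosed_of_mem_irreducibleComponents C hC.1
  have hopen : IsOpen (U₀.ι '' (⋃ C ∈ S, C)ᶜ) :=
    U₀.ι.isOpenEmbedding.isOpenMap _ hBcl.isOpen_compl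
  refine ⟨⟨U₀.ι '' (⋃ C ∈ S, C)ᶜ, hopen⟩, ⟨x', ?_, rfl⟩, ?_⟩
  · simp only [Set.mem_compl_iff, Set.mem_iUnion, not_exists]
    intro C hC hxC
    exact hC.2 hxC
  · rintro _ ⟨ζ', hζ', rfl⟩ hmax
    have hmax' : ∀ w' : ↥(U₀ : Scheme.{u}), w' ⤳ ζ' → ζ' ⤳ w' := by
      intro w' hw'
      exact (U₀.ι.isOpenEmbedding.isInducing.specializes_iff).mp
        (hmax _ (hw'.map U₀.ι.continuous))
    have hcomp := closure_mem_irreducibleComponents_of_maximal ζ' hmax'
    have hxC : x' ∈ closure ({ζ'} : Set ↥(U₀ : Scheme.{u})) := by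
      by_contra hcon
      apply hζ'
      simp only [Set.mem_iUnion]
      exact ⟨_, ⟨hcomp, hcon⟩, subset_closure rfl⟩
    exact (specializes_iff_mem_closure.mpr hxC).map U₀.ι.continuous

end maximalNear

section traces

variable {X Y : Scheme.{u}} (f : X ⟶ Y) [LocallyOfFiniteType f]

omit [LocallyOfFiniteType f] in
/-- The local dimension of the trace of a fibre on a subset is at most the local fibre
dimension. -/
theorem localDim_inter_fibre_le (T : Set X) (x : X) (hx : x ∈ T) :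
    FlatMor.localDim ↥(T ∩ f ⁻¹' {f x}) ⟨x, hx, rfl⟩ ≤ FlatMor.fibreDimAt f x := by
  rw [fibreDimAt_eq_localDim_preimage]
  let ρ : ↥(T ∩ f ⁻¹' {f x}) → ↥(f ⁻¹' {f x}) := fun z => ⟨z.1, z.2.2⟩
  have hρ : IsInducing ρ := by
    refine IsInducing.of_comp ?_ continuous_subtype_val ?_
    · exact continuous_subtype_val.subtype_mk _
    · exact IsInducing.subtypeVal
  exact localDim_le_of_isInducing ρ hρ ⟨x, hx, rfl⟩

theorem localDim_congr_set {T : Type*} [TopologicalSpace T] {A B : Set T} (h : A = B) (x : T)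
    (hA : x ∈ A) (hB : x ∈ B) :
    FlatMor.localDim ↥A ⟨x, hA⟩ = FlatMor.localDim ↥B ⟨x, hB⟩ := by
  subst h
  rfl

/-- **Chevalley's bound on a closed subset.**  For a closed subset `T`, a point `z ∈ T`
specializing to `x`, the transcendence degree of `κ(z)/κ(f z)` is at most the local dimension at
`x` of the trace on `T` of the fibre through `x`. -/
theorem trdeg_le_localDim_inter_fibre (T : TopologicalSpace.Closeds X) (x z : X) (hx : x ∈ T)
    (hz : z ∈ T) (hzx : z ⤳ x) (n : ℕ)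
    (hn : @Algebra.trdeg (Y.residueField (f z)) (X.residueField z) _ _
      (f.residueFieldMap z).hom.toAlgebra = n) :
    (n : WithBot ℕ∞) ≤ FlatMor.localDim ↥((T : Set X) ∩ f ⁻¹' {f x}) ⟨x, hx, rfl⟩ := by
  have hrT : Set.range (Scheme.IdealSheafData.vanishingIdeal T).subschemeι = (T : Set X) := by
    rw [Scheme.IdealSheafData.range_subschemeι, Scheme.IdealSheafData.coe_support_vanishingIdeal]
  have hzr : z ∈ Set.range (Scheme.IdealSheafData.vanishingIdeal T).subschemeι := by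
    rw [hrT]; exact hz
  have hxr : x ∈ Set.range (Scheme.IdealSheafData.vanishingIdeal T).subschemeι := by
    rw [hrT]; exact hx
  obtain ⟨z₁, rfl⟩ := hzr
  obtain ⟨w, rfl⟩ := hxr
  have hz₁w : z₁ ⤳ w :=
    ((Scheme.IdealSheafData.vanishingIdeal T).subschemeι.isEmbedding.isInducing.specializes_iff).mp
      hzx
  have hn' := (trdeg_residueField_preimmersion_comp
    (Scheme.IdealSheafData.vanishingIdeal T).subschemeι f z₁).trans hn
  have h1 := trdeg_le_fibreDimAt_of_specializes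
    ((Scheme.IdealSheafData.vanishingIdeal T).subschemeι ≫ f) z₁ w hz₁w n hn'
  rw [fibreDimAt_preimmersion_comp_eq f (Scheme.IdealSheafData.vanishingIdeal T).subschemeι w] at h1
  have hset : Set.range (Scheme.IdealSheafData.vanishingIdeal T).subschemeι ∩
      f ⁻¹' {f ((Scheme.IdealSheafData.vanishingIdeal T).subschemeι w)} =
      (T : Set X) ∩ f ⁻¹' {f ((Scheme.IdealSheafData.vanishingIdeal T).subschemeι w)} := by
    rw [hrT]
  rw [localDim_congr_set hset _ _ ⟨hx, rfl⟩] at h1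
  exact h1

end traces

section criterion

variable {X Y : Scheme.{u}} [IsLocallyNoetherian Y] (f : X ⟶ Y) [LocallyOfFiniteType f]

omit [IsLocallyNoetherian Y] [LocallyOfFiniteType f] in
theorem closure_image_eq_of_isGenericPoint (Xj : Set X) (ζ : X) (hζ : IsGenericPoint ζ Xj) :
    closure (f.base '' Xj) = closure ({f ζ} : Set Y) := by
  apply subset_antisymm
  · apply closure_minimal _ isClosed_closure
    rintro _ ⟨p, hp, rfl⟩
    rw [← hζ.def] at hp
    exact specializes_iff_mem_closure.mp ((specializes_iff_mem_closure.mpr hp).map f.continuous)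
  · apply closure_mono
    rintro _ rfl
    exact ⟨ζ, hζ.def ▸ subset_closure rfl, rfl⟩

omit [IsLocallyNoetherian Y] in
/-- **EGA IV 13.3.1, necessity.** -/
theorem components_of_isEquidimAt (x : X) (h : EGA43.IsEquidimAt f x) :
    ∃ e : ℕ, ∀ Xj ∈ irreducibleComponents (X : Type u), ∀ hx : x ∈ Xj,
      closure (f.base '' Xj) ∈ irreducibleComponents (Y : Type u) ∧
      (∀ η : Y, closure ({η} : Set Y) = closure (f.base '' Xj) →
        topologicalKrullDim ↥(Xj ∩ f.base ⁻¹' {η}) = e) ∧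
      FlatMor.localDim ↥(Xj ∩ f.base ⁻¹' {f.base x})
        ⟨x, ⟨hx, Set.mem_singleton (f.base x)⟩⟩ = e := by
  obtain ⟨e, U, hxU, h1, h2⟩ := h
  refine ⟨e, fun Xj hXj hx => ?_⟩
  have hcl : IsClosed Xj := isClosed_of_mem_irreducibleComponents Xj hXj
  obtain ⟨ζ, hζ⟩ := QuasiSober.sober hXj.1 hcl
  have hζXj : ζ ∈ Xj := hζ.def ▸ subset_closure rfl
  have hζx : ζ ⤳ x := by
    rw [specializes_iff_mem_closure, hζ.def]
    exact hx
  have hζU : ζ ∈ U := hζx.mem_open U.2 hxU
  have hζmax : ∀ w : X, w ⤳ ζ → ζ ⤳ w :=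
    specializes_of_closure_mem_irreducibleComponents ζ (by rw [hζ.def]; exact hXj)
  have himg := closure_image_eq_of_isGenericPoint f Xj ζ hζ
  have htr := trdeg_eq_of_isEquidimAt f h2 ζ hζU (fun w₁ _ hw => hζmax w₁ hw)
  refine ⟨?_, ?_, ?_⟩
  · rw [himg]
    exact closure_mem_irreducibleComponents_of_maximal (f ζ)
      (fun v hv => map_maximal_of_isEquidimAt f x h1 ζ hζU hζmax v hv)
  · intro η hη
    have hg1 : IsGenericPoint η (closure ({f ζ} : Set Y)) := by rw [← himg]; exact hη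
    have hg2 : IsGenericPoint (f ζ) (closure ({f ζ} : Set Y)) := rfl
    have hηeq : f ζ = η := hg2.eq hg1
    obtain ⟨m, hm1, hm2⟩ := Groth.Agent.S3393.dim_closure_inter_fibre f η ζ hηeq
    rw [hζ.def] at hm1
    have hme : m = e := by
      have : ((m : ℕ) : Cardinal) = ((e : ℕ) : Cardinal) := by rw [← hm2, ← htr]
      exact_mod_cast this
    rw [← hme]
    exact hm1
  · apply le_antisymm
    · exact (localDim_inter_fibre_le f Xj x hx).trans_eq
        (fibreDimAt_eq_of_isEquidimAt f x h2 hxU)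
    · exact trdeg_le_localDim_inter_fibre f ⟨Xj, hcl⟩ x ζ hx hζXj hζx e htr

/-- **EGA IV 13.3.1, sufficiency.** -/
theorem isEquidimAt_of_components (x : X) (e : ℕ)
    (H : ∀ Xj ∈ irreducibleComponents (X : Type u), ∀ hx : x ∈ Xj,
      closure (f.base '' Xj) ∈ irreducibleComponents (Y : Type u) ∧
      (∀ η : Y, closure ({η} : Set Y) = closure (f.base '' Xj) →
        topologicalKrullDim ↥(Xj ∩ f.base ⁻¹' {η}) = e) ∧
      FlatMor.localDim ↥(Xj ∩ f.base ⁻¹' {f.base x})
        ⟨x, ⟨hx, Set.mem_singleton (f.base x)⟩⟩ = e) :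
    EGA43.IsEquidimAt f x := by
  have hX : IsLocallyNoetherian X := LocallyOfFiniteType.isLocallyNoetherian f
  obtain ⟨W, hxW, hW⟩ := exists_open_forall_maximal_specializes x
  -- every maximal point `ζ ⤳ x` has `trdeg κ(ζ)/κ(f ζ) = e`
  have hgen : ∀ ζ : X, (∀ w : X, w ⤳ ζ → ζ ⤳ w) → ζ ⤳ x →
      closure ({f ζ} : Set Y) ∈ irreducibleComponents (Y : Type u) ∧
      @Algebra.trdeg (Y.residueField (f ζ)) (X.residueField ζ) _ _
        (f.residueFieldMap ζ).hom.toAlgebra = e := by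
    intro ζ hζmax hζx
    have hcomp := closure_mem_irreducibleComponents_of_maximal ζ hζmax
    have hx : x ∈ closure ({ζ} : Set X) := specializes_iff_mem_closure.mp hζx
    obtain ⟨Ha, Hb, -⟩ := H _ hcomp hx
    have himg := closure_image_eq_of_isGenericPoint f (closure ({ζ} : Set X)) ζ rfl
    rw [himg] at Ha
    refine ⟨Ha, ?_⟩
    have h1 := Hb (f ζ) himg.symm
    obtain ⟨m, hm1, hm2⟩ := Groth.Agent.S3393.dim_closure_inter_fibre f (f ζ) ζ rfl
    rw [h1] at hm1
    have : e = m := by exact_mod_cast hm1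
    rw [this]
    exact hm2
  -- the local fibre dimension at `x`
  have hfx : FlatMor.fibreDimAt f x = e := by
    apply le_antisymm
    · obtain ⟨z, hfz, hzx, -, n, hn, hFx, -, -⟩ := exists_maximal_point_fiber f x
      obtain ⟨Xj, hXj, hzXj⟩ := exists_mem_irreducibleComponents_subset_of_isIrreducible
        (closure ({z} : Set X)) isIrreducible_singleton.closure
      have hcl : IsClosed Xj := isClosed_of_mem_irreducibleComponents Xj hXj
      have hzmem : z ∈ Xj := hzXj (subset_closure rfl)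
      have hx : x ∈ Xj := hzXj (specializes_iff_mem_closure.mp hzx)
      obtain ⟨-, -, Hc⟩ := H Xj hXj hx
      have h1 := trdeg_le_localDim_inter_fibre f ⟨Xj, hcl⟩ x z hx hzmem hzx n hn
      rw [hFx]
      exact h1.trans_eq Hc
    · obtain ⟨Xj, hXj, hxXj⟩ := exists_mem_irreducibleComponents_subset_of_isIrreducible
        ({x} : Set X) isIrreducible_singleton
      have hx : x ∈ Xj := hxXj rfl
      obtain ⟨-, -, Hc⟩ := H Xj hXj hx
      exact Hc.symm.le.trans (localDim_inter_fibre_le f Xj x hx)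
  let U : X.Opens := W ⊓ ⟨{p : X | FlatMor.fibreDimAt f p ≤ (e : WithBot ℕ∞)},
    isOpen_setOf_fibreDimAt_le f e⟩
  have hxU : x ∈ U := ⟨hxW, hfx.le⟩
  -- maximal points of `U`
  have hmaxU : ∀ ζ' : ↥(U : Scheme.{u}), (∀ w' : ↥(U : Scheme.{u}), w' ⤳ ζ' → ζ' ⤳ w') →
      (∀ w : X, w ⤳ U.ι ζ' → U.ι ζ' ⤳ w) ∧ U.ι ζ' ⤳ x := by
    intro ζ' hζ'
    have h1 : ∀ w : X, w ⤳ U.ι ζ' → U.ι ζ' ⤳ w := by
      intro w hw
      have hwU : w ∈ U := hw.mem_open U.2 ζ'.2
      have h2 : (⟨w, hwU⟩ : ↥(U : Scheme.{u})) ⤳ ζ' :=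
        (U.ι.isOpenEmbedding.isInducing.specializes_iff).mp hw
      exact (hζ' _ h2).map U.ι.continuous
    exact ⟨h1, hW _ ζ'.2.1 h1⟩
  refine ⟨e, U, hxU, ?_, ?_⟩
  · intro Z hZ
    have hqs : QuasiSober ↥(U : Scheme.{u}) := inferInstance
    obtain ⟨ζ', hζ'⟩ := hqs.sober hZ.1 (isClosed_of_mem_irreducibleComponents Z hZ)
    have hζ'max : ∀ w' : ↥(U : Scheme.{u}), w' ⤳ ζ' → ζ' ⤳ w' :=
      specializes_of_closure_mem_irreducibleComponents ζ' (by rw [hζ'.def]; exact hZ)
    obtain ⟨hmax, hζx⟩ := hmaxU ζ' hζ'max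
    obtain ⟨Ha, -⟩ := hgen _ hmax hζx
    refine ⟨closure ({f (U.ι ζ')} : Set Y), Ha,
      specializes_iff_mem_closure.mp (hζx.map f.continuous), ?_⟩
    exact closure_image_eq_of_isGenericPoint (U.ι ≫ f) Z ζ' hζ'
  · intro p
    have hlft : LocallyOfFiniteType ((U.ι ≫ f).fiberToSpecResidueField ((U.ι ≫ f) p)) :=
      MorphismProperty.pullback_snd (P := @LocallyOfFiniteType) _ _ inferInstance
    refine (forall_irreducibleComponents_dim_eq_iff
      (k := ↑(Y.residueField ((U.ι ≫ f) p)))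
      ((U.ι ≫ f).fiberToSpecResidueField ((U.ι ≫ f) p)) (e : WithBot ℕ∞)).mpr ?_
    intro zf
    rw [localDim_fiber_eq_fibreDimAt (U.ι ≫ f) _ zf]
    have hsq := Groth.Agent.H52.fibreDimAt_eq_of_etale_square U.ι (𝟙 Y) (U.ι ≫ f) f
      (by rw [Category.comp_id]) ((U.ι ≫ f).fiberι _ zf)
    rw [hsq]
    apply le_antisymm
    · exact ((U.ι ≫ f).fiberι _ zf).2.2
    · -- a maximal point above
      set P : X := U.ι ((U.ι ≫ f).fiberι _ zf) with hP
      obtain ⟨Xj, hXj, hPXj⟩ := exists_mem_irreducibleComponents_subset_of_isIrreducible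
        (closure ({P} : Set X)) isIrreducible_singleton.closure
      obtain ⟨ζ, hζ⟩ := QuasiSober.sober hXj.1 (isClosed_of_mem_irreducibleComponents Xj hXj)
      have hζP : ζ ⤳ P := by
        rw [specializes_iff_mem_closure, hζ.def]
        exact hPXj (subset_closure rfl)
      have hζmax : ∀ w : X, w ⤳ ζ → ζ ⤳ w :=
        specializes_of_closure_mem_irreducibleComponents ζ (by rw [hζ.def]; exact hXj)
      have hζU : ζ ∈ U := hζP.mem_open U.2 ((U.ι ≫ f).fiberι _ zf).2
      have hζx : ζ ⤳ x := hW ζ hζU.1 hζmax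
      obtain ⟨-, htr⟩ := hgen ζ hζmax hζx
      exact trdeg_le_fibreDimAt_of_specializes f ζ P hζP e htr

end criterion

end Groth.Agent.Lib.Helper55
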