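import Groth.Agent.Lib.Helper55.OpenAtComponent
import Groth.Agent.Lib.Helper55.GroupLocalDim
import Groth.Agent.S4985

/-! Base change lemmas: dimension of fibres under arbitrary base change, and openness at a point
of a base change along a preimmersion (helper55). -/

set_option autoImplicit false

universe u

namespace Groth.Agent.Lib.Helper55

open AlgebraicGeometry CategoryTheory Topology Limits

section fibreDim

variable {X Y : Scheme.{u}} (f : X ⟶ Y) [LocallyOfFiniteType f]

omit [LocallyOfFiniteType f] in
/-- The dimension of a fibre is the supremum of the local fibre dimensions at its points. -/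
theorem topologicalKrullDim_fiber_eq_iSup (s : Y) :
    topologicalKrullDim ↥(f.fiber s) =
      ⨆ x : {x : X // f x = s}, FlatMor.fibreDimAt f x.1 := by
  rw [topologicalKrullDim_eq_iSup_localDim]
  apply le_antisymm
  · refine iSup_le fun z => ?_
    have hx : f (f.fiberι s z) = s := by
      have : f.fiberι s z ∈ Set.range (f.fiberι s) := ⟨z, rfl⟩
      rw [f.range_fiberι] at this
      exact this
    rw [localDim_fiber_eq_fibreDimAt f s z]
    exact le_iSup (fun x : {x : X // f x = s} => FlatMor.fibreDimAt f x.1) ⟨_, hx⟩
  · refine iSup_le fun x => ?_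
    have hxr : x.1 ∈ Set.range (f.fiberι s) := by
      rw [f.range_fiberι]; exact x.2
    obtain ⟨z, hz⟩ := hxr
    rw [← hz, ← localDim_fiber_eq_fibreDimAt f s z]
    exact le_iSup (fun z : ↥(f.fiber s) => FlatMor.localDim ↥(f.fiber s) z) z

variable {X' Y' : Scheme.{u}} (g : Y' ⟶ Y) (g' : X' ⟶ X) (f' : X' ⟶ Y')
  (hsq : IsPullback g' f' f g)

include hsq in
/-- **The dimension of the fibres is invariant under base change.** -/
theorem topologicalKrullDim_fiber_eq_of_isPullback (s' : Y') :
    topologicalKrullDim ↥(f'.fiber s') = topologicalKrullDim ↥(f.fiber (g s')) := by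
  have hlft : LocallyOfFiniteType f' :=
    MorphismProperty.of_isPullback (P := @LocallyOfFiniteType) hsq ‹_›
  rw [topologicalKrullDim_fiber_eq_iSup f', topologicalKrullDim_fiber_eq_iSup f]
  apply le_antisymm
  · refine iSup_le fun x' => ?_
    have hx : f (g' x'.1) = g s' := by
      have := congr(($(hsq.w)) x'.1)
      exact this.trans (congrArg g x'.2)
    rw [fibreDimAt_eq_of_isPullback f g g' f' hsq x'.1]
    exact le_iSup (fun x : {x : X // f x = g s'} => FlatMor.fibreDimAt f x.1) ⟨_, hx⟩
  · refine iSup_le fun x => ?_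
    obtain ⟨z, hz1, hz2⟩ := Scheme.Pullback.exists_preimage_pullback (f := f) (g := g) x.1 s' x.2
    have h1 : g' (hsq.isoPullback.inv z) = x.1 := by
      have := congr(($(hsq.isoPullback_inv_fst)) z)
      exact this.trans hz1
    have h2 : f' (hsq.isoPullback.inv z) = s' := by
      have := congr(($(hsq.isoPullback_inv_snd)) z)
      exact this.trans hz2
    rw [← h1, ← fibreDimAt_eq_of_isPullback f g g' f' hsq]
    exact le_iSup (fun x' : {x' : X' // f' x' = s'} => FlatMor.fibreDimAt f' x'.1) ⟨_, h2⟩

end fibreDim

section openAt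

variable {X Y Y' : Scheme.{u}} (f : X ⟶ Y) (j : Y' ⟶ Y) [IsPreimmersion j]

/-- Openness at a point passes to the base change along a preimmersion. -/
theorem isOpenAt_snd_of_isOpenAt (x' : ↥(pullback f j))
    (h : EGA43.IsOpenAt f.base (pullback.fst f j x')) :
    EGA43.IsOpenAt (pullback.snd f j).base x' := by
  intro U' hU'
  have hind : IsInducing (pullback.fst f j) := (pullback.fst f j).isEmbedding.isInducing
  rw [hind.nhds_eq_comap] at hU'
  obtain ⟨U, hU, hUU'⟩ := hU'
  have h1 : f '' U ∈ 𝓝 (f (pullback.fst f j x')) := h U hU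
  have hcond : f (pullback.fst f j x') = j (pullback.snd f j x') :=
    congr(($(pullback.condition (f := f) (g := j))) x')
  rw [hcond] at h1
  have h2 : j ⁻¹' (f '' U) ∈ 𝓝 (pullback.snd f j x') := j.continuous.continuousAt h1
  refine Filter.mem_of_superset h2 ?_
  rintro s' ⟨u, hu, hus⟩
  obtain ⟨z, hz1, hz2⟩ := Scheme.Pullback.exists_preimage_pullback (f := f) (g := j) u s' hus
  exact ⟨z, hUU' (by rw [Set.mem_preimage, hz1]; exact hu), hz2⟩

end openAt

section component

variable {Y : Scheme.{u}}

/-- The reduced induced subscheme on the closure of a point `η`: it is irreducible, its image is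
the closure of `η`, and its generic point is `η`. -/
theorem closure_subscheme_setup (η : Y) :
    ∃ (_ : IrreducibleSpace ↥(Scheme.IdealSheafData.vanishingIdeal
        (⟨closure {η}, isClosed_closure⟩ : TopologicalSpace.Closeds Y)).subscheme),
      Set.range (Scheme.IdealSheafData.vanishingIdeal
        (⟨closure {η}, isClosed_closure⟩ : TopologicalSpace.Closeds Y)).subschemeι =
        closure {η} ∧
      (Scheme.IdealSheafData.vanishingIdeal
        (⟨closure {η}, isClosed_closure⟩ : TopologicalSpace.Closeds Y)).subschemeι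
        (genericPoint ↥(Scheme.IdealSheafData.vanishingIdeal
          (⟨closure {η}, isClosed_closure⟩ : TopologicalSpace.Closeds Y)).subscheme) = η := by
  have hcl : closure ({η} : Set Y) = closure ((𝟙 Y : Y ⟶ Y).base ''
      ((⟨closure {η}, isClosed_closure⟩ : TopologicalSpace.Closeds Y) : Set Y)) := by
    have : ((𝟙 Y : Y ⟶ Y).base '' ((⟨closure {η}, isClosed_closure⟩ :
        TopologicalSpace.Closeds Y) : Set Y)) = closure {η} := by
      ext p
      simp
    rw [this, closure_closure]
  obtain ⟨hirr, -, hr, hgen, -⟩ := Groth.Agent.S4985.setup (𝟙 Y)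
    (⟨closure {η}, isClosed_closure⟩ : TopologicalSpace.Closeds Y)
    isIrreducible_singleton.closure η hcl
  exact ⟨hirr, hr, hgen⟩

end component

end Groth.Agent.Lib.Helper55
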