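import Groth.Agent.Lib.Helper55.ClosedSubschemeDim
import Groth.Agent.Lib.Helper55.DimStalk

/-! Fibre dimension at a point whose image has a Noetherian local ring: reduction to a locally
Noetherian base by base change to the spectrum of the local ring (helper55). -/

set_option autoImplicit false

universe u

namespace Groth.Agent.Lib.Helper55

open AlgebraicGeometry CategoryTheory Topology

section general

variable {X Y : Scheme.{u}} (f : X ⟶ Y) [LocallyOfFiniteType f]

/-- At a maximal point the local fibre dimension is the transcendence degree of the residue field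
extension. -/
theorem fibreDimAt_eq_trdeg_of_maximal (ξ : X) (hξ : ∀ w : X, w ⤳ ξ → ξ ⤳ w) :
    ∃ m : ℕ, @Algebra.trdeg (Y.residueField (f ξ)) (X.residueField ξ) _ _
        (f.residueFieldMap ξ).hom.toAlgebra = m ∧ FlatMor.fibreDimAt f ξ = m := by
  obtain ⟨z, -, hzξ, -, n, hn, hF, -, -⟩ := exists_maximal_point_fiber f ξ
  have hzeq : z = ξ := (hzξ.antisymm (hξ z hzξ)).eq
  subst hzeq
  exact ⟨n, hn, hF⟩

/-- Strict specializations give quotient primes of positive height in charts. -/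
theorem one_le_height_map_quotient {U : X.Opens} (hU : IsAffineOpen U) (ξ z : X) (hξ : ξ ∈ U)
    (hz : z ∈ U) (hspec : ξ ⤳ z) (hne : ξ ≠ z) :
    1 ≤ ((hU.primeIdealOf ⟨z, hz⟩).asIdeal.map
      (Ideal.Quotient.mk (hU.primeIdealOf ⟨ξ, hξ⟩).asIdeal)).height := by
  have hp1 : (hU.primeIdealOf ⟨ξ, hξ⟩).asIdeal.IsPrime := (hU.primeIdealOf _).2
  have hdom : IsDomain (Γ(X, U) ⧸ (hU.primeIdealOf ⟨ξ, hξ⟩).asIdeal) :=
    (Ideal.Quotient.isDomain_iff_prime _).mpr hp1
  rw [Order.one_le_iff_ne_zero, Ne, Ideal.height_eq_zero_iff_eq_bot]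
  intro h
  rw [Ideal.map_eq_bot_iff_le_ker, Ideal.mk_ker] at h
  have hle : (hU.primeIdealOf ⟨ξ, hξ⟩).asIdeal ≤ (hU.primeIdealOf ⟨z, hz⟩).asIdeal :=
    (primeIdealOf_le_iff_specializes hU ξ z hξ hz).mpr hspec
  exact hne (primeIdealOf_injective hU ξ z hξ hz (PrimeSpectrum.ext (le_antisymm hle h)))

end general

section locNoeth

variable {X Y : Scheme.{u}} [IsLocallyNoetherian Y] (f : X ⟶ Y) [LocallyOfFiniteType f]

/-- The common core: a maximal point `z` of the fibre through `x` computing `dim_x`, a maximal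
point `ξ` of `X` above it, and the dimension inequality between them. -/
theorem exists_maximal_points_chain (x : X) :
    ∃ (z ξ : X) (n m D : ℕ), f z = f x ∧ z ⤳ x ∧ ξ ⤳ z ∧ (∀ w : X, w ⤳ ξ → ξ ⤳ w) ∧
      FlatMor.fibreDimAt f x = n ∧ FlatMor.fibreDimAt f ξ = m ∧
      @Algebra.trdeg (Y.residueField (f z)) (X.residueField z) _ _
        (f.residueFieldMap z).hom.toAlgebra = n ∧
      @Algebra.trdeg (Y.residueField (f ξ)) (X.residueField ξ) _ _
        (f.residueFieldMap ξ).hom.toAlgebra = m ∧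
      ringKrullDim (Y.presheaf.stalk (f x)) = D ∧ (ξ ≠ z → n + 1 ≤ m + D) := by
  have hX : IsLocallyNoetherian X := LocallyOfFiniteType.isLocallyNoetherian f
  obtain ⟨z, hfz, hzx, -, n, hn, hFx, -, -⟩ := exists_maximal_point_fiber f x
  obtain ⟨V, hV, hyV, -⟩ := exists_isAffineOpen_mem_and_subset (x := f z) (U := ⊤) trivial
  obtain ⟨U, hU, hzU, e⟩ := exists_isAffineOpen_mem_and_subset (x := z) (U := f ⁻¹ᵁ V) hyV
  obtain ⟨ξ, hξU, hξz, hξmax, -⟩ := exists_maximal_point_chart hU z hzU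
  obtain ⟨m, hm, hFξ⟩ := fibreDimAt_eq_trdeg_of_maximal f ξ hξmax
  obtain ⟨D, hD⟩ := exists_nat_ringKrullDim_stalk (f z)
  have hD' : ringKrullDim (Y.presheaf.stalk (f x)) = D := by rw [← hfz]; exact hD
  refine ⟨z, ξ, n, m, D, hfz, hzx, hξz, hξmax, hFx, hFξ, hn, hm, hD', ?_⟩
  intro hne
  have hK := chart_height_add_trdeg_le f hV hU e ξ z hξU hzU hξz n m hn hm
  have h1 := one_le_height_map_quotient hU ξ z hξU hzU hξz hne
  have hpz : (hV.primeIdealOf ⟨f z, e hzU⟩).asIdeal.IsPrime := (hV.primeIdealOf _).2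
  have hle : (hV.primeIdealOf ⟨f ξ, e hξU⟩).asIdeal ≤ (hV.primeIdealOf ⟨f z, e hzU⟩).asIdeal :=
    (primeIdealOf_le_iff_specializes hV (f ξ) (f z) (e hξU) (e hzU)).mpr (hξz.map f.continuous)
  have hht := height_map_quotient_le _ _ hle
  have hDh : ((hV.primeIdealOf ⟨f z, e hzU⟩).asIdeal.height : WithBot ℕ∞) = D := by
    rw [← hD, Groth.Agent.S4442.ringKrullDim_stalk_eq_height Y hV (f z) (e hzU)]
  have hDh' : (hV.primeIdealOf ⟨f z, e hzU⟩).asIdeal.height = (D : ℕ∞) := by exact_mod_cast hDh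
  rw [hDh'] at hht
  have h2 : (1 : ℕ∞) + n ≤ (D : ℕ∞) + m :=
    le_trans (add_le_add_left h1 _) (hK.trans (add_le_add_left hht _))
  have h3 : 1 + n ≤ D + m := by exact_mod_cast h2
  omega

/-- Locally Noetherian version of the bound `dim_x(X_y) + 1 ≤ d + dim O_{Y,y}`. -/
theorem fibreDimAt_add_one_le_of_locallyNoetherian (x : X) (d : ℕ)
    (hgen : ∀ ξ : X, (∀ w : X, w ⤳ ξ → ξ ⤳ w) → ξ ⤳ x →
      f ξ ≠ f x ∧ FlatMor.fibreDimAt f ξ = d) :
    FlatMor.fibreDimAt f x + 1 ≤ (d : WithBot ℕ∞) + ringKrullDim (Y.presheaf.stalk (f x)) := by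
  obtain ⟨z, ξ, n, m, D, hfz, hzx, hξz, hξmax, hFx, hFξ, -, -, hD, hineq⟩ :=
    exists_maximal_points_chain f x
  obtain ⟨h1, h2⟩ := hgen ξ hξmax (hξz.trans hzx)
  have hne : ξ ≠ z := by
    rintro rfl
    exact h1 hfz
  have h3 := hineq hne
  rw [hFξ] at h2
  have hmd : m = d := by exact_mod_cast h2
  rw [hFx, hD]
  have : n + 1 ≤ d + D := by omega
  exact_mod_cast this

/-- Locally Noetherian version of `dim_x(X_y) = d` over a base point of dimension at most one. -/
theorem fibreDimAt_eq_of_locallyNoetherian_of_dim_le_one (x : X)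
    (hdimY : ringKrullDim (Y.presheaf.stalk (f x)) ≤ 1) (d : ℕ)
    (hgen : ∀ ξ : X, (∀ w : X, w ⤳ ξ → ξ ⤳ w) → ξ ⤳ x → FlatMor.fibreDimAt f ξ = d) :
    FlatMor.fibreDimAt f x = d := by
  obtain ⟨z, ξ, n, m, D, hfz, hzx, hξz, hξmax, hFx, hFξ, hn, hm, hD, hineq⟩ :=
    exists_maximal_points_chain f x
  have h2 := hgen ξ hξmax (hξz.trans hzx)
  rw [hFξ] at h2
  have hmd : m = d := by exact_mod_cast h2
  have hche := trdeg_le_fibreDimAt_of_specializes f ξ x (hξz.trans hzx) m hm
  rw [hFx] at hche ⊢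
  have hmn : m ≤ n := by exact_mod_cast hche
  rw [hD] at hdimY
  have hD1 : D ≤ 1 := by exact_mod_cast hdimY
  by_cases hne : ξ = z
  · subst hne
    have : ((n : ℕ) : Cardinal) = ((m : ℕ) : Cardinal) := by rw [← hn, ← hm]
    have hnm : n = m := by exact_mod_cast this
    rw [hnm, hmd]
  · have h3 := hineq hne
    have : n = d := by omega
    rw [this]

end locNoeth

section reduce

open CategoryTheory.Limits

variable {X Y : Scheme.{u}} (f : X ⟶ Y) [LocallyOfFiniteType f]

/-- **Reduction to a locally Noetherian base.**  If the local ring of `Y` at `f x` is Noetherian,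
the base change of `f` to its spectrum is a morphism locally of finite type to a locally
Noetherian scheme with a point `x₀` over `x`, with the same local fibre dimensions, whose maximal
points above `x₀` map to maximal points of `X` above `x`. -/
theorem exists_noetherian_base_change (x : X) [IsNoetherianRing (Y.presheaf.stalk (f x))] :
    ∃ (P B : Scheme.{u}) (_ : IsLocallyNoetherian B) (p₁ : P ⟶ X) (p₂ : P ⟶ B)
      (_ : LocallyOfFiniteType p₂) (x₀ : P),
      p₁ x₀ = x ∧ (∀ u : P, FlatMor.fibreDimAt p₂ u = FlatMor.fibreDimAt f (p₁ u)) ∧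
      ringKrullDim (B.presheaf.stalk (p₂ x₀)) ≤ ringKrullDim (Y.presheaf.stalk (f x)) ∧
      ∀ ξ' : P, (∀ w' : P, w' ⤳ ξ' → ξ' ⤳ w') → ξ' ⤳ x₀ →
        (∀ w : X, w ⤳ p₁ ξ' → p₁ ξ' ⤳ w) ∧ p₁ ξ' ⤳ x ∧ (p₂ ξ' = p₂ x₀ → f (p₁ ξ') = f x) := by
  let j : Spec (Y.presheaf.stalk (f x)) ⟶ Y := Y.fromSpecStalk (f x)
  have hB : IsLocallyNoetherian (Spec (Y.presheaf.stalk (f x))) := inferInstance
  have hlft : LocallyOfFiniteType (pullback.snd f j) :=
    MorphismProperty.pullback_snd (P := @LocallyOfFiniteType) _ _ inferInstance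
  have hsq : IsPullback (pullback.fst f j) (pullback.snd f j) f j := IsPullback.of_hasPullback f j
  have hcl : j (IsLocalRing.closedPoint (Y.presheaf.stalk (f x))) = f x :=
    Scheme.fromSpecStalk_closedPoint
  obtain ⟨x₀, hx₀1, hx₀2⟩ := Scheme.Pullback.exists_preimage_pullback (f := f) (g := j) x
    (IsLocalRing.closedPoint (Y.presheaf.stalk (f x))) hcl.symm
  have hcomm : ∀ u : ↥(pullback f j), f (pullback.fst f j u) = j (pullback.snd f j u) := by
    intro u
    rw [← Scheme.Hom.comp_apply, ← Scheme.Hom.comp_apply, pullback.condition]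
  have hemb : IsEmbedding (pullback.fst f j) := (pullback.fst f j).isEmbedding
  refine ⟨pullback f j, Spec (Y.presheaf.stalk (f x)), hB, pullback.fst f j, pullback.snd f j, hlft,
    x₀, hx₀1, fun u => fibreDimAt_eq_of_isPullback f j _ _ hsq u, ?_, ?_⟩
  · refine (ringKrullDim_stalk_le_topologicalKrullDim _ _).trans ?_
    exact (PrimeSpectrum.topologicalKrullDim_eq_ringKrullDim _).le
  · intro ξ' hξ'max hξ'x₀
    have hspec : pullback.fst f j ξ' ⤳ x :=
      (hξ'x₀.map (pullback.fst f j).continuous).trans (specializes_of_eq hx₀1)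
    refine ⟨?_, hspec, ?_⟩
    · intro w hw
      have hfw : f w ⤳ f x := (hw.trans hspec).map f.continuous
      have hwr : w ∈ Set.range (pullback.fst f j) := by
        rw [Scheme.Pullback.range_fst, Set.mem_preimage, Scheme.range_fromSpecStalk]
        exact hfw
      obtain ⟨w', rfl⟩ := hwr
      have h1 : w' ⤳ ξ' := hemb.isInducing.specializes_iff.mp hw
      exact (hξ'max w' h1).map (pullback.fst f j).continuous
    · intro h
      rw [hcomm, h, hx₀2, hcl]

end reduce

end Groth.Agent.Lib.Helper55
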