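import Groth.Agent.Lib.Helper55.EquidimCriterion
import Groth.Agent.Lib.Helper55.NoethStalkReduce
import Groth.Agent.S4442

/-! Hypersurface sections of equidimensional morphisms (EGA IV 13.3.?): Krull's principal ideal
theorem for zero loci of global sections, the drop of the fibre dimension on a closed subscheme
avoiding the maximal points of the fibre, and the restriction of an equidimensional morphism to a
(possibly reducible) closed subscheme (helper55). -/

set_option autoImplicit false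

universe u

namespace Groth.Agent.Lib.Helper55

open AlgebraicGeometry CategoryTheory Topology

section krull

variable {X : Scheme.{u}} [IsLocallyNoetherian X]

omit [IsLocallyNoetherian X] in
/-- Membership in the zero locus of a global section, read in an affine chart. -/
theorem mem_zeroLocus_singleton_iff_chart (g : Γ(X, ⊤)) {U : X.Opens} (hU : IsAffineOpen U)
    (ζ : X) (hζ : ζ ∈ U) :
    ζ ∈ X.zeroLocus ({g} : Set Γ(X, ⊤)) ↔
      (X.presheaf.map (homOfLE (le_top : U ≤ ⊤)).op).hom g ∈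
        (hU.primeIdealOf ⟨ζ, hζ⟩).asIdeal := by
  have h1 := X.zeroLocus_map (le_top : U ≤ ⊤) ({g} : Set Γ(X, ⊤))
  rw [Set.image_singleton] at h1
  have h2 := hU.fromSpec_preimage_zeroLocus
    ({(X.presheaf.map (homOfLE (le_top : U ≤ ⊤)).op).hom g} : Set Γ(X, U))
  have h3 : ζ ∈ X.zeroLocus ({g} : Set Γ(X, ⊤)) ↔
      ζ ∈ X.zeroLocus ({(X.presheaf.map (homOfLE (le_top : U ≤ ⊤)).op).hom g} : Set Γ(X, U)) := by
    rw [h1]
    constructor
    · exact fun h => Or.inl h
    · rintro (h | h)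
      · exact h
      · exact absurd hζ h
  rw [h3]
  have h4 := Set.ext_iff.mp h2 (hU.primeIdealOf ⟨ζ, hζ⟩)
  have h5 : hU.fromSpec (hU.primeIdealOf ⟨ζ, hζ⟩) ∈ X.zeroLocus
      ({(X.presheaf.map (homOfLE (le_top : U ≤ ⊤)).op).hom g} : Set Γ(X, U)) ↔
      hU.primeIdealOf ⟨ζ, hζ⟩ ∈ PrimeSpectrum.zeroLocus
        ({(X.presheaf.map (homOfLE (le_top : U ≤ ⊤)).op).hom g} : Set Γ(X, U)) := h4
  rw [hU.fromSpec_primeIdealOf] at h5
  rw [h5]
  constructor
  · intro h
    exact h (Set.mem_singleton _)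
  · intro h y hy
    rw [Set.mem_singleton_iff] at hy
    rw [hy]
    exact h

/-- **Krull's principal ideal theorem** for the zero locus of a global section: the local ring at
a maximal point of the zero locus has dimension at most one. -/
theorem ringKrullDim_stalk_le_one_of_maximal_mem_zeroLocus (g : Γ(X, ⊤)) (ξ : X)
    (hξ : ξ ∈ X.zeroLocus ({g} : Set Γ(X, ⊤)))
    (hmax : ∀ ζ : X, ζ ∈ X.zeroLocus ({g} : Set Γ(X, ⊤)) → ζ ⤳ ξ → ξ ⤳ ζ) :
    ringKrullDim (X.presheaf.stalk ξ) ≤ 1 := by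
  obtain ⟨U, hU, hξU, -⟩ := exists_isAffineOpen_mem_and_subset (x := ξ) (U := ⊤) trivial
  rw [Groth.Agent.S4442.ringKrullDim_stalk_eq_height X hU ξ hξU]
  have hN : IsNoetherianRing Γ(X, U) := IsLocallyNoetherian.component_noetherian ⟨U, hU⟩
  set gU : Γ(X, U) := (X.presheaf.map (homOfLE (le_top : U ≤ ⊤)).op).hom g with hgU
  have hpp : (hU.primeIdealOf ⟨ξ, hξU⟩).asIdeal.IsPrime := (hU.primeIdealOf _).2
  have hmin : (hU.primeIdealOf ⟨ξ, hξU⟩).asIdeal ∈ (Ideal.span {gU}).minimalPrimes := by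
    refine ⟨⟨hpp, ?_⟩, ?_⟩
    · rw [Ideal.span_le, Set.singleton_subset_iff]
      exact (mem_zeroLocus_singleton_iff_chart g hU ξ hξU).mp hξ
    · rintro q ⟨hq, hgq⟩ hqp
      obtain ⟨ζ, hζU, hζq⟩ := exists_primeIdealOf_eq hU ⟨q, hq⟩
      have hζq' : (hU.primeIdealOf ⟨ζ, hζU⟩).asIdeal = q := congrArg PrimeSpectrum.asIdeal hζq
      have hζξ : ζ ⤳ ξ := by
        rw [← primeIdealOf_le_iff_specializes hU ζ ξ hζU hξU, hζq']
        exact hqp
      have hζg : ζ ∈ X.zeroLocus ({g} : Set Γ(X, ⊤)) := by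
        rw [mem_zeroLocus_singleton_iff_chart g hU ζ hζU, hζq']
        exact hgq (Ideal.subset_span rfl)
      have := hmax ζ hζg hζξ
      rw [← primeIdealOf_le_iff_specializes hU ξ ζ hξU hζU, hζq'] at this
      exact this
  have hle : (hU.primeIdealOf ⟨ξ, hξU⟩).asIdeal.height ≤ 1 :=
    Ideal.height_le_one_of_isPrincipal_of_mem_minimalPrimes (Ideal.span {gU}) _ hmin
  exact_mod_cast hle

end krull

section drop

variable {X Y X₁ : Scheme.{u}} [IsLocallyNoetherian Y] (f : X ⟶ Y) [LocallyOfFiniteType f]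

/-- **Strict drop of the transcendence degree** along a strict specialization inside a fibre. -/
theorem trdeg_add_one_le_of_specializes_of_fiber_eq (ξ z : X) (hspec : ξ ⤳ z) (hne : ξ ≠ z)
    (hf : f ξ = f z) (n m : ℕ)
    (hn : @Algebra.trdeg (Y.residueField (f z)) (X.residueField z) _ _
      (f.residueFieldMap z).hom.toAlgebra = n)
    (hm : @Algebra.trdeg (Y.residueField (f ξ)) (X.residueField ξ) _ _
      (f.residueFieldMap ξ).hom.toAlgebra = m) :
    n + 1 ≤ m := by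
  have hX : IsLocallyNoetherian X := LocallyOfFiniteType.isLocallyNoetherian f
  obtain ⟨V, hV, hyV, -⟩ := exists_isAffineOpen_mem_and_subset (x := f z) (U := ⊤) trivial
  obtain ⟨U, hU, hzU, e⟩ := exists_isAffineOpen_mem_and_subset (x := z) (U := f ⁻¹ᵁ V) hyV
  have hξU : ξ ∈ U := hspec.mem_open U.2 hzU
  have h1 := chart_height_add_trdeg_le f hV hU e ξ z hξU hzU hspec n m hn hm
  have h2 := one_le_height_map_quotient hU ξ z hξU hzU hspec hne
  have h3 : ((hV.primeIdealOf ⟨f z, e hzU⟩).asIdeal.map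
      (Ideal.Quotient.mk (hV.primeIdealOf ⟨f ξ, e hξU⟩).asIdeal)).height = 0 := by
    rw [height_map_quotient_congr hV (f z) (f z) (f ξ) (f z) (e hzU) (e hzU) (e hξU) (e hzU) rfl hf]
    have hp1 : (hV.primeIdealOf ⟨f z, e hzU⟩).asIdeal.IsPrime := (hV.primeIdealOf _).2
    have hdom : IsDomain (Γ(Y, V) ⧸ (hV.primeIdealOf ⟨f z, e hzU⟩).asIdeal) :=
      (Ideal.Quotient.isDomain_iff_prime _).mpr hp1
    rw [Ideal.map_quotient_self, Ideal.height_bot]
  rw [h3, zero_add] at h1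
  have h4 : (1 : ℕ∞) + n ≤ m := (add_le_add_left h2 _).trans h1
  have h5 : 1 + n ≤ m := by exact_mod_cast h4
  omega

variable (i : X₁ ⟶ X) [IsClosedImmersion i]

/-- **Drop of the fibre dimension**: if the closed subscheme `X₁` contains no maximal point of
the fibre of `f` through `i w`, its fibre dimension at `w` is smaller than that of `X`. -/
theorem fibreDimAt_comp_add_one_le (w : X₁)
    (hmax : ∀ z : X, f z = f (i w) → (∀ z' : X, f z' = f (i w) → z' ⤳ z → z' = z) →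
      z ∉ Set.range i) :
    FlatMor.fibreDimAt (i ≫ f) w + 1 ≤ FlatMor.fibreDimAt f (i w) := by
  obtain ⟨z₁, hfz₁, hz₁w, -, n, hn, hFw, -, -⟩ := exists_maximal_point_fiber (i ≫ f) w
  have hfz₁' : f (i z₁) = f (i w) := hfz₁
  have hnot : ¬ ∀ z' : X, f z' = f (i w) → z' ⤳ i z₁ → z' = i z₁ := fun h =>
    hmax (i z₁) hfz₁' h ⟨z₁, rfl⟩
  push Not at hnot
  obtain ⟨z', hfz', hz'z₁, hne⟩ := hnot
  obtain ⟨m, hm⟩ := exists_trdeg_residueField_eq_natCast f z'
  have hn' := (trdeg_residueField_preimmersion_comp i f z₁).symm.trans hn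
  have hstrict := trdeg_add_one_le_of_specializes_of_fiber_eq f z' (i z₁) hz'z₁ hne
    (hfz'.trans hfz₁'.symm) n m hn' hm
  have hche := trdeg_le_fibreDimAt_of_specializes f z' (i w)
    (hz'z₁.trans (hz₁w.map i.continuous)) m hm
  rw [hFw]
  refine le_trans ?_ hche
  exact_mod_cast hstrict

end drop

section closureFibre

variable {X S : Scheme.{u}} (f : X ⟶ S) [LocallyOfFiniteType f]

/-- The trace on the fibre of the closure of a point `x` has dimension `trdeg κ(x)/κ(f x)`. -/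
theorem exists_dim_closure_inter_fibre_eq_trdeg (x : X) :
    ∃ m : ℕ, topologicalKrullDim ↥(closure ({x} : Set X) ∩ f ⁻¹' {f x}) = m ∧
      @Algebra.trdeg (S.residueField (f x)) (X.residueField x) _ _
        (f.residueFieldMap x).hom.toAlgebra = m := by
  obtain ⟨m, hm1, hm2⟩ := exists_dim_closure_asFiber_eq_trdeg f x
  refine ⟨m, ?_, hm2⟩
  rw [← hm1]
  have h := topologicalKrullDim_closure_inter_range_eq (f.fiberι (f x))
    (f.fiberι (f x)).isEmbedding (f.asFiber x)
  rw [f.fiberι_asFiber, f.range_fiberι] at h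
  exact h

end closureFibre

section main

variable {X Y X₁ : Scheme.{u}} [IrreducibleSpace Y] [IsLocallyNoetherian Y] (f : X ⟶ Y)
  [LocallyOfFiniteType f] (iX : X₁ ⟶ X) [IsClosedImmersion iX]

/-- **EGA IV 13.3 (restriction of an equidimensional morphism to a closed subscheme).**  Let `f`
be equidimensional at `iX w`, `X₁` a closed subscheme all of whose irreducible components through
`w` have codimension `≤ n` in `X` and whose fibre dimension at `w` drops by at least `n`. Then the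
codimensions are `n`, the drop is exactly `n`, and `X₁ ⟶ Y` is equidimensional at `w`. -/
theorem equidim_sub' (w : X₁) (hf : EGA43.IsEquidimAt f (iX w)) (n : ℕ)
    (hcodim : ∀ ξ : X₁, (∀ ζ : X₁, ζ ⤳ ξ → ξ ⤳ ζ) → ξ ⤳ w →
      ringKrullDim (X.presheaf.stalk (iX ξ)) ≤ n)
    (hdim : FlatMor.fibreDimAt (iX ≫ f) w + (n : WithBot ℕ∞) ≤ FlatMor.fibreDimAt f (iX w)) :
    (∀ ξ : X₁, (∀ ζ : X₁, ζ ⤳ ξ → ξ ⤳ ζ) → ξ ⤳ w →
        ringKrullDim (X.presheaf.stalk (iX ξ)) = n) ∧
      FlatMor.fibreDimAt (iX ≫ f) w + (n : WithBot ℕ∞) = FlatMor.fibreDimAt f (iX w) ∧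
      EGA43.IsEquidimAt (iX ≫ f) w := by
  obtain ⟨e, U, hxU, h1, h2⟩ := hf
  have hX : IsLocallyNoetherian X := LocallyOfFiniteType.isLocallyNoetherian f
  have hX₁ : IsLocallyNoetherian X₁ := LocallyOfFiniteType.isLocallyNoetherian (iX ≫ f)
  have hfe : FlatMor.fibreDimAt f (iX w) = e := fibreDimAt_eq_of_isEquidimAt f (iX w) h2 hxU
  obtain ⟨t, ht, hfg⟩ := fibreDimAt_eq_stalk_fiber_add_trdeg (iX ≫ f) w
  obtain ⟨k', hk'⟩ := exists_nat_ringKrullDim_stalk_fiber (iX ≫ f) w
  rw [hk'] at hfg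
  have hfg' : FlatMor.fibreDimAt (iX ≫ f) w = ((k' + t : ℕ) : WithBot ℕ∞) := by
    rw [hfg]; push_cast; rfl
  rw [hfg', hfe] at hdim ⊢
  have a1 : k' + t + n ≤ e := by exact_mod_cast hdim
  have key : ∀ ξ : X₁, (∀ ζ : X₁, ζ ⤳ ξ → ξ ⤳ ζ) → ξ ⤳ w →
      ringKrullDim (X.presheaf.stalk (iX ξ)) = n ∧ k' + t + n = e ∧
      (iX ≫ f) ξ = genericPoint ↥Y ∧
      @Algebra.trdeg (Y.residueField ((iX ≫ f) ξ)) (X₁.residueField ξ) _ _
        ((iX ≫ f).residueFieldMap ξ).hom.toAlgebra = ((k' + t : ℕ) : Cardinal) := by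
    intro ξ hξmax hspec₁
    have hspec : iX ξ ⤳ iX w := hspec₁.map iX.continuous
    have hx'U : iX ξ ∈ U := hspec.mem_open U.2 hxU
    have hfe' : FlatMor.fibreDimAt f (iX ξ) = e := fibreDimAt_eq_of_isEquidimAt f _ h2 hx'U
    obtain ⟨c, hc⟩ := exists_nat_ringKrullDim_stalk (iX ξ)
    obtain ⟨m, hm, hfd⟩ := fibreDimAt_eq_stalk_fiber_add_trdeg f (iX ξ)
    obtain ⟨kf, hkf⟩ := exists_nat_ringKrullDim_stalk_fiber f (iX ξ)
    have hle := ringKrullDim_stalk_fiber_le f (iX ξ)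
    have hm₁ := (trdeg_residueField_preimmersion_comp iX f ξ).trans hm
    have hche := trdeg_le_fibreDimAt_of_specializes (iX ≫ f) ξ w hspec₁ m hm₁
    have hcodim' := hcodim ξ hξmax hspec₁
    rw [hfg'] at hche
    rw [hfe', hkf] at hfd
    rw [hc] at hcodim' hle ⊢
    rw [hkf] at hle
    have a2 : c ≤ n := by exact_mod_cast hcodim'
    have a3 : e = kf + m := by exact_mod_cast hfd
    have a4 : kf ≤ c := by exact_mod_cast hle
    have a5 : m ≤ k' + t := by exact_mod_cast hche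
    have b1 : c = n := by omega
    have b2 : k' + t + n = e := by omega
    have b3 : kf = c := by omega
    have b4 : m = k' + t := by omega
    refine ⟨by exact_mod_cast b1, b2, ?_, ?_⟩
    · have hstalk : ringKrullDim ((f.fiber (f (iX ξ))).presheaf.stalk (f.asFiber (iX ξ))) =
          ringKrullDim (X.presheaf.stalk (iX ξ)) := by
        rw [hkf, hc, b3]
      obtain ⟨z', hz'x', hfz', hz'max⟩ := exists_maximal_point_of_stalk_fiber_dim_eq f _ hstalk
      have hz'U : z' ∈ U := hz'x'.mem_open U.2 hx'U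
      have hηz' : genericPoint ↥Y ⤳ f z' := genericPoint_specializes (f z')
      have hz'η := map_maximal_of_isEquidimAt f (iX w) h1 z' hz'U hz'max _ hηz'
      change f (iX ξ) = _
      rw [← hfz']
      exact (hz'η.antisymm hηz').eq
    · rw [hm₁, b4]
  -- a maximal point above `w`
  obtain ⟨U₀, hU₀, hwU₀, -⟩ := exists_isAffineOpen_mem_and_subset (x := w) (U := ⊤) trivial
  obtain ⟨ξ₀, -, hξ₀w, hξ₀max, -⟩ := exists_maximal_point_chart hU₀ w hwU₀
  have b2 := (key ξ₀ hξ₀max hξ₀w).2.1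
  refine ⟨fun ξ h1' h2' => (key ξ h1' h2').1, by exact_mod_cast b2, ?_⟩
  -- equidimensionality
  apply isEquidimAt_of_components (iX ≫ f) w (k' + t)
  intro Xj hXj hw
  have hcl : IsClosed Xj := isClosed_of_mem_irreducibleComponents Xj hXj
  obtain ⟨ζ, hζ⟩ := QuasiSober.sober hXj.1 hcl
  have hζmax : ∀ z : X₁, z ⤳ ζ → ζ ⤳ z :=
    specializes_of_closure_mem_irreducibleComponents ζ (by rw [hζ.def]; exact hXj)
  have hζXj : ζ ∈ Xj := hζ.def ▸ subset_closure rfl
  have hζw : ζ ⤳ w := by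
    rw [specializes_iff_mem_closure, hζ.def]
    exact hw
  obtain ⟨-, -, hgen, htr⟩ := key ζ hζmax hζw
  have himg := closure_image_eq_of_isGenericPoint (iX ≫ f) Xj ζ hζ
  refine ⟨?_, ?_, ?_⟩
  · rw [himg, hgen, (genericPoint_spec ↥Y).def, irreducibleComponents_eq_singleton]
    rfl
  · intro η hη
    have hg1 : IsGenericPoint η (closure ({(iX ≫ f) ζ} : Set Y)) := by rw [← himg]; exact hη
    have hg2 : IsGenericPoint ((iX ≫ f) ζ) (closure ({(iX ≫ f) ζ} : Set Y)) := rfl
    have hηeq : (iX ≫ f) ζ = η := hg2.eq hg1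
    rw [← hηeq]
    obtain ⟨m, hm1, hm2⟩ := exists_dim_closure_inter_fibre_eq_trdeg (iX ≫ f) ζ
    rw [hζ.def] at hm1
    have hmk : m = k' + t := by exact_mod_cast hm2.symm.trans htr
    rw [← hmk]
    exact hm1
  · apply le_antisymm
    · exact (localDim_inter_fibre_le (iX ≫ f) Xj w hw).trans hfg'.le
    · exact trdeg_le_localDim_inter_fibre (iX ≫ f) ⟨Xj, hcl⟩ w ζ hw hζXj hζw (k' + t) htr

end main

end Groth.Agent.Lib.Helper55
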