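import Groth.Agent.Lib.Helper55.TensorDim
import Groth.Agent.Lib.Helper55.DimPoint
import Groth.Agent.Lib.Helper55.PullbackChart
import Mathlib.AlgebraicGeometry.Noetherian

/-! Dimension of the irreducible components of products and base changes of schemes locally of
finite type over a field (helper55). -/

set_option autoImplicit false

universe u

namespace Groth.Agent.Lib.Helper55

open AlgebraicGeometry CategoryTheory CategoryTheory.Limits TensorProduct

section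

/-- Specialization in an affine chart. -/
theorem specializes_chart_iff {X : Scheme.{u}} {A : CommRingCat.{u}} (a : Spec A ⟶ X)
    [IsOpenImmersion a] (𝔭 𝔯 : Spec A) : a 𝔭 ⤳ a 𝔯 ↔ 𝔭.asIdeal ≤ 𝔯.asIdeal := by
  rw [a.isOpenEmbedding.isInducing.specializes_iff]
  exact (PrimeSpectrum.le_iff_specializes 𝔭 𝔯).symm

variable {k : Type u} [Field k] {X Y : Scheme.{u}} (f : X ⟶ Spec (CommRingCat.of k))
  (g : Y ⟶ Spec (CommRingCat.of k)) [LocallyOfFiniteType f] [IsLocallyNoetherian Y]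

/-- **Main dimension formula for fibre products over a field.** -/
theorem topologicalKrullDim_closure_of_maximal_point
    (hY : ∀ (B : CommRingCat.{u}) (b : Spec B ⟶ Y) [IsOpenImmersion b] (𝔭' : Spec B),
      topologicalKrullDim ↥(closure ({b 𝔭'} : Set Y)) = ringKrullDim (B ⧸ 𝔭'.asIdeal))
    {F : Type u} [Field F] (h : pullback f g ⟶ Spec (CommRingCat.of F)) [LocallyOfFiniteType h]
    (ξ : X) (η : Y) (ω : ↥(pullback f g))
    (hωξ : ξ ⤳ pullback.fst f g ω) (hωη : η ⤳ pullback.snd f g ω)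
    (hmax : ∀ ω' : ↥(pullback f g), ξ ⤳ pullback.fst f g ω' → η ⤳ pullback.snd f g ω' →
      ω' ⤳ ω → ω' = ω) :
    topologicalKrullDim ↥(closure ({ω} : Set ↥(pullback f g))) =
      topologicalKrullDim ↥(closure ({ξ} : Set X)) +
        topologicalKrullDim ↥(closure ({η} : Set Y)) := by
  obtain ⟨U, hU, hxU, -⟩ :=
    exists_isAffineOpen_mem_and_subset (x := pullback.fst f g ω) (U := ⊤) trivial
  obtain ⟨V, hV, hyV, -⟩ :=
    exists_isAffineOpen_mem_and_subset (x := pullback.snd f g ω) (U := ⊤) trivial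
  have hξU : ξ ∈ U := hωξ.mem_open U.2 hxU
  have hηV : η ∈ V := hωη.mem_open V.2 hyV
  let φA : CommRingCat.of k ⟶ Γ(X, U) := Spec.preimage (hU.fromSpec ≫ f)
  let φB : CommRingCat.of k ⟶ Γ(Y, V) := Spec.preimage (hV.fromSpec ≫ g)
  let _ : Algebra k Γ(X, U) := φA.hom.toAlgebra
  let _ : Algebra k Γ(Y, V) := φB.hom.toAlgebra
  have ha : hU.fromSpec ≫ f = Spec.map (CommRingCat.ofHom (algebraMap k Γ(X, U))) :=
    (Spec.map_preimage _).symm
  have hb : hV.fromSpec ≫ g = Spec.map (CommRingCat.ofHom (algebraMap k Γ(Y, V))) :=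
    (Spec.map_preimage _).symm
  have hftA : Algebra.FiniteType k Γ(X, U) := by
    have h1 : LocallyOfFiniteType (hU.fromSpec ≫ f) := inferInstance
    rw [ha, HasRingHomProperty.Spec_iff (P := @LocallyOfFiniteType)] at h1
    exact h1
  have hnB : IsNoetherianRing Γ(Y, V) := IsLocallyNoetherian.component_noetherian ⟨V, hV⟩
  -- the chart of the product
  set c := pullbackChart f g hU.fromSpec hV.fromSpec ha hb with hc
  have hωc : ω ∈ Set.range c := by
    rw [hc, range_pullbackChart, hU.range_fromSpec, hV.range_fromSpec]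
    exact ⟨hxU, hyV⟩
  obtain ⟨𝔔, rfl⟩ := hωc
  set 𝔭 : Spec Γ(X, U) := hU.primeIdealOf ⟨ξ, hξU⟩ with h𝔭
  set 𝔭' : Spec Γ(Y, V) := hV.primeIdealOf ⟨η, hηV⟩ with h𝔭'
  have h𝔭ξ : hU.fromSpec 𝔭 = ξ := hU.fromSpec_primeIdealOf ⟨ξ, hξU⟩
  have h𝔭'η : hV.fromSpec 𝔭' = η := hV.fromSpec_primeIdealOf ⟨η, hηV⟩
  -- projections in the chart
  have hfst : ∀ 𝔯 : Spec (CommRingCat.of (Γ(X, U) ⊗[k] Γ(Y, V))), pullback.fst f g (c 𝔯) =
      hU.fromSpec (Spec.map (CommRingCat.ofHom (Algebra.TensorProduct.includeLeftRingHom :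
        Γ(X, U) →+* Γ(X, U) ⊗[k] Γ(Y, V))) 𝔯) := by
    intro 𝔯
    have := congr(($(pullbackChart_fst f g hU.fromSpec hV.fromSpec ha hb)) 𝔯)
    exact this
  have hsnd : ∀ 𝔯 : Spec (CommRingCat.of (Γ(X, U) ⊗[k] Γ(Y, V))), pullback.snd f g (c 𝔯) =
      hV.fromSpec (Spec.map (CommRingCat.ofHom
        ((Algebra.TensorProduct.includeRight : Γ(Y, V) →ₐ[k] Γ(X, U) ⊗[k] Γ(Y, V)) :
          Γ(Y, V) →+* Γ(X, U) ⊗[k] Γ(Y, V))) 𝔯) := by
    intro 𝔯
    have := congr(($(pullbackChart_snd f g hU.fromSpec hV.fromSpec ha hb)) 𝔯)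
    exact this
  have hξiff : ∀ 𝔯 : Spec (CommRingCat.of (Γ(X, U) ⊗[k] Γ(Y, V))),
      ξ ⤳ pullback.fst f g (c 𝔯) ↔ 𝔭.asIdeal ≤ 𝔯.asIdeal.comap
        (Algebra.TensorProduct.includeLeft : Γ(X, U) →ₐ[k] Γ(X, U) ⊗[k] Γ(Y, V)) := by
    intro 𝔯
    rw [hfst, ← h𝔭ξ, specializes_chart_iff]
    rfl
  have hηiff : ∀ 𝔯 : Spec (CommRingCat.of (Γ(X, U) ⊗[k] Γ(Y, V))),
      η ⤳ pullback.snd f g (c 𝔯) ↔ 𝔭'.asIdeal ≤ 𝔯.asIdeal.comap
        (Algebra.TensorProduct.includeRight : Γ(Y, V) →ₐ[k] Γ(X, U) ⊗[k] Γ(Y, V)) := by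
    intro 𝔯
    rw [hsnd, ← h𝔭'η, specializes_chart_iff]
    rfl
  have hmin : 𝔔.asIdeal ∈ (𝔭.asIdeal.map
      (Algebra.TensorProduct.includeLeft : Γ(X, U) →ₐ[k] Γ(X, U) ⊗[k] Γ(Y, V)) ⊔
      𝔭'.asIdeal.map (Algebra.TensorProduct.includeRight :
        Γ(Y, V) →ₐ[k] Γ(X, U) ⊗[k] Γ(Y, V))).minimalPrimes := by
    refine ⟨⟨𝔔.isPrime, sup_le ?_ ?_⟩, ?_⟩
    · rw [Ideal.map_le_iff_le_comap]
      exact (hξiff 𝔔).mp hωξ
    · rw [Ideal.map_le_iff_le_comap]
      exact (hηiff 𝔔).mp hωη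
    · rintro 𝔔' ⟨h𝔔'prime, h𝔔'le⟩ hle
      let ω' : Spec (CommRingCat.of (Γ(X, U) ⊗[k] Γ(Y, V))) := ⟨𝔔', h𝔔'prime⟩
      have h1 : c ω' ⤳ c 𝔔 :=
        ((PrimeSpectrum.le_iff_specializes ω' 𝔔).mp hle).map c.continuous
      have h2 : ξ ⤳ pullback.fst f g (c ω') :=
        (hξiff ω').mpr (Ideal.map_le_iff_le_comap.mp (le_sup_left.trans h𝔔'le))
      have h3 : η ⤳ pullback.snd f g (c ω') :=
        (hηiff ω').mpr (Ideal.map_le_iff_le_comap.mp (le_sup_right.trans h𝔔'le))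
      have h4 := hmax (c ω') h2 h3 h1
      have h5 : ω' = 𝔔 := c.isOpenEmbedding.injective h4
      rw [← h5]
  have e1 := topologicalKrullDim_closure_chart h c 𝔔
  have e2 := topologicalKrullDim_closure_chart f hU.fromSpec 𝔭
  have e3 := hY Γ(Y, V) hV.fromSpec 𝔭'
  rw [h𝔭ξ] at e2
  rw [h𝔭'η] at e3
  rw [e1, e2, e3]
  exact ringKrullDim_quotient_of_mem_minimalPrimes_sup k Γ(X, U) Γ(Y, V) 𝔭.asIdeal 𝔭'.asIdeal
    𝔔.asIdeal hmin

end

section corollaries

variable {k : Type u} [Field k] {X Y : Scheme.{u}} (f : X ⟶ Spec (CommRingCat.of k))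
  (g : Y ⟶ Spec (CommRingCat.of k)) [LocallyOfFiniteType f]

/-- Products of schemes locally of finite type over a field: the dimension of the closure of a
maximal point of `p⁻¹(closure ξ) ∩ q⁻¹(closure η)`. -/
theorem topologicalKrullDim_closure_of_maximal_point_product [LocallyOfFiniteType g]
    (ξ : X) (η : Y) (ω : ↥(pullback f g))
    (hωξ : ξ ⤳ pullback.fst f g ω) (hωη : η ⤳ pullback.snd f g ω)
    (hmax : ∀ ω' : ↥(pullback f g), ξ ⤳ pullback.fst f g ω' → η ⤳ pullback.snd f g ω' →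
      ω' ⤳ ω → ω' = ω) :
    topologicalKrullDim ↥(closure ({ω} : Set ↥(pullback f g))) =
      topologicalKrullDim ↥(closure ({ξ} : Set X)) +
        topologicalKrullDim ↥(closure ({η} : Set Y)) := by
  have hY : IsLocallyNoetherian Y := LocallyOfFiniteType.isLocallyNoetherian g
  exact topologicalKrullDim_closure_of_maximal_point f g
    (fun B b _ 𝔭' => topologicalKrullDim_closure_chart g b 𝔭')
    (pullback.fst f g ≫ f) ξ η ω hωξ hωη hmax

/-- Base change to a field extension: the dimension of the closure of a maximal point of the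
inverse image of `closure ξ`. -/
theorem topologicalKrullDim_closure_of_maximal_point_baseChange (K : Type u) [Field K]
    [Algebra k K] (ξ : X)
    (ω : ↥(pullback f (Spec.map (CommRingCat.ofHom (algebraMap k K)))))
    (hωξ : ξ ⤳ pullback.fst f (Spec.map (CommRingCat.ofHom (algebraMap k K))) ω)
    (hmax : ∀ ω' : ↥(pullback f (Spec.map (CommRingCat.ofHom (algebraMap k K)))),
      ξ ⤳ pullback.fst f (Spec.map (CommRingCat.ofHom (algebraMap k K))) ω' → ω' ⤳ ω → ω' = ω) :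
    topologicalKrullDim
        ↥(closure ({ω} : Set ↥(pullback f (Spec.map (CommRingCat.ofHom (algebraMap k K)))))) =
      topologicalKrullDim ↥(closure ({ξ} : Set X)) := by
  have h0 : ∀ η : ↥(Spec (CommRingCat.of K)),
      topologicalKrullDim ↥(closure ({η} : Set ↥(Spec (CommRingCat.of K)))) = 0 := by
    intro η
    have : Subsingleton ↥(Spec (CommRingCat.of K)) :=
      inferInstanceAs (Subsingleton (PrimeSpectrum K))
    have : Nonempty ↥(closure ({η} : Set ↥(Spec (CommRingCat.of K)))) :=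
      ⟨⟨η, subset_closure rfl⟩⟩
    refine le_antisymm (topologicalKrullDim_zero_of_discreteTopology
      ↥(closure ({η} : Set ↥(Spec (CommRingCat.of K))))) ?_
    have : Nonempty (TopologicalSpace.IrreducibleCloseds
        ↥(closure ({η} : Set ↥(Spec (CommRingCat.of K))))) :=
      ⟨⟨closure {⟨η, subset_closure rfl⟩}, isIrreducible_singleton.closure, isClosed_closure⟩⟩
    exact Order.krullDim_nonneg
  have key := topologicalKrullDim_closure_of_maximal_point f
    (Spec.map (CommRingCat.ofHom (algebraMap k K)))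
    (fun B b _ 𝔭' => topologicalKrullDim_closure_chart (𝟙 (Spec (CommRingCat.of K))) b 𝔭')
    (pullback.snd f (Spec.map (CommRingCat.ofHom (algebraMap k K)))) ξ
    (pullback.snd f (Spec.map (CommRingCat.ofHom (algebraMap k K))) ω) ω hωξ specializes_rfl
    (fun ω' h1 _ h3 => hmax ω' h1 h3)
  rw [key, h0, add_zero]

end corollaries

end Groth.Agent.Lib.Helper55
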