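import Groth.Agent.Lib.Helper55.KrullDimIntegral
import Mathlib.RingTheory.NoetherNormalization
import Mathlib.RingTheory.AlgebraicIndependent.TranscendenceBasis
import Mathlib.RingTheory.KrullDimension.Polynomial
import Mathlib.RingTheory.KrullDimension.Field
import Mathlib.RingTheory.KrullDimension.NonZeroDivisors

/-!
# Krull dimension of finitely generated domains over a field is the transcendence degree
-/

set_option autoImplicit false

open Cardinal

namespace Groth.Agent.Lib.Helper55

universe u v

/-- For a finitely generated domain `A` over a field `k`, the Krull dimension of `A` and the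
transcendence degree of `A` over `k` are the same natural number. -/
theorem exists_ringKrullDim_eq_and_trdeg_eq (k : Type u) (A : Type v) [Field k] [CommRing A]
    [IsDomain A] [Algebra k A] [Algebra.FiniteType k A] :
    ∃ s : ℕ, ringKrullDim A = s ∧ Algebra.trdeg k A = s := by
  obtain ⟨s, g, hinj, hint⟩ := exists_integral_inj_algHom_of_fg k A
  refine ⟨s, ?_, ?_⟩
  · rw [ringKrullDim_eq_of_ringHom_isIntegral_of_injective g.toRingHom hint hinj,
      MvPolynomial.ringKrullDim_of_isNoetherianRing, ringKrullDim_eq_zero_of_field, zero_add,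
      Nat.card_eq_fintype_card, Fintype.card_fin]
  · have hg : (MvPolynomial.aeval fun i ↦ g (MvPolynomial.X i)) = g := by
      apply MvPolynomial.algHom_ext
      intro i
      simp
    have hind : AlgebraicIndependent k (fun i : Fin s ↦ g (MvPolynomial.X i)) := by
      rw [AlgebraicIndependent, hg]
      exact hinj
    have hrange : Algebra.adjoin k (Set.range fun i : Fin s ↦ g (MvPolynomial.X i)) = g.range := by
      rw [← MvPolynomial.aeval_range, hg]
    have halg : Algebra.IsAlgebraic
        (Algebra.adjoin k (Set.range fun i : Fin s ↦ g (MvPolynomial.X i))) A := by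
      rw [hrange]
      refine ⟨fun a ↦ IsIntegral.isAlgebraic ?_⟩
      exact RingHom.IsIntegralElem.of_comp (f := g.rangeRestrict.toRingHom)
        (g := algebraMap g.range A) (hint a)
    have hbasis := hind.isTranscendenceBasis_iff_isAlgebraic.mpr halg
    have := hbasis.lift_cardinalMk_eq_trdeg
    simpa using this.symm

/-- An injective homomorphism of finitely generated domains over a field does not decrease the
Krull dimension. -/
theorem ringKrullDim_le_of_injective_of_finiteType (k : Type u) {A B : Type v} [Field k]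
    [CommRing A] [CommRing B] [IsDomain A] [IsDomain B] [Algebra k A] [Algebra k B]
    [Algebra.FiniteType k A] [Algebra.FiniteType k B] (φ : A →ₐ[k] B)
    (hφ : Function.Injective φ) : ringKrullDim A ≤ ringKrullDim B := by
  obtain ⟨s, hs1, hs2⟩ := exists_ringKrullDim_eq_and_trdeg_eq k A
  obtain ⟨t, ht1, ht2⟩ := exists_ringKrullDim_eq_and_trdeg_eq k B
  have := trdeg_le_of_injective φ hφ
  rw [hs2, ht2, Nat.cast_le] at this
  rw [hs1, ht1]
  exact_mod_cast this

/-- If `φ : A → B` is a homomorphism of finitely generated algebras over a field and some prime of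
`B` pulls back to a prime contained in every prime of `A` (a generic point of `Spec A`), then
`dim A ≤ dim B`. -/
theorem ringKrullDim_le_of_comap_le (k : Type u) {A B : Type v} [Field k]
    [CommRing A] [CommRing B] [Algebra k A] [Algebra k B]
    [Algebra.FiniteType k A] [Algebra.FiniteType k B] (φ : A →ₐ[k] B)
    (𝔮 : Ideal B) [𝔮.IsPrime] (h : ∀ 𝔭' : Ideal A, 𝔭'.IsPrime → 𝔮.comap φ ≤ 𝔭') :
    ringKrullDim A ≤ ringKrullDim B := by
  have hp : (𝔮.comap φ).IsPrime := Ideal.comap_isPrime φ 𝔮
  have h1 : ringKrullDim (A ⧸ 𝔮.comap φ) = ringKrullDim A := by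
    rw [ringKrullDim_quotient]
    have : PrimeSpectrum.zeroLocus ((𝔮.comap φ : Ideal A) : Set A) = Set.univ := by
      ext x
      simp only [PrimeSpectrum.mem_zeroLocus, SetLike.coe_subset_coe, Set.mem_univ, iff_true]
      exact h x.asIdeal x.2
    rw [this]
    exact Order.krullDim_eq_of_orderIso OrderIso.Set.univ
  let ψ : (A ⧸ 𝔮.comap φ) →ₐ[k] B ⧸ 𝔮 := Ideal.quotientMapₐ 𝔮 φ le_rfl
  have hψ : Function.Injective ψ := Ideal.quotientMap_injective
  calc ringKrullDim A = ringKrullDim (A ⧸ 𝔮.comap φ) := h1.symm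
    _ ≤ ringKrullDim (B ⧸ 𝔮) := ringKrullDim_le_of_injective_of_finiteType k ψ hψ
    _ ≤ ringKrullDim B := ringKrullDim_quotient_le 𝔮

end Groth.Agent.Lib.Helper55

namespace Groth.Agent.Lib.Helper55

universe u v

/-- Quotienting by a prime contained in every prime does not change the Krull dimension. -/
theorem ringKrullDim_quotient_of_le_all {A : Type*} [CommRing A] (I : Ideal A)
    (h : ∀ 𝔭' : Ideal A, 𝔭'.IsPrime → I ≤ 𝔭') : ringKrullDim (A ⧸ I) = ringKrullDim A := by
  rw [ringKrullDim_quotient]
  have : PrimeSpectrum.zeroLocus ((I : Ideal A) : Set A) = Set.univ := by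
    ext x
    simp only [PrimeSpectrum.mem_zeroLocus, SetLike.coe_subset_coe, Set.mem_univ, iff_true]
    exact h x.asIdeal x.2
  rw [this]
  exact Order.krullDim_eq_of_orderIso OrderIso.Set.univ

/-- Let `A` be a finitely generated algebra over a field `k` and `ev : A → κ` a `k`-algebra
homomorphism to a field such that `κ` consists of fractions of elements of the image and the
kernel of `ev` is contained in every prime of `A`. If `κ` has transcendence degree `n` over `k`
then `A` has Krull dimension `n`. -/
theorem ringKrullDim_eq_of_trdeg_eq (k : Type u) {A κ : Type v} [Field k] [CommRing A] [Field κ]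
    [Algebra k A] [Algebra k κ] [Algebra.FiniteType k A] (ev : A →ₐ[k] κ)
    (hfrac : ∀ z : κ, ∃ a s : A, ev s ≠ 0 ∧ z * ev s = ev a)
    (hgen : ∀ 𝔭' : Ideal A, 𝔭'.IsPrime → RingHom.ker ev ≤ 𝔭') (n : ℕ)
    (hn : Algebra.trdeg k κ = n) : ringKrullDim A = n := by
  have hprime : (RingHom.ker ev).IsPrime := RingHom.ker_isPrime ev
  have hdom : IsDomain (A ⧸ RingHom.ker ev) := (Ideal.Quotient.isDomain_iff_prime _).mpr hprime
  have hinj : Function.Injective (Ideal.kerLiftAlg ev) := Ideal.kerLiftAlg_injective ev
  let _ : Algebra (A ⧸ RingHom.ker ev) κ := (Ideal.kerLiftAlg ev).toRingHom.toAlgebra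
  have htower : IsScalarTower k (A ⧸ RingHom.ker ev) κ :=
    IsScalarTower.of_algebraMap_eq fun r ↦ ((Ideal.kerLiftAlg ev).commutes r).symm
  have hf1 : FaithfulSMul k (A ⧸ RingHom.ker ev) :=
    (faithfulSMul_iff_algebraMap_injective _ _).mpr (algebraMap k (A ⧸ RingHom.ker ev)).injective
  have hf2 : FaithfulSMul (A ⧸ RingHom.ker ev) κ :=
    (faithfulSMul_iff_algebraMap_injective _ _).mpr hinj
  have halg : Algebra.IsAlgebraic (A ⧸ RingHom.ker ev) κ := by
    refine ⟨fun z ↦ ?_⟩
    obtain ⟨a, s, hs, hz⟩ := hfrac z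
    refine ⟨Polynomial.C (Ideal.Quotient.mk _ s) * Polynomial.X -
      Polynomial.C (Ideal.Quotient.mk _ a), ?_, ?_⟩
    · intro h0
      have := congr_arg (fun P ↦ Polynomial.coeff P 1) h0
      simp only [Polynomial.coeff_sub, Polynomial.coeff_C_mul, Polynomial.coeff_X_one, mul_one,
        Polynomial.coeff_C_succ, sub_zero, Polynomial.coeff_zero] at this
      apply hs
      have h2 : Ideal.kerLiftAlg ev (Ideal.Quotient.mk _ s) = ev s := Ideal.kerLiftAlg_mk ev s
      rw [← h2, this, map_zero]
    · have h1 : algebraMap (A ⧸ RingHom.ker ev) κ (Ideal.Quotient.mk _ s) = ev s :=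
        Ideal.kerLiftAlg_mk ev s
      have h2 : algebraMap (A ⧸ RingHom.ker ev) κ (Ideal.Quotient.mk _ a) = ev a :=
        Ideal.kerLiftAlg_mk ev a
      simp only [map_sub, map_mul, Polynomial.aeval_C, Polynomial.aeval_X, h1, h2]
      rw [mul_comm, hz, sub_self]
  have hadd := trdeg_add_eq (R := k) (S := A ⧸ RingHom.ker ev) (A := κ)
  rw [trdeg_eq_zero (R := A ⧸ RingHom.ker ev) (A := κ), add_zero, hn] at hadd
  obtain ⟨s, hs1, hs2⟩ := exists_ringKrullDim_eq_and_trdeg_eq k (A ⧸ RingHom.ker ev)
  rw [hadd, Nat.cast_inj] at hs2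
  rw [← ringKrullDim_quotient_of_le_all _ hgen, hs1, hs2]

end Groth.Agent.Lib.Helper55
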