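import Groth.Agent.Lib.Helper55.DimFormulaAlg

/-! The dimension formula with equality when only the local ring of the base prime is universally
catenary (helper55). -/

set_option autoImplicit false

universe u

namespace Groth.Agent.Lib.Helper55

open Algebra

section trdeg'

variable (D₁ D₂ K₁ K₂ : Type u) [CommRing D₁] [CommRing D₂] [CommRing K₁] [CommRing K₂]
  [IsDomain D₁] [IsDomain K₂]
  [Algebra D₁ D₂] [Algebra D₁ K₁] [Algebra D₂ K₂] [Algebra K₁ K₂]
  [Algebra D₁ K₂] [IsScalarTower D₁ D₂ K₂] [IsScalarTower D₁ K₁ K₂]
  [FaithfulSMul D₁ D₂] [FaithfulSMul D₁ K₁] [FaithfulSMul D₂ K₂] [FaithfulSMul K₁ K₂]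
  [Algebra.IsAlgebraic D₁ K₁] [Algebra.IsAlgebraic D₂ K₂]

/-- If `K₁`, `K₂` are algebraic over `D₁ ⊆ D₂`, compatibly, then `trdeg D₁ D₂ = trdeg K₁ K₂`
(version for domains). -/
theorem trdeg_eq_of_isAlgebraic' : Algebra.trdeg D₁ D₂ = Algebra.trdeg K₁ K₂ := by
  have h1 := trdeg_add_eq (R := D₁) (S := D₂) (A := K₂)
  have h2 := trdeg_add_eq (R := D₁) (S := K₁) (A := K₂)
  rw [trdeg_eq_zero (R := D₂) (A := K₂), add_zero] at h1
  rw [trdeg_eq_zero (R := D₁) (A := K₁), zero_add] at h2
  rw [h1, h2]

end trdeg'

section loc

variable {A : Type*} [CommRing A] (M : Submonoid A) (B : Type*) [CommRing B] [Algebra A B]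
  [IsLocalization M B]

include M in
/-- A localization of a domain at a submonoid of nonzerodivisors is algebraic. -/
theorem isAlgebraic_of_isLocalization [IsDomain A] (hM : M ≤ nonZeroDivisors A) :
    Algebra.IsAlgebraic A B := by
  refine ⟨fun z => ?_⟩
  obtain ⟨a, s, rfl⟩ := IsLocalization.exists_mk'_eq M z
  refine ⟨Polynomial.C (s : A) * Polynomial.X - Polynomial.C a, ?_, ?_⟩
  · intro h
    have h1 := congrArg (fun p => Polynomial.coeff p 1) h
    simp at h1
    exact nonZeroDivisors.ne_zero (hM s.2) h1
  · simp [IsLocalization.mk'_spec']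

include M in
/-- The quotient of a localization by a prime is algebraic over the quotient of the ring. -/
theorem isAlgebraic_quotient_of_isLocalization (I : Ideal A) (J : Ideal B) [J.LiesOver I]
    (hdisj : Disjoint (M : Set A) (I : Set A)) :
    Algebra.IsAlgebraic (A ⧸ I) (B ⧸ J) := by
  refine ⟨fun z => ?_⟩
  obtain ⟨z, rfl⟩ := Ideal.Quotient.mk_surjective z
  obtain ⟨a, s, rfl⟩ := IsLocalization.exists_mk'_eq M z
  refine ⟨Polynomial.C (Ideal.Quotient.mk I (s : A)) * Polynomial.X -
    Polynomial.C (Ideal.Quotient.mk I a), ?_, ?_⟩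
  · intro h
    have h1 := congrArg (fun p => Polynomial.coeff p 1) h
    simp at h1
    rw [Ideal.Quotient.eq_zero_iff_mem] at h1
    exact Set.disjoint_left.mp hdisj s.2 h1
  · simp only [map_sub, map_mul, Polynomial.aeval_C, Polynomial.aeval_X,
      Ideal.Quotient.algebraMap_mk_of_liesOver]
    rw [← map_mul, IsLocalization.mk'_spec', sub_self]

end loc

section adf

/-- **Dimension formula, local form.**  `R ⊆ S` a finite type extension of domains with `R`
Noetherian, `q` a prime of `S` over `p`. If `R_p` is universally catenary, then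
`ht q + trdeg κ(q)/κ(p) = ht p + trdeg S/R`. -/
theorem dimEQ_of_isUniversallyCatenary_localization (R : Type u) [CommRing R] [IsDomain R]
    (S : Type u) [CommRing S] [IsDomain S] [Algebra R S]
    [FaithfulSMul R S] [Algebra.FiniteType R S] (p : Ideal R) [p.IsPrime] (q : Ideal S) [q.IsPrime]
    [q.LiesOver p] (hcat : CAlg.IsUniversallyCatenary (Localization.AtPrime p)) :
    (q.height : Cardinal.{u}) + Algebra.trdeg (R ⧸ p) (S ⧸ q) =
      (p.height : Cardinal.{u}) + Algebra.trdeg R S := by
  have hinj : Function.Injective (algebraMap R S) := FaithfulSMul.algebraMap_injective R S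
  have hM : p.primeCompl ≤ nonZeroDivisors R := by
    intro m hm
    apply mem_nonZeroDivisors_of_ne_zero
    rintro rfl
    exact hm p.zero_mem
  have hM' : Algebra.algebraMapSubmonoid S p.primeCompl ≤ nonZeroDivisors S := by
    rintro _ ⟨m, hm, rfl⟩
    apply mem_nonZeroDivisors_of_ne_zero
    intro h0
    have : m = 0 := hinj (by rw [h0, map_zero])
    exact hm (this ▸ p.zero_mem)
  have hdR : IsDomain (Localization.AtPrime p) := IsLocalization.isDomain_localization hM
  have hdS : IsDomain (Localization (Algebra.algebraMapSubmonoid S p.primeCompl)) :=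
    IsLocalization.isDomain_localization hM'
  have hfaith : FaithfulSMul (Localization.AtPrime p)
      (Localization (Algebra.algebraMapSubmonoid S p.primeCompl)) :=
    (faithfulSMul_iff_algebraMap_injective _ _).mpr
      (localizationAlgebra_injective (Localization.AtPrime p)
        (Localization (Algebra.algebraMapSubmonoid S p.primeCompl)) hinj)
  have hft : Algebra.FiniteType (Localization.AtPrime p)
      (Localization (Algebra.algebraMapSubmonoid S p.primeCompl)) := by
    have h0 : (algebraMap R S).FiniteType := RingHom.finiteType_algebraMap.mpr inferInstance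
    have : IsLocalization (Submonoid.map (algebraMap R S) p.primeCompl)
        (Localization (Algebra.algebraMapSubmonoid S p.primeCompl)) :=
      inferInstanceAs (IsLocalization (Algebra.algebraMapSubmonoid S p.primeCompl)
        (Localization (Algebra.algebraMapSubmonoid S p.primeCompl)))
    exact RingHom.finiteType_localizationPreserves (algebraMap R S) p.primeCompl
      (Localization.AtPrime p) (Localization (Algebra.algebraMapSubmonoid S p.primeCompl)) h0
  have hdisjq : Disjoint ((Algebra.algebraMapSubmonoid S p.primeCompl : Submonoid S) : Set S)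
      (q : Set S) := Ideal.disjoint_primeCompl_of_liesOver q p
  have hdisjp : Disjoint ((p.primeCompl : Submonoid R) : Set R) (p : Set R) := by
    rw [Set.disjoint_left]
    intro x hx hxp
    exact hx hxp
  have hq'p : (q.map (algebraMap S
      (Localization (Algebra.algebraMapSubmonoid S p.primeCompl)))).IsPrime :=
    IsLocalization.AtPrime.isPrime_map_of_liesOver S p _ q
  have hq'l : (q.map (algebraMap S
      (Localization (Algebra.algebraMapSubmonoid S p.primeCompl)))).LiesOver
      (IsLocalRing.maximalIdeal (Localization.AtPrime p)) :=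
    IsLocalization.AtPrime.liesOver_map_of_liesOver p (Localization.AtPrime p) _ q
  have key := Groth.Agent.S0555.result (Localization.AtPrime p) hcat
    (Localization (Algebra.algebraMapSubmonoid S p.primeCompl))
    (IsLocalRing.maximalIdeal (Localization.AtPrime p))
    (q.map (algebraMap S (Localization (Algebra.algebraMapSubmonoid S p.primeCompl))))
  have h1 : (q.map (algebraMap S
      (Localization (Algebra.algebraMapSubmonoid S p.primeCompl)))).height = q.height :=
    IsLocalization.height_map_of_disjoint _ q hdisjq
  have h2 : (IsLocalRing.maximalIdeal (Localization.AtPrime p)).height = p.height := by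
    rw [← IsLocalization.AtPrime.map_eq_maximalIdeal p (Localization.AtPrime p)]
    exact IsLocalization.height_map_of_disjoint p.primeCompl p hdisjp
  -- transcendence degrees
  have ha1 : Algebra.IsAlgebraic R (Localization.AtPrime p) :=
    isAlgebraic_of_isLocalization p.primeCompl _ hM
  have ha2 : Algebra.IsAlgebraic S (Localization (Algebra.algebraMapSubmonoid S p.primeCompl)) :=
    isAlgebraic_of_isLocalization (Algebra.algebraMapSubmonoid S p.primeCompl) _ hM'
  have hf1 : FaithfulSMul R (Localization.AtPrime p) :=
    (faithfulSMul_iff_algebraMap_injective _ _).mpr (IsLocalization.injective _ hM)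
  have hf2 : FaithfulSMul S (Localization (Algebra.algebraMapSubmonoid S p.primeCompl)) :=
    (faithfulSMul_iff_algebraMap_injective _ _).mpr (IsLocalization.injective _ hM')
  have h3 : Algebra.trdeg R S = Algebra.trdeg (Localization.AtPrime p)
      (Localization (Algebra.algebraMapSubmonoid S p.primeCompl)) :=
    trdeg_eq_of_isAlgebraic' R S (Localization.AtPrime p)
      (Localization (Algebra.algebraMapSubmonoid S p.primeCompl))
  have hl1 : (IsLocalRing.maximalIdeal (Localization.AtPrime p)).LiesOver p :=
    IsLocalization.AtPrime.liesOver_maximalIdeal (Localization.AtPrime p) p _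
  have hl2 : (q.map (algebraMap S
      (Localization (Algebra.algebraMapSubmonoid S p.primeCompl)))).LiesOver q :=
    ⟨(IsLocalization.under_map_of_isPrime_disjoint
      (Algebra.algebraMapSubmonoid S p.primeCompl) _ inferInstance hdisjq).symm⟩
  have hl3 : (q.map (algebraMap S
      (Localization (Algebra.algebraMapSubmonoid S p.primeCompl)))).LiesOver p :=
    Ideal.LiesOver.trans _ q p
  have ht1 := Groth.Agent.H8.DimFormula.isScalarTower_quotient R S
    (Localization (Algebra.algebraMapSubmonoid S p.primeCompl)) p q
    (q.map (algebraMap S (Localization (Algebra.algebraMapSubmonoid S p.primeCompl))))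
  have ht2 := Groth.Agent.H8.DimFormula.isScalarTower_quotient R (Localization.AtPrime p)
    (Localization (Algebra.algebraMapSubmonoid S p.primeCompl)) p
    (IsLocalRing.maximalIdeal (Localization.AtPrime p))
    (q.map (algebraMap S (Localization (Algebra.algebraMapSubmonoid S p.primeCompl))))
  have hd1 : IsDomain (R ⧸ p) := Ideal.Quotient.isDomain p
  have hd2 : IsDomain (Localization (Algebra.algebraMapSubmonoid S p.primeCompl) ⧸
      q.map (algebraMap S (Localization (Algebra.algebraMapSubmonoid S p.primeCompl)))) :=
    Ideal.Quotient.isDomain _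
  have ha3 : Algebra.IsAlgebraic (R ⧸ p)
      (Localization.AtPrime p ⧸ IsLocalRing.maximalIdeal (Localization.AtPrime p)) :=
    isAlgebraic_quotient_of_isLocalization p.primeCompl _ p _ hdisjp
  have ha4 : Algebra.IsAlgebraic (S ⧸ q)
      (Localization (Algebra.algebraMapSubmonoid S p.primeCompl) ⧸
        q.map (algebraMap S (Localization (Algebra.algebraMapSubmonoid S p.primeCompl)))) :=
    isAlgebraic_quotient_of_isLocalization (Algebra.algebraMapSubmonoid S p.primeCompl) _ q _ hdisjq
  have h4 : Algebra.trdeg (R ⧸ p) (S ⧸ q) =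
      Algebra.trdeg (Localization.AtPrime p ⧸ IsLocalRing.maximalIdeal (Localization.AtPrime p))
        (Localization (Algebra.algebraMapSubmonoid S p.primeCompl) ⧸
          q.map (algebraMap S (Localization (Algebra.algebraMapSubmonoid S p.primeCompl)))) :=
    trdeg_eq_of_isAlgebraic' (R ⧸ p) (S ⧸ q) _ _
  rw [h1, h2, ← h3, ← h4] at key
  exact key

end adf

end Groth.Agent.Lib.Helper55
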