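import Groth.Agent.Lib.Helper55.OpenAtDim
import Groth.Agent.Lib.Helper55.ZeroLocusEquidim

/-! Morphisms open at a maximal point of a fibre: existence of a dominating irreducible component
with the same relative dimension (EGA IV 14.2.2–14.2.4) (helper55). -/

set_option autoImplicit false

universe u

namespace Groth.Agent.Lib.Helper55

open AlgebraicGeometry CategoryTheory Topology

section core

variable {X Y : Scheme.{u}} [IrreducibleSpace Y] [IsLocallyNoetherian Y] (f : X ⟶ Y)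
  [LocallyOfFiniteType f]

/-- **EGA IV 14.2.2 (core).**  Let `Y` be irreducible and locally Noetherian, `f` locally of finite
type and open at a maximal point `ζ` of its fibre. Then there is a maximal point `ξ` of `X`
specializing to `ζ`, lying over the generic point of `Y`, with
`trdeg κ(ξ)/κ(f ξ) = trdeg κ(ζ)/κ(f ζ) = dim_ζ X_{f ζ}`. -/
theorem exists_dominant_maximal_point_of_isOpenAt (ζ : X) (hopen : EGA43.IsOpenAt f.base ζ)
    (hmax : ∀ w : X, f w = f ζ → w ⤳ ζ → w = ζ) :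
    ∃ (ξ : X) (d : ℕ), (∀ w : X, w ⤳ ξ → ξ ⤳ w) ∧ ξ ⤳ ζ ∧ f ξ = genericPoint ↥Y ∧
      @Algebra.trdeg (Y.residueField (f ξ)) (X.residueField ξ) _ _
        (f.residueFieldMap ξ).hom.toAlgebra = d ∧
      @Algebra.trdeg (Y.residueField (f ζ)) (X.residueField ζ) _ _
        (f.residueFieldMap ζ).hom.toAlgebra = d ∧
      FlatMor.fibreDimAt f ζ = d := by
  have hX : IsLocallyNoetherian X := LocallyOfFiniteType.isLocallyNoetherian f
  obtain ⟨V, hV, hyV, -⟩ := exists_isAffineOpen_mem_and_subset (x := f ζ) (U := ⊤) trivial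
  obtain ⟨U, hU, hζU, e⟩ := exists_isAffineOpen_mem_and_subset (x := ζ) (U := f ⁻¹ᵁ V) hyV
  obtain ⟨ξ, hξU, hξζ, hξmax, hht⟩ := exists_maximal_point_chart hU ζ hζU
  obtain ⟨z, hfz, hzζ, -, d, hd, hFζ, -, -⟩ := exists_maximal_point_fiber f ζ
  have hzeq : ζ = z := (hmax z hfz hzζ).symm
  subst hzeq
  obtain ⟨m, hm⟩ := exists_trdeg_residueField_eq_natCast f ξ
  have hche := trdeg_le_fibreDimAt_of_specializes f ξ ζ hξζ m hm
  rw [hFζ] at hche
  have hmd : m ≤ d := by exact_mod_cast hche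
  have hchart := chart_height_add_trdeg_le f hV hU e ξ ζ hξU hζU hξζ d m hd hm
  have hkey := ringKrullDim_stalk_le_of_isOpenAt f ζ hopen hmax
  rw [Groth.Agent.S4442.ringKrullDim_stalk_eq_height X hU ζ hζU,
    Groth.Agent.S4442.ringKrullDim_stalk_eq_height Y hV (f ζ) (e hζU)] at hkey
  have hkey' : (hV.primeIdealOf ⟨f ζ, e hζU⟩).asIdeal.height ≤
      (hU.primeIdealOf ⟨ζ, hζU⟩).asIdeal.height := by exact_mod_cast hkey
  have hle : (hV.primeIdealOf ⟨f ξ, e hξU⟩).asIdeal ≤ (hV.primeIdealOf ⟨f ζ, e hζU⟩).asIdeal :=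
    (primeIdealOf_le_iff_specializes hV (f ξ) (f ζ) (e hξU) (e hζU)).mpr (hξζ.map f.continuous)
  have hp1 : (hV.primeIdealOf ⟨f ξ, e hξU⟩).asIdeal.IsPrime := (hV.primeIdealOf _).2
  have hp2 : (hV.primeIdealOf ⟨f ζ, e hζU⟩).asIdeal.IsPrime := (hV.primeIdealOf _).2
  have hp3 : ((hV.primeIdealOf ⟨f ζ, e hζU⟩).asIdeal.map
      (Ideal.Quotient.mk (hV.primeIdealOf ⟨f ξ, e hξU⟩).asIdeal)).IsPrime :=
    map_mk_isPrime_of_le _ _ hle
  have hadd := Groth.Agent.H8.DimFormula.height_map_mk_add_height_le Γ(Y, V)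
    (hV.primeIdealOf ⟨f ξ, e hξU⟩).asIdeal (hV.primeIdealOf ⟨f ζ, e hζU⟩).asIdeal hle
  -- natural numbers
  obtain ⟨a, ha⟩ := exists_nat_ringKrullDim_stalk ζ
  rw [Groth.Agent.S4442.ringKrullDim_stalk_eq_height X hU ζ hζU] at ha
  have ha' : (hU.primeIdealOf ⟨ζ, hζU⟩).asIdeal.height = (a : ℕ∞) := by exact_mod_cast ha
  obtain ⟨b, hb⟩ := exists_nat_ringKrullDim_stalk (f ζ)
  rw [Groth.Agent.S4442.ringKrullDim_stalk_eq_height Y hV (f ζ) (e hζU)] at hb
  have hb' : (hV.primeIdealOf ⟨f ζ, e hζU⟩).asIdeal.height = (b : ℕ∞) := by exact_mod_cast hb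
  obtain ⟨s, hs⟩ := exists_nat_ringKrullDim_stalk (f ξ)
  have hs0 := hs
  rw [Groth.Agent.S4442.ringKrullDim_stalk_eq_height Y hV (f ξ) (e hξU)] at hs
  have hs' : (hV.primeIdealOf ⟨f ξ, e hξU⟩).asIdeal.height = (s : ℕ∞) := by exact_mod_cast hs
  obtain ⟨c, hc⟩ := exists_nat_height_map_quotient hV (f ξ) (f ζ) (e hξU) (e hζU)
    (hξζ.map f.continuous)
  rw [hht, ha', hc] at hchart
  rw [hc, hs', hb'] at hadd
  rw [hb', ha'] at hkey'
  have n1 : a + d ≤ c + m := by exact_mod_cast hchart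
  have n2 : c + s ≤ b := by exact_mod_cast hadd
  have n3 : b ≤ a := by exact_mod_cast hkey'
  have hs00 : s = 0 := by omega
  have hmd' : m = d := by omega
  refine ⟨ξ, d, hξmax, hξζ, ?_, by rw [hm, hmd'], hd, hFζ⟩
  have h0 : ringKrullDim (Y.presheaf.stalk (f ξ)) = 0 := by rw [hs0, hs00]; rfl
  exact (eq_of_specializes_of_ringKrullDim_stalk_eq_zero (f ξ) (genericPoint ↥Y) h0
    (genericPoint_specializes (f ξ))).symm

end core

end Groth.Agent.Lib.Helper55
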