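import Mathlib
import Groth.Agent.Lib.Helper55.OpenAtBaseChange
import Groth.Agent.Lib.Helper55.EquidimCriterion
import Groth.Agent.S4920
import Groth.Agent.Lib.Helper23.FlatFibreDim

/-! Fibre dimensions of open morphisms of finite type over a locally Noetherian base
(EGA IV 14.2.x) (helper55). -/

set_option autoImplicit false
universe u

namespace Groth.Agent.Lib.Helper55

open AlgebraicGeometry CategoryTheory Topology

section

variable {X Y : Scheme.{u}} (f : X ⟶ Y) [LocallyOfFiniteType f]

/-- The local fibre dimension is a natural number. -/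
theorem exists_nat_fibreDimAt_eq (x : X) : ∃ k : ℕ, FlatMor.fibreDimAt f x = k := by
  obtain ⟨n, -, hfd⟩ := fibreDimAt_eq_stalk_fiber_add_trdeg f x
  obtain ⟨d, hd⟩ := exists_nat_ringKrullDim_stalk_fiber f x
  refine ⟨d + n, ?_⟩
  rw [hfd, hd]
  push_cast
  rfl

/-- The fibres of a quasi-compact morphism locally of finite type have finite dimension. -/
theorem exists_nat_dim_fiber_le [QuasiCompact f] (y : Y) :
    ∃ K : ℕ, topologicalKrullDim ↥(f.fiber y) ≤ K := by
  classical
  have hcomp : IsCompact (f ⁻¹' {y} : Set X) := by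
    rw [← f.range_fiberι y]
    exact isCompact_range (f.fiberι y).continuous
  have hcov : (f ⁻¹' {y} : Set X) ⊆ ⋃ k : ℕ, {x : X | FlatMor.fibreDimAt f x ≤ k} := by
    intro x _
    obtain ⟨k, hk⟩ := exists_nat_fibreDimAt_eq f x
    exact Set.mem_iUnion.mpr ⟨k, hk.le⟩
  have hdir : Directed (· ⊆ ·) (fun k : ℕ => {x : X | FlatMor.fibreDimAt f x ≤ k}) := by
    refine Monotone.directed_le ?_
    intro a b hab x hx
    exact le_trans (show FlatMor.fibreDimAt f x ≤ (a : WithBot ℕ∞) from hx) (by exact_mod_cast hab)
  obtain ⟨K, hK⟩ := hcomp.elim_directed_cover _ (fun k => isOpen_setOf_fibreDimAt_le f k) hcov hdir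
  refine ⟨K, ?_⟩
  rw [topologicalKrullDim_fiber_eq_iSup f y]
  exact iSup_le fun x => hK x.2

end

section open_

variable {X Y : Scheme.{u}} [IsLocallyNoetherian Y] (f : X ⟶ Y) [LocallyOfFiniteType f]

/-- If `f` is open at every point of the fibre over `y` and `η ⤳ y`, then
`dim X_y ≤ dim X_η`. -/
theorem dim_fiber_le_of_specializes_of_isOpenAt (y η : Y) (hηy : η ⤳ y)
    (h : ∀ x : X, f.base x = y → EGA43.IsOpenAt f.base x) :
    topologicalKrullDim ↥(f.fiber y) ≤ topologicalKrullDim ↥(f.fiber η) := by
  obtain ⟨hirr, hr, hgen⟩ := closure_subscheme_setup η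
  have hNoeth : IsLocallyNoetherian (Scheme.IdealSheafData.vanishingIdeal
      (⟨closure {η}, isClosed_closure⟩ : TopologicalSpace.Closeds Y)).subscheme :=
    LocallyOfFiniteType.isLocallyNoetherian (Scheme.IdealSheafData.vanishingIdeal
      (⟨closure {η}, isClosed_closure⟩ : TopologicalSpace.Closeds Y)).subschemeι
  have hyr : y ∈ Set.range (Scheme.IdealSheafData.vanishingIdeal
      (⟨closure {η}, isClosed_closure⟩ : TopologicalSpace.Closeds Y)).subschemeι := by
    rw [hr]
    exact specializes_iff_mem_closure.mp hηy
  obtain ⟨y₀, hy₀⟩ := hyr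
  have hS := (Groth.Agent.S4920.result (Limits.pullback.snd f (Scheme.IdealSheafData.vanishingIdeal
      (⟨closure {η}, isClosed_closure⟩ : TopologicalSpace.Closeds Y)).subschemeι) y₀
    (fun x' hx' => isOpenAt_snd_of_isOpenAt f _ x' (h _ (by
      have hc := congr(($(Limits.pullback.condition (f := f) (g := (Scheme.IdealSheafData.vanishingIdeal
        (⟨closure {η}, isClosed_closure⟩ : TopologicalSpace.Closeds Y)).subschemeι))) x')
      refine hc.trans ?_
      change (Scheme.IdealSheafData.vanishingIdeal
        (⟨closure {η}, isClosed_closure⟩ : TopologicalSpace.Closeds Y)).subschemeι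
          (Limits.pullback.snd f _ x') = y
      rw [hx', hy₀])))).2
  have hsq := IsPullback.of_hasPullback f (Scheme.IdealSheafData.vanishingIdeal
      (⟨closure {η}, isClosed_closure⟩ : TopologicalSpace.Closeds Y)).subschemeι
  rw [topologicalKrullDim_fiber_eq_of_isPullback f _ _ _ hsq,
    topologicalKrullDim_fiber_eq_of_isPullback f _ _ _ hsq, hy₀, hgen] at hS
  exact hS

/-- **EGA IV 14.2.x.** For an open morphism of finite type to a locally Noetherian scheme, if
`dim X_y = dim X_η` for the generic points `η` of the irreducible components through `y`, then the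
fibre dimension is constant near `y`. -/
theorem fibre_dim_locally_const_of_isOpenMap [QuasiCompact f] (hf : IsOpenMap f.base) (y : Y)
    (h : ∀ η : Y, y ∈ closure {η} → closure {η} ∈ irreducibleComponents (Y : Type u) →
      topologicalKrullDim ↥(f.fiber y) = topologicalKrullDim ↥(f.fiber η)) :
    ∃ V ∈ nhds y, ∀ z ∈ V, topologicalKrullDim ↥(f.fiber z) = topologicalKrullDim ↥(f.fiber y) := by
  classical
  have hop : ∀ x : X, EGA43.IsOpenAt f.base x := by
    intro x U hU
    obtain ⟨U', hU'U, hU'o, hxU'⟩ := mem_nhds_iff.mp hU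
    exact Filter.mem_of_superset ((hf U' hU'o).mem_nhds ⟨x, hxU', rfl⟩) (Set.image_mono hU'U)
  have hL1 : ∀ z z' : Y, z' ⤳ z →
      topologicalKrullDim ↥(f.fiber z) ≤ topologicalKrullDim ↥(f.fiber z') :=
    fun z z' hz => dim_fiber_le_of_specializes_of_isOpenAt f z z' hz (fun x _ => hop x)
  haveI : LocallyOfFinitePresentation f :=
    LocallyOfFinitePresentation.iff_locallyOfFiniteType.mpr inferInstance
  obtain ⟨W, hyW, hW⟩ := exists_open_forall_maximal_specializes y
  -- upper bound on `W`
  have hupper : ∀ z ∈ W, topologicalKrullDim ↥(f.fiber z) ≤ topologicalKrullDim ↥(f.fiber y) := by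
    intro z hzW
    obtain ⟨η, -, hηz, hηmax⟩ :=
      exists_maximal_point_specializes (Set.univ : Set Y) isClosed_univ z trivial
    have hηmax' : ∀ w : Y, w ⤳ η → η ⤳ w := fun w hw => hηmax w trivial hw
    have hηW : η ∈ W := hηz.mem_open W.2 hzW
    have hηy : η ⤳ y := hW η hηW hηmax'
    rw [h η (specializes_iff_mem_closure.mp hηy)
      (closure_mem_irreducibleComponents_of_maximal η hηmax')]
    exact hL1 z η hηz
  -- lower bound: the set `H` is open
  set H : Set Y := {z | topologicalKrullDim ↥(f.fiber y) ≤ topologicalKrullDim ↥(f.fiber z)} with hH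
  have hHgen : StableUnderGeneralization H := by
    intro z z' hz hzH
    exact le_trans hzH (hL1 z z' hz)
  have hA : ∀ c : WithBot ℕ∞,
      IsLocallyConstructible {s : Y | c < topologicalKrullDim ↥(f.fiber s)} := by
    intro c
    rw [← Groth.Agent.Lib.Helper23.FlatFibreDim.image_lt_fibreDimAt_eq]
    exact f.isLocallyConstructible_image
      (Groth.Agent.Lib.Helper23.FlatFibreDim.isLocallyConstructible_lt_fibreDimAt f c)
  have hHcons : IsLocallyConstructible H := by
    obtain ⟨K, hK⟩ := exists_nat_dim_fiber_le f y
    generalize hn : topologicalKrullDim ↥(f.fiber y) = n at hH hK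
    induction n using WithBot.recBotCoe with
    | bot =>
      convert IsLocallyConstructible.univ
      ext z
      simp [hH]
    | coe a =>
      induction a using ENat.recTopCoe with
      | top =>
        exfalso
        have : ((⊤ : ℕ∞) : WithBot ℕ∞) ≤ ((K : ℕ∞) : WithBot ℕ∞) := hK
        rw [WithBot.coe_le_coe] at this
        exact absurd (top_le_iff.mp this) (ENat.natCast_ne_top K)
      | coe m =>
        rcases Nat.eq_zero_or_pos m with hm | hm
        · subst hm
          convert hA ⊥ using 1
          ext z
          simp only [hH, Set.mem_ofPred_eq]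
          generalize topologicalKrullDim ↥(f.fiber z) = d
          induction d using WithBot.recBotCoe with
          | bot => simp
          | coe b => simp
        · obtain ⟨k, rfl⟩ : ∃ k, m = k + 1 := ⟨m - 1, by omega⟩
          convert hA ((k : ℕ∞) : WithBot ℕ∞) using 1
          ext z
          simp only [hH, Set.mem_ofPred_eq]
          generalize topologicalKrullDim ↥(f.fiber z) = d
          induction d using WithBot.recBotCoe with
          | bot => simp
          | coe b =>
            rw [WithBot.coe_le_coe, WithBot.coe_lt_coe]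
            push_cast
            exact ENat.add_one_le_iff (ENat.natCast_ne_top k)
  have hHopen : IsOpen H :=
    Groth.Agent.Lib.Helper23.FlatFibreDim.isOpen_of_isLocallyConstructible_of_stableUnderGeneralization
      hHcons hHgen
  refine ⟨(W : Set Y) ∩ H, Filter.inter_mem (W.2.mem_nhds hyW) (hHopen.mem_nhds
    (show topologicalKrullDim ↥(f.fiber y) ≤ topologicalKrullDim ↥(f.fiber y) from le_refl _)), ?_⟩
  rintro z ⟨hzW, hzH⟩
  exact le_antisymm (hupper z hzW) hzH

end open_

end Groth.Agent.Lib.Helper55
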