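import Mathlib
import Groth.Agent.Lib.Helper55.OpenMapFibreDim
import Groth.Agent.Lib.Helper55.ClosedSubschemeDim
import Groth.Agent.H52.FibreDimChart

/-! EGA IV 14.2.x: for an open morphism of finite type there is an open neighbourhood of a fibre on
which the fibre dimension is locally constant on the base (helper55). -/

set_option autoImplicit false
universe u

namespace Groth.Agent.Lib.Helper55

open AlgebraicGeometry CategoryTheory Topology

/-- The empty space has dimension `⊥`. -/
theorem topologicalKrullDim_eq_bot_of_isEmpty' (T : Type*) [TopologicalSpace T] [IsEmpty T] :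
    topologicalKrullDim T = ⊥ := by
  unfold topologicalKrullDim
  haveI : IsEmpty (TopologicalSpace.IrreducibleCloseds T) :=
    ⟨fun Z => by obtain ⟨x, _⟩ := Z.isIrreducible.nonempty; exact isEmptyElim x⟩
  exact Order.krullDim_eq_bot

section

variable {X Y : Scheme.{u}} (f : X ⟶ Y)

/-- The trace of a fibre on an open subscheme has the dimension of the fibre of the restriction. -/
theorem topologicalKrullDim_opens_inter_preimage_eq_fiber (U : X.Opens) (z : Y) :
    topologicalKrullDim ↥((U : Set X) ∩ f.base ⁻¹' {z}) =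
      topologicalKrullDim ↥((U.ι ≫ f).fiber z) := by
  have h1 := topologicalKrullDim_range_inter_preimage f U.ι z
  have h2 : topologicalKrullDim ↥((U.ι ≫ f).fiber z) =
      topologicalKrullDim ↥((U.ι ≫ f) ⁻¹' {z}) :=
    IsHomeomorph.topologicalKrullDim_eq _ ((U.ι ≫ f).fiberHomeo z).isHomeomorph
  rw [h2, ← h1]
  have hset : ((U : Set X) ∩ f.base ⁻¹' {z}) = (Set.range U.ι ∩ f ⁻¹' {z}) := by
    rw [Scheme.Opens.range_ι]
  rw [hset]

variable [LocallyOfFiniteType f]

/-- The local fibre dimension of the restriction to an open subscheme. -/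
theorem fibreDimAt_opens_ι_comp (U : X.Opens) (u : ↥(U : Scheme.{u})) :
    FlatMor.fibreDimAt (U.ι ≫ f) u = FlatMor.fibreDimAt f (U.ι u) :=
  Groth.Agent.H52.fibreDimAt_eq_of_etale_square U.ι (𝟙 Y) (U.ι ≫ f) f
    (by rw [Category.comp_id]) u

end

section open_

variable {X Y : Scheme.{u}} [IsLocallyNoetherian Y] (f : X ⟶ Y) [LocallyOfFiniteType f]

/-- **EGA IV 14.2.x.** For an open morphism of finite type to a locally Noetherian scheme and a
point `y`, there is an open neighbourhood `U` of the fibre `f⁻¹(y)` such that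
`z ↦ dim (U ∩ f⁻¹(z))` is constant near `y`. -/
theorem exists_open_nhd_fibre_dim_locally_const [QuasiCompact f] (hf : IsOpenMap f.base) (y : Y) :
    ∃ U : X.Opens, f.base ⁻¹' {y} ⊆ (U : Set X) ∧ ∃ V ∈ nhds y, ∀ z ∈ V,
      topologicalKrullDim ↥((U : Set X) ∩ f.base ⁻¹' {z}) =
        topologicalKrullDim ↥((U : Set X) ∩ f.base ⁻¹' {y}) := by
  classical
  by_cases hemp : (f.base ⁻¹' {y} : Set X) = ∅
  · refine ⟨⊥, by rw [hemp]; exact Set.empty_subset _, Set.univ, Filter.univ_mem, fun z _ => ?_⟩
    have h1 : ∀ z : Y, IsEmpty ↥(((⊥ : X.Opens) : Set X) ∩ f.base ⁻¹' {z}) := by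
      intro z
      refine ⟨fun w => ?_⟩
      exact w.2.1
    haveI := h1 z
    haveI := h1 y
    rw [topologicalKrullDim_eq_bot_of_isEmpty', topologicalKrullDim_eq_bot_of_isEmpty']
  obtain ⟨x₀, hx₀⟩ := Set.nonempty_iff_ne_empty.mpr hemp
  -- the dimension of the fibre is a natural number `m`
  obtain ⟨K, hK⟩ := exists_nat_dim_fiber_le f y
  have hiSup := topologicalKrullDim_fiber_eq_iSup f y
  obtain ⟨m, hm⟩ : ∃ m : ℕ, topologicalKrullDim ↥(f.fiber y) = m := by
    have h0 : (0 : WithBot ℕ∞) ≤ topologicalKrullDim ↥(f.fiber y) := by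
      rw [hiSup]
      exact le_trans (localDim_nonneg _)
        (le_iSup (fun x : {x : X // f x = y} => FlatMor.fibreDimAt f x.1) ⟨x₀, hx₀⟩)
    generalize topologicalKrullDim ↥(f.fiber y) = c at h0 hK
    induction c using WithBot.recBotCoe with
    | bot => simp at h0
    | coe a =>
      induction a using ENat.recTopCoe with
      | top =>
        exfalso
        have : ((⊤ : ℕ∞) : WithBot ℕ∞) ≤ ((K : ℕ∞) : WithBot ℕ∞) := hK
        rw [WithBot.coe_le_coe] at this
        exact absurd (top_le_iff.mp this) (ENat.natCast_ne_top K)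
      | coe k => exact ⟨k, rfl⟩
  set U : X.Opens := ⟨{x : X | FlatMor.fibreDimAt f x ≤ m}, isOpen_setOf_fibreDimAt_le f m⟩ with hU
  have hyU : f.base ⁻¹' {y} ⊆ (U : Set X) := by
    intro x hx
    change FlatMor.fibreDimAt f x ≤ m
    rw [← hm, hiSup]
    exact le_iSup (fun x : {x : X // f x = y} => FlatMor.fibreDimAt f x.1) ⟨x, hx⟩
  refine ⟨U, hyU, ?_⟩
  set g := U.ι ≫ f with hg
  haveI : IsLocallyNoetherian X := LocallyOfFiniteType.isLocallyNoetherian f
  haveI : QuasiCompact g := by rw [hg]; infer_instance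
  have hgopen : IsOpenMap g.base := by
    rw [hg]
    intro s hs
    have : (U.ι ≫ f).base '' s = f.base '' (U.ι.base '' s) := by
      rw [Set.image_image]
      rfl
    rw [this]
    exact hf _ (U.ι.isOpenEmbedding.isOpenMap _ hs)
  have hgop : ∀ u : ↥(U : Scheme.{u}), EGA43.IsOpenAt g.base u := by
    intro u T hT
    obtain ⟨T', hT'T, hT'o, huT'⟩ := mem_nhds_iff.mp hT
    exact Filter.mem_of_superset ((hgopen T' hT'o).mem_nhds ⟨u, huT', rfl⟩) (Set.image_mono hT'T)
  -- all fibres of `g` have dimension at most `m`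
  have hle : ∀ z : Y, topologicalKrullDim ↥(g.fiber z) ≤ m := by
    intro z
    rw [topologicalKrullDim_fiber_eq_iSup g z]
    refine iSup_le fun u => ?_
    exact le_of_eq_of_le (fibreDimAt_opens_ι_comp f U u.1) u.1.2
  -- the fibre of `g` over `y` has dimension `m`
  have hgy : topologicalKrullDim ↥(g.fiber y) = m := by
    rw [hg, ← topologicalKrullDim_opens_inter_preimage_eq_fiber f U y, ← hm]
    have hset : ((U : Set X) ∩ f.base ⁻¹' {y}) = f ⁻¹' {y} := Set.inter_eq_right.mpr hyU
    rw [hset]
    exact (IsHomeomorph.topologicalKrullDim_eq _ (f.fiberHomeo y).isHomeomorph).symm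
  obtain ⟨V, hV, hVz⟩ := fibre_dim_locally_const_of_isOpenMap g hgopen y (by
    intro η hyη _
    apply le_antisymm
    · exact dim_fiber_le_of_specializes_of_isOpenAt g y η (specializes_iff_mem_closure.mpr hyη)
        (fun u _ => hgop u)
    · rw [hgy]
      exact hle η)
  refine ⟨V, hV, fun z hz => ?_⟩
  rw [topologicalKrullDim_opens_inter_preimage_eq_fiber f U z,
    topologicalKrullDim_opens_inter_preimage_eq_fiber f U y]
  exact hVz z hz

end open_

end Groth.Agent.Lib.Helper55
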