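import Mathlib
import Groth.Agent.Lib.Helper55.OpenMapFibreDimNhd
import Groth.Agent.Lib.Helper55.Equidim
import Groth.Agent.Lib.Helper55.DimAttained

/-! EGA IV 14.2.x: for an open morphism of finite type, the set of dimensions of the irreducible
components of the fibres is locally constant under the natural hypothesis (helper55). -/

set_option autoImplicit false
universe u

namespace Groth.Agent.Lib.Helper55

open AlgebraicGeometry CategoryTheory Topology

section

variable {X Y : Scheme.{u}} (f : X ⟶ Y) [LocallyOfFiniteType f]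

/-- The open subset of `X` where the local fibre dimension is at most `n`. -/
noncomputable def fibreDimLEOpens (n : ℕ) : X.Opens :=
  ⟨{x : X | FlatMor.fibreDimAt f x ≤ n}, isOpen_setOf_fibreDimAt_le f n⟩

/-- The dimension of an irreducible component of a fibre is a natural number, and is the local
fibre dimension at its generic point. -/
theorem exists_dim_component_fiber_eq (z : Y) (Z : Set ↥(f.fiber z))
    (hZ : Z ∈ irreducibleComponents ↥(f.fiber z)) :
    ∃ (ξ : ↥(f.fiber z)) (n : ℕ), topologicalKrullDim ↥Z = n ∧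
      FlatMor.fibreDimAt f (f.fiberι z ξ) = n := by
  have hlft : LocallyOfFiniteType (f.fiberToSpecResidueField z) :=
    MorphismProperty.pullback_snd (P := @LocallyOfFiniteType) _ _ inferInstance
  obtain ⟨ξ, hξ⟩ := QuasiSober.sober hZ.1 (isClosed_of_mem_irreducibleComponents Z hZ)
  have hcl : closure ({ξ} : Set ↥(f.fiber z)) = Z := hξ.def
  have hcomp : closure ({ξ} : Set ↥(f.fiber z)) ∈ irreducibleComponents ↥(f.fiber z) := by
    rw [hcl]; exact hZ
  have h1 := localDim_eq_dim_closure_of_mem_irreducibleComponents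
    (k := ↑(Y.residueField z)) (f.fiberToSpecResidueField z) ξ hcomp
  rw [localDim_fiber_eq_fibreDimAt f z ξ, hcl] at h1
  obtain ⟨n, hn⟩ := exists_nat_fibreDimAt_eq f (f.fiberι z ξ)
  exact ⟨ξ, n, by rw [← h1, hn], hn⟩

/-- **Characterisation of the component dimensions of a fibre.** The fibre `X_z` has an irreducible
component of dimension `n` iff the trace of `X_z` on the open set where the local fibre dimension
is `≤ n` has dimension `≥ n`. -/
theorem natCast_mem_componentDims_iff (n : ℕ) (z : Y) :
    (n : WithBot ℕ∞) ∈ (fun Z : Set ↥(f.fiber z) => topologicalKrullDim ↥Z) ''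
        irreducibleComponents ↥(f.fiber z) ↔
      (n : WithBot ℕ∞) ≤ topologicalKrullDim ↥(((fibreDimLEOpens f n).ι ≫ f).fiber z) := by
  have hlft : LocallyOfFiniteType (f.fiberToSpecResidueField z) :=
    MorphismProperty.pullback_snd (P := @LocallyOfFiniteType) _ _ inferInstance
  set U := fibreDimLEOpens f n with hU
  constructor
  · rintro ⟨Z, hZ, hdim⟩
    obtain ⟨ξ, m, hm1, hm2⟩ := exists_dim_component_fiber_eq f z Z hZ
    have hmn : m = n := by
      have h : ((m : ℕ) : WithBot ℕ∞) = ((n : ℕ) : WithBot ℕ∞) := hm1.symm.trans hdim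
      exact_mod_cast h
    subst hmn
    have hx : f (f.fiberι z ξ) = z := by
      have : f.fiberι z ξ ∈ Set.range (f.fiberι z) := ⟨ξ, rfl⟩
      rw [f.range_fiberι] at this
      exact this
    have hxU : f.fiberι z ξ ∈ U := hm2.le
    have hu : (U.ι ≫ f) (⟨f.fiberι z ξ, hxU⟩ : ↥(U : Scheme.{u})) = z := hx
    rw [topologicalKrullDim_fiber_eq_iSup (U.ι ≫ f) z]
    refine le_trans ?_ (le_iSup (fun u : {u : ↥(U : Scheme.{u}) // (U.ι ≫ f) u = z} =>
      FlatMor.fibreDimAt (U.ι ≫ f) u.1) ⟨⟨f.fiberι z ξ, hxU⟩, hu⟩)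
    rw [fibreDimAt_opens_ι_comp f U]
    exact hm2.ge
  · intro hle
    rw [topologicalKrullDim_fiber_eq_iSup (U.ι ≫ f) z] at hle
    have hsup : (⨆ u : {u : ↥(U : Scheme.{u}) // (U.ι ≫ f) u = z},
        FlatMor.fibreDimAt (U.ι ≫ f) u.1) = (n : WithBot ℕ∞) := by
      apply le_antisymm _ hle
      refine iSup_le fun u => ?_
      exact le_of_eq_of_le (fibreDimAt_opens_ι_comp f U u.1) u.1.2
    obtain ⟨u, hu⟩ := exists_eq_of_iSup_eq_natCast _ n hsup
    rw [fibreDimAt_opens_ι_comp f U u.1] at hu
    have hfx : f (U.ι u.1) = z := u.2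
    have hxr : U.ι u.1 ∈ Set.range (f.fiberι z) := by
      rw [f.range_fiberι]; exact hfx
    obtain ⟨xF, hxF⟩ := hxr
    obtain ⟨ξ, hξ, -, hdim⟩ := exists_mem_irreducibleComponents_dim_eq_localDim
      (k := ↑(Y.residueField z)) (f.fiberToSpecResidueField z) xF
    rw [localDim_fiber_eq_fibreDimAt f z xF, hxF, hu] at hdim
    exact ⟨closure {ξ}, hξ, hdim⟩

end

section cons

variable {X Y : Scheme.{u}} (g : X ⟶ Y) [LocallyOfFinitePresentation g] [QuasiCompact g]

/-- The set of points of the base over which the fibre has dimension `≥ n` is locally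
constructible. -/
theorem isLocallyConstructible_setOf_natCast_le_dim_fiber (n : ℕ) :
    IsLocallyConstructible {z : Y | (n : WithBot ℕ∞) ≤ topologicalKrullDim ↥(g.fiber z)} := by
  have hA : ∀ c : WithBot ℕ∞,
      IsLocallyConstructible {s : Y | c < topologicalKrullDim ↥(g.fiber s)} := by
    intro c
    rw [← Groth.Agent.Lib.Helper23.FlatFibreDim.image_lt_fibreDimAt_eq]
    exact g.isLocallyConstructible_image
      (Groth.Agent.Lib.Helper23.FlatFibreDim.isLocallyConstructible_lt_fibreDimAt g c)
  rcases Nat.eq_zero_or_pos n with hm | hm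
  · subst hm
    convert hA ⊥ using 1
    ext z
    simp only [Set.mem_ofPred_eq]
    generalize topologicalKrullDim ↥(g.fiber z) = d
    induction d using WithBot.recBotCoe with
    | bot => simp
    | coe b => simp
  · obtain ⟨k, rfl⟩ : ∃ k, n = k + 1 := ⟨n - 1, by omega⟩
    convert hA ((k : ℕ∞) : WithBot ℕ∞) using 1
    ext z
    simp only [Set.mem_ofPred_eq]
    generalize topologicalKrullDim ↥(g.fiber z) = d
    induction d using WithBot.recBotCoe with
    | bot => simp
    | coe b =>
      rw [WithBot.coe_lt_coe]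
      have : (((k + 1 : ℕ) : WithBot ℕ∞)) = (((k : ℕ∞) + 1 : ℕ∞) : WithBot ℕ∞) := by
        push_cast; rfl
      rw [this, WithBot.coe_le_coe]
      exact ENat.add_one_le_iff (ENat.natCast_ne_top k)

end cons

section open_

variable {X Y : Scheme.{u}} [IsLocallyNoetherian Y] (f : X ⟶ Y) [LocallyOfFiniteType f]

/-- **EGA IV 14.2.x.** For an open morphism of finite type to a locally Noetherian scheme, if the
set `E(y)` of dimensions of irreducible components of the fibre over `y` equals `E(η)` for the
generic points `η` of the irreducible components through `y`, then `E` is constant near `y`. -/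
theorem fibre_component_dims_locally_const_of_isOpenMap [QuasiCompact f] (hf : IsOpenMap f.base)
    (y : Y)
    (h : ∀ η : Y, y ∈ closure {η} → closure {η} ∈ irreducibleComponents (Y : Type u) →
      (fun Z : Set ↥(f.fiber y) => topologicalKrullDim ↥Z) '' irreducibleComponents ↥(f.fiber y) =
      (fun Z : Set ↥(f.fiber η) => topologicalKrullDim ↥Z) '' irreducibleComponents ↥(f.fiber η)) :
    ∃ V ∈ nhds y, ∀ z ∈ V,
      (fun Z : Set ↥(f.fiber z) => topologicalKrullDim ↥Z) '' irreducibleComponents ↥(f.fiber z) =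
      (fun Z : Set ↥(f.fiber y) => topologicalKrullDim ↥Z) '' irreducibleComponents ↥(f.fiber y) := by
  classical
  haveI : IsLocallyNoetherian X := LocallyOfFiniteType.isLocallyNoetherian f
  -- every element of `E z` is a natural number
  have hnat : ∀ (z : Y) (c : WithBot ℕ∞),
      c ∈ (fun Z : Set ↥(f.fiber z) => topologicalKrullDim ↥Z) '' irreducibleComponents ↥(f.fiber z) →
      ∃ n : ℕ, c = n := by
    rintro z _ ⟨Z, hZ, rfl⟩
    obtain ⟨ξ, n, hn, -⟩ := exists_dim_component_fiber_eq f z Z hZ
    exact ⟨n, hn⟩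
  -- the restricted morphisms are open
  have hgop : ∀ (n : ℕ) (u : ↥((fibreDimLEOpens f n : X.Opens) : Scheme.{u})),
      EGA43.IsOpenAt ((fibreDimLEOpens f n).ι ≫ f).base u := by
    intro n u T hT
    obtain ⟨T', hT'T, hT'o, huT'⟩ := mem_nhds_iff.mp hT
    have hopen : IsOpen (((fibreDimLEOpens f n).ι ≫ f).base '' T') := by
      have : ((fibreDimLEOpens f n).ι ≫ f).base '' T' =
          f.base '' ((fibreDimLEOpens f n).ι.base '' T') := by
        rw [Set.image_image]
        rfl
      rw [this]
      exact hf _ ((fibreDimLEOpens f n).ι.isOpenEmbedding.isOpenMap _ hT'o)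
    exact Filter.mem_of_superset (hopen.mem_nhds ⟨u, huT', rfl⟩) (Set.image_mono hT'T)
  -- `E` grows under generization
  have hL1 : ∀ z z' : Y, z' ⤳ z →
      (fun Z : Set ↥(f.fiber z) => topologicalKrullDim ↥Z) '' irreducibleComponents ↥(f.fiber z) ⊆
      (fun Z : Set ↥(f.fiber z') => topologicalKrullDim ↥Z) ''
        irreducibleComponents ↥(f.fiber z') := by
    intro z z' hz c hc
    obtain ⟨n, rfl⟩ := hnat z c hc
    rw [natCast_mem_componentDims_iff] at hc ⊢
    exact le_trans hc (dim_fiber_le_of_specializes_of_isOpenAt _ z z' hz (fun u _ => hgop n u))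
  obtain ⟨W, hyW, hW⟩ := exists_open_forall_maximal_specializes y
  have hupper : ∀ z ∈ W,
      (fun Z : Set ↥(f.fiber z) => topologicalKrullDim ↥Z) '' irreducibleComponents ↥(f.fiber z) ⊆
      (fun Z : Set ↥(f.fiber y) => topologicalKrullDim ↥Z) '' irreducibleComponents ↥(f.fiber y) := by
    intro z hzW
    obtain ⟨η, -, hηz, hηmax⟩ :=
      exists_maximal_point_specializes (Set.univ : Set Y) isClosed_univ z trivial
    have hηmax' : ∀ w : Y, w ⤳ η → η ⤳ w := fun w hw => hηmax w trivial hw
    have hηW : η ∈ W := hηz.mem_open W.2 hzW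
    have hηy : η ⤳ y := hW η hηW hηmax'
    rw [h η (specializes_iff_mem_closure.mp hηy)
      (closure_mem_irreducibleComponents_of_maximal η hηmax')]
    exact hL1 z η hηz
  -- the sets `H n`
  have hHopen : ∀ n : ℕ, IsOpen {z : Y | (n : WithBot ℕ∞) ∈
      (fun Z : Set ↥(f.fiber z) => topologicalKrullDim ↥Z) ''
        irreducibleComponents ↥(f.fiber z)} := by
    intro n
    haveI : QuasiCompact ((fibreDimLEOpens f n).ι ≫ f) := inferInstance
    haveI : LocallyOfFinitePresentation ((fibreDimLEOpens f n).ι ≫ f) :=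
      LocallyOfFinitePresentation.iff_locallyOfFiniteType.mpr inferInstance
    apply Groth.Agent.Lib.Helper23.FlatFibreDim.isOpen_of_isLocallyConstructible_of_stableUnderGeneralization
    · convert isLocallyConstructible_setOf_natCast_le_dim_fiber
        ((fibreDimLEOpens f n).ι ≫ f) n using 1
      ext z
      exact natCast_mem_componentDims_iff f n z
    · intro z z' hz hzH
      exact hL1 z z' hz hzH
  obtain ⟨K, hK⟩ := exists_nat_dim_fiber_le f y
  set s : Set ℕ := {n : ℕ | (n : WithBot ℕ∞) ∈
      (fun Z : Set ↥(f.fiber y) => topologicalKrullDim ↥Z) ''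
        irreducibleComponents ↥(f.fiber y)} with hs
  have hsfin : s.Finite := by
    refine Set.Finite.subset (Set.finite_Iic K) ?_
    rintro n ⟨Z, hZ, hdim⟩
    have h1 : topologicalKrullDim ↥Z ≤ topologicalKrullDim ↥(f.fiber y) :=
      topologicalKrullDim_subspace_le _ Z
    have h2 : ((n : ℕ) : WithBot ℕ∞) ≤ ((K : ℕ) : WithBot ℕ∞) := by
      have hdim' : topologicalKrullDim ↥Z = n := hdim
      rw [← hdim']; exact h1.trans hK
    exact_mod_cast h2
  have hVopen : IsOpen (⋂ n ∈ s, {z : Y | (n : WithBot ℕ∞) ∈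
      (fun Z : Set ↥(f.fiber z) => topologicalKrullDim ↥Z) ''
        irreducibleComponents ↥(f.fiber z)}) :=
    hsfin.isOpen_biInter (fun n _ => hHopen n)
  refine ⟨(W : Set Y) ∩ ⋂ n ∈ s, {z : Y | (n : WithBot ℕ∞) ∈
      (fun Z : Set ↥(f.fiber z) => topologicalKrullDim ↥Z) ''
        irreducibleComponents ↥(f.fiber z)},
    Filter.inter_mem (W.2.mem_nhds hyW) (hVopen.mem_nhds ?_), ?_⟩
  · simp only [Set.mem_iInter]
    intro n hn
    exact hn
  · rintro z ⟨hzW, hzV⟩
    apply Set.Subset.antisymm (hupper z hzW)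
    intro c hc
    obtain ⟨n, rfl⟩ := hnat y c hc
    simp only [Set.mem_iInter] at hzV
    exact hzV n hc

end open_

end Groth.Agent.Lib.Helper55
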