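import Mathlib
import Groth.Agent.Lib.Helper55.OpenAtBaseChange
import Groth.Agent.Lib.Helper55.EquidimCriterion
import Groth.Agent.Lib.Helper23.FlatGenericScheme

set_option autoImplicit false
universe u

namespace Groth.Agent.Lib.Helper55

open AlgebraicGeometry CategoryTheory

/-- A domain which is an injective algebra over a valuation ring is flat (torsion-free). -/
theorem flat_of_injective_of_valuationRing {A R : Type*} [CommRing A] [IsDomain A]
    [ValuationRing A] [CommRing R] [IsDomain R] [Algebra A R]
    (h : Function.Injective (algebraMap A R)) : Module.Flat A R := by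
  rw [Module.Flat.flat_iff_torsion_eq_bot_of_isBezout, _root_.eq_bot_iff]
  rintro r ⟨⟨a, ha⟩, har⟩
  have har' : a • r = 0 := har
  rw [Algebra.smul_def] at har'
  have ha0 : a ≠ 0 := nonZeroDivisors.ne_zero ha
  have h1 : algebraMap A R a ≠ 0 := by
    intro h0
    exact ha0 (h (by rw [h0, map_zero]))
  rcases mul_eq_zero.mp har' with h2 | h2
  · exact absurd h2 h1
  · exact h2

/-- An open immersion from a nonempty scheme into an irreducible scheme is dominant. -/
theorem isDominant_of_isOpenImmersion {W X : Scheme.{u}} [IrreducibleSpace X] [Nonempty W]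
    (j : W ⟶ X) [IsOpenImmersion j] : IsDominant j := by
  refine ⟨?_⟩
  exact j.isOpenEmbedding.isOpen_range.dense (Set.range_nonempty _)

/-- A dominant morphism from an integral scheme to the spectrum of a valuation ring is flat. -/
theorem flat_of_isIntegral_of_isDominant {A : Type u} [CommRing A] [IsDomain A] [ValuationRing A]
    {X : Scheme.{u}} [IsIntegral X] (g : X ⟶ Spec (CommRingCat.of A)) [IsDominant g] :
    Flat g := by
  rw [IsZariskiLocalAtSource.iff_of_openCover (P := @Flat) X.affineOpenCover.openCover]
  intro i
  change Flat (X.affineOpenCover.f i ≫ g)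
  set R : CommRingCat.{u} := X.affineOpenCover.X i with hR
  set j : Spec R ⟶ X := X.affineOpenCover.f i with hj
  rw [← Spec.map_preimage (j ≫ g), HasRingHomProperty.Spec_iff (P := @Flat)]
  set φ : CommRingCat.of A ⟶ R := Spec.preimage (j ≫ g) with hφ
  algebraize [φ.hom]
  change Module.Flat A R
  rcases subsingleton_or_nontrivial R with hs | hn
  · haveI : Module.Free A R := Module.Free.of_subsingleton A R
    infer_instance
  · haveI : Nonempty ↥(Spec R) := inferInstance
    haveI : IsIntegral (Spec R) := isIntegral_of_isOpenImmersion j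
    haveI : IsDomain R := (affine_isIntegral_iff R).mp inferInstance
    haveI : IsDominant j := isDominant_of_isOpenImmersion j
    haveI : IsDominant (j ≫ g) := inferInstance
    apply flat_of_injective_of_valuationRing
    have hd : DenseRange (Spec.map φ) := by
      rw [hφ, Spec.map_preimage]
      exact (j ≫ g).denseRange
    have hd' : DenseRange (PrimeSpectrum.comap φ.hom) := hd
    rw [PrimeSpectrum.denseRange_comap_iff_ker_le_nilRadical] at hd'
    rw [injective_iff_map_eq_zero]
    intro a ha
    have : a ∈ nilradical A := hd' ha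
    rw [nilradical_eq_zero, Ideal.zero_eq_bot, Ideal.mem_bot] at this
    exact this


/-- The closed subscheme defined by the vanishing ideal of a closed subset is reduced. -/
theorem isReduced_subscheme_vanishingIdeal' {X : Scheme.{u}} (C : TopologicalSpace.Closeds X) :
    IsReduced (Scheme.IdealSheafData.vanishingIdeal C).subscheme := by
  set I := Scheme.IdealSheafData.vanishingIdeal C with hI
  have : ∀ U : I.subschemeCover.openCover.I₀, IsReduced (I.subschemeCover.openCover.X U) := by
    intro (U : X.affineOpens)
    change IsReduced (Spec (.of <| Γ(X, U) ⧸ I.ideal U))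
    have hrad : (I.ideal U).IsRadical := by
      rw [hI, Scheme.IdealSheafData.vanishingIdeal_ideal]
      exact PrimeSpectrum.isRadical_vanishingIdeal _
    have : _root_.IsReduced (Γ(X, U) ⧸ I.ideal U) :=
      (Ideal.isRadical_iff_quotient_reduced _).mp hrad
    infer_instance
  exact IsReduced.of_openCover _ I.subschemeCover.openCover

/-- A dominant morphism from an irreducible scheme sends the generic point to the generic point. -/
theorem map_genericPoint_of_isDominant {X Y : Scheme.{u}} [IrreducibleSpace X] [IrreducibleSpace Y]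
    (f : X ⟶ Y) [IsDominant f] : f (genericPoint ↥X) = genericPoint ↥Y := by
  have h1 : IsGenericPoint (f (genericPoint ↥X)) (closure (f '' Set.univ)) :=
    (genericPoint_spec ↥X).image f.continuous
  rw [Set.image_univ, f.denseRange.closure_range] at h1
  exact h1.eq (genericPoint_spec ↥Y)

section valuation

variable {A : Type u} [CommRing A] [IsDomain A] [ValuationRing A]
  {X : Scheme.{u}} [IrreducibleSpace X] (f : X ⟶ Spec (CommRingCat.of A))
  [LocallyOfFiniteType f] [IsDominant f]

/-- Over a valuation ring, every fibre of a dominant finite type morphism from an irreducible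
scheme has dimension at most that of the generic fibre. -/
theorem dim_fiber_le_dim_generic_fiber_of_valuationRing (s : ↥(Spec (CommRingCat.of A))) :
    topologicalKrullDim ↥(f.fiber s) ≤
      topologicalKrullDim ↥(f.fiber (genericPoint ↥(Spec (CommRingCat.of A)))) := by
  classical
  set η := genericPoint ↥(Spec (CommRingCat.of A)) with hη
  rw [topologicalKrullDim_fiber_eq_iSup f s]
  refine iSup_le fun ⟨x₀, hx₀⟩ => ?_
  set I := Scheme.IdealSheafData.vanishingIdeal (⊤ : TopologicalSpace.Closeds X) with hI
  have hrange : Set.range I.subschemeι = Set.univ := by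
    rw [Scheme.IdealSheafData.range_subschemeι, Scheme.IdealSheafData.coe_support_vanishingIdeal]
    rfl
  haveI : IrreducibleSpace ↥I.subscheme :=
    irreducibleSpace_of_isEmbedding _ I.subschemeι.isEmbedding
      (by rw [hrange]; exact IrreducibleSpace.isIrreducible_univ X)
  haveI : IsReduced I.subscheme := isReduced_subscheme_vanishingIdeal' _
  haveI : IsIntegral I.subscheme := isIntegral_of_irreducibleSpace_of_isReduced _
  set ι := I.subschemeι with hι
  haveI : Surjective ι := ⟨Set.range_eq_univ.mp hrange⟩
  haveI : IsDominant (ι ≫ f) := inferInstance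
  haveI : Flat (ι ≫ f) := flat_of_isIntegral_of_isDominant _
  obtain ⟨w, hw⟩ : ∃ w, ι w = x₀ := Set.range_eq_univ.mp hrange x₀
  have hηs : η ⤳ (ι ≫ f) w := genericPoint_specializes _
  obtain ⟨w', hw'η, hw'w, hle⟩ :=
    Groth.Agent.Lib.Helper23.FlatGenericScheme.exists_generization_fibreDimAt_ge (ι ≫ f) w η hηs
  have key : ∀ v, FlatMor.fibreDimAt (ι ≫ f) v = FlatMor.fibreDimAt f (ι v) := by
    intro v
    rw [fibreDimAt_preimmersion_comp_eq f ι v, fibreDimAt_eq_localDim_preimage f (ι v)]
    exact localDim_congr_set (by rw [hrange, Set.univ_inter]) (ι v) _ _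
  have hfw' : f (ι w') = η := by
    rw [← hw'η, Scheme.Hom.comp_apply]
  calc FlatMor.fibreDimAt f x₀ = FlatMor.fibreDimAt (ι ≫ f) w := by rw [key, hw]
    _ ≤ FlatMor.fibreDimAt (ι ≫ f) w' := hle
    _ = FlatMor.fibreDimAt f (ι w') := key _
    _ ≤ topologicalKrullDim ↥(f.fiber η) := by
        rw [topologicalKrullDim_fiber_eq_iSup f η]
        exact le_iSup (fun x : {x : X // f x = η} => FlatMor.fibreDimAt f x.1) ⟨ι w', hfw'⟩

omit [ValuationRing A] in
/-- Over a valuation ring (indeed over any irreducible base), a nonempty fibre of a dominant finite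
type morphism from an irreducible scheme has dimension at least that of the generic fibre. -/
theorem dim_generic_fiber_le_dim_fiber_of_nonempty (s : ↥(Spec (CommRingCat.of A)))
    (h0 : Nonempty ↥(f.fiber s)) :
    topologicalKrullDim ↥(f.fiber (genericPoint ↥(Spec (CommRingCat.of A)))) ≤
      topologicalKrullDim ↥(f.fiber s) := by
  classical
  set ξ := genericPoint ↥X with hξ
  have hfξ : f ξ = genericPoint ↥(Spec (CommRingCat.of A)) := map_genericPoint_of_isDominant f
  obtain ⟨m, hm1, hm2⟩ := exists_dim_closure_fiber_eq_trdeg' f ξ rfl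
  have hdim : topologicalKrullDim ↥(f.fiber (f ξ)) = m := by
    rw [← hm1]
    exact IsHomeomorph.topologicalKrullDim_eq _ (f.fiberHomeo (f ξ)).isHomeomorph
  rw [← hfξ, hdim]
  obtain ⟨z⟩ := h0
  have hx : f (f.fiberι s z) = s := by
    have : f.fiberι s z ∈ Set.range (f.fiberι s) := ⟨z, rfl⟩
    rw [f.range_fiberι] at this
    exact this
  have h1 := trdeg_le_fibreDimAt_of_specializes f ξ (f.fiberι s z) (genericPoint_specializes _) m hm2
  refine h1.trans ?_
  rw [topologicalKrullDim_fiber_eq_iSup f s]
  exact le_iSup (fun x : {x : X // f x = s} => FlatMor.fibreDimAt f x.1) ⟨_, hx⟩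

end valuation

end Groth.Agent.Lib.Helper55
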