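import Mathlib
import Groth.Agent.Lib.Helper55.ValuationFlat
import Groth.Agent.Lib.Helper55.OpenMapFibreComponents

/-! Over a valuation ring, the fibres of a dominant morphism locally of finite type from an
irreducible scheme are equidimensional of the dimension of the generic fibre (helper55). -/

set_option autoImplicit false
universe u

namespace Groth.Agent.Lib.Helper55

open AlgebraicGeometry CategoryTheory Topology

section valuation

variable {A : Type u} [CommRing A] [IsDomain A] [ValuationRing A]
  {X : Scheme.{u}} [IrreducibleSpace X] (f : X ⟶ Spec (CommRingCat.of A))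
  [LocallyOfFiniteType f] [IsDominant f]

/-- Over a valuation ring the local fibre dimension is constant, equal to the dimension of the
generic fibre. -/
theorem fibreDimAt_eq_dim_generic_fiber_of_valuationRing (x₀ : X) :
    FlatMor.fibreDimAt f x₀ =
      topologicalKrullDim ↥(f.fiber (genericPoint ↥(Spec (CommRingCat.of A)))) := by
  apply le_antisymm
  · refine le_trans ?_ (dim_fiber_le_dim_generic_fiber_of_valuationRing f (f x₀))
    rw [topologicalKrullDim_fiber_eq_iSup f (f x₀)]
    exact le_iSup (fun x : {x : X // f x = f x₀} => FlatMor.fibreDimAt f x.1) ⟨x₀, rfl⟩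
  · set ξ := genericPoint ↥X with hξ
    have hfξ : f ξ = genericPoint ↥(Spec (CommRingCat.of A)) := map_genericPoint_of_isDominant f
    obtain ⟨m, hm1, hm2⟩ := exists_dim_closure_fiber_eq_trdeg' f ξ rfl
    have hdim : topologicalKrullDim ↥(f.fiber (f ξ)) = m := by
      rw [← hm1]
      exact IsHomeomorph.topologicalKrullDim_eq _ (f.fiberHomeo (f ξ)).isHomeomorph
    rw [← hfξ, hdim]
    exact trdeg_le_fibreDimAt_of_specializes f ξ x₀ (genericPoint_specializes _) m hm2

/-- Over a valuation ring every irreducible component of every fibre has the dimension of the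
generic fibre. -/
theorem dim_component_fiber_eq_dim_generic_fiber_of_valuationRing
    (s : ↥(Spec (CommRingCat.of A))) (Z : Set ↥(f.fiber s))
    (hZ : Z ∈ irreducibleComponents ↥(f.fiber s)) :
    topologicalKrullDim ↥Z =
      topologicalKrullDim ↥(f.fiber (genericPoint ↥(Spec (CommRingCat.of A)))) := by
  obtain ⟨ξ, n, hn1, hn2⟩ := exists_dim_component_fiber_eq f s Z hZ
  rw [hn1, ← hn2]
  exact fibreDimAt_eq_dim_generic_fiber_of_valuationRing f _

end valuation

end Groth.Agent.Lib.Helper55
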