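import Mathlib
import Groth.Agent.Lib.Helper55.ValuationEquidim
import Groth.Agent.Lib.Helper55.OpenAtBaseChange

/-! Specializations are witnessed by valuation rings; over a valuation ring the transcendence
degree of a point is bounded by the fibre dimension at any of its generizations in the generic
fibre (helper55). -/

set_option autoImplicit false
universe u

namespace Groth.Agent.Lib.Helper55

open AlgebraicGeometry CategoryTheory Topology IsLocalRing

/-- Every specialization `y' ⤳ y` in a scheme is the image of the specialization of the generic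
point to the closed point of the spectrum of a valuation ring. -/
theorem exists_valuationRing_of_specializes {Y : Scheme.{u}} {y y' : Y} (h : y' ⤳ y) :
    ∃ (A : Type u) (_ : CommRing A) (_ : IsDomain A) (_ : ValuationRing A)
      (g : Spec (CommRingCat.of A) ⟶ Y),
      g (closedPoint A) = y ∧ g (genericPoint ↥(Spec (CommRingCat.of A))) = y' := by
  let φ : Y.presheaf.stalk y ⟶ Y.residueField y' := Y.presheaf.stalkSpecializes h ≫ Y.residue y'
  obtain ⟨A, hA, hloc⟩ := exists_factor_valuationRing φ.hom
  let ψ : Y.presheaf.stalk y ⟶ CommRingCat.of A := CommRingCat.ofHom (φ.hom.codRestrict _ hA)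
  refine ⟨A, inferInstance, inferInstance, inferInstance, Spec.map ψ ≫ Y.fromSpecStalk y, ?_, ?_⟩
  · have h1 : (Spec.map ψ) (closedPoint A) = closedPoint (Y.presheaf.stalk y) :=
      comap_closedPoint (S := A) (φ.hom.codRestrict A.toSubring hA)
    refine (congrArg (Y.fromSpecStalk y) h1).trans ?_
    exact Y.fromSpecStalk_closedPoint
  · have w : Spec.map (CommRingCat.ofHom (algebraMap A (Y.residueField y'))) ≫
        Spec.map ψ ≫ Y.fromSpecStalk y = Y.fromSpecResidueField y' := by
      rw [Scheme.fromSpecResidueField, ← Scheme.SpecMap_stalkSpecializes_fromSpecStalk h]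
      simp_rw [← Spec.map_comp_assoc]
      rfl
    have hb : genericPoint ↥(Spec (CommRingCat.of A)) =
        (Spec.map (CommRingCat.ofHom (algebraMap A (Y.residueField y'))))
          (closedPoint (Y.residueField y')) := by
      rw [genericPoint_eq_bot_of_affine]
      apply PrimeSpectrum.ext
      change (⊥ : Ideal A) = Ideal.comap (algebraMap A (Y.residueField y')) _
      rw [IsLocalRing.closedPoint]
      simp only [IsLocalRing.maximalIdeal_eq_bot]
      rw [← RingHom.ker_eq_comap_bot]
      exact ((RingHom.injective_iff_ker_eq_bot _).mp (by exact Subtype.val_injective)).symm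
    rw [hb]
    have h2 := congr(($w) (closedPoint (Y.residueField y')))
    refine Eq.trans ?_ (h2.trans (Scheme.fromSpecResidueField_apply y' _))
    rfl

section valuation

variable {A : Type u} [CommRing A] [IsDomain A] [ValuationRing A]
  {X : Scheme.{u}} (f : X ⟶ Spec (CommRingCat.of A)) [LocallyOfFiniteType f]

/-- **Specialization over a valuation ring does not raise the dimension.**  For `ζ ⤳ x` with `ζ`
in the generic fibre, `trdeg κ(x)/κ(f x) ≤ dim_ζ (generic fibre)`. -/
theorem trdeg_le_fibreDimAt_of_specializes_of_valuationRing (x ζ : X) (hζx : ζ ⤳ x)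
    (hζ : f ζ = genericPoint ↥(Spec (CommRingCat.of A))) (n : ℕ)
    (hn : @Algebra.trdeg ((Spec (CommRingCat.of A)).residueField (f x)) (X.residueField x) _ _
      (f.residueFieldMap x).hom.toAlgebra = n) :
    (n : WithBot ℕ∞) ≤ FlatMor.fibreDimAt f ζ := by
  obtain ⟨hirr, hrange, hgen⟩ := closure_subscheme_setup ζ
  have hxr : x ∈ Set.range (Scheme.IdealSheafData.vanishingIdeal
      (⟨closure {ζ}, isClosed_closure⟩ : TopologicalSpace.Closeds X)).subschemeι := by
    rw [hrange]
    exact hζx.mem_closure
  obtain ⟨x₀, rfl⟩ := hxr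
  generalize hI : Scheme.IdealSheafData.vanishingIdeal
      (⟨closure {ζ}, isClosed_closure⟩ : TopologicalSpace.Closeds X) = I at *
  have hdom : IsDominant (I.subschemeι ≫ f) := by
    refine ⟨?_⟩
    have h1 : (I.subschemeι ≫ f) (genericPoint ↥I.subscheme) =
        genericPoint ↥(Spec (CommRingCat.of A)) := by
      refine Eq.trans ?_ ((congrArg f hgen).trans hζ)
      rfl
    have h2 : closure ({genericPoint ↥(Spec (CommRingCat.of A))} :
        Set ↥(Spec (CommRingCat.of A))) = Set.univ := (genericPoint_spec _).def
    rw [DenseRange, dense_iff_closure_eq]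
    refine Set.eq_univ_of_univ_subset ?_
    rw [← h2]
    apply closure_mono
    rw [Set.singleton_subset_iff]
    exact ⟨_, h1⟩
  have hn' := (trdeg_residueField_preimmersion_comp I.subschemeι f x₀).trans hn
  have h1 := trdeg_le_fibreDimAt (I.subschemeι ≫ f) x₀ n hn'
  rw [fibreDimAt_eq_dim_generic_fiber_of_valuationRing (I.subschemeι ≫ f) x₀] at h1
  have hξ : (I.subschemeι ≫ f) (genericPoint ↥I.subscheme) =
      genericPoint ↥(Spec (CommRingCat.of A)) := map_genericPoint_of_isDominant _
  obtain ⟨m, hm1, hm2⟩ := exists_dim_closure_fiber_eq_trdeg' (I.subschemeι ≫ f)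
    (genericPoint ↥I.subscheme) rfl
  have hdim : topologicalKrullDim ↥((I.subschemeι ≫ f).fiber
      ((I.subschemeι ≫ f) (genericPoint ↥I.subscheme))) = m := by
    rw [← hm1]
    exact IsHomeomorph.topologicalKrullDim_eq _
      ((I.subschemeι ≫ f).fiberHomeo _).isHomeomorph
  rw [← hξ, hdim] at h1
  have hm3 := (trdeg_residueField_preimmersion_comp I.subschemeι f
    (genericPoint ↥I.subscheme)).symm.trans hm2
  have h2 := trdeg_le_fibreDimAt f (I.subschemeι (genericPoint ↥I.subscheme)) m hm3
  have key : ∀ w : X, w = ζ → FlatMor.fibreDimAt f w = FlatMor.fibreDimAt f ζ := by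
    rintro _ rfl; rfl
  rw [key _ hgen] at h2
  exact h1.trans h2

end valuation

end Groth.Agent.Lib.Helper55
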