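import Mathlib

/-!
# Functoriality of `Ext.mapExactFunctor` in the exact functor (helper55)

* `mapExactFunctor_naturality`: for a natural transformation `α : F ⟶ G` of exact functors,
  `F(e) ≫ α_Y = α_X ≫ G(e)` in `Ext`.
* `mapExactFunctor_comp_functor`: `(F ⋙ G)(e) = G(F(e))`.
Both are proved by dimension shifting (the source category has enough injectives).
-/

set_option autoImplicit false
universe w w' w'' v v' v'' u u' u''

open CategoryTheory Abelian Limits

namespace Groth.Agent.Lib.Helper55.ExtFunctoriality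

variable {C : Type u} [Category.{v} C] [Abelian C] [EnoughInjectives C]
variable {D : Type u'} [Category.{v'} D] [Abelian D]
variable [HasExt.{w} C] [HasExt.{w'} D]

/-- the standard short exact sequence `0 → Y → I → I/Y → 0` with `I` injective -/
noncomputable abbrev injSC (Y : C) : ShortComplex C :=
  ShortComplex.mk (Injective.ι Y) (cokernel.π (Injective.ι Y)) (cokernel.condition _)

theorem injSC_shortExact (Y : C) : (injSC Y).ShortExact :=
  { exact := ShortComplex.exact_of_g_is_cokernel _ (cokernelIsCokernel _)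
    mono_f := by dsimp [injSC]; infer_instance
    epi_g := by dsimp [injSC]; infer_instance }

/-- dimension shifting -/
theorem exists_comp_extClass {X Y : C} {n : ℕ} (e : Ext.{w} X Y (n + 1)) :
    ∃ y : Ext.{w} X (injSC Y).X₃ n, y.comp (injSC_shortExact Y).extClass rfl = e := by
  haveI : Injective (injSC Y).X₂ := by dsimp [injSC]; infer_instance
  exact Ext.covariant_sequence_exact₁ X (injSC_shortExact Y) e
    (Ext.eq_zero_of_injective _) rfl

section Nat

variable (F G : C ⥤ D) [F.Additive] [G.Additive] [PreservesFiniteLimits F]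
  [PreservesFiniteColimits F] [PreservesFiniteLimits G] [PreservesFiniteColimits G] (α : F ⟶ G)

theorem nat_step (S : ShortComplex C) (hS : S.ShortExact) {X : C} {n : ℕ}
    (y : Ext.{w} X S.X₃ n)
    (ih : (y.mapExactFunctor F).comp (Ext.mk₀ (α.app S.X₃)) (add_zero n) =
      (Ext.mk₀ (α.app X)).comp (y.mapExactFunctor G) (zero_add n)) :
    ((y.comp hS.extClass rfl).mapExactFunctor F).comp (Ext.mk₀ (α.app S.X₁))
        (add_zero (n + 1)) =
      (Ext.mk₀ (α.app X)).comp ((y.comp hS.extClass rfl).mapExactFunctor G)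
        (zero_add (n + 1)) := by
  have hnat : (hS.extClass.mapExactFunctor F).comp (Ext.mk₀ (α.app S.X₁)) (add_zero 1) =
      (Ext.mk₀ (α.app S.X₃)).comp (hS.extClass.mapExactFunctor G) (zero_add 1) := by
    rw [Ext.mapExactFunctor_extClass, Ext.mapExactFunctor_extClass]
    exact ShortComplex.ShortExact.extClass_naturality (hS.map_of_exact F)
      (hS.map_of_exact G) (S.mapNatTrans α)
  rw [Ext.mapExactFunctor_comp, Ext.mapExactFunctor_comp, Ext.comp_assoc_of_third_deg_zero,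
    hnat, ← Ext.comp_assoc_of_second_deg_zero, ih, Ext.comp_assoc]
  omega

theorem mapExactFunctor_naturality : ∀ (n : ℕ) {X Y : C} (e : Ext.{w} X Y n),
    (e.mapExactFunctor F).comp (Ext.mk₀ (α.app Y)) (add_zero n) =
      (Ext.mk₀ (α.app X)).comp (e.mapExactFunctor G) (zero_add n) := by
  intro n
  induction n with
  | zero =>
    intro X Y e
    obtain ⟨f, rfl⟩ := (Ext.mk₀_bijective X Y).2 e
    rw [Ext.mapExactFunctor_mk₀, Ext.mapExactFunctor_mk₀, Ext.mk₀_comp_mk₀, Ext.mk₀_comp_mk₀,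
      α.naturality]
  | succ n ih =>
    intro X Y e
    obtain ⟨y, rfl⟩ := exists_comp_extClass e
    exact nat_step F G α (injSC Y) (injSC_shortExact Y) y (ih y)

end Nat

section Comp

variable {E : Type u''} [Category.{v''} E] [Abelian E] [HasExt.{w''} E]
variable (F : C ⥤ D) [F.Additive] [PreservesFiniteLimits F] [PreservesFiniteColimits F]
  (G : D ⥤ E) [G.Additive] [PreservesFiniteLimits G] [PreservesFiniteColimits G]

theorem comp_step (S : ShortComplex C) (hS : S.ShortExact) {X : C} {n : ℕ}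
    (y : Ext.{w} X S.X₃ n)
    (ih : (y.mapExactFunctor (F ⋙ G) : Ext.{w''} ((F ⋙ G).obj X) ((F ⋙ G).obj S.X₃) n) =
      (y.mapExactFunctor F : Ext.{w'} (F.obj X) (F.obj S.X₃) n).mapExactFunctor G) :
    ((y.comp hS.extClass rfl).mapExactFunctor (F ⋙ G) :
        Ext.{w''} ((F ⋙ G).obj X) ((F ⋙ G).obj S.X₁) (n + 1)) =
      ((y.comp hS.extClass rfl).mapExactFunctor F :
        Ext.{w'} (F.obj X) (F.obj S.X₁) (n + 1)).mapExactFunctor G := by
  have h1 : (hS.extClass.mapExactFunctor (F ⋙ G) :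
        Ext.{w''} ((F ⋙ G).obj S.X₃) ((F ⋙ G).obj S.X₁) 1) =
      (hS.extClass.mapExactFunctor F : Ext.{w'} (F.obj S.X₃) (F.obj S.X₁) 1).mapExactFunctor
        G := by
    rw [Ext.mapExactFunctor_extClass, Ext.mapExactFunctor_extClass]
    exact (Ext.mapExactFunctor_extClass G (hS.map_of_exact F)).symm
  rw [Ext.mapExactFunctor_comp, Ext.mapExactFunctor_comp, Ext.mapExactFunctor_comp, h1, ih]

theorem mapExactFunctor_comp_functor : ∀ (n : ℕ) {X Y : C} (e : Ext.{w} X Y n),
    (e.mapExactFunctor (F ⋙ G) : Ext.{w''} ((F ⋙ G).obj X) ((F ⋙ G).obj Y) n) =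
      (e.mapExactFunctor F : Ext.{w'} (F.obj X) (F.obj Y) n).mapExactFunctor G := by
  intro n
  induction n with
  | zero =>
    intro X Y e
    obtain ⟨f, rfl⟩ := (Ext.mk₀_bijective X Y).2 e
    rw [Ext.mapExactFunctor_mk₀, Ext.mapExactFunctor_mk₀, Ext.mapExactFunctor_mk₀]
    rfl
  | succ n ih =>
    intro X Y e
    obtain ⟨y, rfl⟩ := exists_comp_extClass e
    exact comp_step F G (injSC Y) (injSC_shortExact Y) y (ih y)

end Comp

section Conj

variable {C' : Type u} [Category.{v} C'] [Abelian C'] [HasExt.{w} C']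

/-- two-sided composition with degree-zero classes -/
noncomputable def conj {X' X Y Y' : C'} {n : ℕ} (a : X' ⟶ X) (E : Ext.{w} X Y n) (b : Y ⟶ Y') :
    Ext.{w} X' Y' n :=
  (Ext.mk₀ a).comp (E.comp (Ext.mk₀ b) (add_zero n)) (zero_add n)

theorem conj_eq' {X' X Y Y' : C'} {n : ℕ} (a : X' ⟶ X) (E : Ext.{w} X Y n) (b : Y ⟶ Y') :
    ((Ext.mk₀ a).comp E (zero_add n)).comp (Ext.mk₀ b) (add_zero n) = conj a E b := by
  unfold conj
  rw [Ext.comp_assoc_of_third_deg_zero]

theorem conj_conj {X'' X' X Y Y' Y'' : C'} {n : ℕ} (a : X'' ⟶ X') (a' : X' ⟶ X)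
    (E : Ext.{w} X Y n) (b' : Y ⟶ Y') (b : Y' ⟶ Y'') :
    conj a (conj a' E b') b = conj (a ≫ a') E (b' ≫ b) := by
  unfold conj
  rw [Ext.comp_assoc_of_third_deg_zero, Ext.mk₀_comp_mk₀_assoc,
    Ext.comp_assoc_of_third_deg_zero, Ext.mk₀_comp_mk₀]

theorem conj_id {X Y : C'} {n : ℕ} (E : Ext.{w} X Y n) : conj (𝟙 X) E (𝟙 Y) = E := by
  unfold conj
  rw [Ext.comp_mk₀_id, Ext.mk₀_id_comp]

theorem mk₀_comp_conj {X'' X' X Y Y' : C'} {n : ℕ} (p : X'' ⟶ X') (a : X' ⟶ X)
    (E : Ext.{w} X Y n) (b : Y ⟶ Y') :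
    (Ext.mk₀ p).comp (conj a E b) (zero_add n) = conj (p ≫ a) E b := by
  unfold conj
  rw [Ext.mk₀_comp_mk₀_assoc]

theorem conj_comp_mk₀ {X' X Y Y' Y'' : C'} {n : ℕ} (a : X' ⟶ X)
    (E : Ext.{w} X Y n) (b : Y ⟶ Y') (r : Y' ⟶ Y'') :
    (conj a E b).comp (Ext.mk₀ r) (add_zero n) = conj a E (b ≫ r) := by
  unfold conj
  rw [Ext.comp_assoc_of_third_deg_zero, Ext.comp_assoc_of_third_deg_zero, Ext.mk₀_comp_mk₀]

/-- post-composition with an isomorphism is bijective on `Ext` -/
theorem postcomp_iso_bijective {X Y Y' : C'} (φ : Y ≅ Y') (n : ℕ) :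
    Function.Bijective (fun e : Ext.{w} X Y n => e.comp (Ext.mk₀ φ.hom) (add_zero n)) := by
  refine ⟨fun e₁ e₂ h => ?_, fun e => ⟨e.comp (Ext.mk₀ φ.inv) (add_zero n), ?_⟩⟩
  · have h' := congrArg (fun e => e.comp (Ext.mk₀ φ.inv) (add_zero n)) h
    simpa only [Ext.comp_assoc_of_third_deg_zero, Ext.mk₀_comp_mk₀, Iso.hom_inv_id,
      Ext.comp_mk₀_id] using h'
  · simp only [Ext.comp_assoc_of_third_deg_zero, Ext.mk₀_comp_mk₀, Iso.inv_hom_id,
      Ext.comp_mk₀_id]

end Conj

section ConjMap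

variable (F G : C ⥤ D) [F.Additive] [G.Additive] [PreservesFiniteLimits F]
  [PreservesFiniteColimits F] [PreservesFiniteLimits G] [PreservesFiniteColimits G]

omit [EnoughInjectives C] in
theorem map_conj {X' X Y Y' : C} {n : ℕ} (a : X' ⟶ X) (E : Ext.{w} X Y n) (b : Y ⟶ Y') :
    ((conj a E b).mapExactFunctor F : Ext.{w'} (F.obj X') (F.obj Y') n) =
      conj (F.map a) (E.mapExactFunctor F) (F.map b) := by
  unfold conj
  rw [Ext.mapExactFunctor_comp, Ext.mapExactFunctor_comp, Ext.mapExactFunctor_mk₀,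
    Ext.mapExactFunctor_mk₀]

theorem mapExactFunctor_iso (α : F ≅ G) {n : ℕ} {X Y : C} (e : Ext.{w} X Y n) :
    (e.mapExactFunctor F : Ext.{w'} (F.obj X) (F.obj Y) n) =
      conj (α.hom.app X) (e.mapExactFunctor G) (α.inv.app Y) := by
  unfold conj
  rw [← Ext.comp_assoc_of_third_deg_zero, ← mapExactFunctor_naturality F G α.hom n e,
    Ext.comp_assoc_of_third_deg_zero, Ext.mk₀_comp_mk₀, Iso.hom_inv_id_app, Ext.comp_mk₀_id]

end ConjMap

end Groth.Agent.Lib.Helper55.ExtFunctoriality
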