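import Mathlib
import Groth.Agent.Lib.Helper55.EquidimCriterion
import Groth.Agent.Lib.Helper55.ZeroLocusEquidim

/-! The criterion for equidimensionality at a point in terms of irreducible components
(EGA IV 13.3.1, sufficiency), without Noetherian hypotheses: one only needs an open neighbourhood
of the point all of whose maximal points specialize to the point (helper55). -/

set_option autoImplicit false

universe u

namespace Groth.Agent.Lib.Helper55

open AlgebraicGeometry CategoryTheory Topology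

section criterion

variable {X Y : Scheme.{u}} (f : X ⟶ Y) [LocallyOfFiniteType f]

/-- **EGA IV 13.3.1, sufficiency**, given a neighbourhood `W` of `x` all of whose maximal points
specialize to `x` (no Noetherian hypothesis). -/
theorem isEquidimAt_of_components' (x : X) (e : ℕ) (W : X.Opens) (hxW : x ∈ W)
    (hW : ∀ ζ : X, ζ ∈ W → (∀ w : X, w ⤳ ζ → ζ ⤳ w) → ζ ⤳ x)
    (H : ∀ Xj ∈ irreducibleComponents (X : Type u), ∀ hx : x ∈ Xj,
      closure (f.base '' Xj) ∈ irreducibleComponents (Y : Type u) ∧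
      (∀ η : Y, closure ({η} : Set Y) = closure (f.base '' Xj) →
        topologicalKrullDim ↥(Xj ∩ f.base ⁻¹' {η}) = e) ∧
      FlatMor.localDim ↥(Xj ∩ f.base ⁻¹' {f.base x})
        ⟨x, ⟨hx, Set.mem_singleton (f.base x)⟩⟩ = e) :
    EGA43.IsEquidimAt f x := by
  -- every maximal point `ζ ⤳ x` has `trdeg κ(ζ)/κ(f ζ) = e`
  have hgen : ∀ ζ : X, (∀ w : X, w ⤳ ζ → ζ ⤳ w) → ζ ⤳ x →
      closure ({f ζ} : Set Y) ∈ irreducibleComponents (Y : Type u) ∧
      @Algebra.trdeg (Y.residueField (f ζ)) (X.residueField ζ) _ _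
        (f.residueFieldMap ζ).hom.toAlgebra = e := by
    intro ζ hζmax hζx
    have hcomp := closure_mem_irreducibleComponents_of_maximal ζ hζmax
    have hx : x ∈ closure ({ζ} : Set X) := specializes_iff_mem_closure.mp hζx
    obtain ⟨Ha, Hb, -⟩ := H _ hcomp hx
    have himg := closure_image_eq_of_isGenericPoint f (closure ({ζ} : Set X)) ζ rfl
    rw [himg] at Ha
    refine ⟨Ha, ?_⟩
    have h1 := Hb (f ζ) himg.symm
    obtain ⟨m, hm1, hm2⟩ := Groth.Agent.S3393.dim_closure_inter_fibre f (f ζ) ζ rfl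
    rw [h1] at hm1
    have : e = m := by exact_mod_cast hm1
    rw [this]
    exact hm2
  -- the local fibre dimension at `x`
  have hfx : FlatMor.fibreDimAt f x = e := by
    apply le_antisymm
    · obtain ⟨z, hfz, hzx, -, n, hn, hFx, -, -⟩ := exists_maximal_point_fiber f x
      obtain ⟨Xj, hXj, hzXj⟩ := exists_mem_irreducibleComponents_subset_of_isIrreducible
        (closure ({z} : Set X)) isIrreducible_singleton.closure
      have hcl : IsClosed Xj := isClosed_of_mem_irreducibleComponents Xj hXj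
      have hzmem : z ∈ Xj := hzXj (subset_closure rfl)
      have hx : x ∈ Xj := hzXj (specializes_iff_mem_closure.mp hzx)
      obtain ⟨-, -, Hc⟩ := H Xj hXj hx
      have h1 := trdeg_le_localDim_inter_fibre f ⟨Xj, hcl⟩ x z hx hzmem hzx n hn
      rw [hFx]
      exact h1.trans_eq Hc
    · obtain ⟨Xj, hXj, hxXj⟩ := exists_mem_irreducibleComponents_subset_of_isIrreducible
        ({x} : Set X) isIrreducible_singleton
      have hx : x ∈ Xj := hxXj rfl
      obtain ⟨-, -, Hc⟩ := H Xj hXj hx
      exact Hc.symm.le.trans (localDim_inter_fibre_le f Xj x hx)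
  let U : X.Opens := W ⊓ ⟨{p : X | FlatMor.fibreDimAt f p ≤ (e : WithBot ℕ∞)},
    isOpen_setOf_fibreDimAt_le f e⟩
  have hxU : x ∈ U := ⟨hxW, hfx.le⟩
  -- maximal points of `U`
  have hmaxU : ∀ ζ' : ↥(U : Scheme.{u}), (∀ w' : ↥(U : Scheme.{u}), w' ⤳ ζ' → ζ' ⤳ w') →
      (∀ w : X, w ⤳ U.ι ζ' → U.ι ζ' ⤳ w) ∧ U.ι ζ' ⤳ x := by
    intro ζ' hζ'
    have h1 : ∀ w : X, w ⤳ U.ι ζ' → U.ι ζ' ⤳ w := by
      intro w hw
      have hwU : w ∈ U := hw.mem_open U.2 ζ'.2
      have h2 : (⟨w, hwU⟩ : ↥(U : Scheme.{u})) ⤳ ζ' :=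
        (U.ι.isOpenEmbedding.isInducing.specializes_iff).mp hw
      exact (hζ' _ h2).map U.ι.continuous
    exact ⟨h1, hW _ ζ'.2.1 h1⟩
  refine ⟨e, U, hxU, ?_, ?_⟩
  · intro Z hZ
    have hqs : QuasiSober ↥(U : Scheme.{u}) := inferInstance
    obtain ⟨ζ', hζ'⟩ := hqs.sober hZ.1 (isClosed_of_mem_irreducibleComponents Z hZ)
    have hζ'max : ∀ w' : ↥(U : Scheme.{u}), w' ⤳ ζ' → ζ' ⤳ w' :=
      specializes_of_closure_mem_irreducibleComponents ζ' (by rw [hζ'.def]; exact hZ)
    obtain ⟨hmax, hζx⟩ := hmaxU ζ' hζ'max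
    obtain ⟨Ha, -⟩ := hgen _ hmax hζx
    refine ⟨closure ({f (U.ι ζ')} : Set Y), Ha,
      specializes_iff_mem_closure.mp (hζx.map f.continuous), ?_⟩
    exact closure_image_eq_of_isGenericPoint (U.ι ≫ f) Z ζ' hζ'
  · intro p
    have hlft : LocallyOfFiniteType ((U.ι ≫ f).fiberToSpecResidueField ((U.ι ≫ f) p)) :=
      MorphismProperty.pullback_snd (P := @LocallyOfFiniteType) _ _ inferInstance
    refine (forall_irreducibleComponents_dim_eq_iff
      (k := ↑(Y.residueField ((U.ι ≫ f) p)))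
      ((U.ι ≫ f).fiberToSpecResidueField ((U.ι ≫ f) p)) (e : WithBot ℕ∞)).mpr ?_
    intro zf
    rw [localDim_fiber_eq_fibreDimAt (U.ι ≫ f) _ zf]
    have hsq := Groth.Agent.H52.fibreDimAt_eq_of_etale_square U.ι (𝟙 Y) (U.ι ≫ f) f
      (by rw [Category.comp_id]) ((U.ι ≫ f).fiberι _ zf)
    rw [hsq]
    apply le_antisymm
    · exact ((U.ι ≫ f).fiberι _ zf).2.2
    · -- a maximal point above
      set P : X := U.ι ((U.ι ≫ f).fiberι _ zf) with hP
      obtain ⟨Xj, hXj, hPXj⟩ := exists_mem_irreducibleComponents_subset_of_isIrreducible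
        (closure ({P} : Set X)) isIrreducible_singleton.closure
      obtain ⟨ζ, hζ⟩ := QuasiSober.sober hXj.1 (isClosed_of_mem_irreducibleComponents Xj hXj)
      have hζP : ζ ⤳ P := by
        rw [specializes_iff_mem_closure, hζ.def]
        exact hPXj (subset_closure rfl)
      have hζmax : ∀ w : X, w ⤳ ζ → ζ ⤳ w :=
        specializes_of_closure_mem_irreducibleComponents ζ (by rw [hζ.def]; exact hXj)
      have hζU : ζ ∈ U := hζP.mem_open U.2 ((U.ι ≫ f).fiberι _ zf).2
      have hζx : ζ ⤳ x := hW ζ hζU.1 hζmax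
      obtain ⟨-, htr⟩ := hgen ζ hζmax hζx
      exact trdeg_le_fibreDimAt_of_specializes f ζ P hζP e htr


/-- An irreducible scheme `X₁`, locally of finite type over an arbitrary scheme `Y`, whose
generic point lies over a maximal point of `Y` and whose local fibre dimension at `x₁` is at most
the transcendence degree of the function field extension, is equidimensional over `Y` at `x₁`. -/
theorem isEquidimAt_of_irreducibleSpace' {X₁ Y : Scheme.{u}} [IrreducibleSpace X₁]
    (g : X₁ ⟶ Y) [LocallyOfFiniteType g] (x₁ : X₁) (d : ℕ)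
    (hcomp : closure ({g.base (genericPoint X₁)} : Set Y) ∈ irreducibleComponents (Y : Type u))
    (htr : @Algebra.trdeg (Y.residueField (g.base (genericPoint X₁)))
      (X₁.residueField (genericPoint X₁)) _ _
      (g.residueFieldMap (genericPoint X₁)).hom.toAlgebra = d)
    (hfd : FlatMor.fibreDimAt g x₁ ≤ d) : EGA43.IsEquidimAt g x₁ := by
  have hξ : IsGenericPoint (genericPoint X₁) (Set.univ : Set X₁) := genericPoint_spec X₁
  apply isEquidimAt_of_components' g x₁ d ⊤ trivial
    (fun ζ _ hζ => hζ _ (hξ.specializes (Set.mem_univ ζ)) |>.trans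
      (hξ.specializes (Set.mem_univ x₁)))
  intro Xj hXj hx
  rw [irreducibleComponents_eq_singleton, Set.mem_singleton_iff] at hXj
  subst hXj
  have himg : closure (g.base '' (Set.univ : Set X₁)) =
      closure {g.base (genericPoint X₁)} :=
    closure_image_eq_of_isGenericPoint g Set.univ _ hξ
  refine ⟨?_, ?_, ?_⟩
  · rw [himg]; exact hcomp
  · intro η hηc
    rw [himg] at hηc
    have hηeq : g.base (genericPoint X₁) = η := (inseparable_iff_closure_eq.mpr hηc.symm).eq
    obtain ⟨m, hm1, hm2⟩ := Groth.Agent.S3393.dim_closure_inter_fibre g η (genericPoint X₁) hηeq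
    rw [hξ.def] at hm1
    have hmd : m = d := by
      have : ((m : ℕ) : Cardinal) = ((d : ℕ) : Cardinal) := by rw [← hm2, ← htr]
      exact_mod_cast this
    rw [hm1, hmd]
  · apply le_antisymm
    · exact (localDim_inter_fibre_le g Set.univ x₁ hx).trans hfd
    · exact trdeg_le_localDim_inter_fibre g ⟨Set.univ, isClosed_univ⟩ x₁ (genericPoint X₁)
        hx (Set.mem_univ _) (hξ.specializes (Set.mem_univ _)) d htr

end criterion

end Groth.Agent.Lib.Helper55
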