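import Mathlib
import Groth.Agent.Lib.Helper55.DimSup

/-! The trace of a fibre of a morphism locally of finite type on an affine open subset (mapping
into an affine open) has only finitely many maximal points (helper55). -/

set_option autoImplicit false
universe u

namespace Groth.Agent.Lib.Helper55

open AlgebraicGeometry CategoryTheory Topology TopologicalSpace

section finite

variable {X Y : Scheme.{u}} (f : X ⟶ Y) [LocallyOfFiniteType f]

/-- For affine opens `U ≤ f⁻¹ V`, the trace on `U` of the fibre over a point `η ∈ V` has only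
finitely many maximal points. -/
theorem finite_maximal_points_opens_inter_fibre (U : X.Opens) (hU : IsAffineOpen U)
    (V : Y.Opens) (hV : IsAffineOpen V) (e : U ≤ f ⁻¹ᵁ V) (η : Y) (hη : η ∈ V) :
    Set.Finite {z : X | z ∈ U ∧ f.base z = η ∧
      ∀ t : X, t ∈ U → f.base t = η → t ⤳ z → t = z} := by
  classical
  have : IsAffine (U : Scheme.{u}) := hU
  have : IsAffine (V : Scheme.{u}) := hV
  have hcomp : f.resLE V U e ≫ V.ι = U.ι ≫ f := f.resLE_comp_ι e
  have hlft : LocallyOfFiniteType (f.resLE V U e) := inferInstance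
  have : QuasiCompact (f.resLE V U e) := inferInstance
  have hlft' : LocallyOfFiniteType ((f.resLE V U e).fiberToSpecResidueField ⟨η, hη⟩) :=
    MorphismProperty.pullback_snd (P := @LocallyOfFiniteType) _ _ hlft
  have : IsLocallyNoetherian ((f.resLE V U e).fiber ⟨η, hη⟩) :=
    LocallyOfFiniteType.isLocallyNoetherian ((f.resLE V U e).fiberToSpecResidueField ⟨η, hη⟩)
  have : IsNoetherian ((f.resLE V U e).fiber ⟨η, hη⟩) := {}
  have hfin : Finite (irreducibleComponents ↥((f.resLE V U e).fiber ⟨η, hη⟩)) :=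
    (NoetherianSpace.finite_irreducibleComponents).to_subtype
  have hj : ∀ z : X, ∀ hz : z ∈ U, f.base z = η → (f.resLE V U e) ⟨z, hz⟩ = ⟨η, hη⟩ := by
    intro z hz hfz
    apply Subtype.ext
    have h1 := congr(($hcomp) ⟨z, hz⟩)
    exact h1.trans hfz
  rw [← Set.finite_coe_iff]
  let w : {z : X | z ∈ U ∧ f.base z = η ∧ ∀ t : X, t ∈ U → f.base t = η → t ⤳ z → t = z} →
      ↥((f.resLE V U e).fiber ⟨η, hη⟩) := fun z =>
    ((f.resLE V U e).fiberHomeo ⟨η, hη⟩).symm ⟨⟨z.1, z.2.1⟩, hj z.1 z.2.1 z.2.2.1⟩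
  have hw : ∀ z, closure ({w z} : Set ↥((f.resLE V U e).fiber ⟨η, hη⟩)) ∈
      irreducibleComponents ↥((f.resLE V U e).fiber ⟨η, hη⟩) := by
    intro z
    apply closure_mem_irreducibleComponents_of_maximal
    intro tF htF
    have h1 := htF.map ((f.resLE V U e).fiberHomeo ⟨η, hη⟩).continuous
    have h2 : ((f.resLE V U e).fiberHomeo ⟨η, hη⟩) (w z) =
        ⟨⟨z.1, z.2.1⟩, hj z.1 z.2.1 z.2.2.1⟩ := Homeomorph.apply_symm_apply _ _
    rw [h2, subtype_specializes_iff] at h1
    have h3 := h1.map U.ι.continuous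
    have htη : f.base (U.ι (((f.resLE V U e).fiberHomeo ⟨η, hη⟩) tF).1) = η := by
      have h4 := congr(($hcomp) (((f.resLE V U e).fiberHomeo ⟨η, hη⟩) tF).1)
      refine h4.symm.trans ?_
      have h5 : (f.resLE V U e) (((f.resLE V U e).fiberHomeo ⟨η, hη⟩) tF).1 = ⟨η, hη⟩ :=
        (((f.resLE V U e).fiberHomeo ⟨η, hη⟩) tF).2
      exact congrArg Subtype.val h5
    have h6 := z.2.2.2 _ (((f.resLE V U e).fiberHomeo ⟨η, hη⟩) tF).1.2 htη h3
    have h7 : ((f.resLE V U e).fiberHomeo ⟨η, hη⟩) tF =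
        ((f.resLE V U e).fiberHomeo ⟨η, hη⟩) (w z) := by
      rw [h2]
      apply Subtype.ext
      apply Subtype.ext
      exact h6
    rw [((f.resLE V U e).fiberHomeo ⟨η, hη⟩).injective h7]
  let Φ : {z : X | z ∈ U ∧ f.base z = η ∧ ∀ t : X, t ∈ U → f.base t = η → t ⤳ z → t = z} →
      irreducibleComponents ↥((f.resLE V U e).fiber ⟨η, hη⟩) := fun z => ⟨closure {w z}, hw z⟩
  refine Finite.of_injective Φ ?_
  intro z₁ z₂ h12
  have h1 : closure ({w z₁} : Set ↥((f.resLE V U e).fiber ⟨η, hη⟩)) = closure {w z₂} :=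
    congrArg Subtype.val h12
  have h2 : w z₁ = w z₂ := (inseparable_iff_closure_eq.mpr h1).eq
  have h3 := ((f.resLE V U e).fiberHomeo ⟨η, hη⟩).symm.injective h2
  apply Subtype.ext
  exact congrArg (fun q : ↥((f.resLE V U e) ⁻¹' {⟨η, hη⟩}) => (q.1.1 : X)) h3

end finite

end Groth.Agent.Lib.Helper55
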