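import Mathlib
import Groth.Agent.Lib.Helper55.MaximalFibreFinite
import Groth.Agent.Lib.Helper55.ZeroLocusEquidim
import Groth.Agent.Lib.Helper55.EquidimCriterion
import Groth.Agent.Lib.Helper55.OpenMapFibreDimNhd
import Groth.Agent.Lib.Helper55.OpenMapFibreDim
import Groth.Agent.Lib.Helper55.FibreDimFormula

/-! EGA IV 14.3.13, b') ⇒ b): if `dim (U ∩ X_{y'}) ≥ dim_x X_y` for every open `U ∋ x` and every
generization `y'` of `y = f x`, then over every irreducible component `Y₀ ∋ y` there is an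
irreducible component `Z ∋ x` of `X` dominating `Y₀` with
`dim_x X_y = dim_x (Z ∩ X_y) = dim (Z ∩ X_η)` (helper55). -/

set_option autoImplicit false
universe u

namespace Groth.Agent.Lib.Helper55

open AlgebraicGeometry CategoryTheory Topology TopologicalSpace

section criterion

variable {X Y : Scheme.{u}} (f : X ⟶ Y) [LocallyOfFiniteType f]

/-- If the supremum of a family of natural numbers (in `WithBot ℕ∞`) is at least the natural
number `d`, some member is at least `d`. -/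
theorem exists_le_of_le_iSup_nat {ι : Type*} (F : ι → WithBot ℕ∞) (hF : ∀ i, ∃ k : ℕ, F i = k)
    (d : ℕ) (h : (d : WithBot ℕ∞) ≤ ⨆ i, F i) : ∃ i, (d : WithBot ℕ∞) ≤ F i := by
  by_contra hcon
  push Not at hcon
  rcases Nat.eq_zero_or_pos d with hd | hd
  · subst hd
    have hemp : IsEmpty ι := by
      refine ⟨fun i => ?_⟩
      obtain ⟨k, hk⟩ := hF i
      have := hcon i
      rw [hk] at this
      have h2 : (k : ℕ) < 0 := by exact_mod_cast this
      omega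
    rw [iSup_of_empty] at h
    simp at h
  · have hle : ⨆ i, F i ≤ ((d - 1 : ℕ) : WithBot ℕ∞) := by
      refine iSup_le fun i => ?_
      obtain ⟨k, hk⟩ := hF i
      have := hcon i
      rw [hk] at this ⊢
      have h2 : k < d := by exact_mod_cast this
      have h3 : k ≤ d - 1 := by omega
      exact_mod_cast h3
    have h4 := h.trans hle
    have h5 : d ≤ d - 1 := by exact_mod_cast h4
    omega

/-- **EGA IV 14.3.13, b') ⇒ b)**, using b') only over the generic point `η₀` of the given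
irreducible component `Y₀`. -/
theorem exists_component_of_forall_fibreDimAt_le' (x : X)
    (Y₀ : Set Y) (hY₀ : Y₀ ∈ irreducibleComponents (Y : Type u)) (hy : f.base x ∈ Y₀)
    (η₀ : Y) (hη₀ : closure ({η₀} : Set Y) = Y₀)
    (hb' : ∀ U : X.Opens, x ∈ U →
      FlatMor.fibreDimAt f x ≤ topologicalKrullDim ↥((U : Set X) ∩ f.base ⁻¹' {η₀})) :
    ∃ Z ∈ irreducibleComponents (X : Type u), ∃ hx : x ∈ Z, closure (f.base '' Z) = Y₀ ∧
      ∀ η : Y, closure ({η} : Set Y) = Y₀ →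
        FlatMor.fibreDimAt f x = FlatMor.localDim ↥(Z ∩ f.base ⁻¹' {f.base x}) ⟨x, ⟨hx, rfl⟩⟩ ∧
        FlatMor.localDim ↥(Z ∩ f.base ⁻¹' {f.base x}) ⟨x, ⟨hx, rfl⟩⟩ =
          topologicalKrullDim ↥(Z ∩ f.base ⁻¹' {η}) := by
  classical
  have hη₀y : η₀ ⤳ f.base x := by
    rw [specializes_iff_mem_closure, hη₀]; exact hy
  have hη₀max : ∀ t : Y, t ⤳ η₀ → t = η₀ := by
    intro t ht
    have h1 : η₀ ⤳ t := specializes_of_closure_mem_irreducibleComponents η₀
      (by rw [hη₀]; exact hY₀) t ht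
    exact (ht.antisymm h1).eq
  -- affine neighbourhoods
  obtain ⟨V, hV, hfxV, -⟩ := exists_isAffineOpen_mem_and_subset (x := f.base x) (U := ⊤) trivial
  obtain ⟨U, hU, hxU, e⟩ :=
    exists_isAffineOpen_mem_and_subset (x := x) (U := f ⁻¹ᵁ V) hfxV
  have hηV : η₀ ∈ V := hη₀y.mem_open V.2 hfxV
  have hSfin := finite_maximal_points_opens_inter_fibre f U hU V hV e η₀ hηV
  set S : Set X := {z : X | z ∈ U ∧ f.base z = η₀ ∧
      ∀ t : X, t ∈ U → f.base t = η₀ → t ⤳ z → t = z} with hS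
  have hS'fin : Set.Finite {z : X | z ∈ S ∧ ¬ z ⤳ x} := hSfin.subset (fun z hz => hz.1)
  have hCclosed : IsClosed (⋃ z ∈ {z : X | z ∈ S ∧ ¬ z ⤳ x}, closure ({z} : Set X)) :=
    hS'fin.isClosed_biUnion (fun _ _ => isClosed_closure)
  have hxC : x ∉ ⋃ z ∈ {z : X | z ∈ S ∧ ¬ z ⤳ x}, closure ({z} : Set X) := by
    intro hx
    simp only [Set.mem_iUnion] at hx
    obtain ⟨z, hz, hxz⟩ := hx
    exact hz.2 (specializes_iff_mem_closure.mpr hxz)
  set U₁ : X.Opens := U ⊓ ⟨(⋃ z ∈ {z : X | z ∈ S ∧ ¬ z ⤳ x}, closure ({z} : Set X))ᶜ,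
    hCclosed.isOpen_compl⟩ with hU₁
  have hxU₁ : x ∈ U₁ := ⟨hxU, hxC⟩
  obtain ⟨d, hd⟩ := exists_nat_fibreDimAt_eq f x
  have h1 := hb' U₁ hxU₁
  rw [topologicalKrullDim_opens_inter_preimage_eq_fiber f U₁ η₀,
    topologicalKrullDim_fiber_eq_iSup, hd] at h1
  obtain ⟨u, hu⟩ := exists_le_of_le_iSup_nat _
    (fun u : {u : ↥(U₁ : Scheme.{u}) // (U₁.ι ≫ f) u = η₀} =>
      exists_nat_fibreDimAt_eq (U₁.ι ≫ f) u.1) d h1
  obtain ⟨z₁, hz1, hz2, hz3, n, hn1, hn2, -, -⟩ := exists_maximal_point_fiber (U₁.ι ≫ f) u.1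
  have hdn : d ≤ n := by
    rw [hn2] at hu
    exact_mod_cast hu
  have hfz : f.base (U₁.ι z₁) = η₀ := hz1.trans u.2
  have hzU₁ : U₁.ι z₁ ∈ U₁ := z₁.2
  have hzU : U₁.ι z₁ ∈ U := z₁.2.1
  have hzS : U₁.ι z₁ ∈ S := by
    refine ⟨hzU, hfz, ?_⟩
    intro t htU htη htz
    have htU₁ : t ∈ U₁ := htz.mem_open U₁.2 hzU₁
    have h2 : (⟨t, htU₁⟩ : ↥(U₁ : Scheme.{u})) ⤳ z₁ :=
      (U₁.ι.isOpenEmbedding.isInducing.specializes_iff).mp htz
    have h3 := hz3 ⟨t, htU₁⟩ (htη.trans u.2.symm) h2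
    exact congrArg (fun q : ↥(U₁ : Scheme.{u}) => U₁.ι q) h3
  have hzx : U₁.ι z₁ ⤳ x := by
    by_contra hcon
    have hzC : U₁.ι z₁ ∈ ⋃ z ∈ {z : X | z ∈ S ∧ ¬ z ⤳ x}, closure ({z} : Set X) := by
      simp only [Set.mem_iUnion]
      exact ⟨U₁.ι z₁, ⟨hzS, hcon⟩, subset_closure rfl⟩
    exact z₁.2.2 hzC
  have hn : @Algebra.trdeg (Y.residueField (f (U₁.ι z₁))) (X.residueField (U₁.ι z₁)) _ _
      (f.residueFieldMap (U₁.ι z₁)).hom.toAlgebra = n :=
    (trdeg_residueField_preimmersion_comp U₁.ι f z₁).symm.trans hn1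
  generalize U₁.ι z₁ = z at hfz hzU hzS hzx hn
  -- `z` is a maximal point of `X`
  have hzmax : ∀ t : X, t ⤳ z → z ⤳ t := by
    intro t ht
    have htU : t ∈ U := ht.mem_open U.2 hzU
    have htη : f.base t = η₀ := by
      apply hη₀max
      rw [← hfz]
      exact ht.map f.continuous
    rw [hzS.2.2 t htU htη ht]
  have hZ : closure ({z} : Set X) ∈ irreducibleComponents (X : Type u) :=
    closure_mem_irreducibleComponents_of_maximal z hzmax
  have hxZ : x ∈ closure ({z} : Set X) := hzx.mem_closure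
  refine ⟨closure {z}, hZ, hxZ, ?_, ?_⟩
  · apply subset_antisymm
    · rw [← hη₀]
      apply closure_minimal _ isClosed_closure
      refine (image_closure_subset_closure_image f.continuous).trans ?_
      rw [Set.image_singleton, hfz]
    · rw [← hη₀]
      apply closure_mono
      rw [Set.singleton_subset_iff]
      exact ⟨z, subset_closure rfl, hfz⟩
  · intro η hη
    have hηη : η = η₀ := (inseparable_iff_closure_eq.mpr (hη.trans hη₀.symm)).eq
    subst hηη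
    have hle : FlatMor.localDim ↥(closure ({z} : Set X) ∩ f.base ⁻¹' {f.base x})
        ⟨x, ⟨hxZ, rfl⟩⟩ ≤ FlatMor.fibreDimAt f x := localDim_inter_fibre_le f _ x hxZ
    have hge : (n : WithBot ℕ∞) ≤ FlatMor.localDim ↥(closure ({z} : Set X) ∩ f.base ⁻¹' {f.base x})
        ⟨x, ⟨hxZ, rfl⟩⟩ :=
      trdeg_le_localDim_inter_fibre f ⟨closure {z}, isClosed_closure⟩ x z hxZ
        (subset_closure rfl) hzx n hn
    have hdn' : (d : WithBot ℕ∞) ≤ n := by exact_mod_cast hdn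
    have heq1 : FlatMor.localDim ↥(closure ({z} : Set X) ∩ f.base ⁻¹' {f.base x})
        ⟨x, ⟨hxZ, rfl⟩⟩ = n := le_antisymm ((hle.trans hd.le).trans hdn') hge
    have heq2 : FlatMor.fibreDimAt f x = n := le_antisymm (hd.le.trans hdn') (hge.trans hle)
    refine ⟨heq2.trans heq1.symm, heq1.trans ?_⟩
    obtain ⟨m, hm1, hm2⟩ := exists_dim_closure_inter_fibre_eq_trdeg f z
    have hmn : m = n := by
      have := hm2.symm.trans hn
      exact_mod_cast this
    have key : ∀ η' : Y, f.base z = η' →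
        topologicalKrullDim ↥(closure ({z} : Set X) ∩ f ⁻¹' {f z}) =
          topologicalKrullDim ↥(closure ({z} : Set X) ∩ f.base ⁻¹' {η'}) := by
      rintro _ rfl; rfl
    rw [← key _ hfz, hm1, hmn]

/-- **EGA IV 14.3.13, b') ⇒ b).** -/
theorem exists_component_of_forall_fibreDimAt_le (x : X)
    (hb' : ∀ U : X.Opens, x ∈ U → ∀ y' : Y, y' ⤳ f.base x →
      FlatMor.fibreDimAt f x ≤ topologicalKrullDim ↥((U : Set X) ∩ f.base ⁻¹' {y'}))
    (Y₀ : Set Y) (hY₀ : Y₀ ∈ irreducibleComponents (Y : Type u)) (hy : f.base x ∈ Y₀) :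
    ∃ Z ∈ irreducibleComponents (X : Type u), ∃ hx : x ∈ Z, closure (f.base '' Z) = Y₀ ∧
      ∀ η : Y, closure ({η} : Set Y) = Y₀ →
        FlatMor.fibreDimAt f x = FlatMor.localDim ↥(Z ∩ f.base ⁻¹' {f.base x}) ⟨x, ⟨hx, rfl⟩⟩ ∧
        FlatMor.localDim ↥(Z ∩ f.base ⁻¹' {f.base x}) ⟨x, ⟨hx, rfl⟩⟩ =
          topologicalKrullDim ↥(Z ∩ f.base ⁻¹' {η}) := by
  obtain ⟨η₀, hη₀g⟩ := QuasiSober.sober hY₀.1 (isClosed_of_mem_irreducibleComponents Y₀ hY₀)
  have hη₀ : closure ({η₀} : Set Y) = Y₀ := hη₀g.def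
  have hη₀y : η₀ ⤳ f.base x := by
    rw [specializes_iff_mem_closure, hη₀]; exact hy
  exact exists_component_of_forall_fibreDimAt_le' f x Y₀ hY₀ hy η₀ hη₀
    (fun U hU => hb' U hU η₀ hη₀y)

end criterion

end Groth.Agent.Lib.Helper55
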