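import Mathlib
import Groth.Agent.Lib.Helper55.ValuationSpecialize
import Groth.Agent.Lib.Helper55.OpenMapFibreDimNhd
import Groth.Agent.Lib.Helper55.FibreDimFormula
import Groth.Agent.S3404

/-! EGA IV 14.3.13, a) ⇒ b'): if `f` is universally open at a maximal point `x` of its fibre, then
`dim (U ∩ X_{y'}) ≥ dim_x X_y` for every open `U ∋ x` and every generization `y'` of `y = f x`
(helper55). -/

set_option autoImplicit false
universe u

namespace Groth.Agent.Lib.Helper55

open AlgebraicGeometry CategoryTheory Topology IsLocalRing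

section univOpen

variable {X Y : Scheme.{u}} (f : X ⟶ Y) [LocallyOfFiniteType f]

omit [LocallyOfFiniteType f] in
theorem fibreDimAt_congr_point {u v : X} (h : u = v) :
    FlatMor.fibreDimAt f u = FlatMor.fibreDimAt f v := by
  subst h; rfl

/-- The local fibre dimension at a point of an open subset `U` is at most the dimension of the
trace of the fibre on `U`. -/
theorem fibreDimAt_le_dim_opens_inter_fibre (U : X.Opens) (u : X) (hu : u ∈ U) (y' : Y)
    (hy' : f.base u = y') :
    FlatMor.fibreDimAt f u ≤ topologicalKrullDim ↥((U : Set X) ∩ f.base ⁻¹' {y'}) := by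
  subst hy'
  rw [topologicalKrullDim_opens_inter_preimage_eq_fiber f U (f.base u),
    topologicalKrullDim_fiber_eq_iSup]
  have h := fibreDimAt_opens_ι_comp f U ⟨u, hu⟩
  have h' : FlatMor.fibreDimAt f (U.ι ⟨u, hu⟩) = FlatMor.fibreDimAt f u :=
    fibreDimAt_congr_point f rfl
  rw [← h', ← h]
  exact le_iSup (fun x : {x : ↥(U : Scheme.{u}) // (U.ι ≫ f) x = f.base u} =>
    FlatMor.fibreDimAt (U.ι ≫ f) x.1) ⟨⟨u, hu⟩, rfl⟩

/-- **EGA IV 14.3.13, a) ⇒ b').** -/
theorem fibreDimAt_le_dim_opens_inter_fibre_of_isUnivOpenAt (x : X)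
    (hmax : ∀ x' : X, f.base x' = f.base x → x ∈ closure {x'} → x' = x)
    (hopen : EGA43.IsUnivOpenAt f x) (U : X.Opens) (hxU : x ∈ U) (y' : Y)
    (hy' : y' ⤳ f.base x) :
    FlatMor.fibreDimAt f x ≤ topologicalKrullDim ↥((U : Set X) ∩ f.base ⁻¹' {y'}) := by
  obtain ⟨A, _, _, _, g, hga, hgb⟩ := exists_valuationRing_of_specializes hy'
  have hsq : IsPullback (Limits.pullback.fst f g) (Limits.pullback.snd f g) f g :=
    IsPullback.of_hasPullback f g
  have hlft : LocallyOfFiniteType (Limits.pullback.snd f g) :=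
    inferInstance
  obtain ⟨x'', hx''1, hx''2⟩ := Scheme.Pullback.exists_preimage_pullback (f := f) (g := g) x
    (closedPoint A) hga.symm
  obtain ⟨x', hx'1, hx'2, hx'3, n, hn1, hn2, -, -⟩ :=
    exists_maximal_point_fiber (Limits.pullback.snd f g) x''
  have hpx' : (Limits.pullback.fst f g) x' = x := by
    apply hmax
    · have h1 := congr(($(hsq.w)) x')
      refine h1.trans ?_
      refine (congrArg g (hx'1.trans hx''2)).trans hga
    · rw [← hx''1]
      exact (hx'2.map (Limits.pullback.fst f g).continuous).mem_closure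
  have hd : FlatMor.fibreDimAt f x = n := by
    rw [← hn2, fibreDimAt_eq_of_isPullback f g _ _ hsq x'']
    exact fibreDimAt_congr_point f hx''1.symm
  have hop : EGA43.IsOpenAt (Limits.pullback.snd f g).base x' := hopen _ g x' hpx'
  obtain ⟨z', hz'1, hz'2⟩ := (Groth.Agent.S3404.result (Limits.pullback.snd f g) x').1 hop
    (genericPoint ↥(Spec (CommRingCat.of A))) (genericPoint_specializes _)
  have h1 := trdeg_le_fibreDimAt_of_specializes_of_valuationRing (Limits.pullback.snd f g) x' z'
    hz'1 hz'2 n hn1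
  rw [fibreDimAt_eq_of_isPullback f g _ _ hsq z'] at h1
  have hu : (Limits.pullback.fst f g) z' ∈ U := by
    refine (hz'1.map (Limits.pullback.fst f g).continuous).mem_open U.2 ?_
    rw [hpx']
    exact hxU
  have hfu : f.base ((Limits.pullback.fst f g) z') = y' := by
    have h1 := congr(($(hsq.w)) z')
    refine h1.trans ?_
    exact (congrArg g hz'2).trans hgb
  rw [hd]
  exact h1.trans (fibreDimAt_le_dim_opens_inter_fibre f U _ hu y' hfu)

end univOpen

end Groth.Agent.Lib.Helper55
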