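import Mathlib
import Groth.Agent.Lib.Helper55.ComponentCriterion
import Groth.Agent.Lib.Helper55.UnivOpenValuation
import Groth.Agent.S3393

/-! Fibrewise form of EGA IV 14.3.13: from the dimension inequalities at the maximal points of a
fibre `X_y` to dominating irreducible components through every point of `X_y` (helper55). -/

set_option autoImplicit false
universe u

namespace Groth.Agent.Lib.Helper55

open AlgebraicGeometry CategoryTheory Topology TopologicalSpace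

section fibrewise

variable {X Y : Scheme.{u}} (f : X ⟶ Y) [LocallyOfFiniteType f]

/-- If `x' ⤳ x` have the same local fibre dimension, equal to `dim (Z ∩ X_η)` for an irreducible
component `Z ∋ x'` with generic point over `η`, then `dim_x (Z ∩ X_{f x}) = dim (Z ∩ X_η)`. -/
theorem localDim_component_eq_of_generization (x x' : X) (hx'x : x' ⤳ x)
    (hfd : FlatMor.fibreDimAt f x' = FlatMor.fibreDimAt f x)
    (Z : Set X) (hZ : Z ∈ irreducibleComponents (X : Type u)) (hx' : x' ∈ Z) (η : Y)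
    (hη : closure ({η} : Set Y) = closure (f.base '' Z))
    (h1 : FlatMor.fibreDimAt f x' = topologicalKrullDim ↥(Z ∩ f.base ⁻¹' {η})) :
    ∃ hx : x ∈ Z, FlatMor.localDim ↥(Z ∩ f.base ⁻¹' {f.base x}) ⟨x, ⟨hx, rfl⟩⟩ =
      topologicalKrullDim ↥(Z ∩ f.base ⁻¹' {η}) := by
  have hZcl : IsClosed Z := isClosed_of_mem_irreducibleComponents Z hZ
  have hx : x ∈ Z :=
    (hZcl.closure_subset_iff.mpr (Set.singleton_subset_iff.mpr hx')) hx'x.mem_closure
  obtain ⟨ξ, hξ⟩ := QuasiSober.sober hZ.1 hZcl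
  have hfξ : f.base ξ = η := by
    have h2 : closure ({f.base ξ} : Set Y) = closure {η} := by
      rw [← closure_image_eq_of_isGenericPoint f Z ξ hξ, hη]
    exact (inseparable_iff_closure_eq.mpr h2).eq
  obtain ⟨m, hm1, hm2⟩ := Groth.Agent.S3393.dim_closure_inter_fibre f η ξ hfξ
  rw [hξ.def] at hm1
  have hξZ : ξ ∈ Z := hξ.def ▸ subset_closure rfl
  have hξx : ξ ⤳ x := hξ.specializes hx
  have hge : (m : WithBot ℕ∞) ≤ FlatMor.localDim ↥(Z ∩ f.base ⁻¹' {f.base x}) ⟨x, ⟨hx, rfl⟩⟩ :=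
    trdeg_le_localDim_inter_fibre f ⟨Z, hZcl⟩ x ξ hx hξZ hξx m hm2
  have hle : FlatMor.localDim ↥(Z ∩ f.base ⁻¹' {f.base x}) ⟨x, ⟨hx, rfl⟩⟩ ≤
      FlatMor.fibreDimAt f x := localDim_inter_fibre_le f Z x hx
  refine ⟨hx, ?_⟩
  rw [hm1]
  refine le_antisymm ?_ hge
  rw [← hm1, ← h1, hfd]
  exact hle

/-- From the inequalities `dim_{x'} X_y ≤ dim (U ∩ X_η)` at the maximal points `x'` of the fibre
`X_y` to dominating irreducible components with the right dimensions through every point of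
`X_y`. -/
theorem exists_component_of_fibre (y : Y)
    (H : ∀ x' : X, f.base x' = y → (∀ w : X, f.base w = f.base x' → w ⤳ x' → w = x') →
      ∀ Y₀ ∈ irreducibleComponents (Y : Type u), y ∈ Y₀ → ∀ η : Y, closure ({η} : Set Y) = Y₀ →
        ∀ U : X.Opens, x' ∈ U →
          FlatMor.fibreDimAt f x' ≤ topologicalKrullDim ↥((U : Set X) ∩ f.base ⁻¹' {η}))
    (x : X) (hxy : f.base x = y) (Y₀ : Set Y) (hY₀ : Y₀ ∈ irreducibleComponents (Y : Type u))
    (hy : y ∈ Y₀) :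
    ∃ Z ∈ irreducibleComponents (X : Type u), ∃ hx : x ∈ Z, closure (f.base '' Z) = Y₀ ∧
      ∀ η : Y, closure ({η} : Set Y) = Y₀ →
        FlatMor.localDim ↥(Z ∩ f.base ⁻¹' {f.base x}) ⟨x, ⟨hx, rfl⟩⟩ =
          topologicalKrullDim ↥(Z ∩ f.base ⁻¹' {η}) := by
  obtain ⟨η₀, hη₀g⟩ := QuasiSober.sober hY₀.1 (isClosed_of_mem_irreducibleComponents Y₀ hY₀)
  have hη₀ : closure ({η₀} : Set Y) = Y₀ := hη₀g.def
  obtain ⟨x', hfx', hx'x, hx'max, n, -, hn2, hn3, -⟩ := exists_maximal_point_fiber f x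
  have hx'y : f.base x' = y := hfx'.trans hxy
  have hb' := H x' hx'y (fun w hw hwx' => hx'max w (hw.trans hfx') hwx') Y₀ hY₀ hy η₀ hη₀
  obtain ⟨Z, hZ, hx'Z, hcl, HZ⟩ := exists_component_of_forall_fibreDimAt_le' f x' Y₀ hY₀
    (by rw [hx'y]; exact hy) η₀ hη₀ hb'
  obtain ⟨e1, e2⟩ := HZ η₀ hη₀
  obtain ⟨hxZ, hdim⟩ := localDim_component_eq_of_generization f x x' hx'x (hn3.trans hn2.symm) Z hZ
    hx'Z η₀ (hη₀.trans hcl.symm) (e1.trans e2)
  refine ⟨Z, hZ, hxZ, hcl, fun η hη => ?_⟩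
  have hηη : η = η₀ := (inseparable_iff_closure_eq.mpr (hη.trans hη₀.symm)).eq
  subst hηη
  exact hdim

/-- From the inequalities `dim_{x'} X_y ≤ dim (U ∩ X_η)` at the maximal points `x'` of the fibre
`X_y` to `dim (U ∩ X_y) ≤ dim (U ∩ X_η)` for every open `U`. -/
theorem dim_opens_inter_fibre_le_of_forall (y η : Y)
    (H : ∀ x' : X, f.base x' = y → (∀ w : X, f.base w = f.base x' → w ⤳ x' → w = x') →
        ∀ U : X.Opens, x' ∈ U →
          FlatMor.fibreDimAt f x' ≤ topologicalKrullDim ↥((U : Set X) ∩ f.base ⁻¹' {η}))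
    (U : X.Opens) :
    topologicalKrullDim ↥((U : Set X) ∩ f.base ⁻¹' {y}) ≤
      topologicalKrullDim ↥((U : Set X) ∩ f.base ⁻¹' {η}) := by
  rw [topologicalKrullDim_opens_inter_preimage_eq_fiber f U y, topologicalKrullDim_fiber_eq_iSup]
  refine iSup_le fun u => ?_
  rw [fibreDimAt_opens_ι_comp f U u.1]
  obtain ⟨x', hfx', hx'x, hx'max, n, -, hn2, hn3, -⟩ := exists_maximal_point_fiber f (U.ι u.1)
  have hx'y : f.base x' = y := hfx'.trans u.2
  have hx'U : x' ∈ U := hx'x.mem_open U.2 u.1.2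
  rw [hn2, ← hn3]
  exact H x' hx'y (fun w hw hwx' => hx'max w (hw.trans hfx') hwx') U hx'U

end fibrewise

end Groth.Agent.Lib.Helper55
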