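import Mathlib
import Groth.Agent.Lib.Helper55.EquidimCriterionGeneral
import Groth.Agent.Lib.Helper55.FibreUnivOpenCriterion
import Groth.Agent.Lib.Helper24.UnivOpenAt

/-! EGA IV 14.3.13 / 14.4.x without Noetherian hypotheses: a point of universal openness `x'`,
maximal in its fibre, lies on an irreducible component which is equidimensional over the base at
every specialization `x` of `x'` in the fibre with the same local fibre dimension.  In particular a
universally open morphism locally of finite type is, at every point, equidimensional on some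
irreducible component through the point (helper55). -/

set_option autoImplicit false
universe u

namespace Groth.Agent.Lib.Helper55

open AlgebraicGeometry CategoryTheory Topology TopologicalSpace

section component

variable {X Y : Scheme.{u}} (f : X ⟶ Y) [LocallyOfFiniteType f]

set_option backward.isDefEq.respectTransparency.types false in
/-- A point `z` on an irreducible component `Z` of `X` dominating an irreducible component `Y₀`
of `Y` (generic point `η`) with `dim_z (Z ∩ X_{f z}) = dim (Z ∩ X_η)`: the reduced subscheme `Z`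
is equidimensional over `Y` at `z`. -/
theorem isEquidimAt_subscheme_of_component (z : X) (Zc : TopologicalSpace.Closeds X)
    (hZ : (Zc : Set X) ∈ irreducibleComponents (X : Type u)) (hz : z ∈ (Zc : Set X))
    (Y₀ : Set Y) (hY₀ : Y₀ ∈ irreducibleComponents (Y : Type u))
    (hdom : closure (f.base '' (Zc : Set X)) = Y₀) (η : Y) (hη : closure ({η} : Set Y) = Y₀)
    (hdim : FlatMor.localDim ↥((Zc : Set X) ∩ f.base ⁻¹' {f.base z}) ⟨z, ⟨hz, rfl⟩⟩ =
      topologicalKrullDim ↥((Zc : Set X) ∩ f.base ⁻¹' {η})) :
    ∃ w : ↥(Scheme.IdealSheafData.vanishingIdeal Zc).subscheme,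
      (Scheme.IdealSheafData.vanishingIdeal Zc).subschemeι.base w = z ∧
      EGA43.IsEquidimAt ((Scheme.IdealSheafData.vanishingIdeal Zc).subschemeι ≫ f) w := by
  have hZcl : IsClosed (Zc : Set X) := Zc.2
  obtain ⟨ξ, hξ⟩ := QuasiSober.sober hZ.1 hZcl
  have hfξ : f.base ξ = η := by
    have h1 : closure ({f.base ξ} : Set Y) = closure {η} := by
      rw [← closure_image_eq_of_isGenericPoint f (Zc : Set X) ξ hξ, hdom, hη]
    exact (inseparable_iff_closure_eq.mpr h1).eq
  obtain ⟨m, hm1, hm2⟩ := Groth.Agent.S3393.dim_closure_inter_fibre f η ξ hfξ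
  rw [hξ.def] at hm1
  rw [hm1] at hdim
  have hrange : Set.range (Scheme.IdealSheafData.vanishingIdeal Zc).subschemeι.base =
      (Zc : Set X) := by
    rw [Scheme.IdealSheafData.range_subschemeι, Scheme.IdealSheafData.coe_support_vanishingIdeal]
  have hirrZ : IsIrreducible
      (Set.range (Scheme.IdealSheafData.vanishingIdeal Zc).subschemeι.base) := by
    rw [hrange]; exact hZ.1
  have : IrreducibleSpace ↥(Scheme.IdealSheafData.vanishingIdeal Zc).subscheme :=
    irreducibleSpace_of_isEmbedding _
      (Scheme.IdealSheafData.vanishingIdeal Zc).subschemeι.isEmbedding hirrZ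
  obtain ⟨z₁, hz₁⟩ : z ∈ Set.range (Scheme.IdealSheafData.vanishingIdeal Zc).subschemeι.base := by
    rw [hrange]; exact hz
  have hgp : (Scheme.IdealSheafData.vanishingIdeal Zc).subschemeι.base
      (genericPoint ↥(Scheme.IdealSheafData.vanishingIdeal Zc).subscheme) = ξ := by
    have h1 : IsGenericPoint ((Scheme.IdealSheafData.vanishingIdeal Zc).subschemeι.base
        (genericPoint ↥(Scheme.IdealSheafData.vanishingIdeal Zc).subscheme))
        (closure ((Scheme.IdealSheafData.vanishingIdeal Zc).subschemeι.base '' Set.univ)) :=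
      (genericPoint_spec _).image (Scheme.IdealSheafData.vanishingIdeal Zc).subschemeι.continuous
    rw [Set.image_univ, hrange, hZcl.closure_eq] at h1
    exact h1.eq hξ
  subst hgp
  subst hz₁
  refine ⟨z₁, rfl, ?_⟩
  apply isEquidimAt_of_irreducibleSpace' _ z₁ m
  · rw [Scheme.Hom.comp_apply, hfξ, hη]; exact hY₀
  · rw [trdeg_residueField_preimmersion_comp]; exact hm2
  · rw [fibreDimAt_preimmersion_comp_eq f _ z₁]
    have hset : Set.range (Scheme.IdealSheafData.vanishingIdeal Zc).subschemeι.base ∩
        f.base ⁻¹' {f.base ((Scheme.IdealSheafData.vanishingIdeal Zc).subschemeι.base z₁)} =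
        (Zc : Set X) ∩ f.base ⁻¹'
          {f.base ((Scheme.IdealSheafData.vanishingIdeal Zc).subschemeι.base z₁)} := by
      rw [hrange]
    rw [localDim_congr_set hset _ _ ⟨hz, rfl⟩, hdim]

/-- A universally open morphism is universally open at every point. -/
theorem isUnivOpenAt_of_universallyOpen {X Y : Scheme.{u}} (f : X ⟶ Y) [UniversallyOpen f]
    (x : X) : EGA43.IsUnivOpenAt f x := by
  intro Y' g p _
  exact Groth.Agent.Lib.Helper24.isOpenAt_of_isOpenMap (Limits.pullback.snd f g).isOpenMap p

/-- **EGA IV 14.3.13 (consequence).**  If `f` is universally open at the maximal points of the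
fibre through `x`, then `x` lies on an irreducible component of `X` which, with its reduced
structure, is equidimensional over `Y` at `x`. -/
theorem exists_component_isEquidimAt (x : X)
    (hopen : ∀ x' : X, f.base x' = f.base x → x' ⤳ x → EGA43.IsUnivOpenAt f x') :
    ∃ W : TopologicalSpace.Closeds X, (W : Set X) ∈ irreducibleComponents (X : Type u) ∧
      ∃ w : ↥((Scheme.IdealSheafData.vanishingIdeal W).subscheme),
        (Scheme.IdealSheafData.vanishingIdeal W).subschemeι.base w = x ∧
        EGA43.IsEquidimAt ((Scheme.IdealSheafData.vanishingIdeal W).subschemeι ≫ f) w := by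
  obtain ⟨Y₀, hY₀, hyY₀⟩ := exists_mem_irreducibleComponents_subset_of_isIrreducible
    ({f.base x} : Set Y) isIrreducible_singleton
  have hy₀ : f.base x ∈ Y₀ := hyY₀ rfl
  obtain ⟨η₀, hη₀g⟩ := QuasiSober.sober hY₀.1 (isClosed_of_mem_irreducibleComponents Y₀ hY₀)
  have hη₀ : closure ({η₀} : Set Y) = Y₀ := hη₀g.def
  obtain ⟨x', hfx', hx'x, hx'max, n, -, hn2, hn3, -⟩ := exists_maximal_point_fiber f x
  have hη₀x' : η₀ ⤳ f.base x' := by
    rw [specializes_iff_mem_closure, hη₀, hfx']; exact hy₀
  have hb' : ∀ U : X.Opens, x' ∈ U →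
      FlatMor.fibreDimAt f x' ≤ topologicalKrullDim ↥((U : Set X) ∩ f.base ⁻¹' {η₀}) :=
    fun U hU => fibreDimAt_le_dim_opens_inter_fibre_of_isUnivOpenAt f x'
      (fun w hw hwx' => hx'max w (hw.trans hfx') (specializes_iff_mem_closure.mpr hwx'))
      (hopen x' hfx' hx'x) U hU η₀ hη₀x'
  obtain ⟨Z, hZ, hx'Z, hcl, HZ⟩ := exists_component_of_forall_fibreDimAt_le' f x' Y₀ hY₀
    (by rw [hfx']; exact hy₀) η₀ hη₀ hb'
  obtain ⟨e1, e2⟩ := HZ η₀ hη₀
  obtain ⟨hxZ, hdim⟩ := localDim_component_eq_of_generization f x x' hx'x (hn3.trans hn2.symm) Z hZ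
    hx'Z η₀ (hη₀.trans hcl.symm) (e1.trans e2)
  have hZcl : IsClosed Z := isClosed_of_mem_irreducibleComponents Z hZ
  refine ⟨⟨Z, hZcl⟩, hZ, ?_⟩
  exact isEquidimAt_subscheme_of_component f x ⟨Z, hZcl⟩ hZ hxZ Y₀ hY₀ hcl η₀ hη₀ hdim

end component

end Groth.Agent.Lib.Helper55
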