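import Mathlib
import Groth.Agent.Lib.Helper55.EquidimAt
import Groth.Agent.Lib.Helper55.EquidimCriterion
import Groth.Agent.Lib.Helper55.OpenAtBaseChange
import Groth.Agent.S2559

/-! Equidimensionality of the local ring `O_{X,x}` for a morphism equidimensional at `x`, with
universal catenarity replaced by openness of the irreducible components over the base
(EGA IV 14.4.x) (helper55, requested by helper72). -/

set_option autoImplicit false
universe u

namespace Groth.Agent.Lib.Helper55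

open AlgebraicGeometry CategoryTheory Topology

theorem localDim_congr_point {T : Type*} [TopologicalSpace T] {A B : Set T} (h : A = B) (x x' : T)
    (hx : x = x') (hA : x ∈ A) (hB : x' ∈ B) :
    FlatMor.localDim ↥A ⟨x, hA⟩ = FlatMor.localDim ↥B ⟨x', hB⟩ := by
  subst h hx
  rfl

variable {X Y : Scheme.{u}} [IsLocallyNoetherian Y] (f : X ⟶ Y) [LocallyOfFiniteType f]

/-- **Dimension formula along an irreducible component via openness.**  Let `x ∈ X`, `ξ ⤳ x` a
maximal point of `X`, `ι : X' ⟶ X` a closed immersion from an irreducible scheme with image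
`closure {ξ}`, `w ∈ X'` over `x`, and suppose `dim_x (closure {ξ} ∩ X_{f x}) = e`.  If `X' ⟶ Y` is
open at the maximal points of its fibre generizing `w`, then
`dim O_{X',w} + trdeg κ(x)/κ(f x) = dim O_{Y,f x} + e`. -/
theorem ringKrullDim_stalk_closure_add_trdeg_eq_of_isOpenAt {X' : Scheme.{u}} (ι : X' ⟶ X)
    [IsClosedImmersion ι] (x : X) (e : ℕ) (ξ : X) (hr : Set.range ι = closure {ξ})
    (hxcl : x ∈ closure ({ξ} : Set X))
    (hcomp : FlatMor.localDim ↥(closure ({ξ} : Set X) ∩ f.base ⁻¹' {f.base x})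
        ⟨x, ⟨hxcl, Set.mem_singleton (f.base x)⟩⟩ = e)
    (w : X') (hw : ι w = x)
    (hopen : ∀ w' : X', (ι ≫ f) w' = (ι ≫ f) w → w' ⤳ w →
      (∀ w'' : X', (ι ≫ f) w'' = (ι ≫ f) w' → w'' ⤳ w' → w'' = w') →
      EGA43.IsOpenAt (ι ≫ f).base w')
    (t : ℕ)
    (ht : @Algebra.trdeg (Y.residueField (f x)) (X.residueField x) _ _
      (f.residueFieldMap x).hom.toAlgebra = t) :
    ringKrullDim (X'.presheaf.stalk w) + (t : WithBot ℕ∞) =
      ringKrullDim (Y.presheaf.stalk (f.base x)) + (e : WithBot ℕ∞) := by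
  have hNX : IsLocallyNoetherian X := LocallyOfFiniteType.isLocallyNoetherian f
  haveI : IsLocallyNoetherian X' := LocallyOfFiniteType.isLocallyNoetherian ι
  have hgw : (ι ≫ f).base w = f.base x := by
    rw [← hw]
    rfl
  -- S2559
  have hS := Groth.Agent.S2559.result (ι ≫ f) w (by
    intro z hz hzmax
    have hgz : (ι ≫ f) ((ι ≫ f).fiberι ((ι ≫ f).base w) z) = (ι ≫ f) w := by
      have : (ι ≫ f).fiberι ((ι ≫ f).base w) z ∈ Set.range ((ι ≫ f).fiberι ((ι ≫ f).base w)) :=
        ⟨z, rfl⟩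
      rw [(ι ≫ f).range_fiberι] at this
      exact this
    refine hopen _ hgz ?_ ?_
    · have h1 : z ⤳ (ι ≫ f).asFiber w := specializes_iff_mem_closure.mpr hz
      have h2 := h1.map ((ι ≫ f).fiberι ((ι ≫ f).base w)).continuous
      rwa [(ι ≫ f).fiberι_asFiber] at h2
    · intro w'' hw'' hsp
      have hw''r : w'' ∈ Set.range ((ι ≫ f).fiberι ((ι ≫ f).base w)) := by
        rw [(ι ≫ f).range_fiberι]
        exact hw''.trans hgz
      obtain ⟨z'', rfl⟩ := hw''r
      have h3 : z'' ⤳ z :=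
        ((ι ≫ f).fiberι ((ι ≫ f).base w)).isEmbedding.isInducing.specializes_iff.mp hsp
      rw [hzmax z'' (specializes_iff_mem_closure.mp h3)])
  -- the fibre dimension of `ι ≫ f` at `w` is `e`
  have hfib : FlatMor.fibreDimAt (ι ≫ f) w = e := by
    rw [fibreDimAt_preimmersion_comp_eq f ι w, ← hcomp]
    refine localDim_congr_point ?_ _ _ hw _ _
    rw [hr, hw]
  obtain ⟨t', ht', hfd⟩ := fibreDimAt_eq_stalk_fiber_add_trdeg (ι ≫ f) w
  have htt : t' = t := by
    have h1 := trdeg_residueField_preimmersion_comp ι f w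
    have h2 : @Algebra.trdeg (Y.residueField (f (ι w))) (X.residueField (ι w)) _ _
        (f.residueFieldMap (ι w)).hom.toAlgebra = t := by
      rw [hw]
      exact ht
    have : ((t' : ℕ) : Cardinal) = ((t : ℕ) : Cardinal) := by
      rw [← ht', ← h2]
      exact h1
    exact_mod_cast this
  subst htt
  rw [hfib] at hfd
  have hYdim : ringKrullDim (Y.presheaf.stalk ((ι ≫ f).base w)) =
      ringKrullDim (Y.presheaf.stalk (f.base x)) :=
    congrArg (fun y => ringKrullDim (Y.presheaf.stalk y)) hgw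
  rw [hS, hYdim, add_assoc]
  congr 1
  exact hfd.symm

/-- **Dimension formula along a minimal prime via openness.**  Suppose all irreducible components
`Xj` of `X` through `x` satisfy `dim_x (Xj ∩ X_{f x}) = e`, and that for every maximal point
`ξ ⤳ x` of `X` the reduced closed subscheme on `closure {ξ}` is open over `Y` at every point of
its fibre over `f x` generizing `x`.  Then for every minimal prime `𝔭` of `O_{X,x}`,
`dim O_{X,x}/𝔭 + trdeg κ(x)/κ(f x) = dim O_{Y,f x} + e`. -/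
theorem ringKrullDim_stalk_quotient_add_trdeg_eq_of_isOpenAt (x : X) (e : ℕ)
    (hcomp : ∀ Xj ∈ irreducibleComponents (X : Type u), ∀ hx : x ∈ Xj,
      FlatMor.localDim ↥(Xj ∩ f.base ⁻¹' {f.base x})
        ⟨x, ⟨hx, Set.mem_singleton (f.base x)⟩⟩ = e)
    (hopen : ∀ ξ : X, (∀ t : X, t ⤳ ξ → ξ ⤳ t) → ξ ⤳ x →
      ∀ w' : ↥(Scheme.IdealSheafData.vanishingIdeal
        (⟨closure {ξ}, isClosed_closure⟩ : TopologicalSpace.Closeds X)).subscheme,
      f ((Scheme.IdealSheafData.vanishingIdeal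
        (⟨closure {ξ}, isClosed_closure⟩ : TopologicalSpace.Closeds X)).subschemeι w') = f x →
      (Scheme.IdealSheafData.vanishingIdeal
        (⟨closure {ξ}, isClosed_closure⟩ : TopologicalSpace.Closeds X)).subschemeι w' ⤳ x →
      EGA43.IsOpenAt ((Scheme.IdealSheafData.vanishingIdeal
        (⟨closure {ξ}, isClosed_closure⟩ : TopologicalSpace.Closeds X)).subschemeι ≫ f).base w')
    (𝔭 : Ideal (X.presheaf.stalk x)) (h𝔭 : 𝔭 ∈ minimalPrimes (X.presheaf.stalk x)) (t : ℕ)
    (ht : @Algebra.trdeg (Y.residueField (f x)) (X.residueField x) _ _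
      (f.residueFieldMap x).hom.toAlgebra = t) :
    ringKrullDim (X.presheaf.stalk x ⧸ 𝔭) + (t : WithBot ℕ∞) =
      ringKrullDim (Y.presheaf.stalk (f.base x)) + (e : WithBot ℕ∞) := by
  have hNX : IsLocallyNoetherian X := LocallyOfFiniteType.isLocallyNoetherian f
  have hp𝔭 : 𝔭.IsPrime := h𝔭.1.1
  have hξx : stalkPoint x ⟨𝔭, hp𝔭⟩ ⤳ x := stalkPoint_specializes x ⟨𝔭, hp𝔭⟩
  have hξmax : ∀ t : X, t ⤳ stalkPoint x ⟨𝔭, hp𝔭⟩ → stalkPoint x ⟨𝔭, hp𝔭⟩ ⤳ t :=
    stalkPoint_maximal_of_mem_minimalPrimes x ⟨𝔭, hp𝔭⟩ h𝔭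
  obtain ⟨hirr, hr, hgen⟩ := closure_subscheme_setup (stalkPoint x ⟨𝔭, hp𝔭⟩)
  haveI := hirr
  have hxcl : x ∈ closure ({stalkPoint x ⟨𝔭, hp𝔭⟩} : Set X) :=
    specializes_iff_mem_closure.mp hξx
  have hxr : x ∈ Set.range (Scheme.IdealSheafData.vanishingIdeal
      (⟨closure {stalkPoint x ⟨𝔭, hp𝔭⟩}, isClosed_closure⟩ :
        TopologicalSpace.Closeds X)).subschemeι := by
    rw [hr]; exact hxcl
  obtain ⟨w, hw⟩ := hxr
  have key := ringKrullDim_stalk_closure_add_trdeg_eq_of_isOpenAt f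
    (Scheme.IdealSheafData.vanishingIdeal
      (⟨closure {stalkPoint x ⟨𝔭, hp𝔭⟩}, isClosed_closure⟩ :
        TopologicalSpace.Closeds X)).subschemeι x e (stalkPoint x ⟨𝔭, hp𝔭⟩) hr hxcl
    (hcomp _ (closure_mem_irreducibleComponents_of_maximal _ hξmax) hxcl) w hw
    (fun w' hw' hsp _ => hopen _ hξmax hξx w'
      (by
        have h1 : f ((Scheme.IdealSheafData.vanishingIdeal
            (⟨closure {stalkPoint x ⟨𝔭, hp𝔭⟩}, isClosed_closure⟩ :
              TopologicalSpace.Closeds X)).subschemeι w') =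
            f ((Scheme.IdealSheafData.vanishingIdeal
            (⟨closure {stalkPoint x ⟨𝔭, hp𝔭⟩}, isClosed_closure⟩ :
              TopologicalSpace.Closeds X)).subschemeι w) := hw'
        rw [h1, hw])
      ((hsp.map (Scheme.Hom.continuous _)).trans (specializes_of_eq hw))) t ht
  have hIN : IsLocallyNoetherian (Scheme.IdealSheafData.vanishingIdeal
      (⟨closure {stalkPoint x ⟨𝔭, hp𝔭⟩}, isClosed_closure⟩ :
        TopologicalSpace.Closeds X)).subscheme :=
    LocallyOfFiniteType.isLocallyNoetherian (Scheme.IdealSheafData.vanishingIdeal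
      (⟨closure {stalkPoint x ⟨𝔭, hp𝔭⟩}, isClosed_closure⟩ :
        TopologicalSpace.Closeds X)).subschemeι
  have hdim1 : ringKrullDim ((Scheme.IdealSheafData.vanishingIdeal
      (⟨closure {stalkPoint x ⟨𝔭, hp𝔭⟩}, isClosed_closure⟩ :
        TopologicalSpace.Closeds X)).subscheme.presheaf.stalk w) =
      ringKrullDim (X.presheaf.stalk x ⧸ 𝔭) := by
    rw [ringKrullDim_stalk_eq_dim_between w,
      topologicalKrullDim_between_eq_of_isClosedEmbedding _
        (Scheme.Hom.isClosedEmbedding (Scheme.IdealSheafData.vanishingIdeal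
          (⟨closure {stalkPoint x ⟨𝔭, hp𝔭⟩}, isClosed_closure⟩ :
            TopologicalSpace.Closeds X)).subschemeι) (genericPoint _) w, hgen, hw]
    exact (ringKrullDim_stalk_quotient_eq x ⟨𝔭, hp𝔭⟩).symm
  rw [← hdim1]
  exact key

/-- **EGA IV 14.4.x.**  Let `f` be equidimensional at `x`.  Suppose that for every maximal point
`ξ ⤳ x` of `X`, the reduced closed subscheme `X'` on `closure {ξ}` is open over `Y` at every
point of its fibre over `f x` generizing `x`.  Then `O_{X,x}` is equidimensional. -/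
theorem isEquidim_stalk_of_isEquidimAt_of_isOpenAt (x : X) (h : EGA43.IsEquidimAt f x)
    (hopen : ∀ ξ : X, (∀ t : X, t ⤳ ξ → ξ ⤳ t) → ξ ⤳ x →
      ∀ w' : ↥(Scheme.IdealSheafData.vanishingIdeal
        (⟨closure {ξ}, isClosed_closure⟩ : TopologicalSpace.Closeds X)).subscheme,
      f ((Scheme.IdealSheafData.vanishingIdeal
        (⟨closure {ξ}, isClosed_closure⟩ : TopologicalSpace.Closeds X)).subschemeι w') = f x →
      (Scheme.IdealSheafData.vanishingIdeal
        (⟨closure {ξ}, isClosed_closure⟩ : TopologicalSpace.Closeds X)).subschemeι w' ⤳ x →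
      EGA43.IsOpenAt ((Scheme.IdealSheafData.vanishingIdeal
        (⟨closure {ξ}, isClosed_closure⟩ : TopologicalSpace.Closeds X)).subschemeι ≫ f).base w') :
    EGA4.IsEquidim (X.presheaf.stalk x) := by
  obtain ⟨e, hcomp⟩ := components_of_isEquidimAt f x h
  have hNX : IsLocallyNoetherian X := LocallyOfFiniteType.isLocallyNoetherian f
  obtain ⟨t, ht⟩ := exists_trdeg_residueField_eq_natCast f x
  have hall : ∀ 𝔭 ∈ minimalPrimes (X.presheaf.stalk x),
      ringKrullDim (X.presheaf.stalk x ⧸ 𝔭) + (t : WithBot ℕ∞) =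
        ringKrullDim (Y.presheaf.stalk (f.base x)) + (e : WithBot ℕ∞) := fun 𝔭 h𝔭 =>
    ringKrullDim_stalk_quotient_add_trdeg_eq_of_isOpenAt f x e
      (fun Xj hXj hx => (hcomp Xj hXj hx).2.2) hopen 𝔭 h𝔭 t ht
  obtain ⟨p₀, hp₀, hp₀dim⟩ := exists_mem_minimalPrimes_ringKrullDim_quotient_eq X x
  intro 𝔭 h𝔭
  apply withBot_enat_add_right_cancel t
  rw [hall 𝔭 h𝔭, ← hp₀dim, hall p₀.asIdeal hp₀]

end Groth.Agent.Lib.Helper55
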