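import Mathlib.RingTheory.NoetherNormalization
import Mathlib.RingTheory.KrullDimension.Polynomial
import Mathlib.RingTheory.KrullDimension.Field
import Mathlib.RingTheory.TensorProduct.MvPolynomial
import Mathlib.RingTheory.TensorProduct.Maps
import Mathlib.RingTheory.Flat.Stability
import Mathlib.RingTheory.Flat.Localization
import Mathlib.RingTheory.Ideal.MinimalPrime.Localization
import Mathlib.RingTheory.Localization.FractionRing
import Groth.Agent.Lib.Helper55.KrullDimIntegral

/-! Dimension of the irreducible components of `Spec (A ⊗[k] B)` (helper55). -/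

set_option autoImplicit false

namespace Groth.Agent.Lib.Helper55

open TensorProduct

section regular

variable {R P A : Type*} [CommRing R] [CommRing P] [CommRing A] [Algebra R P] [Algebra R A]
  [IsDomain R] [IsDomain A] [IsDomain P] [Module.Flat R P] [FaithfulSMul R A]

/-- If `A` is a domain containing the domain `R` and `P` is a flat `R`-algebra which is a domain,
then the nonzero elements of `P` are nonzerodivisors of `P ⊗[R] A`. -/
theorem tmul_one_mem_nonZeroDivisors (p : P) (hp : p ≠ 0) :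
    (p ⊗ₜ[R] (1 : A)) ∈ nonZeroDivisors (P ⊗[R] A) := by
  let E := FractionRing A
  have hinjE : Function.Injective (algebraMap R E) := by
    rw [IsScalarTower.algebraMap_eq R A E]
    exact (IsFractionRing.injective A E).comp (FaithfulSMul.algebraMap_injective R A)
  have : FaithfulSMul R E := (faithfulSMul_iff_algebraMap_injective R E).mpr hinjE
  -- `E` is flat over `R`
  have hflatE : Module.Flat R E := by
    let _ : Algebra (FractionRing R) E := FractionRing.liftAlgebra R E
    have h1 : Module.Flat (FractionRing R) E := inferInstance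
    exact Module.Flat.trans R (FractionRing R) E
  -- the inclusion `A → E`
  let incl : A →ₗ[R] E := (IsScalarTower.toAlgHom R A E).toLinearMap
  have hincl : Function.Injective incl := IsFractionRing.injective A E
  have h1 : Function.Injective (LinearMap.lTensor P incl) :=
    Module.Flat.lTensor_preserves_injective_linearMap incl hincl
  let μ : P →ₗ[R] P := LinearMap.mulLeft R p
  have hμ : Function.Injective μ := fun a b hab => mul_left_cancel₀ hp hab
  have h2 : Function.Injective (LinearMap.rTensor E μ) :=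
    Module.Flat.rTensor_preserves_injective_linearMap μ hμ
  rw [mem_nonZeroDivisors_iff_right]
  intro x hx
  have hmul : ∀ y : P ⊗[R] A, y * (p ⊗ₜ[R] (1 : A)) = LinearMap.rTensor A μ y := by
    intro y
    induction y using TensorProduct.induction_on with
    | zero => simp
    | tmul a b => simp [μ, mul_comm]
    | add a b ha hb => rw [add_mul, ha, hb, map_add]
  rw [hmul] at hx
  have hcomm : LinearMap.lTensor P incl (LinearMap.rTensor A μ x) =
      LinearMap.rTensor E μ (LinearMap.lTensor P incl x) := by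
    rw [← LinearMap.comp_apply, ← LinearMap.comp_apply, LinearMap.lTensor_comp_rTensor,
      LinearMap.rTensor_comp_lTensor]
  rw [hx, map_zero] at hcomm
  have h3 : LinearMap.lTensor P incl x = 0 := h2 (by rw [← hcomm, map_zero])
  exact h1 (by rw [h3, map_zero])

end regular

section main

universe u v w

variable (k : Type u) [Field k] (A : Type v) [CommRing A] [Algebra k A] [Algebra.FiniteType k A]
  [IsDomain A] (B : Type w) [CommRing B] [Algebra k B] [IsDomain B] [IsNoetherianRing B]

/-- Minimal primes of a ring correspond under ring isomorphisms. -/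
theorem comap_ringEquiv_mem_minimalPrimes {R S : Type*} [CommRing R] [CommRing S] (e : R ≃+* S)
    (𝔮 : Ideal S) (h𝔮 : 𝔮 ∈ minimalPrimes S) : 𝔮.comap e.toRingHom ∈ minimalPrimes R := by
  have h := Ideal.minimalPrimes_comap_of_surjective (f := e.toRingHom) e.surjective
    (I := ⊥) (J := 𝔮) h𝔮
  have hker : (⊥ : Ideal S).comap e.toRingHom = ⊥ := by
    rw [← RingHom.ker_eq_comap_bot]
    exact (RingHom.injective_iff_ker_eq_bot _).mp e.injective
  rw [hker] at h
  exact h

/-- If `C` is a finite `P`-algebra on which the nonzero elements of the domain `P` are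
nonzerodivisors, then every irreducible component of `Spec C` has the dimension of `P`. -/
theorem ringKrullDim_quotient_eq_of_finite_of_nonZeroDivisors {P C : Type*} [CommRing P]
    [CommRing C] [Algebra P C] [Module.Finite P C]
    (hreg : ∀ x : P, x ≠ 0 → algebraMap P C x ∈ nonZeroDivisors C)
    (𝔮' : Ideal C) (h𝔮' : 𝔮' ∈ minimalPrimes C) :
    ringKrullDim (C ⧸ 𝔮') = ringKrullDim P := by
  have hprime : 𝔮'.IsPrime := h𝔮'.1.1
  have hcomap : 𝔮'.comap (algebraMap P C) = ⊥ := by
    rw [_root_.eq_bot_iff]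
    intro x hx
    by_contra hx0
    have hx0' : x ≠ 0 := hx0
    exact Set.disjoint_left.mp (Ideal.disjoint_nonZeroDivisors_of_mem_minimalPrimes h𝔮') hx
      (hreg x hx0')
  have hker : RingHom.ker ((Ideal.Quotient.mk 𝔮').comp (algebraMap P C)) = ⊥ := by
    rw [← RingHom.comap_ker, Ideal.mk_ker]
    exact hcomap
  have hinj : Function.Injective ((Ideal.Quotient.mk 𝔮').comp (algebraMap P C)) :=
    (RingHom.injective_iff_ker_eq_bot _).mpr hker
  have hintC : (algebraMap P C).IsIntegral := (algebraMap_isIntegral_iff).mpr inferInstance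
  have hint : ((Ideal.Quotient.mk 𝔮').comp (algebraMap P C)).IsIntegral :=
    hintC.trans _ _ (RingHom.isIntegral_of_surjective _ Ideal.Quotient.mk_surjective)
  exact ringKrullDim_eq_of_ringHom_isIntegral_of_injective _ hint hinj

omit [Algebra.FiniteType k A] [IsNoetherianRing B] in
/-- Auxiliary form: `A` finite and torsion-free over a subring `R0`. -/
theorem ringKrullDim_quotient_tensor_aux {R0 : Type*} [CommRing R0] [IsDomain R0] [Algebra k R0]
    [Algebra R0 A] [IsScalarTower k R0 A] [Module.Finite R0 A] [FaithfulSMul R0 A]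
    [IsDomain (R0 ⊗[k] B)] (𝔮' : Ideal ((R0 ⊗[k] B) ⊗[R0] A))
    (h𝔮' : 𝔮' ∈ minimalPrimes ((R0 ⊗[k] B) ⊗[R0] A)) :
    ringKrullDim (((R0 ⊗[k] B) ⊗[R0] A) ⧸ 𝔮') = ringKrullDim (R0 ⊗[k] B) := by
  refine ringKrullDim_quotient_eq_of_finite_of_nonZeroDivisors ?_ 𝔮' h𝔮'
  intro x hx
  have : algebraMap (R0 ⊗[k] B) ((R0 ⊗[k] B) ⊗[R0] A) x = x ⊗ₜ[R0] (1 : A) := by
    rw [Algebra.TensorProduct.algebraMap_apply]
    rfl
  rw [this]
  exact tmul_one_mem_nonZeroDivisors x hx

/-- Quotients by corresponding ideals under a ring isomorphism have the same dimension. -/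
theorem ringKrullDim_quotient_comap_ringEquiv {R S : Type*} [CommRing R] [CommRing S]
    (e : R ≃+* S) (𝔮 : Ideal S) :
    ringKrullDim (R ⧸ 𝔮.comap e.toRingHom) = ringKrullDim (S ⧸ 𝔮) :=
  ringKrullDim_eq_of_ringEquiv (Ideal.quotientEquiv (𝔮.comap e.toRingHom) 𝔮 e
    (Ideal.map_comap_of_surjective e.toRingHom e.surjective 𝔮).symm)

/-- The canonical isomorphism `(R0 ⊗[k] B) ⊗[R0] A ≃ A ⊗[k] B`. -/
noncomputable def tensorTensorEquiv (R0 : Type*) [CommRing R0] [Algebra k R0]
    [Algebra R0 A] [IsScalarTower k R0 A] :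
    ((R0 ⊗[k] B) ⊗[R0] A) ≃+* A ⊗[k] B :=
  ((Algebra.TensorProduct.comm R0 (R0 ⊗[k] B) A).toRingEquiv).trans
    (Algebra.TensorProduct.cancelBaseChange k R0 R0 A B).toRingEquiv

/-- **Dimension of the components of a tensor product**: for a domain `A` of finite type over a
field `k` and a Noetherian domain `B` over `k`, every irreducible component of
`Spec (A ⊗[k] B)` has dimension `dim A + dim B`. -/
theorem ringKrullDim_quotient_tensorProduct_of_mem_minimalPrimes
    (𝔮 : Ideal (A ⊗[k] B)) (h𝔮 : 𝔮 ∈ minimalPrimes (A ⊗[k] B)) :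
    ringKrullDim ((A ⊗[k] B) ⧸ 𝔮) = ringKrullDim A + ringKrullDim B := by
  obtain ⟨n, g, hg, hfin⟩ := exists_finite_inj_algHom_of_fg k A
  let _ : Algebra (MvPolynomial (Fin n) k) A := g.toRingHom.toAlgebra
  have htower : IsScalarTower k (MvPolynomial (Fin n) k) A :=
    IsScalarTower.of_algebraMap_eq (fun r => (g.commutes r).symm)
  have hfinA : Module.Finite (MvPolynomial (Fin n) k) A := hfin
  have hfaith : FaithfulSMul (MvPolynomial (Fin n) k) A :=
    (faithfulSMul_iff_algebraMap_injective (MvPolynomial (Fin n) k) A).mpr hg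
  let eP : (MvPolynomial (Fin n) k ⊗[k] B) ≃+* MvPolynomial (Fin n) B :=
    ((Algebra.TensorProduct.comm k (MvPolynomial (Fin n) k) B).toRingEquiv).trans
      (MvPolynomial.scalarRTensorAlgEquiv (R := k) (N := B) (σ := Fin n)).toRingEquiv
  have hdomP : IsDomain (MvPolynomial (Fin n) k ⊗[k] B) := eP.toMulEquiv.isDomain
  have hdimP : ringKrullDim (MvPolynomial (Fin n) k ⊗[k] B) = ringKrullDim B + n := by
    rw [ringKrullDim_eq_of_ringEquiv eP, MvPolynomial.ringKrullDim_of_isNoetherianRing]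
    simp
  have hdimA : ringKrullDim A = n := by
    have hint : Algebra.IsIntegral (MvPolynomial (Fin n) k) A := inferInstance
    rw [ringKrullDim_eq_of_isIntegral_of_injective (MvPolynomial (Fin n) k) A hg,
      MvPolynomial.ringKrullDim_of_isNoetherianRing, ringKrullDim_eq_zero_of_field]
    simp
  have h𝔮' := comap_ringEquiv_mem_minimalPrimes
    (R := (MvPolynomial (Fin n) k ⊗[k] B) ⊗[MvPolynomial (Fin n) k] A) (S := A ⊗[k] B)
    (tensorTensorEquiv k A B (MvPolynomial (Fin n) k)) 𝔮 h𝔮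
  rw [← ringKrullDim_quotient_comap_ringEquiv (tensorTensorEquiv k A B (MvPolynomial (Fin n) k)) 𝔮,
    ringKrullDim_quotient_tensor_aux k A B _ h𝔮', hdimP, hdimA, add_comm]

end main

section general

universe u v w

/-- Quotients by corresponding ideals under a surjective ring homomorphism. -/
theorem ringKrullDim_quotient_map_of_surjective {R S : Type*} [CommRing R] [CommRing S]
    (f : R →+* S) (hf : Function.Surjective f) (I : Ideal R) (hI : RingHom.ker f ≤ I) :
    ringKrullDim (S ⧸ I.map f) = ringKrullDim (R ⧸ I) := by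
  let g : R →+* S ⧸ I.map f := (Ideal.Quotient.mk (I.map f)).comp f
  have hg : Function.Surjective g := Ideal.Quotient.mk_surjective.comp hf
  have hker : RingHom.ker g = I := by
    rw [← RingHom.comap_ker, Ideal.mk_ker, Ideal.comap_map_of_surjective f hf,
      ← RingHom.ker_eq_comap_bot]
    exact sup_eq_left.mpr hI
  exact (ringKrullDim_eq_of_ringEquiv
    ((Ideal.quotEquivOfEq hker.symm).trans (RingHom.quotientKerEquivOfSurjective hg))).symm

variable (k : Type u) [Field k] (A : Type v) [CommRing A] [Algebra k A] [Algebra.FiniteType k A]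
  (B : Type w) [CommRing B] [Algebra k B] [IsNoetherianRing B]

/-- For primes `𝔭 ⊆ A`, `𝔭' ⊆ B` (`A` of finite type over the field `k`, `B` Noetherian), every
irreducible component of `V(𝔭) ×ₖ V(𝔭')` has dimension `dim A/𝔭 + dim B/𝔭'`. -/
theorem ringKrullDim_quotient_of_mem_minimalPrimes_sup (𝔭 : Ideal A) [𝔭.IsPrime] (𝔭' : Ideal B)
    [𝔭'.IsPrime] (𝔔 : Ideal (A ⊗[k] B))
    (h𝔔 : 𝔔 ∈ (𝔭.map (Algebra.TensorProduct.includeLeft : A →ₐ[k] A ⊗[k] B) ⊔
      𝔭'.map (Algebra.TensorProduct.includeRight : B →ₐ[k] A ⊗[k] B)).minimalPrimes) :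
    ringKrullDim ((A ⊗[k] B) ⧸ 𝔔) = ringKrullDim (A ⧸ 𝔭) + ringKrullDim (B ⧸ 𝔭') := by
  let φ : A ⊗[k] B →ₐ[k] (A ⧸ 𝔭) ⊗[k] (B ⧸ 𝔭') :=
    Algebra.TensorProduct.map (Ideal.Quotient.mkₐ k 𝔭) (Ideal.Quotient.mkₐ k 𝔭')
  have hsurj : Function.Surjective φ :=
    Algebra.TensorProduct.map_surjective _ _ (Ideal.Quotient.mkₐ_surjective k 𝔭)
      (Ideal.Quotient.mkₐ_surjective k 𝔭')
  have hker : RingHom.ker φ = 𝔭.map (Algebra.TensorProduct.includeLeft : A →ₐ[k] A ⊗[k] B) ⊔
      𝔭'.map (Algebra.TensorProduct.includeRight : B →ₐ[k] A ⊗[k] B) := by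
    have := Algebra.TensorProduct.map_ker (Ideal.Quotient.mkₐ k 𝔭) (Ideal.Quotient.mkₐ k 𝔭')
      (Ideal.Quotient.mkₐ_surjective k 𝔭) (Ideal.Quotient.mkₐ_surjective k 𝔭')
    have hk1 : RingHom.ker (Ideal.Quotient.mkₐ k 𝔭) = 𝔭 := by
      ext x
      simp [RingHom.mem_ker, Ideal.Quotient.eq_zero_iff_mem]
    have hk2 : RingHom.ker (Ideal.Quotient.mkₐ k 𝔭') = 𝔭' := by
      ext x
      simp [RingHom.mem_ker, Ideal.Quotient.eq_zero_iff_mem]
    rw [hk1, hk2] at this
    exact this
  have hft : Algebra.FiniteType k (A ⧸ 𝔭) :=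
    Algebra.FiniteType.of_surjective (Ideal.Quotient.mkₐ k 𝔭) (Ideal.Quotient.mkₐ_surjective k 𝔭)
  have hmin : 𝔔.map φ.toRingHom ∈ minimalPrimes ((A ⧸ 𝔭) ⊗[k] (B ⧸ 𝔭')) := by
    have h1 := Ideal.minimalPrimes_map_of_surjective (f := φ.toRingHom) hsurj ⊥
    rw [Ideal.map_bot, bot_sup_eq] at h1
    change _ = _ '' (RingHom.ker φ).minimalPrimes at h1
    rw [hker] at h1
    change 𝔔.map φ.toRingHom ∈ (⊥ : Ideal ((A ⧸ 𝔭) ⊗[k] (B ⧸ 𝔭'))).minimalPrimes
    rw [h1]
    exact ⟨𝔔, h𝔔, rfl⟩
  have hle : RingHom.ker φ.toRingHom ≤ 𝔔 := by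
    change RingHom.ker φ ≤ 𝔔
    rw [hker]
    exact h𝔔.1.2
  rw [← ringKrullDim_quotient_map_of_surjective φ.toRingHom hsurj 𝔔 hle]
  exact ringKrullDim_quotient_tensorProduct_of_mem_minimalPrimes k (A ⧸ 𝔭) (B ⧸ 𝔭') _ hmin

end general

end Groth.Agent.Lib.Helper55
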