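import Groth.Agent.Lib.Helper55.LocalDim
import Groth.Agent.Lib.Helper55.LocalDimTop
import Groth.Agent.Lib.Helper55.TensorDim
import Groth.Agent.Lib.Helper55.PullbackChart
import Groth.Agent.Lib.Helper55.DimTrdeg
import Mathlib.RingTheory.FiniteStability

/-! Local dimension of a product of schemes locally of finite type over a field (helper55). -/

set_option autoImplicit false

universe u

namespace Groth.Agent.Lib.Helper55

open AlgebraicGeometry CategoryTheory CategoryTheory.Limits TensorProduct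

section algebra

variable (k A B : Type u) [Field k] [CommRing A] [CommRing B] [Algebra k A] [Algebra k B]
  [Algebra.FiniteType k A] [Algebra.FiniteType k B]

include k in
omit [CommRing B] [Algebra k B] [Algebra.FiniteType k B] in
/-- The local dimension of `Spec A` (`A` of finite type over a field) at a prime is a natural
number. -/
theorem exists_localDim_primeSpectrum_eq_natCast (𝔭 : PrimeSpectrum A) :
    ∃ n : ℕ, FlatMor.localDim (PrimeSpectrum A) 𝔭 = n := by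
  rw [localDim_primeSpectrum_eq k A 𝔭]
  have : 𝔭.asIdeal.IsPrime := 𝔭.2
  obtain ⟨𝔮, h𝔮min, -, hdim⟩ := exists_minimalPrimes_ringKrullDim_quotient_eq k A 𝔭.asIdeal
  rw [← hdim]
  have h𝔮 : 𝔮.IsPrime := h𝔮min.1.1
  have hdom : IsDomain (A ⧸ 𝔮) := (Ideal.Quotient.isDomain_iff_prime _).mpr h𝔮
  have hft : Algebra.FiniteType k (A ⧸ 𝔮) :=
    Algebra.FiniteType.of_surjective (Ideal.Quotient.mkₐ k 𝔮) (Ideal.Quotient.mkₐ_surjective k 𝔮)
  obtain ⟨s, hs, -⟩ := exists_ringKrullDim_eq_and_trdeg_eq k (A ⧸ 𝔮)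
  exact ⟨s, hs⟩

/-- **Local dimension of a product, affine case.** -/
theorem localDim_tensorProduct_eq (𝔷 : PrimeSpectrum (A ⊗[k] B)) :
    FlatMor.localDim (PrimeSpectrum (A ⊗[k] B)) 𝔷 =
      FlatMor.localDim (PrimeSpectrum A)
          (PrimeSpectrum.comap (Algebra.TensorProduct.includeLeftRingHom : A →+* A ⊗[k] B) 𝔷) +
        FlatMor.localDim (PrimeSpectrum B)
          (PrimeSpectrum.comap
            ((Algebra.TensorProduct.includeRight : B →ₐ[k] A ⊗[k] B) : B →+* A ⊗[k] B) 𝔷) := by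
  have hftC : Algebra.FiniteType k (A ⊗[k] B) :=
    Algebra.FiniteType.trans (S := A) inferInstance inferInstance
  have hnB : IsNoetherianRing B := Algebra.FiniteType.isNoetherianRing k B
  rw [localDim_primeSpectrum_eq k (A ⊗[k] B) 𝔷, localDim_primeSpectrum_eq k A,
    localDim_primeSpectrum_eq k B]
  set 𝔵 : Ideal A := 𝔷.asIdeal.comap
    (Algebra.TensorProduct.includeLeft : A →ₐ[k] A ⊗[k] B) with h𝔵
  set 𝔶 : Ideal B := 𝔷.asIdeal.comap
    (Algebra.TensorProduct.includeRight : B →ₐ[k] A ⊗[k] B) with h𝔶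
  have h𝔷p : 𝔷.asIdeal.IsPrime := 𝔷.2
  have h𝔵p : 𝔵.IsPrime := Ideal.comap_isPrime _ _
  have h𝔶p : 𝔶.IsPrime := Ideal.comap_isPrime _ _
  change ringKrullDim ((A ⊗[k] B) ⧸ 𝔷.asIdeal) + (𝔷.asIdeal.height : WithBot ℕ∞) =
    (ringKrullDim (A ⧸ 𝔵) + (𝔵.height : WithBot ℕ∞)) +
      (ringKrullDim (B ⧸ 𝔶) + (𝔶.height : WithBot ℕ∞))
  apply le_antisymm
  · obtain ⟨𝔔, h𝔔min, h𝔔le, h𝔔dim⟩ :=
      exists_minimalPrimes_ringKrullDim_quotient_eq k (A ⊗[k] B) 𝔷.asIdeal
    rw [← h𝔔dim]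
    have h𝔔p : 𝔔.IsPrime := h𝔔min.1.1
    set 𝔭 : Ideal A := 𝔔.comap (Algebra.TensorProduct.includeLeft : A →ₐ[k] A ⊗[k] B) with h𝔭
    set 𝔭' : Ideal B := 𝔔.comap (Algebra.TensorProduct.includeRight : B →ₐ[k] A ⊗[k] B)
      with h𝔭'
    have h𝔭p : 𝔭.IsPrime := Ideal.comap_isPrime _ _
    have h𝔭'p : 𝔭'.IsPrime := Ideal.comap_isPrime _ _
    have hmin : 𝔔 ∈ (𝔭.map (Algebra.TensorProduct.includeLeft : A →ₐ[k] A ⊗[k] B) ⊔
        𝔭'.map (Algebra.TensorProduct.includeRight : B →ₐ[k] A ⊗[k] B)).minimalPrimes := by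
      refine ⟨⟨h𝔔p, sup_le (Ideal.map_comap_le) (Ideal.map_comap_le)⟩, ?_⟩
      intro J hJ hJ𝔔
      exact h𝔔min.2 ⟨hJ.1, bot_le⟩ hJ𝔔
    rw [ringKrullDim_quotient_of_mem_minimalPrimes_sup k A B 𝔭 𝔭' 𝔔 hmin]
    exact add_le_add
      (ringKrullDim_quotient_le_add_height k A 𝔭 𝔵 (Ideal.comap_mono h𝔔le))
      (ringKrullDim_quotient_le_add_height k B 𝔭' 𝔶 (Ideal.comap_mono h𝔔le))
  · obtain ⟨𝔭, h𝔭min, h𝔭le, h𝔭dim⟩ := exists_minimalPrimes_ringKrullDim_quotient_eq k A 𝔵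
    obtain ⟨𝔭', h𝔭'min, h𝔭'le, h𝔭'dim⟩ := exists_minimalPrimes_ringKrullDim_quotient_eq k B 𝔶
    rw [← h𝔭dim, ← h𝔭'dim]
    have h𝔭p : 𝔭.IsPrime := h𝔭min.1.1
    have h𝔭'p : 𝔭'.IsPrime := h𝔭'min.1.1
    have hle : 𝔭.map (Algebra.TensorProduct.includeLeft : A →ₐ[k] A ⊗[k] B) ⊔
        𝔭'.map (Algebra.TensorProduct.includeRight : B →ₐ[k] A ⊗[k] B) ≤ 𝔷.asIdeal :=
      sup_le (Ideal.map_le_iff_le_comap.mpr h𝔭le) (Ideal.map_le_iff_le_comap.mpr h𝔭'le)
    obtain ⟨𝔔, h𝔔min, h𝔔le⟩ := Ideal.exists_minimalPrimes_le hle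
    have h𝔔p : 𝔔.IsPrime := h𝔔min.1.1
    rw [← ringKrullDim_quotient_of_mem_minimalPrimes_sup k A B 𝔭 𝔭' 𝔔 h𝔔min]
    exact ringKrullDim_quotient_le_add_height k (A ⊗[k] B) 𝔔 𝔷.asIdeal h𝔔le

end algebra

section scheme

variable {k : Type u} [Field k] {X Y : Scheme.{u}} (f : X ⟶ Spec (CommRingCat.of k))
  (g : Y ⟶ Spec (CommRingCat.of k)) [LocallyOfFiniteType f] [LocallyOfFiniteType g]

include f in
omit [LocallyOfFiniteType g] in
/-- The local dimension of a scheme locally of finite type over a field is a natural number. -/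
theorem exists_localDim_eq_natCast (x : X) : ∃ n : ℕ, FlatMor.localDim ↥X x = n := by
  obtain ⟨U, hU, hxU, -⟩ := exists_isAffineOpen_mem_and_subset (x := x) (U := ⊤) trivial
  let φA : CommRingCat.of k ⟶ Γ(X, U) := Spec.preimage (hU.fromSpec ≫ f)
  let _ : Algebra k Γ(X, U) := φA.hom.toAlgebra
  have ha : hU.fromSpec ≫ f = Spec.map (CommRingCat.ofHom (algebraMap k Γ(X, U))) :=
    (Spec.map_preimage _).symm
  have hftA : Algebra.FiniteType k Γ(X, U) := by
    have h1 : LocallyOfFiniteType (hU.fromSpec ≫ f) := inferInstance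
    rw [ha, HasRingHomProperty.Spec_iff (P := @LocallyOfFiniteType)] at h1
    exact h1
  have h1 := localDim_eq_of_isOpenEmbedding hU.fromSpec hU.fromSpec.isOpenEmbedding
    (hU.primeIdealOf ⟨x, hxU⟩)
  rw [hU.fromSpec_primeIdealOf ⟨x, hxU⟩] at h1
  rw [← h1]
  exact exists_localDim_primeSpectrum_eq_natCast k Γ(X, U) _

/-- **Local dimension of a product of schemes locally of finite type over a field.** -/
theorem localDim_pullback_eq_add (z : ↥(pullback f g)) :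
    FlatMor.localDim ↥(pullback f g) z =
      FlatMor.localDim ↥X (pullback.fst f g z) + FlatMor.localDim ↥Y (pullback.snd f g z) := by
  obtain ⟨U, hU, hxU, -⟩ :=
    exists_isAffineOpen_mem_and_subset (x := pullback.fst f g z) (U := ⊤) trivial
  obtain ⟨V, hV, hyV, -⟩ :=
    exists_isAffineOpen_mem_and_subset (x := pullback.snd f g z) (U := ⊤) trivial
  let φA : CommRingCat.of k ⟶ Γ(X, U) := Spec.preimage (hU.fromSpec ≫ f)
  let φB : CommRingCat.of k ⟶ Γ(Y, V) := Spec.preimage (hV.fromSpec ≫ g)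
  let _ : Algebra k Γ(X, U) := φA.hom.toAlgebra
  let _ : Algebra k Γ(Y, V) := φB.hom.toAlgebra
  have ha : hU.fromSpec ≫ f = Spec.map (CommRingCat.ofHom (algebraMap k Γ(X, U))) :=
    (Spec.map_preimage _).symm
  have hb : hV.fromSpec ≫ g = Spec.map (CommRingCat.ofHom (algebraMap k Γ(Y, V))) :=
    (Spec.map_preimage _).symm
  have hftA : Algebra.FiniteType k Γ(X, U) := by
    have h1 : LocallyOfFiniteType (hU.fromSpec ≫ f) := inferInstance
    rw [ha, HasRingHomProperty.Spec_iff (P := @LocallyOfFiniteType)] at h1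
    exact h1
  have hftB : Algebra.FiniteType k Γ(Y, V) := by
    have h1 : LocallyOfFiniteType (hV.fromSpec ≫ g) := inferInstance
    rw [hb, HasRingHomProperty.Spec_iff (P := @LocallyOfFiniteType)] at h1
    exact h1
  set c := pullbackChart f g hU.fromSpec hV.fromSpec ha hb with hc
  have hzc : z ∈ Set.range c := by
    rw [hc, range_pullbackChart, hU.range_fromSpec, hV.range_fromSpec]
    exact ⟨hxU, hyV⟩
  obtain ⟨𝔷, rfl⟩ := hzc
  have hfst : pullback.fst f g (c 𝔷) =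
      hU.fromSpec (Spec.map (CommRingCat.ofHom (Algebra.TensorProduct.includeLeftRingHom :
        Γ(X, U) →+* Γ(X, U) ⊗[k] Γ(Y, V))) 𝔷) := by
    have := congr(($(pullbackChart_fst f g hU.fromSpec hV.fromSpec ha hb)) 𝔷)
    exact this
  have hsnd : pullback.snd f g (c 𝔷) =
      hV.fromSpec (Spec.map (CommRingCat.ofHom
        ((Algebra.TensorProduct.includeRight : Γ(Y, V) →ₐ[k] Γ(X, U) ⊗[k] Γ(Y, V)) :
          Γ(Y, V) →+* Γ(X, U) ⊗[k] Γ(Y, V))) 𝔷) := by
    have := congr(($(pullbackChart_snd f g hU.fromSpec hV.fromSpec ha hb)) 𝔷)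
    exact this
  rw [hfst, hsnd, ← localDim_eq_of_isOpenEmbedding c c.isOpenEmbedding 𝔷,
    ← localDim_eq_of_isOpenEmbedding hU.fromSpec hU.fromSpec.isOpenEmbedding,
    ← localDim_eq_of_isOpenEmbedding hV.fromSpec hV.fromSpec.isOpenEmbedding]
  exact localDim_tensorProduct_eq k Γ(X, U) Γ(Y, V) 𝔷

end scheme

end Groth.Agent.Lib.Helper55
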