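import Groth.Agent.Lib.Helper55.ProductDim
import Groth.Agent.Lib.Helper55.DimSup
import Mathlib.AlgebraicGeometry.Morphisms.UniversallyOpen
import Mathlib.AlgebraicGeometry.Morphisms.Flat

/-! Base change of a scheme locally of finite type over a field to a field extension: points and
dimensions (helper55). -/

set_option autoImplicit false

universe u

namespace Groth.Agent.Lib.Helper55

open AlgebraicGeometry CategoryTheory CategoryTheory.Limits

section

variable {k : Type u} [Field k] (K : Type u) [Field K] [Algebra k K] {X : Scheme.{u}}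
  (f : X ⟶ Spec (CommRingCat.of k))

theorem surjective_fst_baseChange :
    Function.Surjective (pullback.fst f (Spec.map (CommRingCat.ofHom (algebraMap k K)))) := by
  rw [← Set.range_eq_univ, Scheme.Pullback.range_fst]
  have : Subsingleton ↥(Spec (CommRingCat.of k)) :=
    inferInstanceAs (Subsingleton (PrimeSpectrum k))
  have hne : Nonempty ↥(Spec (CommRingCat.of K)) :=
    inferInstanceAs (Nonempty (PrimeSpectrum K))
  obtain ⟨y⟩ := hne
  ext x
  simp only [Set.mem_preimage, Set.mem_range, Set.mem_univ, iff_true]
  exact ⟨y, Subsingleton.elim _ _⟩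

theorem generalizingMap_fst_baseChange :
    GeneralizingMap (pullback.fst f (Spec.map (CommRingCat.ofHom (algebraMap k K)))) := by
  have : Flat (Spec.map (CommRingCat.ofHom (algebraMap k K))) := by
    rw [HasRingHomProperty.Spec_iff (P := @Flat)]
    exact RingHom.flat_algebraMap_iff.mpr inferInstance
  exact Flat.generalizingMap _

variable [LocallyOfFiniteType f]

/-- The closure of a maximal point of `X ⊗ₖ K` has the dimension of the closure of its image. -/
theorem topologicalKrullDim_closure_baseChange_of_maximal
    (ω : ↥(pullback f (Spec.map (CommRingCat.ofHom (algebraMap k K)))))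
    (hω : ∀ ω' : ↥(pullback f (Spec.map (CommRingCat.ofHom (algebraMap k K)))), ω' ⤳ ω → ω ⤳ ω') :
    topologicalKrullDim
        ↥(closure ({ω} : Set ↥(pullback f (Spec.map (CommRingCat.ofHom (algebraMap k K)))))) =
      topologicalKrullDim ↥(closure ({pullback.fst f
        (Spec.map (CommRingCat.ofHom (algebraMap k K))) ω} : Set X)) :=
  topologicalKrullDim_closure_of_maximal_point_baseChange f K _ ω specializes_rfl
    (fun ω' _ h => (h.antisymm (hω ω' h)).eq)

/-- For every point `ξ` of `X` there is a point `ω` of `X ⊗ₖ K`, maximal in the inverse image of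
`closure ξ`, lying over `ξ`, with closure of the same dimension. -/
theorem exists_point_baseChange (ξ : X) :
    ∃ ω : ↥(pullback f (Spec.map (CommRingCat.ofHom (algebraMap k K)))),
      pullback.fst f (Spec.map (CommRingCat.ofHom (algebraMap k K))) ω = ξ ∧
      (∀ ω' : ↥(pullback f (Spec.map (CommRingCat.ofHom (algebraMap k K)))),
        ξ ⤳ pullback.fst f (Spec.map (CommRingCat.ofHom (algebraMap k K))) ω' → ω' ⤳ ω → ω ⤳ ω') ∧
      topologicalKrullDim
        ↥(closure ({ω} : Set ↥(pullback f (Spec.map (CommRingCat.ofHom (algebraMap k K)))))) =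
      topologicalKrullDim ↥(closure ({ξ} : Set X)) := by
  obtain ⟨t, ht⟩ := surjective_fst_baseChange K f ξ
  have hT : IsClosed (pullback.fst f (Spec.map (CommRingCat.ofHom (algebraMap k K))) ⁻¹'
      closure ({ξ} : Set X)) :=
    isClosed_closure.preimage (pullback.fst f _).continuous
  have htT : t ∈ pullback.fst f (Spec.map (CommRingCat.ofHom (algebraMap k K))) ⁻¹'
      closure ({ξ} : Set X) := by
    change pullback.fst f _ t ∈ closure ({ξ} : Set X)
    rw [ht]
    exact subset_closure rfl
  obtain ⟨ω, hωT, -, hmax⟩ := exists_maximal_point_specializes _ hT t htT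
  have hmax' : ∀ ω' : ↥(pullback f (Spec.map (CommRingCat.ofHom (algebraMap k K)))),
      ξ ⤳ pullback.fst f (Spec.map (CommRingCat.ofHom (algebraMap k K))) ω' → ω' ⤳ ω → ω ⤳ ω' :=
    fun ω' h1 h2 => hmax ω' (specializes_iff_mem_closure.mp h1) h2
  have hξω : ξ ⤳ pullback.fst f (Spec.map (CommRingCat.ofHom (algebraMap k K))) ω :=
    specializes_iff_mem_closure.mpr hωT
  refine ⟨ω, ?_, hmax', ?_⟩
  · -- lift the generization `ξ` of `π ω`
    obtain ⟨ω'', h1, h2⟩ := generalizingMap_fst_baseChange K f hξω
    have h3 : ω ⤳ ω'' := hmax' ω'' (by rw [h2]) h1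
    rw [← h2, (h1.antisymm h3).eq]
  · exact topologicalKrullDim_closure_of_maximal_point_baseChange f K ξ ω hξω
      (fun ω' h1 h2 => (h2.antisymm (hmax' ω' h1 h2)).eq)

end

end Groth.Agent.Lib.Helper55
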