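import Groth.Agent.Lib.Helper55.LocalDimProduct
import Mathlib.RingTheory.Ideal.GoingDown

/-! The local dimension of a scheme locally of finite type over a field is invariant under
extension of the base field (helper55). -/

set_option autoImplicit false

universe u

namespace Groth.Agent.Lib.Helper55

open AlgebraicGeometry CategoryTheory CategoryTheory.Limits TensorProduct

section algebra

variable (k A K : Type u) [Field k] [CommRing A] [Algebra k A] [Algebra.FiniteType k A]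
  [Field K] [Algebra k K]

/-- For a minimal prime `Q` of `A ⊗[k] K` (`K/k` a field extension),
`dim (A ⊗ K)/Q = dim A/(Q ∩ A)`. -/
theorem ringKrullDim_quotient_tensor_field_of_mem_minimalPrimes (Q : Ideal (A ⊗[k] K))
    (hQ : Q ∈ minimalPrimes (A ⊗[k] K)) :
    ringKrullDim ((A ⊗[k] K) ⧸ Q) =
      ringKrullDim (A ⧸ Q.comap (Algebra.TensorProduct.includeLeft : A →ₐ[k] A ⊗[k] K)) := by
  have hQp : Q.IsPrime := hQ.1.1
  set 𝔮₀ : Ideal A := Q.comap (Algebra.TensorProduct.includeLeft : A →ₐ[k] A ⊗[k] K) with h𝔮₀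
  have h𝔮₀p : 𝔮₀.IsPrime := Ideal.comap_isPrime _ _
  have hbot : (⊥ : Ideal K).IsPrime := Ideal.isPrime_bot
  have h2 := ringKrullDim_quotient_of_mem_minimalPrimes_sup k A K 𝔮₀ ⊥ Q ?_
  · rw [h2]
    have h3 : ringKrullDim (K ⧸ (⊥ : Ideal K)) = 0 := by
      rw [ringKrullDim_eq_of_ringEquiv (RingEquiv.quotientBot K)]
      exact ringKrullDim_eq_zero_of_field K
    rw [h3, add_zero]
  · refine ⟨⟨hQ.1.1, ?_⟩, fun J hJ hJQ => hQ.2 ⟨hJ.1, bot_le⟩ hJQ⟩
    rw [Ideal.map_bot, sup_bot_eq, Ideal.map_le_iff_le_comap]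

attribute [local instance] Algebra.TensorProduct.rightAlgebra in
/-- `A ⊗[k] K` is of finite type over `K` (acting on the right factor). -/
theorem finiteType_tensor_right : Algebra.FiniteType K (A ⊗[k] K) := by
  have h : Algebra.FiniteType K (K ⊗[k] A) := inferInstance
  let e : (K ⊗[k] A) ≃ₐ[K] (A ⊗[k] K) :=
    { (Algebra.TensorProduct.comm k K A).toRingEquiv with
      commutes' := fun c => by
        change (Algebra.TensorProduct.comm k K A) (c ⊗ₜ[k] (1 : A)) = (1 : A) ⊗ₜ[k] c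
        exact Algebra.TensorProduct.comm_tmul _ _ _ }
  exact h.equiv e

attribute [local instance] Algebra.TensorProduct.rightAlgebra in
/-- **Local dimension is invariant under extension of the base field, affine case.** -/
theorem localDim_tensor_field_eq (𝔓 : PrimeSpectrum (A ⊗[k] K)) :
    FlatMor.localDim (PrimeSpectrum (A ⊗[k] K)) 𝔓 =
      FlatMor.localDim (PrimeSpectrum A)
        (PrimeSpectrum.comap (Algebra.TensorProduct.includeLeftRingHom : A →+* A ⊗[k] K) 𝔓) := by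
  have hftC : Algebra.FiniteType K (A ⊗[k] K) := finiteType_tensor_right k A K
  rw [localDim_primeSpectrum_eq K (A ⊗[k] K) 𝔓, localDim_primeSpectrum_eq k A]
  set 𝔭 : Ideal A := 𝔓.asIdeal.comap (Algebra.TensorProduct.includeLeft : A →ₐ[k] A ⊗[k] K)
    with h𝔭
  have h𝔓p : 𝔓.asIdeal.IsPrime := 𝔓.2
  have h𝔭p : 𝔭.IsPrime := Ideal.comap_isPrime _ _
  change ringKrullDim ((A ⊗[k] K) ⧸ 𝔓.asIdeal) + (𝔓.asIdeal.height : WithBot ℕ∞) =
    ringKrullDim (A ⧸ 𝔭) + (𝔭.height : WithBot ℕ∞)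
  apply le_antisymm
  · obtain ⟨𝔔, h𝔔min, h𝔔le, h𝔔dim⟩ :=
      exists_minimalPrimes_ringKrullDim_quotient_eq K (A ⊗[k] K) 𝔓.asIdeal
    rw [← h𝔔dim, ringKrullDim_quotient_tensor_field_of_mem_minimalPrimes k A K 𝔔 h𝔔min]
    have h𝔔p : 𝔔.IsPrime := h𝔔min.1.1
    have : (𝔔.comap (Algebra.TensorProduct.includeLeft : A →ₐ[k] A ⊗[k] K)).IsPrime :=
      Ideal.comap_isPrime _ _
    exact ringKrullDim_quotient_le_add_height k A _ 𝔭 (Ideal.comap_mono h𝔔le)
  · obtain ⟨𝔮, h𝔮min, h𝔮le, h𝔮dim⟩ := exists_minimalPrimes_ringKrullDim_quotient_eq k A 𝔭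
    rw [← h𝔮dim]
    have h𝔮p : 𝔮.IsPrime := h𝔮min.1.1
    -- going down along the flat map `A → A ⊗[k] K`
    have hover : 𝔓.asIdeal.LiesOver 𝔭 := ⟨rfl⟩
    obtain ⟨𝔔', h𝔔'le, h𝔔'p, h𝔔'over⟩ :=
      Ideal.exists_ideal_le_liesOver_of_le (S := A ⊗[k] K) (p := 𝔮) (q := 𝔭) 𝔓.asIdeal h𝔮le
    obtain ⟨𝔔, h𝔔min, h𝔔le⟩ := Ideal.exists_minimalPrimes_le (I := ⊥) (J := 𝔔') bot_le
    have h𝔔p : 𝔔.IsPrime := h𝔔min.1.1
    have h𝔔min' : 𝔔 ∈ minimalPrimes (A ⊗[k] K) := h𝔔min
    have hcomap : 𝔔.comap (Algebra.TensorProduct.includeLeft : A →ₐ[k] A ⊗[k] K) = 𝔮 := by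
      have hle : 𝔔.comap (Algebra.TensorProduct.includeLeft : A →ₐ[k] A ⊗[k] K) ≤ 𝔮 := by
        have h1 : 𝔔'.comap (Algebra.TensorProduct.includeLeft : A →ₐ[k] A ⊗[k] K) = 𝔮 :=
          (h𝔔'over.over).symm
        rw [← h1]
        exact Ideal.comap_mono h𝔔le
      have hp : (𝔔.comap (Algebra.TensorProduct.includeLeft : A →ₐ[k] A ⊗[k] K)).IsPrime :=
        Ideal.comap_isPrime _ _
      exact le_antisymm hle (h𝔮min.2 ⟨hp, bot_le⟩ hle)
    have hdim := ringKrullDim_quotient_tensor_field_of_mem_minimalPrimes k A K 𝔔 h𝔔min'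
    rw [hcomap] at hdim
    rw [← hdim]
    exact ringKrullDim_quotient_le_add_height K (A ⊗[k] K) 𝔔 𝔓.asIdeal (h𝔔le.trans h𝔔'le)

end algebra

section scheme

variable {k : Type u} [Field k] (K : Type u) [Field K] [Algebra k K] {X : Scheme.{u}}
  (f : X ⟶ Spec (CommRingCat.of k)) [LocallyOfFiniteType f]

/-- **Local dimension is invariant under extension of the base field.** -/
theorem localDim_baseChange_field_eq
    (y : ↥(pullback f (Spec.map (CommRingCat.ofHom (algebraMap k K))))) :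
    FlatMor.localDim ↥(pullback f (Spec.map (CommRingCat.ofHom (algebraMap k K)))) y =
      FlatMor.localDim ↥X (pullback.fst f (Spec.map (CommRingCat.ofHom (algebraMap k K))) y) := by
  let g := Spec.map (CommRingCat.ofHom (algebraMap k K))
  change FlatMor.localDim ↥(pullback f g) y = FlatMor.localDim ↥X (pullback.fst f g y)
  obtain ⟨U, hU, hxU, -⟩ :=
    exists_isAffineOpen_mem_and_subset (x := pullback.fst f g y) (U := ⊤) trivial
  let φA : CommRingCat.of k ⟶ Γ(X, U) := Spec.preimage (hU.fromSpec ≫ f)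
  let _ : Algebra k Γ(X, U) := φA.hom.toAlgebra
  have ha : hU.fromSpec ≫ f = Spec.map (CommRingCat.ofHom (algebraMap k Γ(X, U))) :=
    (Spec.map_preimage _).symm
  have hb : 𝟙 (Spec (CommRingCat.of K)) ≫ g = Spec.map (CommRingCat.ofHom (algebraMap k K)) :=
    Category.id_comp _
  have hftA : Algebra.FiniteType k Γ(X, U) := by
    have h1 : LocallyOfFiniteType (hU.fromSpec ≫ f) := inferInstance
    rw [ha, HasRingHomProperty.Spec_iff (P := @LocallyOfFiniteType)] at h1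
    exact h1
  set c := pullbackChart f g hU.fromSpec (𝟙 (Spec (CommRingCat.of K))) ha hb with hc
  have hyc : y ∈ Set.range c := by
    rw [hc, range_pullbackChart, hU.range_fromSpec]
    refine ⟨hxU, ?_⟩
    simp
  obtain ⟨𝔓, rfl⟩ := hyc
  have hfst : pullback.fst f g (c 𝔓) =
      hU.fromSpec (Spec.map (CommRingCat.ofHom (Algebra.TensorProduct.includeLeftRingHom :
        Γ(X, U) →+* Γ(X, U) ⊗[k] K)) 𝔓) := by
    have := congr(($(pullbackChart_fst f g hU.fromSpec (𝟙 (Spec (CommRingCat.of K))) ha hb)) 𝔓)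
    exact this
  rw [hfst, ← localDim_eq_of_isOpenEmbedding c c.isOpenEmbedding 𝔓,
    ← localDim_eq_of_isOpenEmbedding hU.fromSpec hU.fromSpec.isOpenEmbedding]
  exact localDim_tensor_field_eq k Γ(X, U) K 𝔓

end scheme

end Groth.Agent.Lib.Helper55
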