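import Mathlib
import Groth.Agent.Lib.Helper14.GroupFibreDim
import Groth.Agent.Lib.Helper23.FlatFibreDim

/-! SGA3 VI_B 4.3: the fibre dimension of a flat group scheme locally of finite presentation is
locally constant (helper55, using helper14's `GroupFibreDim` and helper23's generization lemma). -/

set_option autoImplicit false
universe u

open CategoryTheory MonoidalCategory CartesianMonoidalCategory MonObj GrpObj AlgebraicGeometry

namespace Groth.Agent.Lib.Helper55

variable {S : Scheme.{u}} (G : Over S) [GrpObj G] [Flat G.hom] [LocallyOfFinitePresentation G.hom]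

/-- The fibre dimension of a flat group scheme of finite presentation is invariant under
generization. -/
theorem dim_fibre_eq_of_specializes_of_grpObj (s s' : S) (hs : s' ⤳ s) :
    topologicalKrullDim ↥(G.hom ⁻¹' {s'}) = topologicalKrullDim ↥(G.hom ⁻¹' {s}) := by
  haveI : LocallyOfFiniteType G.hom := inferInstance
  apply le_antisymm
  · have husc := Groth.Agent.Lib.Helper14.upperSemicontinuous_dim_fibre G
    by_contra hlt
    rw [not_le] at hlt
    have h1 := husc s _ hlt
    obtain ⟨U, hUsub, hUo, hsU⟩ := mem_nhds_iff.mp h1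
    have hs'U : s' ∈ U := hs.mem_open hUo hsU
    exact lt_irrefl _ (show topologicalKrullDim ↥(G.hom ⁻¹' {s'}) <
      topologicalKrullDim ↥(G.hom ⁻¹' {s'}) from hUsub hs'U)
  · rw [Groth.Agent.Lib.Helper14.dim_fibre_eq_fibreDimAt_unit G s]
    obtain ⟨x', hx's', -, hle⟩ :=
      Groth.Agent.Lib.Helper23.FlatGenericScheme.exists_generization_fibreDimAt_ge G.hom
        ((η[G] : 𝟙_ (Over S) ⟶ G).left s) s'
        (by rw [Groth.Agent.Lib.Helper14.unit_hom_apply]; exact hs)
    refine hle.trans ?_
    rw [Groth.Agent.Lib.Helper14.fibreDimAt_eq_dim_fibre G x', hx's']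

/-- **SGA3 VI_B 4.3.** The fibre dimension of a flat group scheme locally of finite presentation
is locally constant on the base. -/
theorem isLocallyConstant_dim_fibre_of_grpObj :
    IsLocallyConstant (fun s : S => topologicalKrullDim ↥(G.hom ⁻¹' {s})) := by
  classical
  haveI : LocallyOfFiniteType G.hom := inferInstance
  rw [IsLocallyConstant.iff_exists_open]
  intro s
  obtain ⟨V, hsV, -, hcons⟩ := Groth.Agent.Lib.Helper14.exists_opens_dim_fibre_constructible G s
  have hTcons := hcons (topologicalKrullDim ↥(G.hom ⁻¹' {s}))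
  have hTopen : IsOpen {t : V | topologicalKrullDim ↥(G.hom ⁻¹' {(t : S)}) =
      topologicalKrullDim ↥(G.hom ⁻¹' {s})} := by
    apply Groth.Agent.Lib.Helper23.FlatFibreDim.isOpen_of_isLocallyConstructible_of_stableUnderGeneralization
      (X := (V : Scheme.{u})) hTcons.isLocallyConstructible
    intro t t' ht htT
    have ht' : (t'.1 : S) ⤳ t.1 := ht.map continuous_subtype_val
    exact (dim_fibre_eq_of_specializes_of_grpObj G t.1 t'.1 ht').trans htT
  refine ⟨Subtype.val '' {t : V | topologicalKrullDim ↥(G.hom ⁻¹' {(t : S)}) =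
      topologicalKrullDim ↥(G.hom ⁻¹' {s})}, V.2.isOpenMap_subtype_val _ hTopen,
    ⟨⟨s, hsV⟩, rfl, rfl⟩, ?_⟩
  rintro _ ⟨t, ht, rfl⟩
  exact ht

end Groth.Agent.Lib.Helper55
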