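import Groth.Agent.Lib.Helper55.DimStalk
import Groth.Agent.Lib.Helper55.FiberTrdeg
import Mathlib.AlgebraicGeometry.Fiber

/-! Dimension of the source of a closed dominant morphism of integral schemes (helper55). -/

set_option autoImplicit false

universe u

namespace Groth.Agent.Lib.Helper55

open AlgebraicGeometry Order

section order

theorem height_head_add_length_le {α : Type*} [Preorder α] (q : LTSeries α) :
    height q.head + q.length ≤ height q.last := by
  have key : ∀ i : ℕ, ∀ hi : i ≤ q.length,
      height q.head + i ≤ height (q ⟨i, Nat.lt_succ_of_le hi⟩) := by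
    intro i
    induction i with
    | zero => intro _; simp [RelSeries.head]
    | succ i ih =>
      intro hi
      have h1 := ih (Nat.le_of_succ_le hi)
      have hlt : q ⟨i, Nat.lt_succ_of_le (Nat.le_of_succ_le hi)⟩ <
          q ⟨i + 1, Nat.lt_succ_of_le hi⟩ := q.strictMono (by simp [Fin.lt_def])
      calc height q.head + ((i + 1 : ℕ) : ℕ∞) = height q.head + i + 1 := by
            push_cast; rw [add_assoc]
        _ ≤ height (q ⟨i, Nat.lt_succ_of_le (Nat.le_of_succ_le hi)⟩) + 1 :=
            add_le_add_left h1 1
        _ ≤ _ := height_add_one_le hlt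
  exact key q.length le_rfl

variable {X Y : Scheme.{u}} (f : X ⟶ Y)

/-- Heights (dimensions of closures) do not drop along a specializing map. -/
theorem height_le_height_of_specializingMap (hf : SpecializingMap f) (x : X) :
    height (f x) ≤ height x := by
  suffices H : ∀ n : ℕ, ∀ x : X, (n : ℕ∞) ≤ height (f x) → (n : ℕ∞) ≤ height x from
    ENat.forall_natCast_le_iff_le.mp fun n hn => H n x hn
  intro n
  induction n with
  | zero => intro x _; simp
  | succ n ih =>
    intro x hx
    have hnot : ¬ height (f x) ≤ n := by
      intro h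
      have h2 := hx.trans h
      have : (n : ℕ∞) + 1 ≤ n := by exact_mod_cast h2
      rw [ENat.add_one_le_iff (ENat.natCast_ne_top _)] at this
      exact lt_irrefl _ this
    rw [height_le_coe_iff] at hnot
    push Not at hnot
    obtain ⟨y, hy, hny⟩ := hnot
    obtain ⟨x', hxx', hfx'⟩ := hf (a := x) (b := y) hy.1
    have hlt : x' < x := by
      refine ⟨hxx', fun h => hy.2 ?_⟩
      have := h.map f.continuous
      rwa [hfx'] at this
    have h1 := ih x' (by rw [hfx']; exact hny)
    calc ((n + 1 : ℕ) : ℕ∞) = (n : ℕ∞) + 1 := by push_cast; rfl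
      _ ≤ height x' + 1 := add_le_add_left h1 1
      _ ≤ height x := height_add_one_le hlt

end order

section main

variable {X Y : Scheme.{u}} [IsIntegral X] [IsIntegral Y] (f : X ⟶ Y) [IsDominant f]
  [LocallyOfFiniteType f]

omit [LocallyOfFiniteType f] [IsIntegral Y] in
theorem map_genericPoint_specializes (y : Y) : f (genericPoint ↥X) ⤳ y := by
  have h1 : IsGenericPoint (f (genericPoint ↥X)) (closure (f '' Set.univ)) :=
    (genericPoint_spec ↥X).image f.continuous
  rw [Set.image_univ, f.denseRange.closure_range] at h1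
  exact h1.specializes (Set.mem_univ y)

/-- For a closed dominant morphism locally of finite type between integral schemes,
`dim Y + trdeg K(X)/K(Y) ≤ dim X`. -/
theorem topologicalKrullDim_add_le_of_isClosedMap (n : ℕ)
    (hn : @Algebra.trdeg (Y.residueField (f (genericPoint ↥X))) (X.residueField (genericPoint ↥X))
      _ _ (f.residueFieldMap (genericPoint ↥X)).hom.toAlgebra = n)
    (hcl : IsClosedMap f) :
    topologicalKrullDim ↥Y + n ≤ topologicalKrullDim ↥X := by
  set ξ := genericPoint ↥X with hξ
  set η := f ξ with hη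
  set z := f.asFiber ξ with hz
  -- the generic fibre has dimension `n`, and `z` is its top point
  obtain ⟨n', hn'1, hn'2⟩ := exists_dim_closure_asFiber_eq_trdeg f ξ
  have hnn' : n' = n := by
    have : ((n' : ℕ) : Cardinal) = ((n : ℕ) : Cardinal) := by rw [← hn'2, ← hn]
    exact_mod_cast this
  rw [hnn'] at hn'1
  have hztop : ∀ w : ↥(f.fiber η), z ⤳ w := by
    intro w
    rw [← (f.fiberι η).isEmbedding.isInducing.specializes_iff, hz, f.fiberι_asFiber]
    exact (genericPoint_spec ↥X).specializes (Set.mem_univ _)
  have hcl_univ : closure ({z} : Set ↥(f.fiber η)) = Set.univ := by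
    rw [Set.eq_univ_iff_forall]
    intro w
    exact (specializes_iff_mem_closure.mp (hztop w))
  have hdimF : topologicalKrullDim ↥(f.fiber η) = n := by
    rw [← hn'1, hcl_univ]
    exact (IsHomeomorph.topologicalKrullDim_eq _
      (Homeomorph.Set.univ ↥(f.fiber η)).isHomeomorph).symm
  have hkF : krullDim ↥(f.fiber η) = n := by
    rw [← topologicalKrullDim_eq_krullDim_scheme, hdimF]
  have hhz : (n : ℕ∞) ≤ height z := by
    have h1 : krullDim ↥(f.fiber η) ≤ ((height z : ℕ∞) : WithBot ℕ∞) := by
      rw [krullDim_eq_iSup_height]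
      refine iSup_le fun w => ?_
      exact WithBot.coe_le_coe.mpr (height_mono (hztop w))
    rw [hkF] at h1
    exact_mod_cast h1
  obtain ⟨p, hplast, hplen⟩ := exists_series_of_le_height z hhz
  have hmono : StrictMono (f.fiberι η : ↥(f.fiber η) → ↥X) := by
    intro a b hab
    refine ⟨?_, fun h => hab.2 ?_⟩
    · exact ((f.fiberι η).isEmbedding.isInducing.specializes_iff).mpr hab.1
    · exact ((f.fiberι η).isEmbedding.isInducing.specializes_iff).mp h
  set q := p.map (f.fiberι η) hmono with hq
  have hqlast : q.last = ξ := by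
    rw [hq, LTSeries.last_map, hplast, hz, f.fiberι_asFiber]
  have hqlen : q.length = n := by rw [hq]; exact hplen
  have hfhead : f q.head = η := by
    rw [hq, LTSeries.head_map]
    have : f.fiberι η p.head ∈ Set.range (f.fiberι η) := ⟨_, rfl⟩
    rw [f.range_fiberι] at this
    exact this
  have h1 := height_head_add_length_le q
  rw [hqlast, hqlen] at h1
  have h2 := height_le_height_of_specializingMap f hcl.specializingMap q.head
  rw [hfhead] at h2
  have h3 : krullDim ↥Y ≤ ((height η : ℕ∞) : WithBot ℕ∞) := by
    rw [krullDim_eq_iSup_height]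
    refine iSup_le fun y => ?_
    exact WithBot.coe_le_coe.mpr (height_mono (map_genericPoint_specializes f y))
  have h4 : ((height ξ : ℕ∞) : WithBot ℕ∞) ≤ krullDim ↥X := height_le_krullDim ξ
  rw [topologicalKrullDim_eq_krullDim_scheme, topologicalKrullDim_eq_krullDim_scheme]
  calc krullDim ↥Y + (n : WithBot ℕ∞) ≤ ((height η : ℕ∞) : WithBot ℕ∞) + (n : WithBot ℕ∞) :=
        add_le_add_left h3 _
    _ ≤ ((height ξ : ℕ∞) : WithBot ℕ∞) := by
        have : height η + (n : ℕ∞) ≤ height ξ := (add_le_add_left h2 _).trans h1
        exact_mod_cast WithBot.coe_le_coe.mpr this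
    _ ≤ krullDim ↥X := h4

end main

end Groth.Agent.Lib.Helper55
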