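import Groth.Agent.Lib.Helper55.UnivCatenaryChart
import Groth.Agent.Lib.Helper55.ClosedMapDim
import Groth.Agent.Lib.Helper55.DimStalk

/-! The dimension formula for dominant morphisms of irreducible schemes (helper55). -/

set_option autoImplicit false

universe u

namespace Groth.Agent.Lib.Helper55

open AlgebraicGeometry CategoryTheory

section alg

variable {R : Type u} [CommRing R] [IsNoetherianRing R]

/-- If the prime `𝔭₀` is contained in every prime, then heights can be computed modulo `𝔭₀`. -/
theorem height_map_quotient_eq_of_forall_le (𝔭₀ 𝔭 : Ideal R) [h𝔭₀ : 𝔭₀.IsPrime] [𝔭.IsPrime]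
    (h : ∀ P : Ideal R, P.IsPrime → 𝔭₀ ≤ P) :
    (𝔭.map (Ideal.Quotient.mk 𝔭₀)).height = 𝔭.height := by
  refine le_antisymm (height_map_quotient_le _ _ (h 𝔭 inferInstance)) ?_
  obtain ⟨𝔭₁, h𝔭₁p, h𝔭₁le, hmin, hht⟩ := exists_le_height_map_quotient_eq 𝔭
  have h01 : 𝔭₀ ≤ 𝔭₁ := h 𝔭₁ h𝔭₁p
  obtain rfl := hmin 𝔭₀ h𝔭₀ h01
  exact hht

end alg

section chart

variable {X : Scheme.{u}} [IsLocallyNoetherian X] {U : X.Opens} (hU : IsAffineOpen U)

/-- In an affine chart containing a point `η` that specializes to everything, heights can be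
computed modulo the prime of `η`. -/
theorem chart_height_map_quotient_eq (η x : X) (hη : η ∈ U) (hx : x ∈ U)
    (hgen : ∀ y : X, η ⤳ y) :
    ((hU.primeIdealOf ⟨x, hx⟩).asIdeal.map
        (Ideal.Quotient.mk (hU.primeIdealOf ⟨η, hη⟩).asIdeal)).height =
      (hU.primeIdealOf ⟨x, hx⟩).asIdeal.height := by
  have hN : IsNoetherianRing Γ(X, U) := IsLocallyNoetherian.component_noetherian ⟨U, hU⟩
  have hp1 : (hU.primeIdealOf ⟨x, hx⟩).asIdeal.IsPrime := (hU.primeIdealOf _).2
  have hp0 : (hU.primeIdealOf ⟨η, hη⟩).asIdeal.IsPrime := (hU.primeIdealOf _).2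
  refine height_map_quotient_eq_of_forall_le _ _ ?_
  intro P hP
  obtain ⟨z, hz, hzP⟩ := exists_primeIdealOf_eq hU ⟨P, hP⟩
  have : (hU.primeIdealOf ⟨z, hz⟩).asIdeal = P := congrArg PrimeSpectrum.asIdeal hzP
  rw [← this]
  exact (primeIdealOf_le_iff_specializes hU η z hη hz).mpr (hgen z)

end chart

section generic

variable {X Y : Scheme.{u}} [IrreducibleSpace X] (f : X ⟶ Y)

/-- A dominant morphism of irreducible schemes maps the generic point to the generic point. -/
theorem map_genericPoint_eq_of_denseRange [IrreducibleSpace Y] (hf : DenseRange f) :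
    f (genericPoint ↥X) = genericPoint ↥Y := by
  have h1 : IsGenericPoint (f (genericPoint ↥X)) (closure (f '' Set.univ)) :=
    (genericPoint_spec ↥X).image f.continuous
  rw [Set.image_univ, hf.closure_range] at h1
  exact h1.eq (genericPoint_spec ↥Y)

/-- A point whose closure is an irreducible component of an irreducible scheme is the generic
point. -/
theorem eq_genericPoint_of_closure_mem_irreducibleComponents (ξ : X)
    (h : closure {ξ} ∈ irreducibleComponents ↥X) : ξ = genericPoint ↥X := by
  rw [irreducibleComponents_eq_singleton, Set.mem_singleton_iff] at h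
  have h1 : IsGenericPoint ξ Set.univ := h
  exact h1.eq (genericPoint_spec ↥X)

/-- The fibre through the generic point of an irreducible scheme has dimension equal to the
transcendence degree of the residue field extension at the generic point. -/
theorem exists_dim_fiber_genericPoint_eq_trdeg [LocallyOfFiniteType f] :
    ∃ m : ℕ, topologicalKrullDim ↥(f.fiber (f (genericPoint ↥X))) = m ∧
      @Algebra.trdeg (Y.residueField (f (genericPoint ↥X))) (X.residueField (genericPoint ↥X)) _ _
        (f.residueFieldMap (genericPoint ↥X)).hom.toAlgebra = m := by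
  set ξ := genericPoint ↥X with hξ
  obtain ⟨n', hn'1, hn'2⟩ := exists_dim_closure_asFiber_eq_trdeg f ξ
  refine ⟨n', ?_, hn'2⟩
  have hztop : ∀ w : ↥(f.fiber (f ξ)), f.asFiber ξ ⤳ w := by
    intro w
    rw [← (f.fiberι (f ξ)).isEmbedding.isInducing.specializes_iff, f.fiberι_asFiber]
    exact (genericPoint_spec ↥X).specializes (Set.mem_univ _)
  have hcl_univ : closure ({f.asFiber ξ} : Set ↥(f.fiber (f ξ))) = Set.univ := by
    rw [Set.eq_univ_iff_forall]
    intro w
    exact (specializes_iff_mem_closure.mp (hztop w))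
  rw [← hn'1, hcl_univ]
  exact (IsHomeomorph.topologicalKrullDim_eq _
      (Homeomorph.Set.univ ↥(f.fiber (f ξ))).isHomeomorph).symm

/-- The generic fibre of a dominant morphism of irreducible schemes has dimension equal to the
transcendence degree of the function field extension. -/
theorem exists_dim_genericFiber_eq_trdeg [LocallyOfFiniteType f] [IrreducibleSpace Y]
    (hf : DenseRange f) :
    ∃ m : ℕ, topologicalKrullDim ↥(f.fiber (genericPoint ↥Y)) = m ∧
      @Algebra.trdeg (Y.residueField (f (genericPoint ↥X))) (X.residueField (genericPoint ↥X)) _ _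
        (f.residueFieldMap (genericPoint ↥X)).hom.toAlgebra = m := by
  obtain ⟨m, hm1, hm2⟩ := exists_dim_fiber_genericPoint_eq_trdeg f
  refine ⟨m, ?_, hm2⟩
  rw [← map_genericPoint_eq_of_denseRange f hf]
  exact hm1

omit [IrreducibleSpace ↥X] in
/-- Every nonempty fibre of a morphism locally of finite type contains a point whose residue
field is algebraic over the residue field of the base point. -/
theorem exists_mem_fiber_trdeg_eq_zero [LocallyOfFiniteType f] (x₀ : X) :
    ∃ x : X, f x = f x₀ ∧ @Algebra.trdeg (Y.residueField (f x)) (X.residueField x) _ _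
        (f.residueFieldMap x).hom.toAlgebra = 0 := by
  have hne : (closedPoints ↥(f.fiber (f x₀))).Nonempty := by
    by_contra hcon
    rw [Set.not_nonempty_iff_eq_empty] at hcon
    have h1 := closure_closedPoints (X := ↥(f.fiber (f x₀)))
    rw [hcon, closure_empty] at h1
    exact (Set.mem_empty_iff_false (f.asFiber x₀)).mp (h1 ▸ Set.mem_univ _)
  obtain ⟨z, hz⟩ := hne
  have hzc : IsClosed ({z} : Set ↥(f.fiber (f x₀))) := hz
  obtain ⟨n, hn1, hn2⟩ := exists_dim_closure_fiber_eq_trdeg f (f x₀) z (f.fiberι (f x₀) z) rfl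
  have hfx : f (f.fiberι (f x₀) z) = f x₀ := by
    have : f.fiberι (f x₀) z ∈ Set.range (f.fiberι (f x₀)) := ⟨z, rfl⟩
    rw [f.range_fiberι] at this
    exact this
  refine ⟨f.fiberι (f x₀) z, hfx, ?_⟩
  rw [hzc.closure_eq] at hn1
  have h0 : topologicalKrullDim ↥({z} : Set ↥(f.fiber (f x₀))) ≤ 0 :=
    topologicalKrullDim_zero_of_discreteTopology _
  rw [hn1] at h0
  have : n = 0 := by
    have h1 : (n : WithBot ℕ∞) ≤ ((0 : ℕ) : WithBot ℕ∞) := by exact_mod_cast h0
    exact Nat.le_zero.mp (by exact_mod_cast h1)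
  rw [hn2, this]
  rfl

end generic

section point

variable {X Y : Scheme.{u}} [IrreducibleSpace X] [IsLocallyNoetherian Y] (f : X ⟶ Y)
  [LocallyOfFiniteType f]

/-- **Dimension inequality at a point** for an irreducible source. -/
theorem ringKrullDim_stalk_add_trdeg_le_of_irreducible (x : X) (n m : ℕ)
    (hn : @Algebra.trdeg (Y.residueField (f x)) (X.residueField x) _ _
      (f.residueFieldMap x).hom.toAlgebra = n)
    (hm : @Algebra.trdeg (Y.residueField (f (genericPoint ↥X))) (X.residueField (genericPoint ↥X))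
      _ _ (f.residueFieldMap (genericPoint ↥X)).hom.toAlgebra = m) :
    ringKrullDim (X.presheaf.stalk x) + n ≤ ringKrullDim (Y.presheaf.stalk (f x)) + m := by
  refine ringKrullDim_stalk_add_trdeg_le f x n m hn ?_
  intro ξ hξ _
  obtain rfl := eq_genericPoint_of_closure_mem_irreducibleComponents ξ hξ
  exact hm.le

/-- **Dimension formula at a point**: for a dominant morphism locally of finite type of
irreducible schemes, with all local rings of the (locally Noetherian) target universally
catenary, `dim O_{X,x} + trdeg κ(x)/κ(f x) = dim O_{Y,f x} + trdeg K(X)/K(Y)`. -/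
theorem ringKrullDim_stalk_add_trdeg_eq_of_irreducible [IrreducibleSpace Y] (hf : DenseRange f)
    (hcat : ∀ y : Y, CAlg.IsUniversallyCatenary (Y.presheaf.stalk y))
    (x : X) (n m : ℕ)
    (hn : @Algebra.trdeg (Y.residueField (f x)) (X.residueField x) _ _
      (f.residueFieldMap x).hom.toAlgebra = n)
    (hm : @Algebra.trdeg (Y.residueField (f (genericPoint ↥X))) (X.residueField (genericPoint ↥X))
      _ _ (f.residueFieldMap (genericPoint ↥X)).hom.toAlgebra = m) :
    ringKrullDim (X.presheaf.stalk x) + n = ringKrullDim (Y.presheaf.stalk (f x)) + m := by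
  obtain ⟨V, hV, hfxV, -⟩ := exists_isAffineOpen_mem_and_subset (x := f x) (U := ⊤) trivial
  obtain ⟨U, hU, hxU, e⟩ :=
    exists_isAffineOpen_mem_and_subset (x := x) (U := f ⁻¹ᵁ V) hfxV
  have hNX : IsLocallyNoetherian X := LocallyOfFiniteType.isLocallyNoetherian f
  set ξ := genericPoint ↥X with hξdef
  have hspec : ξ ⤳ x := (genericPoint_spec ↥X).specializes (Set.mem_univ _)
  have hξU : ξ ∈ U := hspec.mem_open U.2 hxU
  have key := chart_height_add_trdeg_eq f hV hU e hcat ξ x hξU hxU hspec n m hn hm
  rw [chart_height_map_quotient_eq hU ξ x hξU hxU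
    (fun y => (genericPoint_spec ↥X).specializes (Set.mem_univ _)),
    chart_height_map_quotient_eq hV (f ξ) (f x) (e hξU) (e hxU) (fun y => by
      rw [map_genericPoint_eq_of_denseRange f hf]
      exact (genericPoint_spec ↥Y).specializes (Set.mem_univ _))] at key
  rw [Groth.Agent.S4442.ringKrullDim_stalk_eq_height X hU x hxU,
    Groth.Agent.S4442.ringKrullDim_stalk_eq_height Y hV (f x) (e hxU)]
  exact_mod_cast congrArg (WithBot.some) key

/-- **Global dimension formula**: for a dominant morphism locally of finite type of irreducible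
schemes, with all local rings of the (locally Noetherian) target universally catenary,
`dim X = sup_{y ∈ f(X)} dim O_{Y,y} + trdeg K(X)/K(Y)`. -/
theorem topologicalKrullDim_eq_iSup_range_add [IrreducibleSpace Y] (hf : DenseRange f)
    (hcat : ∀ y : Y, CAlg.IsUniversallyCatenary (Y.presheaf.stalk y)) (m : ℕ)
    (hm : @Algebra.trdeg (Y.residueField (f (genericPoint ↥X))) (X.residueField (genericPoint ↥X))
      _ _ (f.residueFieldMap (genericPoint ↥X)).hom.toAlgebra = m) :
    topologicalKrullDim ↥X =
      (⨆ y ∈ Set.range f, ringKrullDim (Y.presheaf.stalk y)) + (m : WithBot ℕ∞) := by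
  apply le_antisymm
  · rw [topologicalKrullDim_eq_iSup_ringKrullDim_stalk X]
    refine iSup_le fun x => ?_
    obtain ⟨n, hn⟩ := exists_trdeg_residueField_eq_natCast f x
    have h := ringKrullDim_stalk_add_trdeg_eq_of_irreducible f hf hcat x n m hn hm
    have h0 : (0 : WithBot ℕ∞) ≤ (n : WithBot ℕ∞) := by exact_mod_cast Nat.zero_le n
    calc ringKrullDim (X.presheaf.stalk x) ≤ ringKrullDim (X.presheaf.stalk x) + n :=
          le_add_of_nonneg_right h0
      _ = ringKrullDim (Y.presheaf.stalk (f x)) + m := h
      _ ≤ _ := add_le_add_left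
          (le_iSup₂ (f := fun y (_ : y ∈ Set.range f) => ringKrullDim (Y.presheaf.stalk y))
            (f x) ⟨x, rfl⟩) _
  · rw [iSup_subtype']
    have h := iSup_add_iSup_le_withBot
      (fun y : Set.range f => ringKrullDim (Y.presheaf.stalk y.1))
      (fun _ : Unit => (m : WithBot ℕ∞)) (topologicalKrullDim ↥X) ?_
    · rwa [iSup_const] at h
    · rintro ⟨y, x₀, rfl⟩ -
      obtain ⟨x, hx, hx0⟩ := exists_mem_fiber_trdeg_eq_zero f x₀
      have h := ringKrullDim_stalk_add_trdeg_eq_of_irreducible f hf hcat x 0 m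
        (by rw [hx0]; rfl) hm
      rw [hx] at h
      change ringKrullDim (Y.presheaf.stalk (f x₀)) + (m : WithBot ℕ∞) ≤ _
      rw [← h]
      simp only [Nat.cast_zero, add_zero]
      exact ringKrullDim_stalk_le_topologicalKrullDim X x

end point

end Groth.Agent.Lib.Helper55
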