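import Mathlib.AlgebraicGeometry.SpreadingOut
import Mathlib.AlgebraicGeometry.Morphisms.FinitePresentation

/-! Spreading out morphisms from stalks, finite presentation version (helper55). -/

set_option autoImplicit false
universe u

open CategoryTheory AlgebraicGeometry TopologicalSpace

namespace Groth.Agent.Lib.Helper55

variable {X : Scheme.{u}} {R A : CommRingCat.{u}}

/-- Finite-presentation analogue of `AlgebraicGeometry.exists_lift_of_germInjective`: no condition on
the scheme `X`. -/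
theorem exists_lift_of_finitePresentation {U : X.Opens} {x : X} (hxU : x ∈ U)
    (φ : A ⟶ X.presheaf.stalk x) (φRA : R ⟶ A) (φRX : R ⟶ Γ(X, U))
    (hφRA : RingHom.FinitePresentation φRA.hom)
    (e : φRA ≫ φ = φRX ≫ X.presheaf.germ U x hxU) :
    ∃ (V : X.Opens) (hxV : x ∈ V) (φ' : A ⟶ Γ(X, V)) (i : V ≤ U),
      φ = φ' ≫ X.presheaf.germ V x hxV ∧ φRX ≫ X.presheaf.map i.hom.op = φRA ≫ φ' := by
  classical
  let _ := φRA.hom.toAlgebra
  obtain ⟨n, π, hπ, s, hs⟩ := hφRA
  choose W hxW f hf using fun i : Fin n ↦ X.presheaf.exists_germ_eq (φ (π (MvPolynomial.X i)))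
  -- first neighbourhood: all the `f i` and the `R`-structure are defined
  let V0 : X.Opens := Finset.univ.inf W ⊓ U
  have hxV0 : x ∈ V0 := by
    rw [← SetLike.mem_coe, TopologicalSpace.Opens.coe_inf, TopologicalSpace.Opens.coe_finset_inf]
    exact ⟨by simpa using fun i ↦ hxW i, hxU⟩
  have hV0W : ∀ i, V0 ≤ W i := fun i ↦ inf_le_left.trans (Finset.inf_le (Finset.mem_univ i))
  have hV0U : V0 ≤ U := inf_le_right
  let f' : Fin n → Γ(X, V0) := fun i ↦ X.presheaf.map (homOfLE (hV0W i)).op (f i)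
  let ψ0 : MvPolynomial (Fin n) R →+* Γ(X, V0) :=
    MvPolynomial.eval₂Hom (φRX ≫ X.presheaf.map (homOfLE hV0U).op).hom f'
  have key0 : (X.presheaf.germ V0 x hxV0).hom.comp ψ0 = φ.hom.comp π.toRingHom := by
    apply MvPolynomial.ringHom_ext
    · intro r
      have h1 : X.presheaf.germ V0 x hxV0 (X.presheaf.map (homOfLE hV0U).op (φRX r)) =
          X.presheaf.germ U x hxU (φRX r) := X.presheaf.germ_res_apply _ _ _ _
      have h2 : φ (φRA r) = X.presheaf.germ U x hxU (φRX r) := congr($e r)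
      have h3 : π (MvPolynomial.C r) = φRA r := by
        rw [← MvPolynomial.algebraMap_eq, π.commutes]; rfl
      simp only [RingHom.coe_comp, Function.comp_apply, ψ0, MvPolynomial.coe_eval₂Hom,
        MvPolynomial.eval₂_C, CommRingCat.hom_comp, AlgHom.toRingHom_eq_coe, RingHom.coe_coe]
      erw [h1, h3, h2]
    · intro i
      have h1 : X.presheaf.germ V0 x hxV0 (f' i) = X.presheaf.germ (W i) x (hxW i) (f i) :=
        X.presheaf.germ_res_apply _ _ _ _
      simp only [RingHom.coe_comp, Function.comp_apply, ψ0, MvPolynomial.coe_eval₂Hom,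
        MvPolynomial.eval₂_X, AlgHom.toRingHom_eq_coe, RingHom.coe_coe]
      erw [h1, hf i]
  -- the relations vanish on smaller neighbourhoods
  have hrel : ∀ r : s, ∃ (W' : X.Opens) (_ : x ∈ W') (i : W' ≤ V0),
      X.presheaf.map (homOfLE i).op (ψ0 r) = 0 := by
    intro r
    have hr0 : π (r : MvPolynomial (Fin n) R) = 0 := by
      have : (r : MvPolynomial (Fin n) R) ∈ RingHom.ker π.toRingHom :=
        hs.le (Ideal.subset_span r.2)
      exact this
    have h1 : X.presheaf.germ V0 x hxV0 (ψ0 r) = X.presheaf.germ V0 x hxV0 0 := by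
      have := congr($key0 (r : MvPolynomial (Fin n) R))
      simp only [RingHom.coe_comp, Function.comp_apply, AlgHom.toRingHom_eq_coe,
        RingHom.coe_coe] at this
      erw [this, hr0]
      simp
    obtain ⟨W', hxW', iU, iV, h⟩ := X.presheaf.germ_eq x hxV0 hxV0 _ _ h1
    refine ⟨W', hxW', iU.le, ?_⟩
    have : X.presheaf.map iU.op (ψ0 r) = X.presheaf.map (homOfLE iU.le).op (ψ0 r) := rfl
    rw [← this, h, map_zero]
  choose W' hxW' hW'V0 hW'0 using hrel
  let V : X.Opens := Finset.univ.inf W' ⊓ V0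
  have hxV : x ∈ V := by
    rw [← SetLike.mem_coe, TopologicalSpace.Opens.coe_inf, TopologicalSpace.Opens.coe_finset_inf]
    exact ⟨by simpa using fun i ↦ hxW' i, hxV0⟩
  have hVW' : ∀ r, V ≤ W' r := fun r ↦ inf_le_left.trans (Finset.inf_le (Finset.mem_univ r))
  have hVV0 : V ≤ V0 := inf_le_right
  let ψ : MvPolynomial (Fin n) R →+* Γ(X, V) := (X.presheaf.map (homOfLE hVV0).op).hom.comp ψ0
  have hψker : RingHom.ker π.toRingHom ≤ RingHom.ker ψ := by
    rw [← hs, Ideal.span_le]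
    intro r hr
    change ψ r = 0
    have h1 : X.presheaf.map (homOfLE hVV0).op (ψ0 r) =
        X.presheaf.map (homOfLE (hVW' ⟨r, hr⟩)).op
          (X.presheaf.map (homOfLE (hW'V0 ⟨r, hr⟩)).op (ψ0 r)) := by
      rw [← ConcreteCategory.comp_apply, ← Functor.map_comp]
      rfl
    change X.presheaf.map (homOfLE hVV0).op (ψ0 r) = 0
    rw [h1, hW'0 ⟨r, hr⟩, map_zero]
  let φ'₀ : A →+* Γ(X, V) := RingHom.liftOfSurjective π.toRingHom hπ ⟨ψ, hψker⟩
  have hφ'₀ : ∀ p, φ'₀ (π p) = ψ p := fun p ↦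
    RingHom.liftOfRightInverse_comp_apply _ _ _ ⟨ψ, hψker⟩ p
  refine ⟨V, hxV, CommRingCat.ofHom φ'₀, hVV0.trans hV0U, ?_, ?_⟩
  · ext a
    obtain ⟨p, rfl⟩ := hπ a
    have h1 : X.presheaf.germ V x hxV (X.presheaf.map (homOfLE hVV0).op (ψ0 p)) =
        X.presheaf.germ V0 x hxV0 (ψ0 p) := X.presheaf.germ_res_apply _ _ _ _
    have h2 := congr($key0 p)
    simp only [RingHom.coe_comp, Function.comp_apply, AlgHom.toRingHom_eq_coe,
      RingHom.coe_coe] at h2
    change φ (π p) = X.presheaf.germ V x hxV (φ'₀ (π p))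
    rw [hφ'₀]
    change _ = X.presheaf.germ V x hxV (X.presheaf.map (homOfLE hVV0).op (ψ0 p))
    rw [h1]
    exact h2.symm
  · ext r
    have h3 : π (MvPolynomial.C r) = φRA r := by
      rw [← MvPolynomial.algebraMap_eq, π.commutes]; rfl
    change X.presheaf.map (homOfLE (hVV0.trans hV0U)).op (φRX r) = φ'₀ (φRA r)
    rw [← h3, hφ'₀]
    change _ = X.presheaf.map (homOfLE hVV0).op (ψ0 (MvPolynomial.C r))
    have h4 : ψ0 (MvPolynomial.C r) = X.presheaf.map (homOfLE hV0U).op (φRX r) := by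
      simp [ψ0]
    rw [h4]
    change X.presheaf.map (homOfLE (hVV0.trans hV0U)).op (φRX r) =
      X.presheaf.map (homOfLE hVV0).op (X.presheaf.map (homOfLE hV0U).op (φRX r))
    rw [← ConcreteCategory.comp_apply (X.presheaf.map (homOfLE hV0U).op), ← Functor.map_comp]
    rfl

/-- Variant of `exists_lift_of_finitePresentation` producing an affine open neighbourhood. -/
theorem exists_lift_of_finitePresentation_affine {U : X.Opens} {x : X} (hxU : x ∈ U)
    (φ : A ⟶ X.presheaf.stalk x) (φRA : R ⟶ A) (φRX : R ⟶ Γ(X, U))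
    (hφRA : RingHom.FinitePresentation φRA.hom)
    (e : φRA ≫ φ = φRX ≫ X.presheaf.germ U x hxU) :
    ∃ (V : X.Opens) (hxV : x ∈ V) (φ' : A ⟶ Γ(X, V)) (i : V ≤ U), IsAffineOpen V ∧
      φ = φ' ≫ X.presheaf.germ V x hxV ∧ φRX ≫ X.presheaf.map i.hom.op = φRA ≫ φ' := by
  obtain ⟨V, hxV, φ', i, h₁, h₂⟩ := exists_lift_of_finitePresentation hxU φ φRA φRX hφRA e
  obtain ⟨_, ⟨V', hV', rfl⟩, hxV', hV'V⟩ :=
    X.isBasis_affineOpens.exists_subset_of_mem_open hxV V.isOpen
  have hV'V' : V' ≤ V := hV'V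
  refine ⟨V', hxV', φ' ≫ X.presheaf.map (homOfLE hV'V').op, hV'V'.trans i, hV', ?_, ?_⟩
  · rw [Category.assoc, X.presheaf.germ_res, h₁]
  · rw [← Category.assoc, ← h₂, Category.assoc, ← Functor.map_comp]
    rfl

end Groth.Agent.Lib.Helper55

namespace Groth.Agent.Lib.Helper55

variable {X : Scheme.{u}} {R A : CommRingCat.{u}}

/-- Two ring maps out of a finite type `R`-algebra into sections over `U₁` that agree on `R` and have
the same germs at `x` agree after restriction to a smaller neighbourhood of `x`. -/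
theorem exists_res_eq_of_finiteType {U₁ : X.Opens} {x : X} (hxU₁ : x ∈ U₁)
    (φRA : R ⟶ A) (hφRA : RingHom.FiniteType φRA.hom) (α β : A ⟶ Γ(X, U₁))
    (hR : φRA ≫ α = φRA ≫ β)
    (hgerm : α ≫ X.presheaf.germ U₁ x hxU₁ = β ≫ X.presheaf.germ U₁ x hxU₁) :
    ∃ (U : X.Opens) (_ : x ∈ U) (i : U ≤ U₁),
      α ≫ X.presheaf.map (homOfLE i).op = β ≫ X.presheaf.map (homOfLE i).op := by
  classical
  let _ := φRA.hom.toAlgebra
  obtain ⟨s, hs⟩ := hφRA
  have hrel : ∀ r : s, ∃ (W' : X.Opens) (_ : x ∈ W') (i : W' ≤ U₁),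
      X.presheaf.map (homOfLE i).op (α r) = X.presheaf.map (homOfLE i).op (β r) := by
    intro r
    have h1 : X.presheaf.germ U₁ x hxU₁ (α r) = X.presheaf.germ U₁ x hxU₁ (β r) :=
      congr($hgerm (r : A))
    obtain ⟨W', hxW', iU, iV, h⟩ := X.presheaf.germ_eq x hxU₁ hxU₁ _ _ h1
    exact ⟨W', hxW', iU.le, h⟩
  choose W' hxW' hW'U₁ hW' using hrel
  let V : X.Opens := Finset.univ.inf W' ⊓ U₁
  have hxV : x ∈ V := by
    rw [← SetLike.mem_coe, TopologicalSpace.Opens.coe_inf, TopologicalSpace.Opens.coe_finset_inf]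
    exact ⟨by simpa using fun i ↦ hxW' i, hxU₁⟩
  have hVW' : ∀ r, V ≤ W' r := fun r ↦ inf_le_left.trans (Finset.inf_le (Finset.mem_univ r))
  have hVU₁ : V ≤ U₁ := inf_le_right
  refine ⟨V, hxV, hVU₁, ?_⟩
  let _ : Algebra R Γ(X, V) := (φRA ≫ α ≫ X.presheaf.map (homOfLE hVU₁).op).hom.toAlgebra
  let α' : A →ₐ[R] Γ(X, V) :=
    { (α ≫ X.presheaf.map (homOfLE hVU₁).op).hom with
      commutes' := fun r ↦ rfl }
  let β' : A →ₐ[R] Γ(X, V) :=
    { (β ≫ X.presheaf.map (homOfLE hVU₁).op).hom with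
      commutes' := fun r ↦ by
        change (β ≫ X.presheaf.map (homOfLE hVU₁).op) (φRA r) =
          (α ≫ X.presheaf.map (homOfLE hVU₁).op) (φRA r)
        have := congr($hR r)
        simp only [CommRingCat.comp_apply] at this ⊢
        rw [this] }
  have hαβ : α' = β' := by
    apply AlgHom.ext_of_adjoin_eq_top hs
    intro r hr
    change X.presheaf.map (homOfLE hVU₁).op (α r) = X.presheaf.map (homOfLE hVU₁).op (β r)
    have h1 : ∀ z : Γ(X, U₁), X.presheaf.map (homOfLE hVU₁).op z =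
        X.presheaf.map (homOfLE (hVW' ⟨r, hr⟩)).op
          (X.presheaf.map (homOfLE (hW'U₁ ⟨r, hr⟩)).op z) := by
      intro z
      rw [← ConcreteCategory.comp_apply (X.presheaf.map (homOfLE (hW'U₁ ⟨r, hr⟩)).op),
        ← Functor.map_comp]
      rfl
    rw [h1, h1, hW' ⟨r, hr⟩]
  ext z
  exact congr($hαβ z)

end Groth.Agent.Lib.Helper55
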