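import Groth.Agent.Lib.Helper55.UnivCatenaryChart
import Groth.Prelude.Def_Cyc

/-! Dimension functions and heights in affine charts (helper55). -/

set_option autoImplicit false

universe u

namespace Groth.Agent.Lib.Helper55

open AlgebraicGeometry CategoryTheory

section order

variable {Z : Type*} [PartialOrder Z] [OrderBot Z]

/-- A function dropping by one along covering relations computes heights. -/
theorem eq_add_height_of_covBy (ψ : Z → ℤ) (hψ : ∀ a b : Z, a ⋖ b → ψ a = ψ b + 1) :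
    ∀ (n : ℕ) (x : Z), Order.height x = n → ψ ⊥ = ψ x + n := by
  intro n
  induction n with
  | zero =>
    intro x hx
    have h0 : Order.height x = 0 := by exact_mod_cast hx
    rw [Order.height_eq_zero] at h0
    have : x = ⊥ := le_antisymm (h0 bot_le) bot_le
    rw [this]
    simp
  | succ n ih =>
    intro x hx
    have hx' : Order.height x = (n : ℕ∞) + 1 := by exact_mod_cast hx
    rw [Order.height_eq_coe_add_one_iff] at hx'
    obtain ⟨-, ⟨y, hyx, hy⟩, hall⟩ := hx'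
    have hcov : y ⋖ x := by
      refine ⟨hyx, fun c hyc hcx => ?_⟩
      have h1 := Order.height_add_one_le hyc
      rw [hy] at h1
      have h2 := hall c hcx
      have : (n : ℕ∞) + 1 ≤ n := h1.trans h2
      exact absurd this (by
        rw [ENat.add_one_le_iff (ENat.natCast_ne_top _)]
        exact lt_irrefl _)
    have h3 := ih y hy
    have h4 := hψ y x hcov
    rw [h3, h4]
    push_cast
    ring

end order

section chart

variable {S : Scheme.{u}} [IsLocallyNoetherian S] {V : S.Opens} (hV : IsAffineOpen V)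

include hV in
/-- **A dimension function computes heights in affine charts.**  For `s ⤳ t` in the affine open
`V`, `δ s = δ t + ht(𝔮_t/𝔮_s)`. -/
theorem isDimFun_chart (δ : S → ℤ) (hδ : Cyc.IsDimFun S δ) (s t : S) (hs : s ∈ V) (ht : t ∈ V)
    (hst : s ⤳ t) :
    ∃ r : ℕ, ((hV.primeIdealOf ⟨t, ht⟩).asIdeal.map
        (Ideal.Quotient.mk (hV.primeIdealOf ⟨s, hs⟩).asIdeal)).height = r ∧ δ s = δ t + r := by
  have hN : IsNoetherianRing Γ(S, V) := IsLocallyNoetherian.component_noetherian ⟨V, hV⟩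
  set 𝔮s := (hV.primeIdealOf ⟨s, hs⟩).asIdeal with h𝔮s
  set 𝔮t := (hV.primeIdealOf ⟨t, ht⟩).asIdeal with h𝔮t
  have hps : 𝔮s.IsPrime := (hV.primeIdealOf ⟨s, hs⟩).2
  have hpt : 𝔮t.IsPrime := (hV.primeIdealOf ⟨t, ht⟩).2
  have hle : 𝔮s ≤ 𝔮t := (primeIdealOf_le_iff_specializes hV s t hs ht).mpr hst
  have hpP : (𝔮t.map (Ideal.Quotient.mk 𝔮s)).IsPrime := map_mk_isPrime_of_le 𝔮s 𝔮t hle
  -- the point of `S` attached to a prime of the quotient
  have hpt' : ∀ a : PrimeSpectrum (Γ(S, V) ⧸ 𝔮s), ∃ z : S, ∃ hz : z ∈ V,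
      (hV.primeIdealOf ⟨z, hz⟩).asIdeal = a.asIdeal.comap (Ideal.Quotient.mk 𝔮s) := by
    intro a
    obtain ⟨z, hz, h⟩ := exists_primeIdealOf_eq hV
      ⟨a.asIdeal.comap (Ideal.Quotient.mk 𝔮s), Ideal.IsPrime.comap _⟩
    exact ⟨z, hz, congrArg PrimeSpectrum.asIdeal h⟩
  choose pt hptV hpt using hpt'
  let ψ : PrimeSpectrum (Γ(S, V) ⧸ 𝔮s) → ℤ := fun a => δ (pt a)
  have hmapcomap : ∀ a : PrimeSpectrum (Γ(S, V) ⧸ 𝔮s),
      (a.asIdeal.comap (Ideal.Quotient.mk 𝔮s)).map (Ideal.Quotient.mk 𝔮s) = a.asIdeal :=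
    fun a => Ideal.map_comap_of_surjective _ Ideal.Quotient.mk_surjective _
  have hψ : ∀ a b : PrimeSpectrum (Γ(S, V) ⧸ 𝔮s), a ⋖ b → ψ a = ψ b + 1 := by
    intro a b hab
    have hlt : (hV.primeIdealOf ⟨pt a, hptV a⟩).asIdeal < (hV.primeIdealOf ⟨pt b, hptV b⟩).asIdeal := by
      rw [hpt a, hpt b]
      refine lt_of_le_of_ne (Ideal.comap_mono hab.1.le) fun heq => ?_
      have : a.asIdeal = b.asIdeal := by rw [← hmapcomap a, ← hmapcomap b, heq]
      exact hab.1.ne (PrimeSpectrum.ext this)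
    have hspec : pt a ⤳ pt b :=
      (primeIdealOf_le_iff_specializes hV (pt a) (pt b) (hptV a) (hptV b)).mp hlt.le
    have hne : pt a ≠ pt b := by
      intro h
      have : (hV.primeIdealOf ⟨pt a, hptV a⟩).asIdeal = (hV.primeIdealOf ⟨pt b, hptV b⟩).asIdeal :=
        congrArg (fun w : ↥V => (hV.primeIdealOf w).asIdeal)
          (Subtype.ext h : (⟨pt a, hptV a⟩ : ↥V) = ⟨pt b, hptV b⟩)
      exact hlt.ne this
    refine (hδ (pt a) (pt b) hspec hne).2 ?_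
    intro z haz hzb
    have hzV : z ∈ V := hzb.mem_open V.2 (hptV b)
    have h1 : (hV.primeIdealOf ⟨pt a, hptV a⟩).asIdeal ≤ (hV.primeIdealOf ⟨z, hzV⟩).asIdeal :=
      (primeIdealOf_le_iff_specializes hV (pt a) z (hptV a) hzV).mpr haz
    have h2 : (hV.primeIdealOf ⟨z, hzV⟩).asIdeal ≤ (hV.primeIdealOf ⟨pt b, hptV b⟩).asIdeal :=
      (primeIdealOf_le_iff_specializes hV z (pt b) hzV (hptV b)).mpr hzb
    have hsz : 𝔮s ≤ (hV.primeIdealOf ⟨z, hzV⟩).asIdeal := by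
      refine le_trans ?_ h1
      rw [hpt a]
      have h0 : 𝔮s = Ideal.comap (Ideal.Quotient.mk 𝔮s) ⊥ := by
        rw [← RingHom.ker_eq_comap_bot, Ideal.mk_ker]
      exact h0.le.trans (Ideal.comap_mono bot_le)
    have hpz : (hV.primeIdealOf ⟨z, hzV⟩).asIdeal.IsPrime := (hV.primeIdealOf _).2
    let c : PrimeSpectrum (Γ(S, V) ⧸ 𝔮s) :=
      ⟨(hV.primeIdealOf ⟨z, hzV⟩).asIdeal.map (Ideal.Quotient.mk 𝔮s),
        map_mk_isPrime_of_le 𝔮s _ hsz⟩
    have hcz : c.asIdeal.comap (Ideal.Quotient.mk 𝔮s) = (hV.primeIdealOf ⟨z, hzV⟩).asIdeal :=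
      comap_map_mk_of_le 𝔮s _ hsz
    have hac : a ≤ c := by
      change a.asIdeal ≤ c.asIdeal
      rw [← hmapcomap a, ← hpt a]
      exact Ideal.map_mono h1
    have hcb : c ≤ b := by
      change c.asIdeal ≤ b.asIdeal
      rw [← hmapcomap b, ← hpt b]
      exact Ideal.map_mono h2
    rcases hab.eq_or_eq hac hcb with h | h
    · left
      refine primeIdealOf_injective hV z (pt a) hzV (hptV a) (PrimeSpectrum.ext ?_)
      rw [hpt a, ← h, hcz]
    · right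
      refine primeIdealOf_injective hV z (pt b) hzV (hptV b) (PrimeSpectrum.ext ?_)
      rw [hpt b, ← h, hcz]
  have hdom : IsDomain (Γ(S, V) ⧸ 𝔮s) := Ideal.Quotient.isDomain 𝔮s
  have hfin : (𝔮t.map (Ideal.Quotient.mk 𝔮s)).height ≠ ⊤ := Ideal.height_ne_top_of_isPrime
  obtain ⟨r, hr⟩ := ENat.ne_top_iff_exists.mp hfin
  refine ⟨r, hr.symm, ?_⟩
  have hr' : Order.height (⟨𝔮t.map (Ideal.Quotient.mk 𝔮s), hpP⟩ :
      PrimeSpectrum (Γ(S, V) ⧸ 𝔮s)) = r := by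
    rw [← PrimeSpectrum.height_eq_orderHeight]
    exact hr.symm
  have key := eq_add_height_of_covBy ψ hψ r _ hr'
  have hbot : pt ⊥ = s := by
    refine primeIdealOf_injective hV (pt ⊥) s (hptV ⊥) hs (PrimeSpectrum.ext ?_)
    rw [hpt ⊥]
    change Ideal.comap (Ideal.Quotient.mk 𝔮s) ⊥ = 𝔮s
    rw [← RingHom.ker_eq_comap_bot, Ideal.mk_ker]
  have hlast : pt ⟨𝔮t.map (Ideal.Quotient.mk 𝔮s), hpP⟩ = t := by
    refine primeIdealOf_injective hV _ t (hptV _) ht (PrimeSpectrum.ext ?_)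
    rw [hpt]
    exact comap_map_mk_of_le 𝔮s 𝔮t hle
  simp only [ψ] at key
  rw [hbot, hlast] at key
  exact key

end chart

section chartX

variable {X : Scheme.{u}} {U : X.Opens} (hU : IsAffineOpen U)

include hU in
/-- For a nontrivial specialization `x ⤳ y` in an affine chart, `ht(𝔭_y/𝔭_x) ≠ 0`. -/
theorem chart_height_map_quotient_ne_zero (x y : X) (hx : x ∈ U) (hy : y ∈ U) (hxy : x ⤳ y)
    (hne : x ≠ y) :
    ((hU.primeIdealOf ⟨y, hy⟩).asIdeal.map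
        (Ideal.Quotient.mk (hU.primeIdealOf ⟨x, hx⟩).asIdeal)).height ≠ 0 := by
  set 𝔭x := (hU.primeIdealOf ⟨x, hx⟩).asIdeal with h𝔭x
  set 𝔭y := (hU.primeIdealOf ⟨y, hy⟩).asIdeal with h𝔭y
  have hpx : 𝔭x.IsPrime := (hU.primeIdealOf ⟨x, hx⟩).2
  have hpy : 𝔭y.IsPrime := (hU.primeIdealOf ⟨y, hy⟩).2
  have hle : 𝔭x ≤ 𝔭y := (primeIdealOf_le_iff_specializes hU x y hx hy).mpr hxy
  have hpP : (𝔭y.map (Ideal.Quotient.mk 𝔭x)).IsPrime := map_mk_isPrime_of_le 𝔭x 𝔭y hle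
  have hdom : IsDomain (Γ(X, U) ⧸ 𝔭x) := Ideal.Quotient.isDomain 𝔭x
  intro h0
  rw [(⟨_, hpP⟩ : PrimeSpectrum (Γ(X, U) ⧸ 𝔭x)).height_eq_orderHeight, Order.height_eq_zero] at h0
  have h1 : (⟨_, hpP⟩ : PrimeSpectrum (Γ(X, U) ⧸ 𝔭x)) ≤ ⊥ := h0 bot_le
  have h2 : 𝔭y.map (Ideal.Quotient.mk 𝔭x) ≤ ⊥ := h1
  have h3 := Ideal.comap_mono (f := Ideal.Quotient.mk 𝔭x) h2
  rw [comap_map_mk_of_le 𝔭x 𝔭y hle, ← RingHom.ker_eq_comap_bot, Ideal.mk_ker] at h3
  have h4 : hU.primeIdealOf ⟨x, hx⟩ = hU.primeIdealOf ⟨y, hy⟩ :=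
    PrimeSpectrum.ext (le_antisymm hle h3)
  exact hne (primeIdealOf_injective hU x y hx hy h4)

include hU in
/-- For an immediate specialization `x ⤳ y` in an affine chart, `ht(𝔭_y/𝔭_x) ≤ 1`. -/
theorem chart_height_map_quotient_le_one (x y : X) (hx : x ∈ U) (hy : y ∈ U) (hxy : x ⤳ y)
    (himm : ∀ z : X, x ⤳ z → z ⤳ y → z = x ∨ z = y) :
    ((hU.primeIdealOf ⟨y, hy⟩).asIdeal.map
        (Ideal.Quotient.mk (hU.primeIdealOf ⟨x, hx⟩).asIdeal)).height ≤ 1 := by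
  set 𝔭x := (hU.primeIdealOf ⟨x, hx⟩).asIdeal with h𝔭x
  set 𝔭y := (hU.primeIdealOf ⟨y, hy⟩).asIdeal with h𝔭y
  have hpx : 𝔭x.IsPrime := (hU.primeIdealOf ⟨x, hx⟩).2
  have hpy : 𝔭y.IsPrime := (hU.primeIdealOf ⟨y, hy⟩).2
  have hle : 𝔭x ≤ 𝔭y := (primeIdealOf_le_iff_specializes hU x y hx hy).mpr hxy
  have hpP : (𝔭y.map (Ideal.Quotient.mk 𝔭x)).IsPrime := map_mk_isPrime_of_le 𝔭x 𝔭y hle
  have hdom : IsDomain (Γ(X, U) ⧸ 𝔭x) := Ideal.Quotient.isDomain 𝔭x
  have h1 : ((1 : ℕ) : ℕ∞) = 1 := rfl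
  rw [← h1, Ideal.height_le_iff]
  intro q hq hqP
  -- the point attached to `q`
  obtain ⟨z, hz, hzq⟩ := exists_primeIdealOf_eq hU
    ⟨q.comap (Ideal.Quotient.mk 𝔭x), Ideal.IsPrime.comap _⟩
  have hzq' : (hU.primeIdealOf ⟨z, hz⟩).asIdeal = q.comap (Ideal.Quotient.mk 𝔭x) :=
    congrArg PrimeSpectrum.asIdeal hzq
  have hmc : (q.comap (Ideal.Quotient.mk 𝔭x)).map (Ideal.Quotient.mk 𝔭x) = q :=
    Ideal.map_comap_of_surjective _ Ideal.Quotient.mk_surjective _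
  have hxz : x ⤳ z := by
    rw [← primeIdealOf_le_iff_specializes hU x z hx hz, hzq']
    have h0 : 𝔭x = Ideal.comap (Ideal.Quotient.mk 𝔭x) ⊥ := by
      rw [← RingHom.ker_eq_comap_bot, Ideal.mk_ker]
    exact h0.le.trans (Ideal.comap_mono bot_le)
  have hzy : z ⤳ y := by
    rw [← primeIdealOf_le_iff_specializes hU z y hz hy, hzq']
    change _ ≤ 𝔭y
    rw [← comap_map_mk_of_le 𝔭x 𝔭y hle]
    exact Ideal.comap_mono hqP.le
  rcases himm z hxz hzy with h | h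
  · subst h
    have : q = ⊥ := by
      rw [← hmc, ← hzq']
      exact Ideal.map_quotient_self _
    rw [this, Ideal.height_bot]
    exact_mod_cast Nat.zero_lt_one
  · exfalso
    subst h
    have : q = 𝔭y.map (Ideal.Quotient.mk 𝔭x) := by
      rw [← hmc, ← hzq']
    exact hqP.ne this

end chartX

section main

/-- **Induced dimension functions.**  Let `S` be locally Noetherian with universally catenary local
rings and dimension function `δ`, and `f : X ⟶ S` locally of finite type. Then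
`δX x = δ (f x) + trdeg κ(x)/κ(f x)` is a dimension function on `X`. -/
theorem isDimFun_of_deltaCompat {X S : Scheme.{u}} (f : X ⟶ S) [LocallyOfFiniteType f]
    (δ : ↥S → ℤ) (hS : Cyc.IsSetup S δ) (δX : ↥X → ℤ) (hδ : Cyc.DeltaCompat f δX δ) :
    Cyc.IsDimFun X δX := by
  obtain ⟨hN, hcat, hdim⟩ := hS
  intro x y hxy hne
  obtain ⟨V, hV, hfyV, -⟩ := exists_isAffineOpen_mem_and_subset (x := f y) (U := ⊤) trivial
  obtain ⟨U, hU, hyU, e⟩ := exists_isAffineOpen_mem_and_subset (x := y) (U := f ⁻¹ᵁ V) hfyV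
  have hxU : x ∈ U := hxy.mem_open U.2 hyU
  obtain ⟨nx, hnx, hδx⟩ := hδ x
  obtain ⟨ny, hny, hδy⟩ := hδ y
  have key := chart_height_add_trdeg_eq f hV hU e hcat x y hxU hyU hxy ny nx hny hnx
  obtain ⟨r, hr, hδr⟩ := isDimFun_chart hV δ hdim (f x) (f y) (e hxU) (e hyU)
    (hxy.map f.continuous)
  rw [hr] at key
  have hfin : ((hU.primeIdealOf ⟨y, hyU⟩).asIdeal.map
      (Ideal.Quotient.mk (hU.primeIdealOf ⟨x, hxU⟩).asIdeal)).height ≠ ⊤ := by
    intro htop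
    rw [htop, top_add] at key
    exact ENat.natCast_ne_top (r + nx) (by push_cast; exact key.symm)
  obtain ⟨r', hr'⟩ := ENat.ne_top_iff_exists.mp hfin
  have h0 := chart_height_map_quotient_ne_zero hU x y hxU hyU hxy hne
  rw [← hr'] at key h0
  have hnat : r' + ny = r + nx := by exact_mod_cast key
  have hr'pos : 1 ≤ r' := by
    rcases Nat.eq_zero_or_pos r' with h | h
    · exact absurd (by rw [h]; rfl) h0
    · exact h
  have hδ' : δX x = δX y + r' := by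
    rw [hδx, hδy, hδr]
    have : (r' : ℤ) + ny = r + nx := by exact_mod_cast hnat
    linarith
  refine ⟨by rw [hδ']; have : (1 : ℤ) ≤ r' := by exact_mod_cast hr'pos
             linarith, fun himm => ?_⟩
  have h1 := chart_height_map_quotient_le_one hU x y hxU hyU hxy himm
  rw [← hr'] at h1
  have h2 : r' ≤ 1 := by exact_mod_cast h1
  have : r' = 1 := le_antisymm h2 hr'pos
  rw [hδ', this]
  rfl

end main

end Groth.Agent.Lib.Helper55
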