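import Groth.Agent.Lib.Helper55.TensorDim
import Groth.Agent.Lib.Helper55.LocalDimAffine
import Mathlib.RingTheory.Ideal.KrullsHeightTheorem
import Mathlib.RingTheory.FiniteStability

/-! The affine dimension theorem (reduction to the diagonal): in a `k`-algebra `A` generated by
`m` elements, an irreducible component of `V(𝔭) ∩ V(𝔮)` has dimension at least
`dim V(𝔭) + dim V(𝔮) - m` (helper55). -/

set_option autoImplicit false

namespace Groth.Agent.Lib.Helper55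

open TensorProduct

universe u

/-- **Affine dimension theorem.** Let `A` be an algebra over a field `k` generated by the finite
family `x`, and `𝔭`, `𝔮` primes of `A`.  For every prime `P` minimal over `𝔭 + 𝔮`,
`dim A/𝔭 + dim A/𝔮 ≤ dim A/P + #x`. -/
theorem ringKrullDim_quotient_add_le_of_mem_minimalPrimes_sup (k : Type u) [Field k] (A : Type u)
    [CommRing A] [Algebra k A] {ι : Type*} [Fintype ι] (x : ι → A)
    (hx : Algebra.adjoin k (Set.range x) = ⊤) (𝔭 𝔮 P : Ideal A) [h𝔭 : 𝔭.IsPrime] [h𝔮 : 𝔮.IsPrime]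
    (hP : P ∈ (𝔭 ⊔ 𝔮).minimalPrimes) :
    ringKrullDim (A ⧸ 𝔭) + ringKrullDim (A ⧸ 𝔮) ≤
      ringKrullDim (A ⧸ P) + (Fintype.card ι : WithBot ℕ∞) := by
  classical
  have hPprime : P.IsPrime := hP.1.1
  have h𝔭P : 𝔭 ≤ P := le_sup_left.trans hP.1.2
  have h𝔮P : 𝔮 ≤ P := le_sup_right.trans hP.1.2
  have hftA : Algebra.FiniteType k A := ⟨⟨Finset.univ.image x, by
    rw [Finset.coe_image, Finset.coe_univ, Set.image_univ]; exact hx⟩⟩
  have hft1 : Algebra.FiniteType k (A ⧸ 𝔭) :=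
    Algebra.FiniteType.of_surjective (Ideal.Quotient.mkₐ k 𝔭) (Ideal.Quotient.mkₐ_surjective k 𝔭)
  have hft2 : Algebra.FiniteType k (A ⧸ 𝔮) :=
    Algebra.FiniteType.of_surjective (Ideal.Quotient.mkₐ k 𝔮) (Ideal.Quotient.mkₐ_surjective k 𝔮)
  have hdom1 : IsDomain (A ⧸ 𝔭) := (Ideal.Quotient.isDomain_iff_prime _).mpr h𝔭
  have hdom2 : IsDomain (A ⧸ 𝔮) := (Ideal.Quotient.isDomain_iff_prime _).mpr h𝔮
  have hdomP : IsDomain (A ⧸ P) := (Ideal.Quotient.isDomain_iff_prime _).mpr hPprime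
  have hnoeth2 : IsNoetherianRing (A ⧸ 𝔮) := Algebra.FiniteType.isNoetherianRing k (A ⧸ 𝔮)
  -- the two maps `A → C`
  let ι₁ : A →ₐ[k] (A ⧸ 𝔭) ⊗[k] (A ⧸ 𝔮) :=
    (Algebra.TensorProduct.includeLeft).comp (Ideal.Quotient.mkₐ k 𝔭)
  let ι₂ : A →ₐ[k] (A ⧸ 𝔭) ⊗[k] (A ⧸ 𝔮) :=
    (Algebra.TensorProduct.includeRight).comp (Ideal.Quotient.mkₐ k 𝔮)
  let ψ : (A ⧸ 𝔭) ⊗[k] (A ⧸ 𝔮) →ₐ[k] A ⧸ P :=
    Algebra.TensorProduct.productMap (Ideal.Quotient.factorₐ k h𝔭P) (Ideal.Quotient.factorₐ k h𝔮P)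
  have hψ1 : ∀ a : A, ψ (ι₁ a) = Ideal.Quotient.mk P a := by
    intro a
    change Algebra.TensorProduct.productMap _ _ ((Ideal.Quotient.mk 𝔭 a) ⊗ₜ[k] (1 : A ⧸ 𝔮)) = _
    rw [Algebra.TensorProduct.productMap_apply_tmul, map_one, mul_one]
    rfl
  have hψ2 : ∀ a : A, ψ (ι₂ a) = Ideal.Quotient.mk P a := by
    intro a
    change Algebra.TensorProduct.productMap _ _ ((1 : A ⧸ 𝔭) ⊗ₜ[k] (Ideal.Quotient.mk 𝔮 a)) = _
    rw [Algebra.TensorProduct.productMap_apply_tmul, map_one, one_mul]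
    rfl
  have hψsurj : Function.Surjective ψ := by
    intro b
    obtain ⟨a, rfl⟩ := Ideal.Quotient.mk_surjective b
    exact ⟨ι₁ a, hψ1 a⟩
  set Pt : Ideal ((A ⧸ 𝔭) ⊗[k] (A ⧸ 𝔮)) := RingHom.ker ψ.toRingHom with hPt
  have hPtprime : Pt.IsPrime := RingHom.ker_isPrime ψ.toRingHom
  have hdimPt : ringKrullDim (((A ⧸ 𝔭) ⊗[k] (A ⧸ 𝔮)) ⧸ Pt) = ringKrullDim (A ⧸ P) :=
    ringKrullDim_eq_of_ringEquiv (RingHom.quotientKerEquivOfSurjective hψsurj)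
  -- the diagonal ideal
  set D : Ideal ((A ⧸ 𝔭) ⊗[k] (A ⧸ 𝔮)) :=
    Ideal.span (Set.range fun i => ι₁ (x i) - ι₂ (x i)) with hD
  have hDPt : D ≤ Pt := by
    rw [hD, Ideal.span_le]
    rintro _ ⟨i, rfl⟩
    change ψ (ι₁ (x i) - ι₂ (x i)) = 0
    rw [map_sub, hψ1, hψ2, sub_self]
  -- (i) `ι₁ ≡ ι₂` modulo `D`
  have hcongr : ∀ a : A, ι₁ a - ι₂ a ∈ D := by
    have heq : (Ideal.Quotient.mkₐ k D).comp ι₁ = (Ideal.Quotient.mkₐ k D).comp ι₂ := by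
      apply AlgHom.ext_of_adjoin_eq_top hx
      rintro _ ⟨i, rfl⟩
      change Ideal.Quotient.mk D (ι₁ (x i)) = Ideal.Quotient.mk D (ι₂ (x i))
      rw [Ideal.Quotient.eq]
      exact Ideal.subset_span ⟨i, rfl⟩
    intro a
    have := congrArg (fun φ => φ a) heq
    change Ideal.Quotient.mk D (ι₁ a) = Ideal.Quotient.mk D (ι₂ a) at this
    rwa [Ideal.Quotient.eq] at this
  -- (ii) every element is congruent to some `ι₁ a`
  have hrep : ∀ c : (A ⧸ 𝔭) ⊗[k] (A ⧸ 𝔮), ∃ a : A, c - ι₁ a ∈ D := by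
    intro c
    induction c using TensorProduct.induction_on with
    | zero => exact ⟨0, by simp⟩
    | tmul a₁ a₂ =>
      obtain ⟨a, rfl⟩ := Ideal.Quotient.mk_surjective a₁
      obtain ⟨b, rfl⟩ := Ideal.Quotient.mk_surjective a₂
      refine ⟨a * b, ?_⟩
      have h1 : (Ideal.Quotient.mk 𝔭 a) ⊗ₜ[k] (Ideal.Quotient.mk 𝔮 b) = ι₁ a * ι₂ b := by
        change _ = ((Ideal.Quotient.mk 𝔭 a) ⊗ₜ[k] (1 : A ⧸ 𝔮)) *
          ((1 : A ⧸ 𝔭) ⊗ₜ[k] (Ideal.Quotient.mk 𝔮 b))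
        rw [Algebra.TensorProduct.tmul_mul_tmul, mul_one, one_mul]
      rw [h1, map_mul]
      have h2 : ι₁ a * ι₂ b - ι₁ a * ι₁ b = -(ι₁ a * (ι₁ b - ι₂ b)) := by ring
      rw [h2]
      exact D.neg_mem (D.mul_mem_left _ (hcongr b))
    | add c c' hc hc' =>
      obtain ⟨a, ha⟩ := hc
      obtain ⟨a', ha'⟩ := hc'
      refine ⟨a + a', ?_⟩
      have : c + c' - ι₁ (a + a') = (c - ι₁ a) + (c' - ι₁ a') := by rw [map_add]; ring
      rw [this]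
      exact D.add_mem ha ha'
  -- `Pt` is minimal over `D`
  have hmin : Pt ∈ D.minimalPrimes := by
    refine ⟨⟨hPtprime, hDPt⟩, ?_⟩
    rintro Q ⟨hQprime, hDQ⟩ hQPt
    have hQ₀prime : (Q.comap ι₁.toRingHom).IsPrime := Ideal.comap_isPrime _ _
    have h1 : 𝔭 ≤ Q.comap ι₁.toRingHom := by
      intro a ha
      change ι₁ a ∈ Q
      have : ι₁ a = 0 := by
        change (Ideal.Quotient.mk 𝔭 a) ⊗ₜ[k] (1 : A ⧸ 𝔮) = 0
        rw [Ideal.Quotient.eq_zero_iff_mem.mpr ha, TensorProduct.zero_tmul]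
      rw [this]
      exact Q.zero_mem
    have h2 : 𝔮 ≤ Q.comap ι₁.toRingHom := by
      intro b hb
      change ι₁ b ∈ Q
      have h0 : ι₂ b = 0 := by
        change (1 : A ⧸ 𝔭) ⊗ₜ[k] (Ideal.Quotient.mk 𝔮 b) = 0
        rw [Ideal.Quotient.eq_zero_iff_mem.mpr hb, TensorProduct.tmul_zero]
      have := hDQ (hcongr b)
      rwa [h0, sub_zero] at this
    have h3 : Q.comap ι₁.toRingHom ≤ P := by
      intro a ha
      have h4 : ι₁ a ∈ Pt := hQPt ha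
      have h5 : ψ (ι₁ a) = 0 := h4
      rw [hψ1] at h5
      exact Ideal.Quotient.eq_zero_iff_mem.mp h5
    have h4 : P ≤ Q.comap ι₁.toRingHom := hP.2 ⟨hQ₀prime, sup_le h1 h2⟩ h3
    intro c hc
    obtain ⟨a, ha⟩ := hrep c
    have h5 : ψ c = 0 := hc
    have h6 : ψ (c - ι₁ a) = 0 := hDPt ha
    rw [map_sub, h5, zero_sub, neg_eq_zero, hψ1] at h6
    have h7 : ι₁ a ∈ Q := h4 (Ideal.Quotient.eq_zero_iff_mem.mp h6)
    have : c = (c - ι₁ a) + ι₁ a := by ring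
    rw [this]
    exact Q.add_mem (hDQ ha) h7
  -- Krull's height theorem
  have hftC : Algebra.FiniteType k ((A ⧸ 𝔭) ⊗[k] (A ⧸ 𝔮)) :=
    Algebra.FiniteType.trans (S := A ⧸ 𝔭) hft1 inferInstance
  have hnoethC : IsNoetherianRing ((A ⧸ 𝔭) ⊗[k] (A ⧸ 𝔮)) :=
    Algebra.FiniteType.isNoetherianRing k ((A ⧸ 𝔭) ⊗[k] (A ⧸ 𝔮))
  have hht : Pt.height ≤ (Fintype.card ι : ℕ∞) := by
    have hfin : (Set.range fun i => ι₁ (x i) - ι₂ (x i)).Finite := Set.finite_range _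
    have h1 := Ideal.height_le_card_of_mem_minimalPrimes_span hfin hmin
    refine h1.trans ?_
    have h2 : (Set.range fun i => ι₁ (x i) - ι₂ (x i)).ncard ≤ Fintype.card ι := by
      rw [← Set.image_univ]
      refine (Set.ncard_image_le Set.finite_univ).trans ?_
      rw [Set.ncard_univ, Nat.card_eq_fintype_card]
    exact_mod_cast h2
  -- the dimension of the components of `C`
  obtain ⟨𝔔, h𝔔min, h𝔔le, h𝔔dim⟩ :=
    exists_minimalPrimes_ringKrullDim_quotient_eq k ((A ⧸ 𝔭) ⊗[k] (A ⧸ 𝔮)) Pt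
  have hC := ringKrullDim_quotient_tensorProduct_of_mem_minimalPrimes k (A ⧸ 𝔭) (A ⧸ 𝔮) 𝔔 h𝔔min
  rw [← hC, h𝔔dim, hdimPt]
  exact add_le_add_right (by exact_mod_cast hht) _

end Groth.Agent.Lib.Helper55
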