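import Mathlib
import Groth.Agent.Lib.Helper55.OpenAtBaseChange
import Groth.Agent.Lib.Helper55.FibreDimFormula
import Groth.Agent.Lib.Helper55.ClosedSubschemeDim

/-! Dimensions of the traces of fibres on closed subsets: base change invariance, a bound by
transcendence degrees, and generizations inside the closure of a closed subset of a Noetherian
fibre (helper55). -/

set_option autoImplicit false
universe u

namespace Groth.Agent.Lib.Helper55

open AlgebraicGeometry CategoryTheory Topology TopologicalSpace Limits

section closedFibre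

variable {X S : Scheme.{u}} (f : X ⟶ S) [LocallyOfFiniteType f]

omit [LocallyOfFiniteType f] in
/-- The trace of a fibre on a closed subset, as a fibre of the reduced closed subscheme. -/
theorem topologicalKrullDim_closeds_inter_fibre (C : TopologicalSpace.Closeds X) (t : S) :
    topologicalKrullDim ↥((C : Set X) ∩ f.base ⁻¹' {t}) =
      topologicalKrullDim
        ↥(((Scheme.IdealSheafData.vanishingIdeal C).subschemeι ≫ f).fiber t) := by
  have hrange : Set.range (Scheme.IdealSheafData.vanishingIdeal C).subschemeι.base =
      (C : Set X) := by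
    rw [Scheme.IdealSheafData.range_subschemeι, Scheme.IdealSheafData.coe_support_vanishingIdeal]
  have h1 := topologicalKrullDim_range_inter_preimage f
    (Scheme.IdealSheafData.vanishingIdeal C).subschemeι t
  have h2 : topologicalKrullDim
      ↥(((Scheme.IdealSheafData.vanishingIdeal C).subschemeι ≫ f).fiber t) =
      topologicalKrullDim ↥(((Scheme.IdealSheafData.vanishingIdeal C).subschemeι ≫ f) ⁻¹' {t}) :=
    IsHomeomorph.topologicalKrullDim_eq _
      (((Scheme.IdealSheafData.vanishingIdeal C).subschemeι ≫ f).fiberHomeo t).isHomeomorph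
  rw [h2, ← h1]
  have hset : ((C : Set X) ∩ f.base ⁻¹' {t}) =
      (Set.range (Scheme.IdealSheafData.vanishingIdeal C).subschemeι ∩ f ⁻¹' {t}) := by
    rw [← hrange]
  rw [hset]

/-- **Bound by transcendence degrees.**  If every point `r` of the closed subset `C` lying over `t`
has `trdeg κ(r)/κ(t) ≤ N`, then `dim (C ∩ X_t) ≤ N`. -/
theorem topologicalKrullDim_closeds_inter_fibre_le (C : TopologicalSpace.Closeds X) (t : S)
    (N : WithBot ℕ∞)
    (H : ∀ r : X, r ∈ (C : Set X) → f.base r = t → ∀ n : ℕ,
      @Algebra.trdeg (S.residueField (f r)) (X.residueField r) _ _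
        (f.residueFieldMap r).hom.toAlgebra = n → (n : WithBot ℕ∞) ≤ N) :
    topologicalKrullDim ↥((C : Set X) ∩ f.base ⁻¹' {t}) ≤ N := by
  have hrange : Set.range (Scheme.IdealSheafData.vanishingIdeal C).subschemeι.base =
      (C : Set X) := by
    rw [Scheme.IdealSheafData.range_subschemeι, Scheme.IdealSheafData.coe_support_vanishingIdeal]
  rw [topologicalKrullDim_closeds_inter_fibre f C t, topologicalKrullDim_fiber_eq_iSup]
  refine iSup_le fun k => ?_
  obtain ⟨k', hk'1, -, -, n, hn1, hn2, -, -⟩ := exists_maximal_point_fiber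
    ((Scheme.IdealSheafData.vanishingIdeal C).subschemeι ≫ f) k.1
  rw [hn2]
  refine H ((Scheme.IdealSheafData.vanishingIdeal C).subschemeι k') ?_ ?_ n ?_
  · rw [← hrange]; exact ⟨k', rfl⟩
  · exact hk'1.trans k.2
  · exact (trdeg_residueField_preimmersion_comp
      (Scheme.IdealSheafData.vanishingIdeal C).subschemeι f k').symm.trans hn1

/-- **Base change invariance.**  For a closed subset `C` of `X` and a base change `h : S' ⟶ S`,
the trace of the fibre over `t'` on the preimage of `C` has the dimension of the trace on `C` of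
the fibre over `h t'`. -/
theorem topologicalKrullDim_preimage_inter_fibre_eq {S' : Scheme.{u}} (h : S' ⟶ S)
    (C : TopologicalSpace.Closeds X) (t' : S') :
    topologicalKrullDim ↥((pullback.fst f h).base ⁻¹' (C : Set X) ∩
        (pullback.snd f h).base ⁻¹' {t'}) =
      topologicalKrullDim ↥((C : Set X) ∩ f.base ⁻¹' {h.base t'}) := by
  have hrange : Set.range (Scheme.IdealSheafData.vanishingIdeal C).subschemeι.base =
      (C : Set X) := by
    rw [Scheme.IdealSheafData.range_subschemeι, Scheme.IdealSheafData.coe_support_vanishingIdeal]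
  rw [topologicalKrullDim_closeds_inter_fibre f C (h.base t')]
  have hsq : IsPullback
      (pullback.fst (Scheme.IdealSheafData.vanishingIdeal C).subschemeι (pullback.fst f h))
      (pullback.snd (Scheme.IdealSheafData.vanishingIdeal C).subschemeι (pullback.fst f h) ≫
        pullback.snd f h)
      ((Scheme.IdealSheafData.vanishingIdeal C).subschemeι ≫ f) h :=
    ((IsPullback.of_hasPullback (Scheme.IdealSheafData.vanishingIdeal C).subschemeι
      (pullback.fst f h)).flip.paste_horiz (IsPullback.of_hasPullback f h).flip).flip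
  rw [← topologicalKrullDim_fiber_eq_of_isPullback
    ((Scheme.IdealSheafData.vanishingIdeal C).subschemeι ≫ f) h _ _ hsq t']
  have h1 := topologicalKrullDim_range_inter_preimage (pullback.snd f h)
    (pullback.snd (Scheme.IdealSheafData.vanishingIdeal C).subschemeι (pullback.fst f h)) t'
  have h2 : topologicalKrullDim
      ↥((pullback.snd (Scheme.IdealSheafData.vanishingIdeal C).subschemeι (pullback.fst f h) ≫
        pullback.snd f h).fiber t') =
      topologicalKrullDim
        ↥((pullback.snd (Scheme.IdealSheafData.vanishingIdeal C).subschemeι (pullback.fst f h) ≫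
          pullback.snd f h) ⁻¹' {t'}) :=
    IsHomeomorph.topologicalKrullDim_eq _
      ((pullback.snd (Scheme.IdealSheafData.vanishingIdeal C).subschemeι (pullback.fst f h) ≫
        pullback.snd f h).fiberHomeo t').isHomeomorph
  rw [h2, ← h1]
  have hset : ((pullback.fst f h).base ⁻¹' (C : Set X) ∩ (pullback.snd f h).base ⁻¹' {t'}) =
      (Set.range (pullback.snd (Scheme.IdealSheafData.vanishingIdeal C).subschemeι
        (pullback.fst f h)) ∩ (pullback.snd f h) ⁻¹' {t'}) := by
    rw [Scheme.Pullback.range_snd, ← hrange]
  rw [hset]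

end closedFibre

section generization

/-- In a space `F`, let `B` be a subset which is a Noetherian quasi-sober subspace and `K` a closed
subset.  Every point of the closure of `B ∩ K` is a specialization of a point of `B ∩ K`. -/
theorem exists_specializes_of_mem_closure_inter {F : Type*} [TopologicalSpace F] (B K : Set F)
    [NoetherianSpace ↥B] [QuasiSober ↥B] (hK : IsClosed K) (r : F) (hr : r ∈ closure (B ∩ K)) :
    ∃ ζ ∈ B ∩ K, ζ ⤳ r := by
  classical
  -- the closed subset `G = K ∩ B` of `B`
  set G : Set ↥B := Subtype.val ⁻¹' K with hG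
  have hGcl : IsClosed G := hK.preimage continuous_subtype_val
  have himg : B ∩ K = Subtype.val '' G := by
    ext z
    constructor
    · rintro ⟨hzB, hzK⟩
      exact ⟨⟨z, hzB⟩, hzK, rfl⟩
    · rintro ⟨w, hw, rfl⟩
      exact ⟨w.2, hw⟩
  have : NoetherianSpace ↥G := NoetherianSpace.set G
  have : QuasiSober ↥G := hGcl.isClosedEmbedding_subtypeVal.quasiSober
  have hfin : (irreducibleComponents ↥G).Finite := NoetherianSpace.finite_irreducibleComponents
  -- `G` is the union of its irreducible components
  have hcover : (Set.univ : Set ↥G) = ⋃₀ irreducibleComponents ↥G := by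
    rw [sUnion_irreducibleComponents]
  have hG2 : B ∩ K = ⋃ C ∈ irreducibleComponents ↥G,
      (fun w : ↥G => ((w : ↥B) : F)) '' C := by
    rw [himg]
    ext z
    simp only [Set.mem_image, Set.mem_iUnion, exists_prop]
    constructor
    · rintro ⟨w, hw, rfl⟩
      have : (⟨w, hw⟩ : ↥G) ∈ ⋃₀ irreducibleComponents ↥G := by
        rw [← hcover]; trivial
      obtain ⟨C, hC, hwC⟩ := this
      exact ⟨C, hC, ⟨w, hw⟩, hwC, rfl⟩
    · rintro ⟨C, -, w, -, rfl⟩
      exact ⟨w.1, w.2, rfl⟩
  rw [hG2, hfin.closure_biUnion] at hr
  simp only [Set.mem_iUnion, exists_prop] at hr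
  obtain ⟨C, hC, hrC⟩ := hr
  obtain ⟨c, hc⟩ := QuasiSober.sober hC.1 (isClosed_of_mem_irreducibleComponents C hC)
  refine ⟨((c : ↥B) : F), ⟨(c : ↥B).2, c.2⟩, ?_⟩
  rw [specializes_iff_mem_closure]
  have hcont : Continuous (fun w : ↥G => ((w : ↥B) : F)) :=
    continuous_subtype_val.comp continuous_subtype_val
  have h1 : (fun w : ↥G => ((w : ↥B) : F)) '' C ⊆ closure {((c : ↥B) : F)} := by
    rw [← hc.def]
    refine (image_closure_subset_closure_image hcont).trans ?_
    rw [Set.image_singleton]
  exact closure_minimal h1 isClosed_closure hrC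

end generization

end Groth.Agent.Lib.Helper55
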