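import Mathlib
import Groth.Agent.H72.OpenUO
import Groth.Agent.Lib.Helper55.ZeroLocusEquidim
import Groth.Agent.Lib.Helper24.UnivOpenAt
import Groth.Agent.S4926
import Groth.Agent.S3393

/-! EGA IV 14.3.13, b) ⇒ a) over a geometrically unibranch point of a locally Noetherian base (not
necessarily irreducible): a point lying on an irreducible component `Z` dominating an irreducible
component of `Y` with `dim_z (Z ∩ X_y) = dim (Z ∩ X_η)` is a point of universal openness
(helper55, on top of helper72's pointwise Chevalley criterion). -/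

set_option autoImplicit false
universe u

namespace Groth.Agent.Lib.Helper55

open AlgebraicGeometry CategoryTheory Topology TopologicalSpace

/-- An irreducible scheme `X₁`, locally of finite type over a locally Noetherian scheme `Y`, whose
generic point lies over a maximal point of `Y` and whose local fibre dimension at `x₁` is at most
the transcendence degree of the function field extension, is equidimensional over `Y` at `x₁`. -/
theorem isEquidimAt_of_irreducibleSpace {X₁ Y : Scheme.{u}} [IrreducibleSpace X₁]
    [IsLocallyNoetherian Y] (g : X₁ ⟶ Y) [LocallyOfFiniteType g] (x₁ : X₁) (d : ℕ)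
    (hcomp : closure ({g.base (genericPoint X₁)} : Set Y) ∈ irreducibleComponents (Y : Type u))
    (htr : @Algebra.trdeg (Y.residueField (g.base (genericPoint X₁)))
      (X₁.residueField (genericPoint X₁)) _ _
      (g.residueFieldMap (genericPoint X₁)).hom.toAlgebra = d)
    (hfd : FlatMor.fibreDimAt g x₁ ≤ d) : EGA43.IsEquidimAt g x₁ := by
  have hξ : IsGenericPoint (genericPoint X₁) (Set.univ : Set X₁) := genericPoint_spec X₁
  apply isEquidimAt_of_components g x₁ d
  intro Xj hXj hx
  rw [irreducibleComponents_eq_singleton, Set.mem_singleton_iff] at hXj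
  subst hXj
  have himg : closure (g.base '' (Set.univ : Set X₁)) =
      closure {g.base (genericPoint X₁)} :=
    closure_image_eq_of_isGenericPoint g Set.univ _ hξ
  refine ⟨?_, ?_, ?_⟩
  · rw [himg]; exact hcomp
  · intro η hηc
    rw [himg] at hηc
    have hηeq : g.base (genericPoint X₁) = η := (inseparable_iff_closure_eq.mpr hηc.symm).eq
    obtain ⟨m, hm1, hm2⟩ := Groth.Agent.S3393.dim_closure_inter_fibre g η (genericPoint X₁) hηeq
    rw [hξ.def] at hm1
    have hmd : m = d := by
      have : ((m : ℕ) : Cardinal) = ((d : ℕ) : Cardinal) := by rw [← hm2, ← htr]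
      exact_mod_cast this
    rw [hm1, hmd]
  · apply le_antisymm
    · exact (localDim_inter_fibre_le g Set.univ x₁ hx).trans hfd
    · exact trdeg_le_localDim_inter_fibre g ⟨Set.univ, isClosed_univ⟩ x₁ (genericPoint X₁)
        hx (Set.mem_univ _) (hξ.specializes (Set.mem_univ _)) d htr

set_option backward.isDefEq.respectTransparency.types false in
/-- **EGA IV 14.3.13, b) ⇒ a).**  A point `z` on an irreducible component `Z` of `X` dominating an
irreducible component `Y₀` of `Y` (generic point `η`) with `dim_z (Z ∩ X_{f z}) = dim (Z ∩ X_η)`,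
over a geometrically unibranch point of a locally Noetherian base, is a point of universal
openness. -/
theorem isUnivOpenAt_of_component_general {X Y : Scheme.{u}} [IsLocallyNoetherian Y] (f : X ⟶ Y)
    [LocallyOfFiniteType f] (z : X)
    (hY : CAlg2.IsGeomUnibranch (Y.presheaf.stalk (f.base z)))
    (Z : Set X) (hZ : Z ∈ irreducibleComponents (X : Type u)) (hz : z ∈ Z)
    (Y₀ : Set Y) (hY₀ : Y₀ ∈ irreducibleComponents (Y : Type u))
    (hdom : closure (f.base '' Z) = Y₀) (η : Y) (hη : closure ({η} : Set Y) = Y₀)
    (hdim : FlatMor.localDim ↥(Z ∩ f.base ⁻¹' {f.base z}) ⟨z, ⟨hz, rfl⟩⟩ =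
      topologicalKrullDim ↥(Z ∩ f.base ⁻¹' {η})) : EGA43.IsUnivOpenAt f z := by
  have hZcl : IsClosed Z := isClosed_of_mem_irreducibleComponents Z hZ
  obtain ⟨ξ, hξ⟩ := QuasiSober.sober hZ.1 hZcl
  have hfξ : f.base ξ = η := by
    have h1 : closure ({f.base ξ} : Set Y) = closure {η} := by
      rw [← closure_image_eq_of_isGenericPoint f Z ξ hξ, hdom, hη]
    exact (inseparable_iff_closure_eq.mpr h1).eq
  obtain ⟨m, hm1, hm2⟩ := Groth.Agent.S3393.dim_closure_inter_fibre f η ξ hfξ
  rw [hξ.def] at hm1
  rw [hm1] at hdim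
  obtain ⟨Zc, hZc⟩ : ∃ Zc : TopologicalSpace.Closeds X, (Zc : Set X) = Z := ⟨⟨Z, hZcl⟩, rfl⟩
  have hrange : Set.range (Scheme.IdealSheafData.vanishingIdeal Zc).subschemeι.base = Z := by
    rw [Scheme.IdealSheafData.range_subschemeι, Scheme.IdealSheafData.coe_support_vanishingIdeal,
      hZc]
  have hirrZ : IsIrreducible
      (Set.range (Scheme.IdealSheafData.vanishingIdeal Zc).subschemeι.base) := by
    rw [hrange]; exact hZ.1
  have : IrreducibleSpace ↥(Scheme.IdealSheafData.vanishingIdeal Zc).subscheme :=
    irreducibleSpace_of_isEmbedding _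
      (Scheme.IdealSheafData.vanishingIdeal Zc).subschemeι.isEmbedding hirrZ
  obtain ⟨z₁, hz₁⟩ : z ∈ Set.range (Scheme.IdealSheafData.vanishingIdeal Zc).subschemeι.base := by
    rw [hrange]; exact hz
  have hgp : (Scheme.IdealSheafData.vanishingIdeal Zc).subschemeι.base
      (genericPoint ↥(Scheme.IdealSheafData.vanishingIdeal Zc).subscheme) = ξ := by
    have h1 : IsGenericPoint ((Scheme.IdealSheafData.vanishingIdeal Zc).subschemeι.base
        (genericPoint ↥(Scheme.IdealSheafData.vanishingIdeal Zc).subscheme))
        (closure ((Scheme.IdealSheafData.vanishingIdeal Zc).subschemeι.base '' Set.univ)) :=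
      (genericPoint_spec _).image (Scheme.IdealSheafData.vanishingIdeal Zc).subschemeι.continuous
    rw [Set.image_univ, hrange, hZcl.closure_eq] at h1
    exact h1.eq hξ
  subst hgp
  subst hz₁
  have hE : EGA43.IsEquidimAt ((Scheme.IdealSheafData.vanishingIdeal Zc).subschemeι ≫ f) z₁ := by
    apply isEquidimAt_of_irreducibleSpace _ z₁ m
    · rw [Scheme.Hom.comp_apply, hfξ, hη]; exact hY₀
    · rw [trdeg_residueField_preimmersion_comp]; exact hm2
    · rw [fibreDimAt_preimmersion_comp_eq f _ z₁]
      have hset : Set.range (Scheme.IdealSheafData.vanishingIdeal Zc).subschemeι.base ∩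
          f.base ⁻¹' {f.base ((Scheme.IdealSheafData.vanishingIdeal Zc).subschemeι.base z₁)} =
          Z ∩ f.base ⁻¹'
            {f.base ((Scheme.IdealSheafData.vanishingIdeal Zc).subschemeι.base z₁)} := by
        rw [hrange]
      rw [localDim_congr_set hset _ _ ⟨hz, rfl⟩, hdim]
  have h1 := Groth.Agent.H72.Chevalley.isUnivOpenAt_of_isEquidimAt
    ((Scheme.IdealSheafData.vanishingIdeal Zc).subschemeι ≫ f) z₁ hY hE
  exact Groth.Agent.S4926.result _ f z₁ h1

/-- Universal openness at a point implies openness at that point. -/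
theorem isOpenAt_of_isUnivOpenAt {X Y : Scheme.{u}} (f : X ⟶ Y) (x : X)
    (h : EGA43.IsUnivOpenAt f x) : EGA43.IsOpenAt f.base x :=
  Groth.Agent.Lib.Helper24.isOpenAt_snd_of_isUnivOpenAt h (IsPullback.id_horiz f) x rfl

end Groth.Agent.Lib.Helper55
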