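import Mathlib.AlgebraicGeometry.AlgebraicCycle.Basic
import Mathlib.AlgebraicGeometry.Fiber
import Mathlib.LinearAlgebra.Dimension.Free

/-!
# Functoriality of the proper pushforward of algebraic cycles

`AlgebraicCycle.map_map_of_le`: for quasi-compact `f : X ⟶ Y`, `g : Y ⟶ Z` and integer weight
functions with `wy (f x) ≤ wx x`, `wz (g y) ≤ wy y`, one has `g_* (f_* c) = (f ≫ g)_* c`.
-/

universe u

open CategoryTheory AlgebraicGeometry

namespace Groth.Agent.Lib.Helper55

/-- Tower law for residue degrees. -/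
lemma residueDegree_comp {X Y Z : Scheme.{u}} (f : X ⟶ Y) (g : Y ⟶ Z) (x : X) :
    (f ≫ g).residueDegree x = g.residueDegree (f x) * f.residueDegree x := by
  let a1 : Algebra (Y.residueField (f x)) (X.residueField x) := (f.residueFieldMap x).hom.toAlgebra
  let a2 : Algebra (Z.residueField (g (f x))) (Y.residueField (f x)) :=
    (g.residueFieldMap (f x)).hom.toAlgebra
  let a3 : Algebra (Z.residueField (g (f x))) (X.residueField x) :=
    ((f ≫ g).residueFieldMap x).hom.toAlgebra
  have : IsScalarTower (Z.residueField (g (f x))) (Y.residueField (f x)) (X.residueField x) := by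
    refine IsScalarTower.of_algebraMap_eq fun r => ?_
    change ((f ≫ g).residueFieldMap x).hom r = _
    rw [Scheme.residueFieldMap_comp]
    rfl
  exact (Module.finrank_mul_finrank (Z.residueField (g (f x))) (Y.residueField (f x))
    (X.residueField x)).symm

/-- `mapCoeff` is multiplicative along composition when the weights only drop. -/
lemma mapCoeff_comp {X Y Z : Scheme.{u}} {N : Type*} [DecidableEq N] [PartialOrder N]
    (f : X ⟶ Y) (g : Y ⟶ Z) (wx : X → N) (wy : Y → N) (wz : Z → N)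
    (hf : ∀ x, wy (f x) ≤ wx x) (hg : ∀ y, wz (g y) ≤ wy y) (x : X) :
    AlgebraicCycle.mapCoeff (f ≫ g) wx wz x =
      AlgebraicCycle.mapCoeff f wx wy x * AlgebraicCycle.mapCoeff g wy wz (f x) := by
  unfold AlgebraicCycle.mapCoeff
  by_cases h1 : wx x = wy (f x)
  · by_cases h2 : wy (f x) = wz (g (f x))
    · rw [if_pos h1, if_pos h2, if_pos (show wx x = wz ((f ≫ g) x) from h1.trans h2),
        residueDegree_comp, mul_comm]
    · rw [if_neg h2, if_neg (show ¬ wx x = wz ((f ≫ g) x) from fun h => h2 (h1.symm.trans h)),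
        mul_zero]
  · rw [if_neg h1, if_neg (show ¬ wx x = wz ((f ≫ g) x) from fun h =>
      h1 (le_antisymm (h.le.trans (hg (f x))) (hf x))), zero_mul]

/-- Functoriality of the pushforward of cycles: `g_* (f_* c) = (f ≫ g)_* c`. -/
theorem map_map_of_le {X Y Z : Scheme.{u}} {R : Type*} [Semiring R] {N : Type*} [DecidableEq N]
    [PartialOrder N] (f : X ⟶ Y) (g : Y ⟶ Z) [QuasiCompact f] [QuasiCompact g]
    (wx : X → N) (wy : Y → N) (wz : Z → N)
    (hf : ∀ x, wy (f x) ≤ wx x) (hg : ∀ y, wz (g y) ≤ wy y) (c : AlgebraicCycle X R) :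
    AlgebraicCycle.map g wy wz (AlgebraicCycle.map f wx wy c) =
      AlgebraicCycle.map (f ≫ g) wx wz c := by
  classical
  ext z
  simp only [AlgebraicCycle.map, Function.locallyFinsupp.map_apply]
  have hfin : (((f ≫ g) ⁻¹' {z} : Set X) ∩ Function.support c).Finite :=
    c.locallyFiniteSupport.finite_inter_support_of_isCompact
      ((f ≫ g).isCompact_preimage_singleton z)
  set S : Finset X := hfin.toFinset with hS
  have hmemS : ∀ x, x ∈ S ↔ g (f x) = z ∧ c x ≠ 0 := by
    intro x
    rw [hS, Set.Finite.mem_toFinset]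
    rfl
  set a : X → R := fun x => ((AlgebraicCycle.mapCoeff f wx wy x : ℕ) : R) with ha
  set b : Y → R := fun y => ((AlgebraicCycle.mapCoeff g wy wz y : ℕ) : R) with hb
  have hcoef : ∀ x, ((AlgebraicCycle.mapCoeff (f ≫ g) wx wz x : ℕ) : R) = a x * b (f x) := by
    intro x
    rw [mapCoeff_comp f g wx wy wz hf hg x, Nat.cast_mul]
  -- the right hand side
  have hR : ∑ᶠ (x : X) (_ : x ∈ (f ≫ g) ⁻¹' {z}),
      c x * ((AlgebraicCycle.mapCoeff (f ≫ g) wx wz x : ℕ) : R) =
      ∑ x ∈ S, c x * (a x * b (f x)) := by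
    rw [finsum_mem_eq_sum_of_inter_support_eq (t := S)]
    · exact Finset.sum_congr rfl fun x _ => by rw [hcoef]
    · ext x
      simp only [Set.mem_inter_iff, Set.mem_preimage, Set.mem_singleton_iff, Function.mem_support,
        Finset.mem_coe, hmemS]
      constructor
      · rintro ⟨h1, h2⟩
        exact ⟨⟨h1, fun h0 => h2 (by rw [h0, zero_mul])⟩, h2⟩
      · rintro ⟨⟨h1, _⟩, h2⟩
        exact ⟨h1, h2⟩
  -- the inner sums
  have hI : ∀ y ∈ (g ⁻¹' {z} : Set Y),
      (∑ᶠ (x : X) (_ : x ∈ f ⁻¹' {y}), c x * a x) * b y =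
      ∑ x ∈ S with f x = y, c x * (a x * b (f x)) := by
    intro y hy
    rw [finsum_mem_eq_sum_of_inter_support_eq (t := S.filter (fun x => f x = y)), Finset.sum_mul]
    · refine Finset.sum_congr rfl fun x hx => ?_
      rw [(Finset.mem_filter.mp hx).2, mul_assoc]
    · ext x
      simp only [Set.mem_inter_iff, Set.mem_preimage, Set.mem_singleton_iff, Function.mem_support,
        Finset.coe_filter, Set.mem_ofPred_eq, hmemS]
      constructor
      · rintro ⟨h1, h2⟩
        refine ⟨⟨⟨?_, fun h0 => h2 (by rw [h0, zero_mul])⟩, h1⟩, h2⟩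
        rw [h1]; exact hy
      · rintro ⟨⟨_, h1⟩, h2⟩
        exact ⟨h1, h2⟩
  rw [hR, finsum_mem_congr rfl hI, finsum_mem_eq_sum_of_inter_support_eq (t := S.image f)]
  · exact Finset.sum_fiberwise_of_maps_to (fun x hx => Finset.mem_image_of_mem _ hx) _
  · ext y
    simp only [Set.mem_inter_iff, Set.mem_preimage, Set.mem_singleton_iff, Function.mem_support,
      Finset.coe_image, Set.mem_image, Finset.mem_coe]
    constructor
    · rintro ⟨_, h2⟩
      refine ⟨?_, h2⟩
      obtain ⟨x, hx, -⟩ := Finset.exists_ne_zero_of_sum_ne_zero h2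
      exact ⟨x, (Finset.mem_filter.mp hx).1, (Finset.mem_filter.mp hx).2⟩
    · rintro ⟨⟨x, hx, rfl⟩, h2⟩
      exact ⟨((hmemS x).mp hx).1, h2⟩

end Groth.Agent.Lib.Helper55
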