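import Groth.Agent.Lib.Helper55.TrdegBridge
import Groth.Agent.S0554
import Groth.Agent.S0555

/-! Dimension formula (inequality) in a form with evaluation maps to residue fields (helper55). -/

set_option autoImplicit false

universe u

namespace Groth.Agent.Lib.Helper55

section hq

variable {B : Type u} [CommRing B]

/-- The image of a prime `P ⊇ 𝔭₀` in `B ⧸ 𝔭₀`. -/
theorem map_mk_isPrime_of_le (𝔭₀ P : Ideal B) [P.IsPrime] (h : 𝔭₀ ≤ P) :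
    (P.map (Ideal.Quotient.mk 𝔭₀)).IsPrime :=
  Ideal.map_isPrime_of_surjective Ideal.Quotient.mk_surjective (by rw [Ideal.mk_ker]; exact h)

theorem comap_map_mk_of_le (𝔭₀ P : Ideal B) (h : 𝔭₀ ≤ P) :
    (P.map (Ideal.Quotient.mk 𝔭₀)).comap (Ideal.Quotient.mk 𝔭₀) = P := by
  rw [Ideal.comap_map_of_surjective _ Ideal.Quotient.mk_surjective, ← RingHom.ker_eq_comap_bot,
    Ideal.mk_ker, sup_eq_left.mpr h]

/-- In a Noetherian ring, for every prime `𝔭` there is a prime `𝔭₀ ≤ 𝔭`, minimal in the ring,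
with `ht (𝔭/𝔭₀) = ht 𝔭`. -/
theorem exists_le_height_map_quotient_eq [IsNoetherianRing B] (𝔭 : Ideal B) [𝔭.IsPrime] :
    ∃ 𝔭₀ : Ideal B, 𝔭₀.IsPrime ∧ 𝔭₀ ≤ 𝔭 ∧ (∀ P : Ideal B, P.IsPrime → P ≤ 𝔭₀ → P = 𝔭₀) ∧
      𝔭.height ≤ (𝔭.map (Ideal.Quotient.mk 𝔭₀)).height := by
  obtain ⟨l, hlast, hlen⟩ := Ideal.exists_ltSeries_length_eq_height 𝔭
  have hle : ∀ i, l.head.asIdeal ≤ (l i).asIdeal := fun i => l.head_le i
  have hlast' : l.last.asIdeal = 𝔭 := congrArg PrimeSpectrum.asIdeal hlast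
  refine ⟨l.head.asIdeal, l.head.2, hlast' ▸ hle (Fin.last _), ?_, ?_⟩
  · intro P hP hPle
    by_contra hne
    have hlt : (⟨P, hP⟩ : PrimeSpectrum B) < l.head := lt_of_le_of_ne hPle (fun h => hne (by
      rw [← h]))
    have h1 := Order.length_le_height_last (p := l.cons ⟨P, hP⟩ hlt)
    rw [RelSeries.last_cons, hlast, ← PrimeSpectrum.height_eq_orderHeight] at h1
    change ((l.cons ⟨P, hP⟩ hlt).length : ℕ∞) ≤ 𝔭.height at h1
    rw [← hlen, RelSeries.cons_length] at h1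
    have : (l.length : ℕ∞) + 1 ≤ l.length := by exact_mod_cast h1
    exact absurd this (by
      rw [ENat.add_one_le_iff (ENat.natCast_ne_top _)]
      exact lt_irrefl _)
  · let g : Fin (l.length + 1) → PrimeSpectrum (B ⧸ l.head.asIdeal) := fun i =>
      ⟨(l i).asIdeal.map (Ideal.Quotient.mk l.head.asIdeal),
        haveI := (l i).2
        map_mk_isPrime_of_le l.head.asIdeal (l i).asIdeal (hle i)⟩
    have hg : StrictMono g := by
      intro i j hij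
      have h1 : l i < l j := l.strictMono hij
      refine lt_of_le_of_ne (Ideal.map_mono h1.le) fun heq => ?_
      have h2 := congrArg (fun P : PrimeSpectrum (B ⧸ l.head.asIdeal) =>
        P.asIdeal.comap (Ideal.Quotient.mk l.head.asIdeal)) heq
      simp only [g] at h2
      rw [comap_map_mk_of_le _ _ (hle i), comap_map_mk_of_le _ _ (hle j)] at h2
      exact h1.ne (PrimeSpectrum.ext h2)
    let l' : LTSeries (PrimeSpectrum (B ⧸ l.head.asIdeal)) := ⟨l.length, g, fun i => hg (by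
      simp [Fin.lt_def])⟩
    have h3 := Order.length_le_height_last (p := l')
    have hl'last : l'.last = ⟨𝔭.map (Ideal.Quotient.mk l.head.asIdeal),
        map_mk_isPrime_of_le _ _ (hlast' ▸ hle (Fin.last _))⟩ := by
      apply PrimeSpectrum.ext
      change (l (Fin.last _)).asIdeal.map _ = _
      exact congrArg (Ideal.map (Ideal.Quotient.mk l.head.asIdeal)) hlast'
    rw [hl'last, ← PrimeSpectrum.height_eq_orderHeight] at h3
    rw [← hlen]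
    exact h3

end hq

section adf

variable {R B : Type u} [CommRing R] [CommRing B] [Algebra R B]
  (𝔮₀ 𝔮 : Ideal R) (𝔭₀ 𝔭 : Ideal B) [𝔮₀.IsPrime] [𝔮.IsPrime] [𝔭₀.IsPrime] [𝔭.IsPrime]
  [𝔭₀.LiesOver 𝔮₀] [𝔭.LiesOver 𝔮]

omit [𝔮₀.IsPrime] [𝔭₀.IsPrime] [𝔮.IsPrime] [𝔭.IsPrime] in
theorem liesOver_map_mk (h𝔭 : 𝔭₀ ≤ 𝔭) (h𝔮 : 𝔮₀ ≤ 𝔮) :
    (𝔭.map (Ideal.Quotient.mk 𝔭₀)).LiesOver (𝔮.map (Ideal.Quotient.mk 𝔮₀)) := by
  constructor
  ext a
  obtain ⟨a, rfl⟩ := Ideal.Quotient.mk_surjective a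
  rw [Ideal.mem_comap, Ideal.Quotient.algebraMap_mk_of_liesOver,
    Ideal.mem_quotient_iff_mem h𝔮, Ideal.mem_quotient_iff_mem h𝔭,
    Ideal.LiesOver.over (P := 𝔭) (p := 𝔮)]
  rfl

variable {K₁ K₂ L₁ L₂ : Type u} [Field K₁] [Field K₂] [Field L₁] [Field L₂]
  [Algebra K₁ K₂] [Algebra L₁ L₂]
  (evσ : R →+* L₁) (evξ : B →+* L₂) (evs : R →+* K₁) (evx : B →+* K₂)

/-- **Dimension inequality with evaluation maps.**  `R` Noetherian, `B` of finite type over `R`,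
primes `𝔭₀ ≤ 𝔭` of `B` over `𝔮₀ ≤ 𝔮`; residue fields given by evaluation maps with fractions.
Then `ht(𝔭/𝔭₀) + trdeg κ(𝔭)/κ(𝔮) ≤ ht(𝔮/𝔮₀) + trdeg κ(𝔭₀)/κ(𝔮₀)`; equality holds if `R ⧸ 𝔮₀` is
universally catenary. -/
theorem height_add_trdeg_le_of_hasFractions [IsNoetherianRing R] [Algebra.FiniteType R B]
    (h𝔭 : 𝔭₀ ≤ 𝔭)
    (hcσ : (algebraMap L₁ L₂).comp evσ = evξ.comp (algebraMap R B))
    (hcs : (algebraMap K₁ K₂).comp evs = evx.comp (algebraMap R B))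
    (hkσ : RingHom.ker evσ = 𝔮₀) (hkξ : RingHom.ker evξ = 𝔭₀)
    (hks : RingHom.ker evs = 𝔮) (hkx : RingHom.ker evx = 𝔭)
    (hfσ : HasFractions evσ) (hfξ : HasFractions evξ) (hfs : HasFractions evs)
    (hfx : HasFractions evx) (n m : ℕ) (hn : Algebra.trdeg K₁ K₂ = n)
    (hm : Algebra.trdeg L₁ L₂ = m) :
    (𝔭.map (Ideal.Quotient.mk 𝔭₀)).height + n ≤ (𝔮.map (Ideal.Quotient.mk 𝔮₀)).height + m ∧
    (CAlg.IsUniversallyCatenary (R ⧸ 𝔮₀) →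
      (𝔭.map (Ideal.Quotient.mk 𝔭₀)).height + n = (𝔮.map (Ideal.Quotient.mk 𝔮₀)).height + m) := by
  have h𝔮 : 𝔮₀ ≤ 𝔮 := by
    rw [Ideal.LiesOver.over (P := 𝔭₀) (p := 𝔮₀), Ideal.LiesOver.over (P := 𝔭) (p := 𝔮)]
    exact Ideal.comap_mono h𝔭
  have hd₁ : IsDomain (R ⧸ 𝔮₀) := (Ideal.Quotient.isDomain_iff_prime _).mpr inferInstance
  have hd₂ : IsDomain (B ⧸ 𝔭₀) := (Ideal.Quotient.isDomain_iff_prime _).mpr inferInstance
  have hft1 : Algebra.FiniteType R (B ⧸ 𝔭₀) :=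
    Algebra.FiniteType.of_surjective (Ideal.Quotient.mkₐ R 𝔭₀) (Ideal.Quotient.mkₐ_surjective R 𝔭₀)
  have hft : Algebra.FiniteType (R ⧸ 𝔮₀) (B ⧸ 𝔭₀) :=
    Algebra.FiniteType.of_restrictScalars_finiteType R (R ⧸ 𝔮₀) (B ⧸ 𝔭₀)
  have hpq : (𝔭.map (Ideal.Quotient.mk 𝔭₀)).LiesOver (𝔮.map (Ideal.Quotient.mk 𝔮₀)) :=
    liesOver_map_mk 𝔮₀ 𝔮 𝔭₀ 𝔭 h𝔭 h𝔮
  have hpp : (𝔮.map (Ideal.Quotient.mk 𝔮₀)).IsPrime := map_mk_isPrime_of_le 𝔮₀ 𝔮 h𝔮
  have hqp : (𝔭.map (Ideal.Quotient.mk 𝔭₀)).IsPrime := map_mk_isPrime_of_le 𝔭₀ 𝔭 h𝔭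
  -- lifted evaluation maps
  have hσle : ∀ a ∈ 𝔮₀, evs a = 0 := fun a ha => by
    have : a ∈ RingHom.ker evs := by rw [hks]; exact h𝔮 ha
    exact this
  have hξle : ∀ a ∈ 𝔭₀, evx a = 0 := fun a ha => by
    have : a ∈ RingHom.ker evx := by rw [hkx]; exact h𝔭 ha
    exact this
  set evs' := Ideal.Quotient.lift 𝔮₀ evs hσle with hevs'
  set evx' := Ideal.Quotient.lift 𝔭₀ evx hξle with hevx'
  have hks' : RingHom.ker evs' = 𝔮.map (Ideal.Quotient.mk 𝔮₀) := by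
    rw [hevs', Ideal.ker_quotient_lift, hks]
  have hkx' : RingHom.ker evx' = 𝔭.map (Ideal.Quotient.mk 𝔭₀) := by
    rw [hevx', Ideal.ker_quotient_lift, hkx]
  have hfs' : HasFractions evs' := by
    intro z
    obtain ⟨a, s, hs, hz⟩ := hfs z
    exact ⟨Ideal.Quotient.mk _ a, Ideal.Quotient.mk _ s, by simpa [hevs'] using hs,
      by simpa [hevs'] using hz⟩
  have hfx' : HasFractions evx' := by
    intro z
    obtain ⟨a, s, hs, hz⟩ := hfx z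
    exact ⟨Ideal.Quotient.mk _ a, Ideal.Quotient.mk _ s, by simpa [hevx'] using hs,
      by simpa [hevx'] using hz⟩
  have hcs' : (algebraMap K₁ K₂).comp evs' = evx'.comp (algebraMap (R ⧸ 𝔮₀) (B ⧸ 𝔭₀)) := by
    apply Ideal.Quotient.ringHom_ext
    ext a
    simp only [RingHom.comp_apply, hevs', hevx', Ideal.Quotient.lift_mk,
      Ideal.Quotient.algebraMap_mk_of_liesOver]
    exact congr($hcs a)
  have hT1 := trdeg_quotient_eq_of_hasFractions (𝔮.map (Ideal.Quotient.mk 𝔮₀))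
    (𝔭.map (Ideal.Quotient.mk 𝔭₀)) evs' evx' hcs' hks' hkx' hfs' hfx'
  have hT2 := trdeg_quotient_eq_of_hasFractions 𝔮₀ 𝔭₀ evσ evξ hcσ hkσ hkξ hfσ hfξ
  rw [hn] at hT1
  rw [hm] at hT2
  constructor
  · have key := Groth.Agent.S0554.result (R ⧸ 𝔮₀) (B ⧸ 𝔭₀) (𝔮.map (Ideal.Quotient.mk 𝔮₀))
      (𝔭.map (Ideal.Quotient.mk 𝔭₀))
    rw [hT1, hT2] at key
    have key' : ((((𝔭.map (Ideal.Quotient.mk 𝔭₀)).height + (n : ℕ∞) : ℕ∞)) : Cardinal) ≤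
        ((((𝔮.map (Ideal.Quotient.mk 𝔮₀)).height + (m : ℕ∞) : ℕ∞)) : Cardinal) := by
      rw [Cardinal.ofENat_add, Cardinal.ofENat_add]
      exact key
    exact Cardinal.ofENat_le_ofENat.mp key'
  · intro hcat
    have key := Groth.Agent.S0555.result (R ⧸ 𝔮₀) hcat (B ⧸ 𝔭₀) (𝔮.map (Ideal.Quotient.mk 𝔮₀))
      (𝔭.map (Ideal.Quotient.mk 𝔭₀))
    rw [hT1, hT2] at key
    have key' : ((((𝔭.map (Ideal.Quotient.mk 𝔭₀)).height + (n : ℕ∞) : ℕ∞)) : Cardinal) =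
        ((((𝔮.map (Ideal.Quotient.mk 𝔮₀)).height + (m : ℕ∞) : ℕ∞)) : Cardinal) := by
      rw [Cardinal.ofENat_add, Cardinal.ofENat_add]
      exact key
    exact Cardinal.ofENat_injective key'

end adf

end Groth.Agent.Lib.Helper55
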