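import Groth.Agent.Lib.Helper55.DimFun
import Groth.Agent.H46.CatenaryDim
import Groth.Agent.Lib.Helper85.RegularLocal

/-! `-dim O_{S,s}` is a dimension function on a locally Noetherian scheme with regular, universally
catenary local rings (helper55). -/

set_option autoImplicit false

universe u

namespace Groth.Agent.Lib.Helper55

open AlgebraicGeometry CategoryTheory Order Groth.Agent.H46

section order

variable {α : Type*} [PartialOrder α]

/-- A maximal chain from the least element `z₀` of the down-set of `Q` to `P ≤ Q`, as a series for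
the covering relation. -/
theorem exists_covSeries_of_height (Q z₀ : α) (hz₀ : ∀ P, P ≤ Q → z₀ ≤ P) :
    ∀ (n : ℕ) (P : α), P ≤ Q → height P = n →
      ∃ t : RelSeries (covRel α), t.head = z₀ ∧ t.last = P ∧ t.length = n := by
  intro n
  induction n with
  | zero =>
    intro P hPQ hP
    have : IsMin P := by
      rw [← height_eq_zero]; simpa using hP
    have hPz : P = z₀ := le_antisymm (this (hz₀ P hPQ)) (hz₀ P hPQ)
    exact ⟨RelSeries.singleton _ P, hPz, rfl, rfl⟩
  | succ n ih =>
    intro P hPQ hP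
    have hP' : height P = (n : ℕ∞) + 1 := by simpa using hP
    obtain ⟨-, ⟨y, hy, hyn⟩, hall⟩ := height_eq_coe_add_one_iff.mp hP'
    obtain ⟨t, ht1, ht2, ht3⟩ := ih y (hy.le.trans hPQ) hyn
    have hcov : y ⋖ P := by
      refine ⟨hy, fun c hyc hcP => ?_⟩
      have h1 := height_add_one_le hyc
      have h2 := hall c hcP
      rw [hyn] at h1
      have : ((n : ℕ∞) + 1) ≤ n := h1.trans h2
      exact absurd this (by simp [ENat.add_one_le_iff])
    refine ⟨t.snoc P (by rw [ht2]; exact hcov), by simp [ht1], by simp, by simp [ht3]⟩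

/-- In a catenary order, heights increase by one along covering relations inside a down-set with
a least element. -/
theorem height_eq_add_one_of_covBy_of_catenary
    (hcat : ∀ s t : LTSeries α, s.head = t.head → s.last = t.last →
      (∀ i : Fin s.length, s (Fin.castSucc i) ⋖ s (Fin.succ i)) →
      (∀ i : Fin t.length, t (Fin.castSucc i) ⋖ t (Fin.succ i)) → s.length = t.length)
    (Q z₀ : α) (hz₀ : ∀ P, P ≤ Q → z₀ ≤ P) (P : α) (hPQ : P ⋖ Q) (n k : ℕ)
    (hn : height P = n) (hk : height Q = k) : k = n + 1 := by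
  obtain ⟨tP, hP1, hP2, hP3⟩ := exists_covSeries_of_height Q z₀ hz₀ n P hPQ.le hn
  obtain ⟨tQ, hQ1, hQ2, hQ3⟩ := exists_covSeries_of_height Q z₀ hz₀ k Q le_rfl hk
  let tP' : RelSeries (covRel α) := tP.snoc Q (by rw [hP2]; exact hPQ)
  have := hcat (tP'.ofLE (covRel_le_lt α)) (tQ.ofLE (covRel_le_lt α))
    (by change tP'.head = tQ.head; simp [tP', hP1, hQ1])
    (by change tP'.last = tQ.last; simp [tP', hQ2])
    (fun i => tP'.step i) (fun i => tQ.step i)
  have hlen : n + 1 = k := by simpa [tP', hP3, hQ3] using this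
  exact hlen.symm

end order

section scheme

variable {S : Scheme.{u}} [IsLocallyNoetherian S]

/-- On a locally Noetherian scheme whose local rings are universally catenary domains, the function
`s ↦ -dim O_{S,s}` is a dimension function. -/
theorem isDimFun_neg_dim_stalk
    (hdom : ∀ s : S, IsDomain (S.presheaf.stalk s))
    (huc : ∀ s : S, CAlg.IsUniversallyCatenary (S.presheaf.stalk s))
    (δS : S → ℤ)
    (hδS : ∀ s : S, ringKrullDim (S.presheaf.stalk s) = ((-δS s).toNat : WithBot ℕ∞) ∧ δS s ≤ 0) :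
    Cyc.IsDimFun S δS := by
  intro s t hst hne
  obtain ⟨V, hV, htV, -⟩ := exists_isAffineOpen_mem_and_subset (x := t) (U := ⊤) trivial
  have hsV : s ∈ V := hst.mem_open V.2 htV
  have hN : IsNoetherianRing Γ(S, V) := IsLocallyNoetherian.component_noetherian ⟨V, hV⟩
  have hcatR : CAlg.IsCatenary Γ(S, V) :=
    (isUniversallyCatenary_sections hV huc).2 Γ(S, V) (inferInstance : Algebra.FiniteType Γ(S, V) Γ(S, V))
  set 𝔮s := hV.primeIdealOf ⟨s, hsV⟩ with h𝔮s
  set 𝔮t := hV.primeIdealOf ⟨t, htV⟩ with h𝔮t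
  have hps : 𝔮s.asIdeal.IsPrime := 𝔮s.2
  have hpt : 𝔮t.asIdeal.IsPrime := 𝔮t.2
  have hle : 𝔮s.asIdeal ≤ 𝔮t.asIdeal := (primeIdealOf_le_iff_specializes hV s t hsV htV).mpr hst
  have hlt : 𝔮s < 𝔮t := by
    refine lt_of_le_of_ne hle fun h => hne ?_
    exact primeIdealOf_injective hV s t hsV htV h
  -- heights
  have hhs : (𝔮s.asIdeal.height : WithBot ℕ∞) = ((-δS s).toNat : WithBot ℕ∞) := by
    rw [← (hδS s).1, Groth.Agent.S4442.ringKrullDim_stalk_eq_height S hV s hsV]
  have hht : (𝔮t.asIdeal.height : WithBot ℕ∞) = ((-δS t).toNat : WithBot ℕ∞) := by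
    rw [← (hδS t).1, Groth.Agent.S4442.ringKrullDim_stalk_eq_height S hV t htV]
  have hhs' : 𝔮s.asIdeal.height = ((-δS s).toNat : ℕ∞) := by exact_mod_cast hhs
  have hht' : 𝔮t.asIdeal.height = ((-δS t).toNat : ℕ∞) := by exact_mod_cast hht
  have hstrict : 𝔮s.asIdeal.height < 𝔮t.asIdeal.height :=
    Ideal.height_strict_mono_of_isPrime hlt
  rw [hhs', hht'] at hstrict
  have hstrict' : (-δS s).toNat < (-δS t).toNat := by exact_mod_cast hstrict
  have h0s := (hδS s).2
  have h0t := (hδS t).2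
  refine ⟨by omega, fun himm => ?_⟩
  -- the covering relation
  have hcov : 𝔮s ⋖ 𝔮t := by
    refine ⟨hlt, fun P hsP hPt => ?_⟩
    obtain ⟨z, hz, hzP⟩ := exists_primeIdealOf_eq hV P
    have h1 : s ⤳ z := by
      rw [← primeIdealOf_le_iff_specializes hV s z hsV hz, hzP]
      exact hsP.le
    have h2 : z ⤳ t := by
      rw [← primeIdealOf_le_iff_specializes hV z t hz htV, hzP]
      exact hPt.le
    rcases himm z h1 h2 with h | h
    · have : P = 𝔮s := by
        rw [← hzP]
        exact congrArg hV.primeIdealOf (Subtype.ext h : (⟨z, hz⟩ : ↥V) = ⟨s, hsV⟩)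
      exact hsP.ne this.symm
    · have : P = 𝔮t := by
        rw [← hzP]
        exact congrArg hV.primeIdealOf (Subtype.ext h : (⟨z, hz⟩ : ↥V) = ⟨t, htV⟩)
      exact hPt.ne this
  -- the least prime below `𝔮t`
  let _ : Algebra Γ(S, V) (S.presheaf.stalk t) := (S.presheaf.germ V t htV).hom.toAlgebra
  have hloc : IsLocalization.AtPrime (S.presheaf.stalk t) 𝔮t.asIdeal :=
    hV.isLocalization_stalk ⟨t, htV⟩
  have hd := hdom t
  let z₀ : PrimeSpectrum Γ(S, V) :=
    ⟨(⊥ : Ideal (S.presheaf.stalk t)).comap (algebraMap Γ(S, V) (S.presheaf.stalk t)),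
      Ideal.IsPrime.comap _⟩
  have hz₀ : ∀ P : PrimeSpectrum Γ(S, V), P ≤ 𝔮t → z₀ ≤ P := by
    intro P hP
    have hPp : P.asIdeal.IsPrime := P.2
    have h1 := Ideal.under_map_of_isLocalizationAtPrime (S := S.presheaf.stalk t) 𝔮t.asIdeal
      (p := P.asIdeal) hP
    change z₀.asIdeal ≤ P.asIdeal
    rw [← h1]
    exact Ideal.comap_mono bot_le
  have key := height_eq_add_one_of_covBy_of_catenary hcatR.2 𝔮t z₀ hz₀ 𝔮s hcov
    (-δS s).toNat (-δS t).toNat
    (by rw [← PrimeSpectrum.height_eq_orderHeight]; exact hhs')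
    (by rw [← PrimeSpectrum.height_eq_orderHeight]; exact hht')
  omega

end scheme

end Groth.Agent.Lib.Helper55
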