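import Mathlib.AlgebraicGeometry.Artinian
import Mathlib.AlgebraicGeometry.Morphisms.FiniteType
import Mathlib.AlgebraicGeometry.Morphisms.QuasiCompact
import Mathlib.RingTheory.Jacobson.Artinian
import Groth.Agent.Lib.Helper51.DimZero

/-!
# Schemes with discrete underlying space
-/

set_option autoImplicit false
universe u

open AlgebraicGeometry CategoryTheory TopologicalSpace Opposite

namespace Groth.Agent.Lib.Helper55

/-- On a scheme with discrete underlying space, the ring of global sections is the product of all
local rings via the germ maps. -/
theorem bijective_germ_of_discreteTopology (X : Scheme.{u}) [DiscreteTopology X] :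
    Function.Bijective (fun s : Γ(X, ⊤) => fun x : X => X.presheaf.germ ⊤ x trivial s) := by
  constructor
  · intro s t hst
    apply TopCat.Presheaf.section_ext X.sheaf ⊤ s t
    intro x hx
    exact congr_fun hst x
  · intro t
    choose W hxW s hs using fun x : X ↦ X.presheaf.exists_germ_eq (t x)
    let U : X → X.Opens := fun x ↦ ⟨{x}, isOpen_discrete _⟩
    have hUW : ∀ x, U x ≤ W x := by
      rintro x z (hz : z = x)
      exact hz ▸ hxW x
    have hbot : ∀ V : X.Opens, V = ⊥ → Subsingleton Γ(X, V) := by
      rintro V rfl
      infer_instance
    obtain ⟨gl, hgl, -⟩ := X.sheaf.existsUnique_gluing' U ⊤ (fun x ↦ homOfLE le_top)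
      (by
        intro x _
        simp only [Opens.mem_iSup]
        exact ⟨x, rfl⟩)
      (fun x ↦ X.presheaf.map (homOfLE (hUW x)).op (s x))
      (by
        intro x y
        by_cases hxy : x = y
        · subst hxy
          rfl
        · have : U x ⊓ U y = ⊥ := by
            ext z
            simp only [Opens.coe_inf, Set.mem_inter_iff, SetLike.mem_coe, Opens.coe_bot,
              Set.mem_empty_iff_false, iff_false, not_and]
            rintro (rfl : z = x) (h : z = y)
            exact hxy h
          exact (hbot _ this).elim _ _)
    refine ⟨gl, ?_⟩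
    funext x
    have hxU : x ∈ U x := rfl
    have h1 := hgl x
    have h2 : X.presheaf.germ (U x) x hxU (X.presheaf.map (homOfLE le_top).op gl) =
        X.presheaf.germ ⊤ x trivial gl := X.presheaf.germ_res_apply _ _ _ _
    have h3 : X.presheaf.germ (U x) x hxU (X.presheaf.map (homOfLE (hUW x)).op (s x)) =
        X.presheaf.germ (W x) x (hxW x) (s x) := X.presheaf.germ_res_apply _ _ _ _
    change X.presheaf.germ ⊤ x trivial gl = t x
    rw [← h2, ← hs x, ← h3]
    exact congr_arg _ h1

end Groth.Agent.Lib.Helper55
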