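/-
Helper library (helper55): for a commutative `R`-algebra `A`, `Spec A` is the cofiltered limit of
the spectra of the finitely generated `R`-subalgebras `Algebra.adjoin R s` (`s : Finset A`) of `A`.
(Relative version of helper7's `FgSubalgLimit`, which treats `R = ℤ`.)
-/
import Mathlib

set_option autoImplicit false
universe u
open CategoryTheory Limits AlgebraicGeometry

namespace Groth.Agent.Lib.Helper55.FgSubalgRel

section Diagram

variable (R : Type u) [CommRing R] (A : Type u) [CommRing A] [Algebra R A]

theorem adjoin_mono {s t : Finset A} (h : s ≤ t) :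
    Algebra.adjoin R (s : Set A) ≤ Algebra.adjoin R (t : Set A) :=
  Algebra.adjoin_mono (by exact_mod_cast h)

/-- The diagram of finitely generated `R`-subalgebras of `A`. -/
noncomputable def fgDiagram : Finset A ⥤ CommRingCat.{u} where
  obj s := CommRingCat.of (Algebra.adjoin R (s : Set A))
  map {s t} h := CommRingCat.ofHom (Subalgebra.inclusion (adjoin_mono R A h.le)).toRingHom
  map_id s := by ext; rfl
  map_comp g h := by ext; rfl

/-- The cocone with point `A`. -/
noncomputable def fgCocone : Cocone (fgDiagram R A) where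
  pt := CommRingCat.of A
  ι :=
    { app := fun s => CommRingCat.ofHom (Algebra.adjoin R (s : Set A)).val.toRingHom
      naturality := fun s t h => by ext; rfl }

variable {R A}

/-- The value of the descended map at `b`. -/
noncomputable def fgDescFun (s : Cocone (fgDiagram R A)) (b : A) : s.pt :=
  (s.ι.app {b}) ⟨b, Algebra.subset_adjoin (by simp)⟩

theorem fgDesc_key (s : Cocone (fgDiagram R A)) (t : Finset A) (b : A)
    (hb : b ∈ Algebra.adjoin R (t : Set A)) : (s.ι.app t) ⟨b, hb⟩ = fgDescFun s b := by
  classical
  have h1 := s.w (homOfLE (Finset.subset_union_left : t ≤ t ∪ {b}))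
  have h2 := s.w (homOfLE (Finset.subset_union_right : ({b} : Finset A) ≤ t ∪ {b}))
  rw [fgDescFun, ← h1, ← h2]
  rfl

/-- The descended ring homomorphism. -/
noncomputable def fgDescHom (s : Cocone (fgDiagram R A)) : A →+* s.pt where
  toFun := fgDescFun s
  map_one' := by
    rw [← fgDesc_key s ∅ 1 (one_mem _)]
    exact map_one (s.ι.app ∅).hom
  map_zero' := by
    rw [← fgDesc_key s ∅ 0 (zero_mem _)]
    exact map_zero (s.ι.app ∅).hom
  map_add' b b' := by
    classical
    have hb : b ∈ Algebra.adjoin R ((({b, b'} : Finset A)) : Set A) :=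
      Algebra.subset_adjoin (by simp)
    have hb' : b' ∈ Algebra.adjoin R ((({b, b'} : Finset A)) : Set A) :=
      Algebra.subset_adjoin (by simp)
    rw [← fgDesc_key s {b, b'} (b + b') (add_mem hb hb'), ← fgDesc_key s {b, b'} b hb,
      ← fgDesc_key s {b, b'} b' hb']
    exact map_add (s.ι.app {b, b'}).hom ⟨b, hb⟩ ⟨b', hb'⟩
  map_mul' b b' := by
    classical
    have hb : b ∈ Algebra.adjoin R ((({b, b'} : Finset A)) : Set A) :=
      Algebra.subset_adjoin (by simp)
    have hb' : b' ∈ Algebra.adjoin R ((({b, b'} : Finset A)) : Set A) :=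
      Algebra.subset_adjoin (by simp)
    rw [← fgDesc_key s {b, b'} (b * b') (mul_mem hb hb'), ← fgDesc_key s {b, b'} b hb,
      ← fgDesc_key s {b, b'} b' hb']
    exact map_mul (s.ι.app {b, b'}).hom ⟨b, hb⟩ ⟨b', hb'⟩

variable (R A)

/-- `A` is the colimit of its finitely generated `R`-subalgebras. -/
noncomputable def isColimitFgCocone : IsColimit (fgCocone R A) where
  desc s := CommRingCat.ofHom (fgDescHom s)
  fac s t := by
    ext x
    exact (fgDesc_key s t x.1 x.2).symm
  uniq s m hm := by
    ext (b : A)
    have hb : b ∈ Algebra.adjoin R ((({b} : Finset A)) : Set A) :=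
      Algebra.subset_adjoin (Finset.mem_coe.mpr (Finset.mem_singleton_self b))
    have h := congr($(hm {b}) (⟨b, hb⟩ : Algebra.adjoin R ((({b} : Finset A)) : Set A)))
    exact h

/-- The inverse system of spectra of the finitely generated subalgebras. -/
noncomputable def specD : (Finset A)ᵒᵖ ⥤ Scheme.{u} := (fgDiagram R A).op ⋙ Scheme.Spec

/-- The cone with point `Spec A`. -/
noncomputable def specC : Cone (specD R A) := Scheme.Spec.mapCone (fgCocone R A).op

/-- `Spec A` is the limit of the spectra of its finitely generated subalgebras. -/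
noncomputable def isLimitSpecC : IsLimit (specC R A) :=
  isLimitOfPreserves Scheme.Spec (isColimitFgCocone R A).op

instance (j : (Finset A)ᵒᵖ) : IsAffine ((specD R A).obj j) := by
  dsimp [specD]; infer_instance

instance {i j : (Finset A)ᵒᵖ} (a : i ⟶ j) : IsAffineHom ((specD R A).map a) := by
  dsimp [specD]; infer_instance

/-- The structure morphism of a stage to `Spec R`. -/
noncomputable def toBase (s : Finset A) :
    Spec (CommRingCat.of (Algebra.adjoin R (s : Set A))) ⟶ Spec (CommRingCat.of R) :=
  Spec.map (CommRingCat.ofHom (algebraMap R (Algebra.adjoin R (s : Set A))))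

lemma specD_obj (s : (Finset A)ᵒᵖ) :
    (specD R A).obj s = Spec (CommRingCat.of (Algebra.adjoin R (s.unop : Set A))) := rfl

lemma specC_pt : (specC R A).pt = Spec (CommRingCat.of A) := rfl

lemma specD_map_toBase {s t : (Finset A)ᵒᵖ} (a : s ⟶ t) :
    (specD R A).map a ≫ toBase R A t.unop = toBase R A s.unop := by
  change Spec.map _ ≫ Spec.map _ = Spec.map _
  rw [← Spec.map_comp]
  congr 1

lemma specC_π_toBase (s : (Finset A)ᵒᵖ) :
    (specC R A).π.app s ≫ toBase R A s.unop =
      Spec.map (CommRingCat.ofHom (algebraMap R A)) := by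
  change Spec.map _ ≫ Spec.map _ = Spec.map _
  rw [← Spec.map_comp]
  congr 1

end Diagram

end Groth.Agent.Lib.Helper55.FgSubalgRel
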