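import Groth.Agent.Lib.Helper55.FlatDim
import Groth.Prelude.Def_EGA4b
import Mathlib.RingTheory.RingHom.Flat
import Mathlib.RingTheory.Ideal.GoingDown

/-! Dimension of the local ring of a fibre of a flat ring map (helper55). -/

set_option autoImplicit false

universe u

namespace Groth.Agent.Lib.Helper55

section

variable (A B : Type u) [CommRing A] [CommRing B] [Algebra A B] [IsNoetherianRing A]
  [IsNoetherianRing B] [Module.Flat A B] (Q : Ideal B) [Q.IsPrime]

/-- For a flat map of Noetherian rings `A → B` and a prime `Q` of `B` over `p`:
`dim B_Q = dim A_p + dim B_Q / p B_Q`. -/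
theorem ringKrullDim_fibLocRing_add :
    ringKrullDim (Localization.AtPrime Q) =
      ringKrullDim (Localization.AtPrime (Q.comap (algebraMap A B))) +
        ringKrullDim (EGA4.FibLocRing A B Q) := by
  set p := Q.comap (algebraMap A B) with hp
  have hpp : p.IsPrime := Ideal.comap_isPrime _ _
  set φ := Localization.localRingHom p Q (algebraMap A B) rfl with hφ
  have hloc : IsLocalHom φ := Localization.isLocalHom_localRingHom p Q (algebraMap A B) rfl
  have hflat : φ.Flat :=
    RingHom.Flat.localRingHom (RingHom.flat_algebraMap_iff.mpr ‹Module.Flat A B›) Q p rfl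
  have h := ringKrullDim_eq_add_quotient_of_flat φ hflat
  have hmap : Ideal.map φ (IsLocalRing.maximalIdeal (Localization.AtPrime p)) =
      p.map (algebraMap A (Localization.AtPrime Q)) := by
    rw [← IsLocalization.AtPrime.map_eq_maximalIdeal p (Localization.AtPrime p), Ideal.map_map]
    congr 1
    ext a
    simp only [RingHom.comp_apply]
    rw [hφ, Localization.localRingHom_to_map]
    exact (IsScalarTower.algebraMap_apply A B (Localization.AtPrime Q) a).symm
  rw [hmap] at h
  exact h

end

end Groth.Agent.Lib.Helper55
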