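import Groth.Agent.Lib.Helper55.ChevalleyBound
import Groth.Agent.Lib.Helper55.FibreDimFormula
import Groth.Agent.Lib.Helper55.FiberTrdeg
import Groth.Agent.Lib.Helper55.DimAttained

/-! Dimension of the source of a morphism of finite type `k`-schemes in terms of the strata of
the fibre dimension (helper55). -/

set_option autoImplicit false

universe u

namespace Groth.Agent.Lib.Helper55

open AlgebraicGeometry CategoryTheory Topology

section top

variable {X : Type*} [TopologicalSpace X]

/-- The dimension of a closed subset of a sober space is bounded pointwise. -/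
theorem topologicalKrullDim_add_le_iff_of_isClosed [QuasiSober X] [T0Space X] (Z : Set X)
    (hZ : IsClosed Z) (m n : ℕ) :
    topologicalKrullDim ↥Z + (m : WithBot ℕ∞) ≤ n ↔
      ∀ x ∈ Z, topologicalKrullDim ↥(closure ({x} : Set X)) + (m : WithBot ℕ∞) ≤ n := by
  constructor
  · intro h x hx
    have h1 : topologicalKrullDim ↥(closure ({x} : Set X)) ≤ topologicalKrullDim ↥Z :=
      topologicalKrullDim_mono_set (closure_minimal (by rintro _ rfl; exact hx) hZ)
    exact (add_le_add_left h1 _).trans h
  · intro h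
    have : QuasiSober ↥Z := hZ.isClosedEmbedding_subtypeVal.quasiSober
    rw [topologicalKrullDim_eq_iSup_closure (X := ↥Z)]
    have h2 := iSup_add_iSup_le_withBot
      (fun w : ↥Z => topologicalKrullDim ↥(closure ({w} : Set ↥Z)))
      (fun _ : Unit => (m : WithBot ℕ∞)) (n : WithBot ℕ∞) (fun w _ => by
        rw [topologicalKrullDim_closure_subtype Z hZ w]
        exact h w.1 w.2)
    rw [iSup_const] at h2
    exact h2

theorem topologicalKrullDim_add_le_iff [QuasiSober X] [T0Space X] (m n : ℕ) :
    topologicalKrullDim X + (m : WithBot ℕ∞) ≤ n ↔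
      ∀ x : X, topologicalKrullDim ↥(closure ({x} : Set X)) + (m : WithBot ℕ∞) ≤ n := by
  have h := topologicalKrullDim_add_le_iff_of_isClosed (Set.univ : Set X) isClosed_univ m n
  have h1 : topologicalKrullDim ↥(Set.univ : Set X) = topologicalKrullDim X :=
    IsHomeomorph.topologicalKrullDim_eq _ (Homeomorph.Set.univ X).isHomeomorph
  rw [h1] at h
  rw [h]
  exact ⟨fun h x => h x (Set.mem_univ x), fun h x _ => h x⟩

end top

section strata

variable {k : Type u} [Field k] {C X : Scheme.{u}} (q : X ⟶ Spec (CommRingCat.of k))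
  (π : C ⟶ X) [LocallyOfFiniteType q] [LocallyOfFiniteType π]

omit [LocallyOfFiniteType π] in
/-- A point of `X` whose fibre has dimension at least `j` is the image of a point at which the
local fibre dimension is at least `j`. -/
theorem exists_fibreDimAt_ge_of_dim_fiber_ge (x : X) (j : ℕ)
    (hx : (j : WithBot ℕ∞) ≤ topologicalKrullDim ↥(π.fiber x)) :
    ∃ e : C, π e = x ∧ (j : WithBot ℕ∞) ≤ FlatMor.fibreDimAt π e := by
  rw [topologicalKrullDim_eq_iSup_localDim] at hx
  by_contra hcon
  push Not at hcon
  have hlt : ∀ z : ↥(π.fiber x), FlatMor.localDim ↥(π.fiber x) z < (j : WithBot ℕ∞) := by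
    intro z
    have hz : π (π.fiberι x z) = x := by
      have : π.fiberι x z ∈ Set.range (π.fiberι x) := ⟨z, rfl⟩
      rw [π.range_fiberι] at this
      exact this
    have := hcon (π.fiberι x z) hz
    rwa [← localDim_fiber_eq_fibreDimAt π x z] at this
  rcases Nat.eq_zero_or_pos j with rfl | hpos
  · have hbot : ∀ z : ↥(π.fiber x), FlatMor.localDim ↥(π.fiber x) z = ⊥ := by
      intro z
      have h1 := hlt z
      exact absurd (localDim_nonneg z) (not_le.mpr h1)
    simp only [hbot, iSup_bot] at hx
    exact absurd hx (by simp)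
  · obtain ⟨m, rfl⟩ : ∃ m, j = m + 1 := ⟨j - 1, by omega⟩
    have hle : ∀ z : ↥(π.fiber x), FlatMor.localDim ↥(π.fiber x) z ≤ (m : WithBot ℕ∞) := by
      intro z
      obtain ⟨r, hr, hrm⟩ := exists_nat_eq_of_nonneg_of_lt _ (m + 1) (localDim_nonneg z) (hlt z)
      rw [hr]
      have : r ≤ m := by omega
      exact_mod_cast this
    have h2 : (⨆ z : ↥(π.fiber x), FlatMor.localDim ↥(π.fiber x) z) ≤ (m : WithBot ℕ∞) :=
      iSup_le hle
    have h3 : ((m + 1 : ℕ) : WithBot ℕ∞) ≤ (m : WithBot ℕ∞) := hx.trans h2
    have h4 : (m + 1 : ℕ) ≤ m := by exact_mod_cast h3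
    omega

/-- The locus where the local fibre dimension is at least `j` is closed. -/
theorem isClosed_setOf_le_fibreDimAt (j : ℕ) :
    IsClosed {e : C | (j : WithBot ℕ∞) ≤ FlatMor.fibreDimAt π e} := by
  rw [← isOpen_compl_iff]
  rcases Nat.eq_zero_or_pos j with rfl | hpos
  · have : {e : C | ((0 : ℕ) : WithBot ℕ∞) ≤ FlatMor.fibreDimAt π e}ᶜ = ∅ := by
      ext e
      simp only [Set.mem_compl_iff, Set.mem_ofPred_eq, Set.mem_empty_iff_false, iff_false, not_not]
      exact localDim_nonneg _
    rw [this]
    exact isOpen_empty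
  · obtain ⟨m, rfl⟩ : ∃ m, j = m + 1 := ⟨j - 1, by omega⟩
    have : {e : C | ((m + 1 : ℕ) : WithBot ℕ∞) ≤ FlatMor.fibreDimAt π e}ᶜ =
        {e : C | FlatMor.fibreDimAt π e ≤ (m : WithBot ℕ∞)} := by
      ext e
      simp only [Set.mem_compl_iff, Set.mem_ofPred_eq, not_le]
      constructor
      · intro h
        obtain ⟨r, hr, hrm⟩ := exists_nat_eq_of_nonneg_of_lt (FlatMor.fibreDimAt π e) (m + 1)
          (localDim_nonneg _) h
        rw [hr]
        have : r ≤ m := by omega
        exact_mod_cast this
      · intro h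
        refine lt_of_le_of_lt h ?_
        have : m < m + 1 := by omega
        exact_mod_cast this
    rw [this]
    exact isOpen_setOf_fibreDimAt_le π m

include q in
/-- For every point `e`, `dim cl{π e} + dim_e(fibre) ≤ dim C`. -/
theorem dim_closure_add_le_of_le_fibreDimAt (e : C) (j : ℕ)
    (hj : (j : WithBot ℕ∞) ≤ FlatMor.fibreDimAt π e) :
    topologicalKrullDim ↥(closure ({π e} : Set X)) + (j : WithBot ℕ∞) ≤ topologicalKrullDim C := by
  obtain ⟨z, hfz, -, -, m, hm, hFe, -, -⟩ := exists_maximal_point_fiber π e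
  obtain ⟨a, b, ha, hb, hab⟩ := exists_dim_closure_eq_add q π z
  obtain ⟨n', hn'1, hn'2⟩ := exists_dim_closure_asFiber_eq_trdeg π z
  have hn'm : n' = m := by
    have : ((n' : ℕ) : Cardinal) = ((m : ℕ) : Cardinal) := by rw [← hn'2, ← hm]
    exact_mod_cast this
  have hbm : b = m := by
    rw [hn'1] at hb
    have : n' = b := by exact_mod_cast hb
    omega
  rw [hFe] at hj
  have hjm : j ≤ m := by exact_mod_cast hj
  rw [← hfz, ha]
  have h1 : topologicalKrullDim ↥(closure ({z} : Set C)) ≤ topologicalKrullDim C :=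
    topologicalKrullDim_subspace_le _ _
  rw [hab] at h1
  refine le_trans ?_ h1
  have : a + j ≤ a + b := by omega
  exact_mod_cast this

variable [CompactSpace C]

include q in
/-- **Dimension via fibre-dimension strata.**  For `π : C ⟶ X` of finite type over a field:
`dim C + c ≤ n` iff `dim cl(B_j) + c + j ≤ n` for all `j`, where `B_j` is the set of points of `X`
whose fibre has dimension at least `j`. -/
theorem topologicalKrullDim_add_le_iff_strata (n c : ℕ) :
    topologicalKrullDim C + (c : WithBot ℕ∞) ≤ n ↔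
      ∀ j : ℕ, topologicalKrullDim
        ↥(closure {x : X | (j : WithBot ℕ∞) ≤ topologicalKrullDim ↥(π.fiber x)}) +
          (c : WithBot ℕ∞) + (j : WithBot ℕ∞) ≤ n := by
  have hC : IsLocallyNoetherian C :=
    LocallyOfFiniteType.isLocallyNoetherian (π ≫ q)
  have hCN : IsNoetherian C := { }
  constructor
  · intro h j
    rw [add_assoc]
    have hcj : (c : WithBot ℕ∞) + (j : WithBot ℕ∞) = ((c + j : ℕ) : WithBot ℕ∞) := by
      push_cast; rfl
    rw [hcj, topologicalKrullDim_add_le_iff_of_isClosed _ isClosed_closure]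
    intro t ht
    -- decompose the closed stratum of `C`
    have hE := isClosed_setOf_le_fibreDimAt π j
    obtain ⟨S, hSf, hSc, hSi, hSU⟩ :=
      TopologicalSpace.NoetherianSpace.exists_finite_set_isClosed_irreducible hE
    have hT'cl : IsClosed (⋃ s ∈ S, closure (π '' s)) :=
      hSf.isClosed_biUnion fun s _ => isClosed_closure
    have hsub : {x : X | (j : WithBot ℕ∞) ≤ topologicalKrullDim ↥(π.fiber x)} ⊆
        ⋃ s ∈ S, closure (π '' s) := by
      intro x hx
      obtain ⟨e, hex, hej⟩ := exists_fibreDimAt_ge_of_dim_fiber_ge π x j hx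
      have heE : e ∈ {e : C | (j : WithBot ℕ∞) ≤ FlatMor.fibreDimAt π e} := hej
      rw [hSU] at heE
      obtain ⟨s, hsS, hes⟩ := heE
      exact Set.mem_biUnion hsS (subset_closure ⟨e, hes, hex⟩)
    have ht' := closure_minimal hsub hT'cl ht
    simp only [Set.mem_iUnion] at ht'
    obtain ⟨s, hsS, hts⟩ := ht'
    -- the generic point of `s`
    obtain ⟨e, he⟩ := QuasiSober.sober (hSi s hsS) (hSc s hsS)
    have hes : e ∈ s := by
      rw [← he.def]
      exact subset_closure rfl
    have heE : (j : WithBot ℕ∞) ≤ FlatMor.fibreDimAt π e := by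
      have : e ∈ {e : C | (j : WithBot ℕ∞) ≤ FlatMor.fibreDimAt π e} := by
        rw [hSU]
        exact ⟨s, hsS, hes⟩
      exact this
    have hcl : closure (π '' s) ⊆ closure ({π e} : Set X) := by
      apply closure_minimal _ isClosed_closure
      rintro _ ⟨c', hc's, rfl⟩
      have h1 : e ⤳ c' := by
        rw [specializes_iff_mem_closure, he.def]
        exact hc's
      exact specializes_iff_mem_closure.mp (h1.map π.continuous)
    have htcl : closure ({t} : Set X) ⊆ closure ({π e} : Set X) :=
      closure_minimal (by rintro _ rfl; exact hcl hts) isClosed_closure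
    have h1 := topologicalKrullDim_mono_set htcl
    have h2 := dim_closure_add_le_of_le_fibreDimAt q π e j heE
    -- arithmetic
    have h3 : topologicalKrullDim ↥(closure ({t} : Set X)) + (j : WithBot ℕ∞) ≤
        topologicalKrullDim C := (add_le_add_left h1 _).trans h2
    have h4 : topologicalKrullDim ↥(closure ({t} : Set X)) + (j : WithBot ℕ∞) + (c : WithBot ℕ∞) ≤
        n := (add_le_add_left h3 _).trans h
    rw [← hcj, ← add_assoc, add_right_comm]
    exact h4
  · intro h
    rw [topologicalKrullDim_add_le_iff]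
    intro x
    obtain ⟨a, b, ha, hb, hab⟩ := exists_dim_closure_eq_add q π x
    have hxB : π x ∈ {x : X | (b : WithBot ℕ∞) ≤ topologicalKrullDim ↥(π.fiber x)} := by
      change (b : WithBot ℕ∞) ≤ _
      rw [← hb]
      exact topologicalKrullDim_subspace_le _ _
    have hsub : closure ({π x} : Set X) ⊆
        closure {x : X | (b : WithBot ℕ∞) ≤ topologicalKrullDim ↥(π.fiber x)} :=
      closure_mono (Set.singleton_subset_iff.mpr hxB)
    have h1 := topologicalKrullDim_mono_set hsub
    rw [ha] at h1
    have h2 := h b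
    have h3 : (a : WithBot ℕ∞) + (c : WithBot ℕ∞) + (b : WithBot ℕ∞) ≤ n :=
      (add_le_add_left (add_le_add_left h1 _) _).trans h2
    have h4 : a + c + b ≤ n := by exact_mod_cast h3
    rw [hab]
    have : a + b + c ≤ n := by omega
    exact_mod_cast this

end strata

end Groth.Agent.Lib.Helper55
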