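import Groth.Agent.Lib.Helper55.SectionCompConst
import Groth.Agent.Lib.Helper55.GroupFibreDimConst
import Groth.Agent.Lib.Helper14.FibreGrpTop
import Groth.Agent.Lib.Helper70.GrpConnE
import Groth.Agent.Lib.Helper23.FlatFibreDimDense

/-!
# Neutral components of group schemes: geometric irreducibility and universal openness (helper55)

SGA3 VI_B 4.x: for an `S`-group scheme `G` locally of finite presentation, `G → S` is universally
open at the points of `G_s⁰` iff `t ↦ dim G_t` is constant near `s`.
-/

set_option autoImplicit false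
universe u

open CategoryTheory CategoryTheory.Limits MonoidalCategory CartesianMonoidalCategory MonObj GrpObj
  AlgebraicGeometry Topology

namespace Groth.Agent.Lib.Helper55.GroupSectionComp

open Groth.Agent.Lib.Helper55.SectionCompUO Groth.Agent.Lib.Helper14.FibreGrpTop
open Groth.Agent.Lib.Helper70.GrpConnA

variable {S : Scheme.{u}} (G : Over S) [GrpObj G]

/-- The neutral components of the fibres of a group scheme are geometrically irreducible
(in the form used by the section-component milestones). -/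
theorem geomIrr_unit (t : S) : GeomIrr G.hom (η[G].left : S ⟶ G.left) t := by
  intro K _ _
  obtain ⟨G₀, _, j, _, -, -, hrange, hgi, -⟩ := Groth.Agent.Lib.Helper70.GrpConnE.main (Gs G t)
  -- the preimage of the component in the scheme-theoretic fibre
  have hpre : (G.hom.fiberι t) ⁻¹' connectedComponentIn (G.hom ⁻¹' {t})
      ((η[G].left : S ⟶ G.left) t) = Set.range j.left := by
    rw [hrange, ← fiberι_eptF,
      Groth.Agent.Lib.Helper78.SectionComp.connectedComponentIn_fibre_eq_image]
    exact Set.preimage_image_eq _ (G.hom.fiberι t).isEmbedding.injective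
  have hset : (FBase.bcπ (G.hom.fiberToSpecResidueField t) K ≫ G.hom.fiberι t).base ⁻¹'
      connectedComponentIn (G.hom.base ⁻¹' {t}) ((η[G].left : S ⟶ G.left).base t) =
      Set.range (pullback.fst (FBase.bcπ (G.hom.fiberToSpecResidueField t) K) j.left) := by
    rw [Scheme.Pullback.range_fst]
    ext p
    have hcomp : (FBase.bcπ (G.hom.fiberToSpecResidueField t) K ≫ G.hom.fiberι t) p =
        G.hom.fiberι t (FBase.bcπ (G.hom.fiberToSpecResidueField t) K p) :=
      Scheme.Hom.comp_apply _ _ _
    constructor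
    · intro hp
      have h : FBase.bcπ (G.hom.fiberToSpecResidueField t) K p ∈ (G.hom.fiberι t) ⁻¹'
          connectedComponentIn (G.hom ⁻¹' {t}) ((η[G].left : S ⟶ G.left) t) := by
        change G.hom.fiberι t (FBase.bcπ (G.hom.fiberToSpecResidueField t) K p) ∈
          connectedComponentIn (G.hom ⁻¹' {t}) ((η[G].left : S ⟶ G.left) t)
        rw [← hcomp]; exact hp
      rw [hpre] at h
      exact h
    · intro hp
      have h : FBase.bcπ (G.hom.fiberToSpecResidueField t) K p ∈ (G.hom.fiberι t) ⁻¹'
          connectedComponentIn (G.hom ⁻¹' {t}) ((η[G].left : S ⟶ G.left) t) := by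
        rw [hpre]; exact hp
      change (FBase.bcπ (G.hom.fiberToSpecResidueField t) K ≫ G.hom.fiberι t) p ∈
        connectedComponentIn (G.hom ⁻¹' {t}) ((η[G].left : S ⟶ G.left) t)
      rw [hcomp]; exact h
  -- the pasted pullback square
  have h1 : IsPullback (pullback.fst (FBase.bcπ (G.hom.fiberToSpecResidueField t) K) j.left)
      (pullback.snd (FBase.bcπ (G.hom.fiberToSpecResidueField t) K) j.left)
      (FBase.bcπ (G.hom.fiberToSpecResidueField t) K) j.left := IsPullback.of_hasPullback _ _
  have h2 : IsPullback (FBase.bcπ (G.hom.fiberToSpecResidueField t) K)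
      (FBase.bcStr (G.hom.fiberToSpecResidueField t) K) (G.hom.fiberToSpecResidueField t)
      (Spec.map (CommRingCat.ofHom (algebraMap
        (IsLocalRing.ResidueField (S.presheaf.stalk t)) K))) := IsPullback.of_hasPullback _ _
  have h3 := (h1.paste_horiz h2.flip).flip
  have hw : j.left ≫ G.hom.fiberToSpecResidueField t = G₀.hom := Over.w j
  have h3' : IsPullback
      (pullback.snd (FBase.bcπ (G.hom.fiberToSpecResidueField t) K) j.left)
      (pullback.fst (FBase.bcπ (G.hom.fiberToSpecResidueField t) K) j.left ≫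
        FBase.bcStr (G.hom.fiberToSpecResidueField t) K) G₀.hom
      (Spec.map (CommRingCat.ofHom (algebraMap
        (IsLocalRing.ResidueField (S.presheaf.stalk t)) K))) := by
    rw [← hw]; exact h3
  have hirr : IrreducibleSpace ↥(pullback (FBase.bcπ (G.hom.fiberToSpecResidueField t) K) j.left) :=
    hgi.geometrically_irreducibleSpace _ _ _ h3'
  rw [hset, ← Set.image_univ]
  exact (IrreducibleSpace.isIrreducible_univ _).image _
    (pullback.fst (FBase.bcπ (G.hom.fiberToSpecResidueField t) K) j.left).continuous.continuousOn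

variable [LocallyOfFinitePresentation G.hom]

/-- `dim (G_t)⁰ = dim G_t`. -/
theorem dim_neutralComponent_eq_dim_fibre (t : S) :
    topologicalKrullDim ↥(connectedComponentIn (G.hom.base ⁻¹' {t})
      ((η[G].left : S ⟶ G.left).base t)) = topologicalKrullDim ↥(G.hom.base ⁻¹' {t}) := by
  have : LocallyOfFiniteType G.hom := inferInstance
  rw [dim_connectedComponentIn_eq_fibreDimAt_of_isIrreducible G.hom (η[G].left : S ⟶ G.left)
    (unit_hom G) t (isIrreducible_connectedComponentIn G.hom _ (unit_hom G) t (geomIrr_unit G t))]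
  exact (Groth.Agent.Lib.Helper14.dim_fibre_eq_fibreDimAt_unit G t).symm

omit [LocallyOfFinitePresentation G.hom] in
/-- The points of the neutral component of the fibre over `s`. -/
theorem neutralSet_inter_fibre_eq (s : S) :
    SGA3x.neutralSet G ∩ G.hom.base ⁻¹' {s} =
      connectedComponentIn (G.hom.base ⁻¹' {s}) ((η[G].left : S ⟶ G.left).base s) := by
  ext x
  constructor
  · rintro ⟨hx, hxs⟩
    have hxs' : G.hom x = s := hxs
    subst hxs'
    exact (mem_neutralSet_iff G x).mp hx
  · intro hx
    have h1 : x ∈ G.hom ⁻¹' {s} := connectedComponentIn_subset _ _ hx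
    have h2 : G.hom x = s := h1
    refine ⟨?_, h1⟩
    rw [mem_neutralSet_iff, h2]
    exact hx

/-- **(ii) ⇒ (i).** -/
theorem isUnivOpenAt_of_dim_fibre_const (s : S)
    (h : ∃ U : Set S, U ∈ nhds s ∧ ∀ t ∈ U,
      topologicalKrullDim ↥(G.hom.base ⁻¹' {t}) = topologicalKrullDim ↥(G.hom.base ⁻¹' {s})) :
    ∀ x ∈ (SGA3x.neutralSet G ∩ G.hom.base ⁻¹' {s}), EGA43.IsUnivOpenAt G.hom x := by
  obtain ⟨U, hU, hUdim⟩ := h
  rw [neutralSet_inter_fibre_eq]
  refine isUnivOpenAt_of_dim_const G.hom (η[G].left : S ⟶ G.left) (unit_hom G) (geomIrr_unit G) s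
    ⟨U, hU, fun z hz => ?_⟩
  rw [dim_neutralComponent_eq_dim_fibre, dim_neutralComponent_eq_dim_fibre]
  exact hUdim z hz

/-- The generic point of the neutral component of the fibre over `s`. -/
theorem exists_generic_neutralComponent (s : S) :
    ∃ ξ : G.left, ξ ∈ SGA3x.neutralSet G ∩ G.hom.base ⁻¹' {s} ∧
      ξ ⤳ (η[G].left : S ⟶ G.left).base s ∧
      (EGA43.IsUnivOpenAt G.hom ξ → ∃ U : Set S, U ∈ nhds s ∧ ∀ t ∈ U,
        topologicalKrullDim ↥(G.hom.base ⁻¹' {t}) = topologicalKrullDim ↥(G.hom.base ⁻¹' {s})) := by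
  have hlft : LocallyOfFiniteType G.hom := inferInstance
  have hfgs : G.hom.base ((η[G].left : S ⟶ G.left).base s) = s := unit_hom_apply G s
  have hgC : (η[G].left : S ⟶ G.left).base s ∈ connectedComponentIn (G.hom.base ⁻¹' {s})
      ((η[G].left : S ⟶ G.left).base s) := mem_connectedComponentIn hfgs
  have hirr := isIrreducible_connectedComponentIn G.hom (η[G].left : S ⟶ G.left) (unit_hom G) s
    (geomIrr_unit G s)
  have hZmax : ∀ Z' : Set G.left, IsIrreducible Z' → Z' ⊆ G.hom.base ⁻¹' {s} →
      connectedComponentIn (G.hom.base ⁻¹' {s}) ((η[G].left : S ⟶ G.left).base s) ⊆ Z' →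
      Z' = connectedComponentIn (G.hom.base ⁻¹' {s}) ((η[G].left : S ⟶ G.left).base s) :=
    fun Z' hZ' hZ'y hsub =>
      connectedComponentIn_maximal_of_isIrreducible G.hom s _ hgC Z' hZ' hZ'y hsub
  obtain ⟨ξ, hξZ, hfξ, hZcl, n, hn1, hn2, hn3⟩ :=
    exists_generic_of_fibre_component G.hom s _ (connectedComponentIn_subset _ _) hirr hZmax
  refine ⟨ξ, ?_, specializes_iff_mem_closure.mpr (hZcl hgC), ?_⟩
  · rw [neutralSet_inter_fibre_eq]; exact hξZ
  intro hUO
  have hξmax : ∀ x' : G.left, G.hom.base x' = G.hom.base ξ → ξ ∈ closure {x'} → x' = ξ :=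
    fun x' hx' hξx' =>
      Groth.Agent.Lib.Helper55.SectionCompConst.eq_of_specializes_generic_of_fibre_component G.hom s
        _ hZmax ξ hZcl x' (hx'.trans hfξ) (specializes_iff_mem_closure.mpr hξx')
        (connectedComponentIn_subset _ _)
  -- generizations
  have hgen : ∀ t' : S, t' ⤳ s →
      topologicalKrullDim ↥(G.hom.base ⁻¹' {t'}) = topologicalKrullDim ↥(G.hom.base ⁻¹' {s}) := by
    intro t' ht'
    apply le_antisymm
    · have husc := Groth.Agent.Lib.Helper14.upperSemicontinuous_dim_fibre G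
      by_contra hlt
      rw [not_le] at hlt
      have h1 := husc s _ hlt
      obtain ⟨U, hUsub, hUo, hsU⟩ := mem_nhds_iff.mp h1
      have hs'U : t' ∈ U := ht'.mem_open hUo hsU
      exact lt_irrefl _ (show topologicalKrullDim ↥(G.hom ⁻¹' {t'}) <
        topologicalKrullDim ↥(G.hom ⁻¹' {t'}) from hUsub hs'U)
    · have h14 := fibreDimAt_le_dim_opens_inter_fibre_of_isUnivOpenAt G.hom ξ hξmax hUO ⊤ trivial
        t' (by rw [hfξ]; exact ht')
      have hset : ((⊤ : G.left.Opens) : Set G.left) ∩ G.hom.base ⁻¹' {t'} =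
          G.hom.base ⁻¹' {t'} := by simp
      rw [hset] at h14
      rw [← dim_neutralComponent_eq_dim_fibre G s, hn1, ← hn3]
      exact h14
  -- constructibility
  obtain ⟨V, hsV, -, hcons⟩ := Groth.Agent.Lib.Helper14.exists_opens_dim_fibre_constructible G s
  have hTcons := hcons (topologicalKrullDim ↥(G.hom ⁻¹' {s}))
  have hnhds := Groth.Agent.Lib.Helper23.FlatFibreDimDense.mem_nhds_of_isLocallyConstructible_of_generizations
    (S := (V : Scheme.{u})) hTcons.isLocallyConstructible ⟨s, hsV⟩ (by
      intro t ht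
      have ht' : (t.1 : S) ⤳ s := ht.map continuous_subtype_val
      exact hgen t.1 ht')
  refine ⟨Subtype.val '' {t : V | topologicalKrullDim ↥(G.hom ⁻¹' {(t : S)}) =
      topologicalKrullDim ↥(G.hom ⁻¹' {s})}, ?_, ?_⟩
  · exact V.2.isOpenEmbedding_subtypeVal.isOpenMap.image_mem_nhds hnhds
  · rintro _ ⟨t, ht, rfl⟩
    exact ht

end Groth.Agent.Lib.Helper55.GroupSectionComp
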