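import Groth.Agent.Lib.Helper55.GroupLocalDim
import Groth.Agent.S7457
import Mathlib.AlgebraicGeometry.PullbackCarrier

/-! The local dimension of the scheme of arrows of a groupoid scheme on the spectrum of a field,
with source and target locally of finite type, is constant (helper55). -/

set_option autoImplicit false

universe u

namespace Groth.Agent.Lib.Helper55

open CategoryTheory CategoryTheory.Limits AlgebraicGeometry

section product

variable {k : Type u} [Field k] {X Y : Scheme.{u}} (f : X ⟶ Spec (CommRingCat.of k))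
  (g : Y ⟶ Spec (CommRingCat.of k)) [LocallyOfFiniteType f] [LocallyOfFiniteType g]

/-- Local dimension of a product of schemes locally of finite type over a field, for an arbitrary
pullback square. -/
theorem localDim_eq_add_of_isPullback {P : Scheme.{u}} {p₁ : P ⟶ X} {p₂ : P ⟶ Y}
    (h : IsPullback p₁ p₂ f g) (z : P) :
    FlatMor.localDim ↥P z = FlatMor.localDim ↥X (p₁ z) + FlatMor.localDim ↥Y (p₂ z) := by
  have h1 := localDim_eq_of_isOpenEmbedding h.isoPullback.hom h.isoPullback.hom.isOpenEmbedding z
  rw [h1, localDim_pullback_eq_add]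
  have e1 : pullback.fst f g (h.isoPullback.hom z) = p₁ z := by
    have := congr(($(h.isoPullback_hom_fst)) z)
    exact this
  have e2 : pullback.snd f g (h.isoPullback.hom z) = p₂ z := by
    have := congr(($(h.isoPullback_hom_snd)) z)
    exact this
  rw [e1, e2]

end product

section groupoid

variable (S : Scheme.{u}) (G : Grpd.GroupoidScheme S) {k : Type u} [Field k]
  (eU : G.U ≅ Spec (CommRingCat.of k)) [LocallyOfFiniteType G.s] [LocallyOfFiniteType G.t]

include eU in
/-- **The local dimension of the arrows of a groupoid scheme over a field is constant.** -/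
theorem localDim_eq_of_groupoid (r r' : G.R) :
    FlatMor.localDim ↥G.R r = FlatMor.localDim ↥G.R r' := by
  have hss : Subsingleton (PrimeSpectrum k) := inferInstance
  have hsU : Subsingleton ↥G.U := eU.hom.homeomorph.injective.subsingleton
  -- a point `v` of `R ×_{s,t} R` with `c v = r` and `snd v = r'`
  have hpb : IsPullback G.c (pullback.snd G.s G.t) G.s G.s := (Groth.Agent.S7457.result S G).2
  obtain ⟨v, hv1, hv2⟩ : ∃ v : ↥(pullback G.s G.t), G.c v = r ∧ pullback.snd G.s G.t v = r' := by
    obtain ⟨z, hz1, hz2⟩ := Scheme.Pullback.exists_preimage_pullback (f := G.s) (g := G.s) r r'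
      (Subsingleton.elim _ _)
    refine ⟨hpb.isoPullback.inv z, ?_, ?_⟩
    · have := congr(($(hpb.isoPullback_inv_fst)) z)
      exact this.trans hz1
    · have := congr(($(hpb.isoPullback_inv_snd)) z)
      exact this.trans hz2
  -- the shear isomorphism
  have hcond : (pullback.fst G.t G.t ≫ G.i) ≫ G.s = pullback.snd G.t G.t ≫ G.t :=
    (Category.assoc _ _ _).trans
      ((congrArg (fun x => pullback.fst G.t G.t ≫ x) G.i_s).trans pullback.condition)
  let φ : pullback G.t G.t ⟶ pullback G.s G.t :=
    pullback.lift (pullback.fst G.t G.t)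
      (pullback.lift (pullback.fst G.t G.t ≫ G.i) (pullback.snd G.t G.t) hcond ≫ G.c)
      (by
        rw [G.comp_t, Category.assoc, G.i_t])
  have hφ1 : φ ≫ pullback.fst G.s G.t = pullback.fst G.t G.t := pullback.lift_fst _ _ _
  have hφ2 : φ ≫ pullback.snd G.s G.t =
      pullback.lift (pullback.fst G.t G.t ≫ G.i) (pullback.snd G.t G.t) hcond ≫ G.c :=
    pullback.lift_snd _ _ _
  obtain ⟨hiso, hφc⟩ := (Groth.Agent.S7457.result S G).1 φ hφ1 hφ2
  let φi : pullback G.t G.t ≅ pullback G.s G.t := asIso φ
  set w : ↥(pullback G.t G.t) := φi.inv v with hw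
  have hφw : φ w = v := by
    have : φi.inv ≫ φ = 𝟙 _ := φi.inv_hom_id
    have := congr(($this) v)
    exact this
  have hw2 : pullback.snd G.t G.t w = r := by
    have := congr(($hφc) w)
    change G.c (φ w) = pullback.snd G.t G.t w at this
    rw [← this, hφw, hv1]
  have hw1 : pullback.fst G.s G.t (φ w) = pullback.fst G.t G.t w := by
    have := congr(($hφ1) w)
    exact this
  -- the two fibre products are products over `Spec k`
  have hlt : LocallyOfFiniteType (G.t ≫ eU.hom) := inferInstance
  have hls : LocallyOfFiniteType (G.s ≫ eU.hom) := inferInstance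
  have hP1 : IsPullback (pullback.fst G.t G.t) (pullback.snd G.t G.t) (G.t ≫ eU.hom)
      (G.t ≫ eU.hom) :=
    IsPullback.of_isLimit' ⟨by rw [← Category.assoc, pullback.condition, Category.assoc]⟩
      (pullbackIsPullbackOfCompMono G.t G.t eU.hom)
  have hP2 : IsPullback (pullback.fst G.s G.t) (pullback.snd G.s G.t) (G.s ≫ eU.hom)
      (G.t ≫ eU.hom) :=
    IsPullback.of_isLimit' ⟨by rw [← Category.assoc, pullback.condition, Category.assoc]⟩
      (pullbackIsPullbackOfCompMono G.s G.t eU.hom)
  have h1 := localDim_eq_add_of_isPullback (G.t ≫ eU.hom) (G.t ≫ eU.hom) hP1 w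
  have h2 := localDim_eq_add_of_isPullback (G.s ≫ eU.hom) (G.t ≫ eU.hom) hP2 (φ w)
  have h3 := localDim_eq_of_isOpenEmbedding φ φ.isOpenEmbedding w
  rw [hw2] at h1
  rw [hw1, hφw, hv2] at h2
  obtain ⟨n, hn⟩ := exists_localDim_eq_natCast (G.t ≫ eU.hom) (pullback.fst G.t G.t w)
  rw [hφw] at h3
  rw [h1, h2, hn] at h3
  exact withBot_enat_add_left_cancel n h3

include eU in
/-- The local dimension of the arrows of a groupoid scheme over a field is its dimension. -/
theorem localDim_eq_topologicalKrullDim_of_groupoid (r : G.R) :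
    FlatMor.localDim ↥G.R r = topologicalKrullDim ↥G.R := by
  rw [topologicalKrullDim_eq_iSup_localDim]
  apply le_antisymm
  · exact le_iSup (fun x : G.R => FlatMor.localDim ↥G.R x) r
  · exact iSup_le fun x => (localDim_eq_of_groupoid S G eU x r).le

end groupoid

end Groth.Agent.Lib.Helper55
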