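import Groth.Prelude.Def_LefMon
import Groth.Agent.Lib.Helper55.ExtFunctoriality
import Groth.Agent.Lib.Helper4.EtMVData
import Groth.Agent.Lib.Helper4.EtMVBridge
import Groth.Agent.S0101

/-!
# Functoriality of `EtAdic.Hmap` (helper55)

`Hmap (f ≫ g) = Hmap f ∘ Hmap g`, and independence of the exactness witness.
-/

set_option autoImplicit false
universe u

open CategoryTheory CategoryTheory.Limits AlgebraicGeometry Abelian

namespace Groth.Agent.Lib.Helper55.HmapComp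

open Groth.Agent.Lib.Helper4.AdjConst Groth.Agent.Lib.Helper4.EtMVData
open Groth.Agent.Lib.Helper55.ExtFunctoriality

/-- `f⁻¹` is always exact -/
instance pull_pfl {X Y : Scheme.{u}} (f : X ⟶ Y) : PreservesFiniteLimits (EtCoh.pull f) :=
  Groth.Agent.S0101.result f

/-- compatibility of the canonical isomorphisms `f⁻¹ M ≅ M` with composition -/
lemma pullConst_comp_gen {A B C : Scheme.{u}} (f : A ⟶ B) (g : B ⟶ C) (M : Type)
    [AddCommGroup M] :
    (EtCore.pullConst (f ≫ g) M).inv =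
      (EtCore.pullConst f M).inv ≫ (EtCoh.pull f).map (EtCore.pullConst g M).inv ≫
        (EtCore.pullComp f g).inv.app (EtCoh.const C M) :=
  cIso_inv_comp (EtCore.constAdj C) (EtCore.constAdj B) (EtCore.constAdj A)
    (EtCoh.pullPushAdj g) (EtCoh.pullPushAdj f) (EtCoh.pullPushAdj (f ≫ g))
    (EtCore.pushGsecIso g) (EtCore.pushGsecIso f) (EtCore.pushGsecIso (f ≫ g))
    (EtCoh.pushComp g f) (pushGsec_compat f g) (AddCommGrpCat.of (ULift.{u + 1} M))

/-- pointwise formula for `Hmap` -/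
theorem Hmap_apply {X Y : Scheme.{u}} (ℓ : ℕ) (f : Y ⟶ X)
    (hf : PreservesFiniteLimits (EtCoh.pull f)) (i ν : ℕ) (x : EtAdic.Hmod X ℓ i ν) :
    EtAdic.Hmap ℓ f hf i ν x =
      ((Ext.mk₀ (EtCore.pullConst f ℤ).inv).comp (x.mapExactFunctor (EtCoh.pull f))
        (zero_add i)).comp (Ext.mk₀ (EtCore.pullConst f (ZMod (ℓ ^ ν))).hom) (add_zero i) :=
  rfl

theorem Hmap_apply' {X Y : Scheme.{u}} (ℓ : ℕ) (f : Y ⟶ X)
    (hf : PreservesFiniteLimits (EtCoh.pull f)) (i ν : ℕ) (x : EtAdic.Hmod X ℓ i ν) :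
    EtAdic.Hmap ℓ f hf i ν x =
      conj (EtCore.pullConst f ℤ).inv (x.mapExactFunctor (EtCoh.pull f))
        (EtCore.pullConst f (ZMod (ℓ ^ ν))).hom := by
  rw [Hmap_apply, conj_eq']

/-- `Hmap` is compatible with composition -/
theorem Hmap_comp {A B C : Scheme.{u}} (ℓ : ℕ) (f : A ⟶ B) (g : B ⟶ C)
    (hf : PreservesFiniteLimits (EtCoh.pull f)) (hg : PreservesFiniteLimits (EtCoh.pull g))
    (hfg : PreservesFiniteLimits (EtCoh.pull (f ≫ g))) (i ν : ℕ) (x : EtAdic.Hmod C ℓ i ν) :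
    EtAdic.Hmap ℓ (f ≫ g) hfg i ν x = EtAdic.Hmap ℓ f hf i ν (EtAdic.Hmap ℓ g hg i ν x) := by
  rw [Hmap_apply', Hmap_apply', Hmap_apply', map_conj, conj_conj,
    mapExactFunctor_iso (EtCoh.pull (f ≫ g)) (EtCoh.pull g ⋙ EtCoh.pull f)
      (EtCore.pullComp f g) x, conj_conj, mapExactFunctor_comp_functor]
  have hZ : (EtCore.pullConst (f ≫ g) ℤ).inv ≫
      (EtCore.pullComp f g).hom.app (EtCoh.const C ℤ) =
      (EtCore.pullConst f ℤ).inv ≫ (EtCoh.pull f).map (EtCore.pullConst g ℤ).inv := by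
    rw [pullConst_comp_gen]
    simp
  have hM : (EtCore.pullComp f g).inv.app (EtCoh.const C (ZMod (ℓ ^ ν))) ≫
      (EtCore.pullConst (f ≫ g) (ZMod (ℓ ^ ν))).hom =
      (EtCoh.pull f).map (EtCore.pullConst g (ZMod (ℓ ^ ν))).hom ≫
        (EtCore.pullConst f (ZMod (ℓ ^ ν))).hom := by
    have h := pullConst_comp_gen f g (ZMod (ℓ ^ ν))
    have h2 : ((EtCore.pullConst f (ZMod (ℓ ^ ν))).inv ≫
        (EtCoh.pull f).map (EtCore.pullConst g (ZMod (ℓ ^ ν))).inv ≫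
        (EtCore.pullComp f g).inv.app (EtCoh.const C (ZMod (ℓ ^ ν)))) ≫
        (EtCore.pullConst (f ≫ g) (ZMod (ℓ ^ ν))).hom = 𝟙 _ := by
      rw [← h, Iso.inv_hom_id]
    calc (EtCore.pullComp f g).inv.app (EtCoh.const C (ZMod (ℓ ^ ν))) ≫
          (EtCore.pullConst (f ≫ g) (ZMod (ℓ ^ ν))).hom
        = ((EtCoh.pull f).map (EtCore.pullConst g (ZMod (ℓ ^ ν))).hom ≫
            (EtCore.pullConst f (ZMod (ℓ ^ ν))).hom) ≫
            ((EtCore.pullConst f (ZMod (ℓ ^ ν))).inv ≫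
            (EtCoh.pull f).map (EtCore.pullConst g (ZMod (ℓ ^ ν))).inv ≫
            (EtCore.pullComp f g).inv.app (EtCoh.const C (ZMod (ℓ ^ ν)))) ≫
            (EtCore.pullConst (f ≫ g) (ZMod (ℓ ^ ν))).hom := by
          simp
      _ = _ := by rw [h2, Category.comp_id]
  rw [hZ, hM]

/-- compatibility of `pullConst` with `pullComp` (hom form) -/
lemma pullConst_inv_comp_pullComp_hom {A B C : Scheme.{u}} (f : A ⟶ B) (g : B ⟶ C) (M : Type)
    [AddCommGroup M] :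
    (EtCore.pullConst (f ≫ g) M).inv ≫ (EtCore.pullComp f g).hom.app (EtCoh.const C M) =
      (EtCore.pullConst f M).inv ≫ (EtCoh.pull f).map (EtCore.pullConst g M).inv := by
  rw [pullConst_comp_gen]
  simp

/-- `Hpull` is compatible with composition (arbitrary coefficients) -/
theorem Hpull_comp {A B C : Scheme.{u}} (a : A ⟶ B) (b : B ⟶ C)
    [PreservesFiniteLimits (EtCoh.pull a)] [PreservesFiniteLimits (EtCoh.pull b)]
    [PreservesFiniteLimits (EtCoh.pull (a ≫ b))] (F : EtCoh.Ab C) (n : ℕ) (x : EtCoh.H C F n) :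
    EtCore.Hpull (a ≫ b) F n x =
      (EtCore.Hpull a ((EtCoh.pull b).obj F) n (EtCore.Hpull b F n x)).comp
        (Ext.mk₀ ((EtCore.pullComp a b).inv.app F)) (add_zero n) := by
  rw [Groth.Agent.Lib.Helper4.EtMVBridge.hr, Groth.Agent.Lib.Helper4.EtMVBridge.hr,
    Groth.Agent.Lib.Helper4.EtMVBridge.hr,
    mapExactFunctor_iso (EtCoh.pull (a ≫ b)) (EtCoh.pull b ⋙ EtCoh.pull a)
      (EtCore.pullComp a b) x, mk₀_comp_conj, mapExactFunctor_comp_functor,
    Ext.mapExactFunctor_comp, Ext.mapExactFunctor_mk₀, Ext.mk₀_comp_mk₀_assoc, conj_eq',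
    pullConst_inv_comp_pullComp_hom]

end Groth.Agent.Lib.Helper55.HmapComp
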