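import Mathlib
import Groth.Agent.Lib.Helper55.ClosedFibreDim
import Groth.Agent.Lib.Helper55.ValuationSpecialize
import Groth.Agent.Lib.Helper55.UnivOpenEquidimComponent
import Groth.Agent.Lib.Helper24.UnivOpenAt
import Groth.Agent.S3404

/-! EGA IV 14.3.?: for a morphism of finite type `f : X ⟶ S` and a family of universally open
`S`-schemes `Y i` mapping to `X`, the dimension of the closure (in the fibre `X_s`) of the union of
the images of the fibres `(Y i)_s` does not decrease under generization of `s` (helper55). -/

set_option autoImplicit false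
universe u

namespace Groth.Agent.Lib.Helper55

open AlgebraicGeometry CategoryTheory Topology TopologicalSpace Limits

section fibreOpen

variable {X S S' : Scheme.{u}} (f : X ⟶ S) (h : S' ⟶ S)

/-- The map between the fibres of a base change is an open map (it is a base change of a morphism
of spectra of fields). -/
theorem closure_preimage_inter_fibre (E : Set X) (r : ↥(pullback f h))
    (hr : (pullback.fst f h).base r ∈
      closure (E ∩ f.base ⁻¹' {h.base ((pullback.snd f h).base r)})) :
    r ∈ closure ((pullback.fst f h).base ⁻¹' E ∩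
      (pullback.snd f h).base ⁻¹' {(pullback.snd f h).base r}) := by
  have hsq : IsPullback (pullback.fst f h) (pullback.snd f h) f h := IsPullback.of_hasPullback f h
  have hpb := isPullback_fiberToSpecResidueField_of_isPullback hsq ((pullback.snd f h).base r)
  have hUO : UniversallyOpen (Spec.map (h.residueFieldMap ((pullback.snd f h).base r))) :=
    inferInstance
  have hπ : UniversallyOpen (pullback.map (pullback.snd f h)
      (S'.fromSpecResidueField ((pullback.snd f h).base r)) f
      (S.fromSpecResidueField (h.base ((pullback.snd f h).base r))) (pullback.fst f h)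
      (Spec.map (h.residueFieldMap ((pullback.snd f h).base r))) h hsq.w.symm (by simp)) :=
    MorphismProperty.of_isPullback (P := @UniversallyOpen) hpb.flip hUO
  have hcomm : pullback.map (pullback.snd f h)
      (S'.fromSpecResidueField ((pullback.snd f h).base r)) f
      (S.fromSpecResidueField (h.base ((pullback.snd f h).base r))) (pullback.fst f h)
      (Spec.map (h.residueFieldMap ((pullback.snd f h).base r))) h hsq.w.symm (by simp) ≫
      f.fiberι (h.base ((pullback.snd f h).base r)) =
      (pullback.snd f h).fiberι ((pullback.snd f h).base r) ≫ pullback.fst f h :=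
    pullback.lift_fst _ _ _
  generalize pullback.map (pullback.snd f h)
      (S'.fromSpecResidueField ((pullback.snd f h).base r)) f
      (S.fromSpecResidueField (h.base ((pullback.snd f h).base r))) (pullback.fst f h)
      (Spec.map (h.residueFieldMap ((pullback.snd f h).base r))) h hsq.w.symm (by simp) = π
      at hπ hcomm
  have hopen : IsOpenMap π.base := π.isOpenMap
  -- the point of the fibre
  have hrF : (pullback.snd f h).fiberι ((pullback.snd f h).base r)
      ((pullback.snd f h).asFiber r) = r := (pullback.snd f h).fiberι_asFiber r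
  set rF := (pullback.snd f h).asFiber r with hrFdef
  set E' : Set ↥(f.fiber (h.base ((pullback.snd f h).base r))) :=
    (f.fiberι (h.base ((pullback.snd f h).base r))).base ⁻¹' E with hE'
  have hcommpt : ∀ q, (f.fiberι (h.base ((pullback.snd f h).base r))).base (π.base q) =
      (pullback.fst f h).base (((pullback.snd f h).fiberι ((pullback.snd f h).base r)).base q) := by
    intro q
    exact congr(($hcomm) q)
  have h1 : π.base rF ∈ closure E' := by
    rw [(f.fiberι (h.base ((pullback.snd f h).base r))).isEmbedding.closure_eq_preimage_closure_image]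
    change (f.fiberι (h.base ((pullback.snd f h).base r))).base (π.base rF) ∈
      closure ((f.fiberι (h.base ((pullback.snd f h).base r))).base '' E')
    rw [hcommpt rF, hrF]
    have himg : (f.fiberι (h.base ((pullback.snd f h).base r))).base '' E' =
        E ∩ f.base ⁻¹' {h.base ((pullback.snd f h).base r)} := by
      rw [hE', Set.image_preimage_eq_inter_range, f.range_fiberι]
    rw [himg]
    exact hr
  have h2 : rF ∈ closure (π.base ⁻¹' E') := hopen.preimage_closure_subset_closure_preimage h1
  have h3 : ((pullback.snd f h).fiberι ((pullback.snd f h).base r)).base rF ∈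
      closure (((pullback.snd f h).fiberι ((pullback.snd f h).base r)).base '' (π.base ⁻¹' E')) :=
    image_closure_subset_closure_image
      ((pullback.snd f h).fiberι ((pullback.snd f h).base r)).continuous ⟨rF, h2, rfl⟩
  rw [hrF] at h3
  refine closure_mono ?_ h3
  rintro _ ⟨q, hq, rfl⟩
  refine ⟨?_, ?_⟩
  · change (pullback.fst f h).base _ ∈ E
    rw [← hcommpt q]
    exact hq
  · have : ((pullback.snd f h).fiberι ((pullback.snd f h).base r)).base q ∈
        Set.range ((pullback.snd f h).fiberι ((pullback.snd f h).base r)).base := ⟨q, rfl⟩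
    rw [(pullback.snd f h).range_fiberι] at this
    exact this

end fibreOpen

section lift

variable {X S S' Y : Scheme.{u}} (f : X ⟶ S) (h : S' ⟶ S) (g : Y ⟶ S) [UniversallyOpen g]
  (v : Y ⟶ X) (hv : v ≫ f = g)

include hv in
/-- Points of the base change of `X` lying over the image of a universally open `S`-scheme `Y`
can be generized over any generization of their image in the new base, staying over the image of
`Y`. -/
theorem exists_generization_over_range (e' : ↥(pullback f h))
    (he' : (pullback.fst f h).base e' ∈ Set.range v.base) (t₂ : S')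
    (ht₂ : t₂ ⤳ (pullback.snd f h).base e') :
    ∃ ζ : ↥(pullback f h), ζ ⤳ e' ∧ (pullback.snd f h).base ζ = t₂ ∧
      (pullback.fst f h).base ζ ∈ Set.range v.base := by
  obtain ⟨w, hw⟩ := he'
  obtain ⟨wA, hwA1, hwA2⟩ := Scheme.Pullback.exists_preimage_pullback (f := v)
    (g := pullback.fst f h) w e' hw
  have hsq : IsPullback (pullback.fst v (pullback.fst f h))
      (pullback.snd v (pullback.fst f h) ≫ pullback.snd f h) g h := by
    have := ((IsPullback.of_hasPullback v (pullback.fst f h)).flip.paste_horiz
      (IsPullback.of_hasPullback f h).flip).flip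
    rwa [hv] at this
  have hopen : EGA43.IsOpenAt (pullback.snd v (pullback.fst f h) ≫ pullback.snd f h).base wA :=
    Groth.Agent.Lib.Helper24.isOpenAt_snd_of_isUnivOpenAt
      (isUnivOpenAt_of_universallyOpen g w) hsq wA hwA1
  have ht₃ : t₂ ⤳ (pullback.snd v (pullback.fst f h) ≫ pullback.snd f h).base wA := by
    have : (pullback.snd v (pullback.fst f h) ≫ pullback.snd f h).base wA =
        (pullback.snd f h).base e' := congrArg (pullback.snd f h).base hwA2
    rw [this]
    exact ht₂
  obtain ⟨w', hw'1, hw'2⟩ := (Groth.Agent.S3404.result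
    (pullback.snd v (pullback.fst f h) ≫ pullback.snd f h) wA).1 hopen t₂ ht₃
  refine ⟨(pullback.snd v (pullback.fst f h)).base w', ?_, hw'2, ?_⟩
  · rw [← hwA2]
    exact hw'1.map (pullback.snd v (pullback.fst f h)).continuous
  · refine ⟨(pullback.fst v (pullback.fst f h)).base w', ?_⟩
    exact congr(($(pullback.condition (f := v) (g := pullback.fst f h))) w')

end lift

section main

variable {X S : Scheme.{u}} (f : X ⟶ S) [LocallyOfFiniteType f] [QuasiCompact f]
  {ι : Type u} (Y : ι → Scheme.{u}) (g : ∀ i, Y i ⟶ S) [∀ i, UniversallyOpen (g i)]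
  (v : ∀ i, Y i ⟶ X) (hv : ∀ i, v i ≫ f = g i)

include hv in
/-- **EGA IV 14.3.?**  The dimension of the closure in the fibre of the union of the images of
universally open `S`-schemes does not decrease under generization. -/
theorem dim_closure_iUnion_range_inter_fibre_le_of_specializes (s s' : S) (hs : s' ⤳ s) :
    topologicalKrullDim ↥(f.base ⁻¹' {s} ∩
        closure ((⋃ i, Set.range (v i).base) ∩ f.base ⁻¹' {s})) ≤
      topologicalKrullDim ↥(f.base ⁻¹' {s'} ∩
        closure ((⋃ i, Set.range (v i).base) ∩ f.base ⁻¹' {s'})) := by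
  classical
  obtain ⟨A, _, _, _, h, hga, hgb⟩ := exists_valuationRing_of_specializes hs
  subst hga
  subst hgb
  set E : Set X := ⋃ i, Set.range (v i).base with hE
  -- the closed subsets
  set Ca : TopologicalSpace.Closeds X :=
    ⟨closure (E ∩ f.base ⁻¹' {h.base (IsLocalRing.closedPoint A)}), isClosed_closure⟩ with hCa
  set Cb : TopologicalSpace.Closeds X :=
    ⟨closure (E ∩ f.base ⁻¹' {h.base (genericPoint ↥(Spec (CommRingCat.of A)))}),
      isClosed_closure⟩ with hCb
  have hlft : LocallyOfFiniteType (pullback.snd f h) := inferInstance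
  have hqc : QuasiCompact (pullback.snd f h) := inferInstance
  set K : TopologicalSpace.Closeds ↥(pullback f h) :=
    ⟨(pullback.fst f h).base ⁻¹' (Ca : Set X), Ca.2.preimage (pullback.fst f h).continuous⟩ with hK
  set M : TopologicalSpace.Closeds ↥(pullback f h) :=
    ⟨(pullback.fst f h).base ⁻¹' (Cb : Set X), Cb.2.preimage (pullback.fst f h).continuous⟩ with hM
  have e1 : topologicalKrullDim ↥(f.base ⁻¹' {h.base (IsLocalRing.closedPoint A)} ∩
      closure (E ∩ f.base ⁻¹' {h.base (IsLocalRing.closedPoint A)})) =
      topologicalKrullDim ↥((K : Set ↥(pullback f h)) ∩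
        (pullback.snd f h).base ⁻¹' {IsLocalRing.closedPoint A}) := by
    rw [Set.inter_comm]
    exact (topologicalKrullDim_preimage_inter_fibre_eq f h Ca (IsLocalRing.closedPoint A)).symm
  have e2 : topologicalKrullDim ↥(f.base ⁻¹' {h.base (genericPoint ↥(Spec (CommRingCat.of A)))} ∩
      closure (E ∩ f.base ⁻¹' {h.base (genericPoint ↥(Spec (CommRingCat.of A)))})) =
      topologicalKrullDim ↥((M : Set ↥(pullback f h)) ∩
        (pullback.snd f h).base ⁻¹' {genericPoint ↥(Spec (CommRingCat.of A))}) := by
    rw [Set.inter_comm]
    exact (topologicalKrullDim_preimage_inter_fibre_eq f h Cb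
      (genericPoint ↥(Spec (CommRingCat.of A)))).symm
  rw [e1, e2]
  -- the generic fibre is a Noetherian sober space
  have hlft' : LocallyOfFiniteType ((pullback.snd f h).fiberToSpecResidueField
      (genericPoint ↥(Spec (CommRingCat.of A)))) :=
    MorphismProperty.pullback_snd (P := @LocallyOfFiniteType) _ _ hlft
  have : IsLocallyNoetherian ((pullback.snd f h).fiber (genericPoint ↥(Spec (CommRingCat.of A)))) :=
    LocallyOfFiniteType.isLocallyNoetherian ((pullback.snd f h).fiberToSpecResidueField
      (genericPoint ↥(Spec (CommRingCat.of A))))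
  have : IsNoetherian ((pullback.snd f h).fiber (genericPoint ↥(Spec (CommRingCat.of A)))) := {}
  have hNS : NoetherianSpace ↥((pullback.snd f h).base ⁻¹'
      {genericPoint ↥(Spec (CommRingCat.of A))}) :=
    (noetherianSpace_iff_of_homeomorph ((pullback.snd f h).fiberHomeo
      (genericPoint ↥(Spec (CommRingCat.of A))))).mp inferInstance
  have hQS : QuasiSober ↥((pullback.snd f h).base ⁻¹'
      {genericPoint ↥(Spec (CommRingCat.of A))}) :=
    ((pullback.snd f h).fiberHomeo
      (genericPoint ↥(Spec (CommRingCat.of A)))).symm.isClosedEmbedding.quasiSober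
  -- the bound by transcendence degrees
  refine topologicalKrullDim_closeds_inter_fibre_le (pullback.snd f h) K
    (IsLocalRing.closedPoint A) _ ?_
  intro r hrK hra n hn
  -- `r` is in the closure of the preimage of `E` in its fibre
  have hr1 : r ∈ closure ((pullback.fst f h).base ⁻¹' E ∩
      (pullback.snd f h).base ⁻¹' {(pullback.snd f h).base r}) := by
    apply closure_preimage_inter_fibre f h E r
    rw [hra]
    exact hrK
  -- every point of that preimage is a specialization of a point of `G`
  have hsub : (pullback.fst f h).base ⁻¹' E ∩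
      (pullback.snd f h).base ⁻¹' {(pullback.snd f h).base r} ⊆
      closure ((pullback.snd f h).base ⁻¹' {genericPoint ↥(Spec (CommRingCat.of A))} ∩
        (M : Set ↥(pullback f h))) := by
    rintro e' ⟨he'E, he'a⟩
    obtain ⟨i, hi⟩ := Set.mem_iUnion.mp he'E
    obtain ⟨ζ, hζ1, hζ2, hζ3⟩ := exists_generization_over_range f h (g i) (v i) (hv i) e' hi
      (genericPoint ↥(Spec (CommRingCat.of A))) (genericPoint_specializes _)
    have hζG : ζ ∈ (pullback.snd f h).base ⁻¹' {genericPoint ↥(Spec (CommRingCat.of A))} ∩
        (M : Set ↥(pullback f h)) := by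
      refine ⟨hζ2, ?_⟩
      change (pullback.fst f h).base ζ ∈ closure (E ∩ f.base ⁻¹'
        {h.base (genericPoint ↥(Spec (CommRingCat.of A)))})
      apply subset_closure
      refine ⟨Set.mem_iUnion.mpr ⟨i, hζ3⟩, ?_⟩
      have hw := congr(($(pullback.condition (f := f) (g := h))) ζ)
      exact hw.trans (congrArg h.base hζ2)
    exact closure_mono (Set.singleton_subset_iff.mpr hζG) hζ1.mem_closure
  have hr2 : r ∈ closure ((pullback.snd f h).base ⁻¹' {genericPoint ↥(Spec (CommRingCat.of A))} ∩
      (M : Set ↥(pullback f h))) :=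
    closure_minimal hsub isClosed_closure hr1
  obtain ⟨ζ, ⟨hζb, hζM⟩, hζr⟩ := exists_specializes_of_mem_closure_inter _ _ M.2 r hr2
  -- pass to the reduced closed subscheme on `M`
  have hrange : Set.range (Scheme.IdealSheafData.vanishingIdeal M).subschemeι.base =
      (M : Set ↥(pullback f h)) := by
    rw [Scheme.IdealSheafData.range_subschemeι, Scheme.IdealSheafData.coe_support_vanishingIdeal]
  have hrM : r ∈ (M : Set ↥(pullback f h)) :=
    (M.2.closure_subset_iff.mpr (Set.singleton_subset_iff.mpr hζM)) hζr.mem_closure
  obtain ⟨ζ₀, hζ₀⟩ : ζ ∈ Set.range (Scheme.IdealSheafData.vanishingIdeal M).subschemeι.base := by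
    rw [hrange]; exact hζM
  obtain ⟨r₀, hr₀⟩ : r ∈ Set.range (Scheme.IdealSheafData.vanishingIdeal M).subschemeι.base := by
    rw [hrange]; exact hrM
  subst hζ₀
  subst hr₀
  have hζr₀ : ζ₀ ⤳ r₀ :=
    ((Scheme.IdealSheafData.vanishingIdeal M).subschemeι.isEmbedding.isInducing.specializes_iff).mp
      hζr
  have hn' := (trdeg_residueField_preimmersion_comp
    (Scheme.IdealSheafData.vanishingIdeal M).subschemeι (pullback.snd f h) r₀).trans hn
  have h3 := trdeg_le_fibreDimAt_of_specializes_of_valuationRing
    ((Scheme.IdealSheafData.vanishingIdeal M).subschemeι ≫ pullback.snd f h) r₀ ζ₀ hζr₀ hζb n hn'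
  refine h3.trans ?_
  rw [topologicalKrullDim_closeds_inter_fibre (pullback.snd f h) M
    (genericPoint ↥(Spec (CommRingCat.of A))), topologicalKrullDim_fiber_eq_iSup]
  exact le_iSup (fun x : {x : ↥(Scheme.IdealSheafData.vanishingIdeal M).subscheme //
      ((Scheme.IdealSheafData.vanishingIdeal M).subschemeι ≫ pullback.snd f h) x =
        genericPoint ↥(Spec (CommRingCat.of A))} =>
    FlatMor.fibreDimAt ((Scheme.IdealSheafData.vanishingIdeal M).subschemeι ≫ pullback.snd f h)
      x.1) ⟨ζ₀, hζb⟩

end main

end Groth.Agent.Lib.Helper55
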