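import Mathlib.Topology.Sober
import Mathlib.Topology.KrullDimension
import Mathlib.Topology.Homeomorph.Lemmas

/-!
# Generic points of irreducible components of a closed subspace (helper55)
-/

set_option autoImplicit false

namespace Groth.Agent.Lib.Helper55

open Topology

/-- An irreducible component `C` of a closed subspace `Y` of a quasi-sober space has a generic
point `q`, which is a "minimal" point of `Y` (any generization of `q` in `Y` specializes back
to `q`), and `C` is homeomorphic to `closure {q}`. -/
theorem exists_genericPoint_of_mem_irreducibleComponents {α : Type*} [TopologicalSpace α]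
    [QuasiSober α] (Y : Set α) (hY : IsClosed Y) (C : Set ↥Y)
    (hC : C ∈ irreducibleComponents ↥Y) :
    ∃ q : α, q ∈ Y ∧ Subtype.val '' C = closure {q} ∧ (∀ y ∈ Y, y ⤳ q → q ⤳ y) ∧
      topologicalKrullDim ↥C = topologicalKrullDim ↥(closure ({q} : Set α)) := by
  have hCirr : IsIrreducible C := hC.1
  have hCcl : IsClosed C := isClosed_of_mem_irreducibleComponents C hC
  have hemb : IsClosedEmbedding (Subtype.val : ↥Y → α) := hY.isClosedEmbedding_subtypeVal
  have hC'irr : IsIrreducible (Subtype.val '' C) :=
    hCirr.image _ continuous_subtype_val.continuousOn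
  have hC'cl : IsClosed (Subtype.val '' C) := hemb.isClosedMap C hCcl
  have hq : closure {hC'irr.genericPoint} = Subtype.val '' C :=
    (hC'irr.isGenericPoint_genericPoint hC'cl).def
  set q := hC'irr.genericPoint with hqdef
  have hqC' : q ∈ Subtype.val '' C := by
    rw [← hq]
    exact subset_closure rfl
  have hqY : q ∈ Y := by
    obtain ⟨c, -, hc⟩ := hqC'
    rw [← hc]
    exact c.2
  refine ⟨q, hqY, hq.symm, ?_, ?_⟩
  · intro y hy hyq
    have hDirr : IsIrreducible (closure {(⟨y, hy⟩ : ↥Y)}) := isIrreducible_singleton.closure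
    have hCD : C ≤ closure {(⟨y, hy⟩ : ↥Y)} := by
      intro c hc
      have h1 : (c : α) ∈ closure {q} := by
        rw [hq]
        exact ⟨c, hc, rfl⟩
      have h2 : q ⤳ (c : α) := specializes_iff_mem_closure.mpr h1
      have h3 : (⟨y, hy⟩ : ↥Y) ⤳ c := IsInducing.subtypeVal.specializes_iff.mp (hyq.trans h2)
      exact specializes_iff_mem_closure.mp h3
    have hDC : closure {(⟨y, hy⟩ : ↥Y)} ≤ C := hC.2 hDirr hCD
    have hyC : (⟨y, hy⟩ : ↥Y) ∈ C := hDC (subset_closure rfl)
    have : y ∈ closure {q} := by
      rw [hq]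
      exact ⟨⟨y, hy⟩, hyC, rfl⟩
    exact specializes_iff_mem_closure.mpr this
  · rw [hq]
    exact IsHomeomorph.topologicalKrullDim_eq _
      (IsEmbedding.subtypeVal.homeomorphImage C).isHomeomorph

end Groth.Agent.Lib.Helper55
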