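import Groth.Agent.Lib.Helper55.ValuationSpecialize
import Groth.Agent.Lib.Helper55.FibreDimFormula
import Groth.Agent.Lib.Helper55.FiberCompDim
import Groth.Agent.Lib.Helper13.EquidimAffSpace
import Groth.Agent.H72.UnibranchUO2
import Groth.Agent.Lib.Helper24.UnivOpenAt
import Groth.Agent.Lib.Helper87.GeomUnibranch
import Groth.Agent.Lib.Helper16.FibreSurj
import Groth.Agent.S4936

/-!
# Locally quasi-finite morphisms to affine space: universal openness at a point (helper55)

`main`: let `f : X ⟶ S` be locally of finite presentation, `u : X ⟶ 𝔸ⁿ_S` locally quasi-finite over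
`S`, `Z` an irreducible component of dimension `n` of the fibre `f⁻¹(s)` with generic point `z`, and
suppose `f` is universally open at `z`.  Then `u` is universally open at every point of `Z`.
No Noetherian hypothesis: the proof tests openness along valuation rings
(`exists_valuationRing_of_specializes`), uses the dimension inequality over valuation rings
(`trdeg_le_fibreDimAt_of_specializes_of_valuationRing`) to find a component of the generic fibre of
`X_V` dominating `𝔸ⁿ_V`, and concludes with helper72's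
`UnibranchUO2.isUnivOpenAt_of_isGeomUnibranch` (`𝔸ⁿ_V` is geometrically unibranch).
-/

set_option autoImplicit false
universe u

namespace Groth.Agent.Lib.Helper55.LqfAffineUO

open AlgebraicGeometry CategoryTheory CategoryTheory.Limits Topology

/-- Lifting a generization inside a fibre along a base change. -/
theorem exists_generization_fibre {X S P Y : Scheme.{u}} {f : X ⟶ S} {a : Y ⟶ S} {pr : P ⟶ X}
    {fV : P ⟶ Y} (hsq : IsPullback pr fV f a) (p : P) (z : X) (hz : z ⤳ pr p)
    (hfz : f z = f (pr p)) :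
    ∃ z₁ : P, z₁ ⤳ p ∧ pr z₁ = z ∧ fV z₁ = fV p := by
  have hpb := isPullback_fiberToSpecResidueField_of_isPullback hsq (fV p)
  have hfl : Flat (Spec.map (a.residueFieldMap (fV p))) := inferInstance
  have hπ : Flat (pullback.map fV (Y.fromSpecResidueField (fV p)) f
      (S.fromSpecResidueField (a (fV p))) pr (Spec.map (a.residueFieldMap (fV p))) a
      hsq.w.symm (by simp)) :=
    MorphismProperty.of_isPullback (P := @Flat) hpb.flip hfl
  have hcomm : pullback.map fV (Y.fromSpecResidueField (fV p)) f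
      (S.fromSpecResidueField (a (fV p))) pr (Spec.map (a.residueFieldMap (fV p))) a
      hsq.w.symm (by simp) ≫ f.fiberι (a (fV p)) = fV.fiberι (fV p) ≫ pr :=
    pullback.lift_fst _ _ _
  generalize pullback.map fV (Y.fromSpecResidueField (fV p)) f
      (S.fromSpecResidueField (a (fV p))) pr (Spec.map (a.residueFieldMap (fV p))) a
      hsq.w.symm (by simp) = π at hπ hcomm
  have hgen : GeneralizingMap π := Flat.generalizingMap π
  have hcommpt : ∀ q, f.fiberι (a (fV p)) (π q) = pr (fV.fiberι (fV p) q) := fun q =>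
    congr(($hcomm) q)
  have hap : a (fV p) = f (pr p) := (congr(($(hsq.w)) p)).symm
  -- the point `z` in the fibre
  obtain ⟨zF, hzF⟩ : z ∈ Set.range (f.fiberι (a (fV p))) := by
    rw [f.range_fiberι]
    exact hfz.trans hap.symm
  have hπp : f.fiberι (a (fV p)) (π (fV.asFiber p)) = pr p := by
    rw [hcommpt, fV.fiberι_asFiber]
  have hspec : zF ⤳ π (fV.asFiber p) := by
    rw [← (f.fiberι (a (fV p))).isEmbedding.isInducing.specializes_iff, hzF, hπp]
    exact hz
  obtain ⟨z₁F, hz₁F, hπz₁⟩ := hgen hspec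
  refine ⟨fV.fiberι (fV p) z₁F, ?_, ?_, ?_⟩
  · have := hz₁F.map (fV.fiberι (fV p)).continuous
    rwa [fV.fiberι_asFiber] at this
  · rw [← hcommpt, hπz₁, hzF]
  · have : fV.fiberι (fV p) z₁F ∈ Set.range (fV.fiberι (fV p)) := ⟨_, rfl⟩
    rw [fV.range_fiberι] at this
    exact this

variable {A : Type u} [CommRing A] [IsDomain A] [ValuationRing A]

/-- Every local ring of the spectrum of a valuation ring is geometrically unibranch. -/
theorem isGeomUnibranch_stalk_valuationRing (y : Spec (CommRingCat.of A)) :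
    CAlg2.IsGeomUnibranch ((Spec (CommRingCat.of A)).presheaf.stalk y) := by
  have hic : IsIntegrallyClosed (Localization.AtPrime y.asIdeal) :=
    isIntegrallyClosed_of_isLocalization (Localization.AtPrime y.asIdeal) y.asIdeal.primeCompl
      y.asIdeal.primeCompl_le_nonZeroDivisors
  have h1 : CAlg2.IsGeomUnibranch (Localization.AtPrime y.asIdeal) :=
    Groth.Agent.Lib.Helper87.isGeomUnibranch_of_isIntegrallyClosed _
  exact Groth.Agent.Lib.Helper61.GU.isGeomUnibranch_of_ringEquiv'
    (Spec.stalkIso (CommRingCat.of A) y).commRingCatIsoToRingEquiv.symm h1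

/-- **Heart.**  Over a valuation ring `A`: let `P = X ×_S Spec A`, `uV : P ⟶ 𝔸ⁿ_A` locally
quasi-finite, `z` a maximal point of its fibre of `f` with `dim_z = n` at which `f` is universally
open.  Then `uV` is universally open at every point `p` of `P` whose image in `X` is a
specialization of `z` in the same fibre. -/
theorem isUnivOpenAt_of_valuationRing {X S P : Scheme.{u}} (f : X ⟶ S) [LocallyOfFiniteType f]
    (n : ℕ) (a : Spec (CommRingCat.of A) ⟶ S) (pr : P ⟶ X)
    (uV : P ⟶ 𝔸(ULift.{u} (Fin n); Spec (CommRingCat.of A)))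
    [LocallyQuasiFinite uV] [LocallyOfFiniteType uV]
    (fV : P ⟶ Spec (CommRingCat.of A))
    (hfV : uV ≫ (𝔸(ULift.{u} (Fin n); Spec (CommRingCat.of A)) ↘ Spec (CommRingCat.of A)) = fV)
    (hsq : IsPullback pr fV f a)
    (z : X) (hmaxz : ∀ w : X, f w = f z → w ⤳ z → w = z)
    (hdimz : FlatMor.fibreDimAt f z = n) (hopen : EGA43.IsUnivOpenAt f z)
    (p : P) (hzp : z ⤳ pr p) (hfz : f z = f (pr p)) :
    EGA43.IsUnivOpenAt uV p := by
  have hlft : LocallyOfFiniteType fV := by
    rw [← hfV]; infer_instance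
  -- 1: lift the generization `z ⤳ pr p`
  obtain ⟨z₁, hz₁p, hz₁z, hz₁f⟩ := exists_generization_fibre hsq p z hzp hfz
  -- 2: a maximal point of the fibre of `fV`
  obtain ⟨z₂, hz₂f, hz₂z₁, hz₂max, m, hm1, hm2, hm3, -⟩ := exists_maximal_point_fiber fV z₁
  have hprz₂ : pr z₂ = z := by
    apply hmaxz
    · have e1 : f (pr z₂) = a (fV z₂) := congr(($(hsq.w)) z₂)
      have e2 : f (pr z₁) = a (fV z₁) := congr(($(hsq.w)) z₁)
      rw [e1, hz₂f, ← e2, hz₁z]
    · have := hz₂z₁.map pr.continuous
      rwa [hz₁z] at this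
  have hmn : m = n := by
    have h1 := fibreDimAt_eq_of_isPullback f a pr fV hsq z₁
    rw [hz₁z, hdimz, hm2] at h1
    exact_mod_cast h1
  -- 3: openness gives a generization in the generic fibre
  have hopen₂ : EGA43.IsOpenAt fV.base z₂ :=
    Groth.Agent.Lib.Helper24.isOpenAt_snd_of_isUnivOpenAt hopen hsq z₂ hprz₂
  have hgl := Groth.Agent.H72.OpenAt.genLift_of_isOpenAt_scheme fV z₂ hopen₂
  obtain ⟨ζ, hζz₂, hζη⟩ := hgl (genericPoint (Spec (CommRingCat.of A)))
    (genericPoint_specializes _)
  -- 4: dimension inequality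
  have h4 := trdeg_le_fibreDimAt_of_specializes_of_valuationRing fV z₂ ζ hζz₂ hζη m hm1
  -- 5: a maximal point of the generic fibre
  obtain ⟨w, hwf, hwζ, hwmax, m', hm'1, hm'2, hm'3, -⟩ := exists_maximal_point_fiber fV ζ
  rw [hm'2] at h4
  have hmm' : m ≤ m' := by exact_mod_cast h4
  subst hfV
  -- 6: the image of `w` is a maximal point of affine space
  have hzero : @Algebra.trdeg
      ((𝔸(ULift.{u} (Fin n); Spec (CommRingCat.of A))).residueField (uV w)) (P.residueField w) _ _
      (uV.residueFieldMap w).hom.toAlgebra = 0 :=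
    Groth.Agent.H52.resTrdeg_eq_zero_of_locallyQuasiFinite uV w
  have hadd := trdeg_residueField_comp uV
    (𝔸(ULift.{u} (Fin n); Spec (CommRingCat.of A)) ↘ Spec (CommRingCat.of A)) w
  rw [hzero, add_zero] at hadd
  have htr := hadd.trans hm'1
  have hle := trdeg_le_fibreDimAt
    (𝔸(ULift.{u} (Fin n); Spec (CommRingCat.of A)) ↘ Spec (CommRingCat.of A)) (uV w) m' htr
  rw [Groth.Agent.Lib.Helper13.EquidimAffSpace.fibreDimAt_affineSpace] at hle
  have hm'n : m' = n := by
    have : m' ≤ n := by exact_mod_cast hle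
    omega
  rw [hm'n] at htr
  have hgenpt : (𝔸(ULift.{u} (Fin n); Spec (CommRingCat.of A)) ↘ Spec (CommRingCat.of A)) (uV w) =
      genericPoint (Spec (CommRingCat.of A)) := by
    rw [← hζη, ← hwf]
    rfl
  have hmaxt := Groth.Agent.Lib.Helper13.EquidimAffSpace.maximal_affineSpace_of_trdeg n
    (Spec (CommRingCat.of A)) (uV w)
    (by rw [hgenpt]; exact fun v _ => genericPoint_specializes v) htr
  -- 7: hence its closure is everything
  have hcl : closure {uV w} = Set.univ := by
    have h1 : uV w ⤳ genericPoint (𝔸(ULift.{u} (Fin n); Spec (CommRingCat.of A))) :=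
      hmaxt _ (genericPoint_specializes _)
    refine Set.eq_univ_of_univ_subset ?_
    rw [← (genericPoint_spec (𝔸(ULift.{u} (Fin n); Spec (CommRingCat.of A)))).def]
    exact closure_minimal (Set.singleton_subset_iff.mpr (specializes_iff_mem_closure.mp h1))
      isClosed_closure
  -- 8: geometric unibranchness
  have hGU := Groth.Agent.S4936.result n (uV p) (isGeomUnibranch_stalk_valuationRing _)
  -- 9: conclusion
  refine Groth.Agent.H72.UnibranchUO2.isUnivOpenAt_of_isGeomUnibranch uV p w hGU
    (hwζ.trans (hζz₂.trans (hz₂z₁.trans hz₁p))) ?_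
  rw [hcl]
  exact Filter.univ_mem

/-- The generic point of an irreducible component of a fibre (as a subspace) is a maximal point of
the fibre, and the component is its closure in the fibre. -/
theorem maximal_of_genericPoint_component {X S : Scheme.{u}} (f : X ⟶ S) (s : S)
    (Z : Set ↥(f.base ⁻¹' {s})) (hZ : Z ∈ irreducibleComponents ↥(f.base ⁻¹' {s})) (z : X)
    (hz : z ∈ Subtype.val '' Z ∧ Subtype.val '' Z ⊆ closure {z}) :
    ∃ hfz : f z = s, (∀ w : X, f w = f z → w ⤳ z → w = z) ∧
      Z = closure {(⟨z, hfz⟩ : ↥(f.base ⁻¹' {s}))} := by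
  obtain ⟨⟨z', hz'Z, rfl⟩, hsub⟩ := hz
  have hfz : f z'.1 = s := z'.2
  have hZcl : Z ⊆ closure {z'} := by
    intro y hy
    have h1 : y.1 ∈ closure {z'.1} := hsub ⟨y, hy, rfl⟩
    rw [← specializes_iff_mem_closure] at h1 ⊢
    exact Topology.IsInducing.subtypeVal.specializes_iff.mp h1
  have hZeq : Z = closure {z'} := by
    apply le_antisymm hZcl
    exact (isClosed_of_mem_irreducibleComponents Z hZ).closure_subset_iff.mpr
      (Set.singleton_subset_iff.mpr hz'Z)
  refine ⟨hfz, ?_, hZeq⟩
  intro w hw hwz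
  have hws : f w = s := hw.trans hfz
  let w' : ↥(f.base ⁻¹' {s}) := ⟨w, hws⟩
  have h1 : w' ⤳ z' := Topology.IsInducing.subtypeVal.specializes_iff.mp hwz
  have h2 : Z ⊆ closure {w'} := by
    rw [hZeq]
    exact closure_minimal (Set.singleton_subset_iff.mpr (specializes_iff_mem_closure.mp h1))
      isClosed_closure
  have h3 : closure {w'} ⊆ Z := hZ.2 isIrreducible_singleton.closure h2
  have h4 : w' ∈ Z := h3 (subset_closure rfl)
  have h5 : z'.1 ⤳ w := by
    rw [specializes_iff_mem_closure]
    exact hsub ⟨w', h4, rfl⟩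
  exact (hwz.antisymm h5).eq

/-- The local fibre dimension at the generic point of an irreducible component of a fibre is the
dimension of that component. -/
theorem fibreDimAt_of_genericPoint_component {X S : Scheme.{u}} (f : X ⟶ S)
    [LocallyOfFiniteType f] (s : S)
    (Z : Set ↥(f.base ⁻¹' {s})) (hZ : Z ∈ irreducibleComponents ↥(f.base ⁻¹' {s})) (z : X)
    (hz : z ∈ Subtype.val '' Z ∧ Subtype.val '' Z ⊆ closure {z}) (n : ℕ)
    (hdimZ : topologicalKrullDim ↥Z = n) : FlatMor.fibreDimAt f z = n := by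
  obtain ⟨hfz, hmax, hZeq⟩ := maximal_of_genericPoint_component f s Z hZ z hz
  obtain ⟨z₀, hz₀f, hz₀z, -, n', hn'1, hn'2, -, -⟩ := exists_maximal_point_fiber f z
  obtain rfl : z₀ = z := hmax z₀ hz₀f hz₀z
  rw [hn'2]
  -- the point of the scheme-theoretic fibre
  obtain ⟨zF, hzF⟩ : z₀ ∈ Set.range (f.fiberι s) := by
    rw [f.range_fiberι]; exact hfz
  obtain ⟨k, hk1, hk2⟩ := exists_dim_closure_fiber_eq_trdeg f s zF z₀ hzF
  have hkn' : k = n' := by
    have := hk2.symm.trans hn'1
    exact_mod_cast this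
  -- transport along the homeomorphism
  have himg : (f.fiberHomeo s) '' closure {zF} = Z := by
    rw [hZeq, (f.fiberHomeo s).image_closure, Set.image_singleton]
    congr 2
    exact Subtype.ext ((f.fiberHomeo_apply s zF).trans hzF)
  have hdim : topologicalKrullDim ↥(closure ({zF} : Set ↥(f.fiber s))) = topologicalKrullDim ↥Z :=
    IsHomeomorph.topologicalKrullDim_eq _
      (((f.fiberHomeo s).image (closure {zF})).trans (Homeomorph.setCongr himg)).isHomeomorph
  rw [hdim, hdimZ] at hk1
  have : n = k := by exact_mod_cast hk1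
  rw [this, hkn']

theorem main (X S : Scheme.{u}) (f : X ⟶ S) [LocallyOfFinitePresentation f]
    (s : S) (x : X) (hxs : f.base x = s) (n : ℕ)
    (u : X ⟶ 𝔸(ULift.{u} (Fin n); S)) [LocallyQuasiFinite u]
    (hu : u ≫ (𝔸(ULift.{u} (Fin n); S) ↘ S) = f)
    (Z : Set ↥(f.base ⁻¹' {s})) (hZ : Z ∈ irreducibleComponents ↥(f.base ⁻¹' {s}))
    (hxZ : x ∈ (Subtype.val '' Z))
    (z : X) (hz : z ∈ Subtype.val '' Z ∧ Subtype.val '' Z ⊆ closure {z})
    (hopen : EGA43.IsUnivOpenAt f z)
    (hdimZ : topologicalKrullDim ↥Z = n) :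
    EGA43.IsUnivOpenAt u x := by
  have hu_lfp : LocallyOfFinitePresentation u :=
    Groth.Agent.Lib.Helper16.locallyOfFinitePresentation_of_comp u
      (𝔸(ULift.{u} (Fin n); S) ↘ S) (by rw [hu]; infer_instance) inferInstance
  obtain ⟨hfz, hmaxz, -⟩ := maximal_of_genericPoint_component f s Z hZ z hz
  have hdimz := fibreDimAt_of_genericPoint_component f s Z hZ z hz n hdimZ
  have hzx : z ⤳ x := specializes_iff_mem_closure.mpr (hz.2 hxZ)
  intro T' g x' hx'
  have hsnd_lfp : LocallyOfFinitePresentation (pullback.snd u g) :=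
    MorphismProperty.pullback_snd _ _ hu_lfp
  apply Groth.Agent.H72.OpenAt.isOpenAt_of_genLift_scheme
  intro y' hy'
  obtain ⟨A, _, _, _, h, hhc, hhη⟩ := exists_valuationRing_of_specializes hy'
  -- base change to the valuation ring
  let a : Spec (CommRingCat.of A) ⟶ S := (h ≫ g) ≫ (𝔸(ULift.{u} (Fin n); S) ↘ S)
  have hTsq := AffineSpace.isPullback_map (n := ULift.{u} (Fin n)) a
  have hsq : IsPullback (pullback.fst f a) (pullback.snd f a) f a := IsPullback.of_hasPullback f a
  have pf1 : (pullback.fst f a ≫ u) ≫ (𝔸(ULift.{u} (Fin n); S) ↘ S) = pullback.snd f a ≫ a := by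
    rw [Category.assoc, hu, pullback.condition]
  let uV : pullback f a ⟶ 𝔸(ULift.{u} (Fin n); Spec (CommRingCat.of A)) :=
    hTsq.lift (pullback.fst f a ≫ u) (pullback.snd f a) pf1
  have huV1 : uV ≫ AffineSpace.map (ULift.{u} (Fin n)) a = pullback.fst f a ≫ u :=
    hTsq.lift_fst _ _ _
  have huV2 : uV ≫ (𝔸(ULift.{u} (Fin n); Spec (CommRingCat.of A)) ↘ Spec (CommRingCat.of A)) =
      pullback.snd f a := hTsq.lift_snd _ _ _
  have hsqu : IsPullback (pullback.fst f a) uV u (AffineSpace.map (ULift.{u} (Fin n)) a) :=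
    IsPullback.of_bot (by rw [huV2, hu]; exact hsq) huV1.symm hTsq
  haveI : LocallyQuasiFinite uV :=
    MorphismProperty.of_isPullback (P := @LocallyQuasiFinite) hsqu inferInstance
  haveI : LocallyOfFiniteType uV :=
    MorphismProperty.of_isPullback (P := @LocallyOfFiniteType) hsqu inferInstance
  -- the section
  let σ : Spec (CommRingCat.of A) ⟶ 𝔸(ULift.{u} (Fin n); Spec (CommRingCat.of A)) :=
    hTsq.lift (h ≫ g) (𝟙 _) (by rw [Category.id_comp])
  have hσ1 : σ ≫ AffineSpace.map (ULift.{u} (Fin n)) a = h ≫ g := hTsq.lift_fst _ _ _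
  -- the pasted square
  have hαβ : IsPullback (pullback.fst (pullback.snd u g) h ≫ pullback.fst u g)
      (pullback.snd (pullback.snd u g) h) u (h ≫ g) :=
    (IsPullback.of_hasPullback (pullback.snd u g) h).paste_horiz (IsPullback.of_hasPullback u g)
  have pf2 : (pullback.fst (pullback.snd u g) h ≫ pullback.fst u g) ≫ u =
      (pullback.snd (pullback.snd u g) h ≫ σ) ≫ AffineSpace.map (ULift.{u} (Fin n)) a := by
    rw [Category.assoc, Category.assoc, hσ1, pullback.condition (f := u) (g := g),
      ← Category.assoc, pullback.condition, Category.assoc]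
  let fst' : pullback (pullback.snd u g) h ⟶ pullback f a :=
    hsqu.lift (pullback.fst (pullback.snd u g) h ≫ pullback.fst u g)
      (pullback.snd (pullback.snd u g) h ≫ σ) pf2
  have hfst'1 : fst' ≫ pullback.fst f a =
      pullback.fst (pullback.snd u g) h ≫ pullback.fst u g := hsqu.lift_fst _ _ _
  have hfst'2 : fst' ≫ uV = pullback.snd (pullback.snd u g) h ≫ σ := hsqu.lift_snd _ _ _
  have hfin : IsPullback fst' (pullback.snd (pullback.snd u g) h) uV σ :=
    IsPullback.of_right (by rw [hfst'1, hσ1]; exact hαβ) hfst'2 hsqu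
  -- the point over `x'` and the closed point
  obtain ⟨r, hr1, hr2⟩ := Scheme.Pullback.exists_preimage_pullback (f := pullback.snd u g)
    (g := h) x' (IsLocalRing.closedPoint A) hhc.symm
  have hprp : pullback.fst f a (fst' r) = x := by
    have := congr(($hfst'1) r)
    rw [Scheme.Hom.comp_apply, Scheme.Hom.comp_apply, hr1] at this
    exact this.trans hx'
  have hUO : EGA43.IsUnivOpenAt uV (fst' r) :=
    isUnivOpenAt_of_valuationRing f n a (pullback.fst f a) uV (pullback.snd f a) huV2 hsq z hmaxz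
      hdimz hopen (fst' r) (by rw [hprp]; exact hzx) (by rw [hprp, hfz]; exact hxs.symm)
  have hO : EGA43.IsOpenAt (pullback.snd (pullback.snd u g) h).base r :=
    Groth.Agent.Lib.Helper24.isOpenAt_snd_of_isUnivOpenAt hUO hfin r rfl
  have hgl := Groth.Agent.H72.OpenAt.genLift_of_isOpenAt_scheme _ r hO
  obtain ⟨r', hr'r, hr'η⟩ := hgl (genericPoint (Spec (CommRingCat.of A)))
    (genericPoint_specializes _)
  refine ⟨pullback.fst (pullback.snd u g) h r', ?_, ?_⟩
  · have := hr'r.map (pullback.fst (pullback.snd u g) h).continuous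
    rwa [hr1] at this
  · have := congr(($(pullback.condition (f := pullback.snd u g) (g := h))) r')
    rw [Scheme.Hom.comp_apply, Scheme.Hom.comp_apply, hr'η, hhη] at this
    exact this

end Groth.Agent.Lib.Helper55.LqfAffineUO
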