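import Mathlib.RingTheory.Norm.Transitivity
import Mathlib.FieldTheory.Minpoly.IsIntegrallyClosed
import Mathlib.RingTheory.IntegralClosure.IntegrallyClosed

/-!
# Norms of integral elements over an integrally closed domain

Setting: `A ⊆ B` integral extension of domains, `A` integrally closed, `K = Frac A`, `L = Frac B`
finite over `K`.  The norm `N_{L/K}(b)` of `b ∈ B` lies in `A`, and is a multiple of `b` in `B`.
-/

set_option autoImplicit false

open Polynomial IntermediateField

namespace Groth.Agent.Lib.Helper55

universe u

variable (A B K L : Type*) [CommRing A] [IsDomain A] [CommRing B] [IsDomain B] [Algebra A B]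
  [Field K] [Field L] [Algebra A K] [IsFractionRing A K] [Algebra B L] [IsFractionRing B L]
  [Algebra A L] [Algebra K L] [IsScalarTower A B L] [IsScalarTower A K L]
  [Algebra.IsIntegral A B] [IsIntegrallyClosed A]

omit [IsDomain A] [IsDomain B] [IsFractionRing B L] in
/-- The norm of an element of `B` lies in `A`. -/
theorem exists_algebraMap_eq_norm (b : B) :
    ∃ a : A, algebraMap A K a = Algebra.norm K (algebraMap B L b) := by
  have h1 : IsIntegral A (algebraMap B L b) :=
    IsIntegral.map (IsScalarTower.toAlgHom A B L) (Algebra.IsIntegral.isIntegral b)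
  have h2 : IsIntegral A (Algebra.norm K (algebraMap B L b)) := Algebra.isIntegral_norm K h1
  exact IsIntegrallyClosed.isIntegral_iff.mp h2

variable {A B K L}

omit [IsFractionRing B L] in
/-- The norm of `b ∈ B` (as an element of `A`) is a multiple of `b` in `B`. -/
theorem exists_mul_eq_of_norm_eq [FiniteDimensional K L] (b : B) (a : A)
    (ha : algebraMap A K a = Algebra.norm K (algebraMap B L b)) :
    ∃ b' : B, algebraMap A B a = b * b' := by
  have hint : IsIntegral A b := Algebra.IsIntegral.isIntegral b
  have hμ : minpoly K (algebraMap B L b) = (minpoly A b).map (algebraMap A K) :=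
    minpoly.isIntegrallyClosed_eq_field_fractions K L hint
  have hxint : IsIntegral K (algebraMap B L b) := Algebra.IsIntegral.isIntegral _
  have hr : Module.finrank K⟮algebraMap B L b⟯ L ≠ 0 := Module.finrank_pos.ne'
  obtain ⟨r, hr'⟩ := Nat.exists_eq_succ_of_ne_zero hr
  have hnorm : Algebra.norm K (algebraMap B L b) =
      ((-1) ^ (adjoin.powerBasis hxint).dim * algebraMap A K ((minpoly A b).coeff 0)) ^ (r + 1) := by
    rw [Algebra.norm_eq_norm_adjoin K (algebraMap B L b), hr', ← adjoin.powerBasis_gen hxint,
      Algebra.PowerBasis.norm_gen_eq_coeff_zero_minpoly, adjoin.powerBasis_gen, minpoly_gen, hμ,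
      coeff_map]
  have ha' : a = ((-1) ^ (adjoin.powerBasis hxint).dim * (minpoly A b).coeff 0) ^ (r + 1) := by
    apply IsFractionRing.injective A K
    rw [ha, hnorm]
    simp only [map_pow, map_mul, map_neg, map_one]
  -- the constant coefficient of the minimal polynomial is a multiple of `b`
  have hc : algebraMap A B ((minpoly A b).coeff 0) = b * (-(aeval b (minpoly A b).divX)) := by
    have h0 : aeval b (minpoly A b) = 0 := minpoly.aeval A b
    have h1 : aeval b ((minpoly A b).divX * X + C ((minpoly A b).coeff 0)) = 0 := by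
      rw [divX_mul_X_add]
      exact h0
    simp only [map_add, map_mul, aeval_X, aeval_C] at h1
    rw [mul_neg, mul_comm, ← add_eq_zero_iff_eq_neg']
    exact h1
  refine ⟨((-1) ^ (adjoin.powerBasis hxint).dim * (-(aeval b (minpoly A b).divX))) ^ (r + 1) *
    b ^ r, ?_⟩
  rw [ha']
  simp only [map_pow, map_mul, map_neg, map_one, hc]
  ring

omit [IsDomain A] [IsDomain B] [IsFractionRing B L] in
/-- If `u ∈ A` is a multiple of `b` in `B`, then `u ^ [L : K]` is a multiple of the norm of `b`
in `A`. -/
theorem pow_finrank_mem_span_of_mem_span (b : B) (a : A)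
    (ha : algebraMap A K a = Algebra.norm K (algebraMap B L b)) (u : A)
    (hu : algebraMap A B u ∈ Ideal.span {b}) : u ^ Module.finrank K L ∈ Ideal.span {a} := by
  obtain ⟨c, hc⟩ := Ideal.mem_span_singleton'.mp hu
  obtain ⟨a', ha'⟩ := exists_algebraMap_eq_norm A B K L c
  have h1 : algebraMap K L (algebraMap A K u) = algebraMap B L c * algebraMap B L b := by
    rw [← IsScalarTower.algebraMap_apply, IsScalarTower.algebraMap_apply A B L, ← hc, map_mul]
  have h2 := congr_arg (Algebra.norm K) h1
  rw [Algebra.norm_algebraMap, map_mul, ← ha, ← ha', ← map_pow, ← map_mul] at h2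
  have h3 : u ^ Module.finrank K L = a' * a := IsFractionRing.injective A K h2
  rw [h3]
  exact Ideal.mul_mem_left _ _ (Ideal.mem_span_singleton_self a)

end Groth.Agent.Lib.Helper55
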