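import Groth.Agent.Lib.Lead.ExtAdj

/-!
# Truncated degenerate Leray for an adjunction with exact left adjoint (helper55)

With the notation of `Groth.Agent.Lib.Lead.ExtAdj` (`Φ adj θ F n : Ext a (R F) n → Ext b F n`):
if `R^q R F = 0` for `1 ≤ q ≤ n`, then `Φ` is bijective in degrees `≤ n` and injective in degree `n + 1`.
-/

universe w w' v u v' u'

namespace Groth.Agent.Lib.Helper55.PhiTrunc

open CategoryTheory Limits Abelian Groth.Agent.Lib.Lead.ExtAdj

variable {C : Type u} [Category.{v} C] [Abelian C] [HasExt.{w} C]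
  {D : Type u'} [Category.{v'} D] [Abelian D] [HasExt.{w'} D]
  {L : C ⥤ D} {R : D ⥤ C} (adj : L ⊣ R) [L.Additive] [PreservesFiniteLimits L]
  [PreservesFiniteColimits L] {a : C} {b : D} (θ : b ⟶ L.obj a)

set_option linter.unusedSectionVars false

variable [R.Additive]

omit [HasExt.{w} C] [R.Additive] in
lemma assoc4 {X Y Z W V : D} {m : ℕ} (t : Ext.{w'} X Y 0) (x : Ext.{w'} Y Z m)
    (f : Z ⟶ W) (g : W ⟶ V) :
    (t.comp (x.comp (Ext.mk₀ f) (add_zero m)) (zero_add m)).comp (Ext.mk₀ g) (add_zero m) =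
      (t.comp x (zero_add m)).comp (Ext.mk₀ (f ≫ g)) (add_zero m) := by
  rw [← Ext.mk₀_comp_mk₀,
    Ext.comp_assoc t (x.comp (Ext.mk₀ f) (add_zero m)) (Ext.mk₀ g) (zero_add m) (add_zero m)
      (by lia),
    Ext.comp_assoc x (Ext.mk₀ f) (Ext.mk₀ g) (add_zero m) (zero_add 0) (by lia),
    Ext.comp_assoc t x ((Ext.mk₀ f).comp (Ext.mk₀ g) (zero_add 0)) (zero_add m) (add_zero m)
      (by lia)]

/-- Compatibility of `Φ` with connecting maps, for a morphism of short exact sequences `S' ⟶ R S`. -/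
lemma Φ_δ' {S : ShortComplex D} (hS : S.ShortExact) {S' : ShortComplex C} (hS' : S'.ShortExact)
    (t₁ : S'.X₁ ⟶ R.obj S.X₁) (t₂ : S'.X₂ ⟶ R.obj S.X₂) (t₃ : S'.X₃ ⟶ R.obj S.X₃)
    (c₁₂ : t₁ ≫ R.map S.f = S'.f ≫ t₂) (c₂₃ : t₂ ≫ R.map S.g = S'.g ≫ t₃)
    (n : ℕ) (e : Ext.{w} a S'.X₃ n) :
    Φ adj θ S.X₁ (n + 1) ((e.comp hS'.extClass rfl).comp (Ext.mk₀ t₁) (add_zero _)) =
      (Φ adj θ S.X₃ n (e.comp (Ext.mk₀ t₃) (add_zero _))).comp hS.extClass rfl := by
  have k₁₂ : (L.map t₁ ≫ adj.counit.app S.X₁) ≫ S.f =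
      L.map S'.f ≫ (L.map t₂ ≫ adj.counit.app S.X₂) := by
    have h := adj.counit_naturality S.f
    rw [Category.assoc, ← h, ← Category.assoc, ← L.map_comp, c₁₂, L.map_comp, Category.assoc]
  have k₂₃ : (L.map t₂ ≫ adj.counit.app S.X₂) ≫ S.g =
      L.map S'.g ≫ (L.map t₃ ≫ adj.counit.app S.X₃) := by
    have h := adj.counit_naturality S.g
    rw [Category.assoc, ← h, ← Category.assoc, ← L.map_comp, c₂₃, L.map_comp, Category.assoc]
  let φ : S'.map L ⟶ S :=
    { τ₁ := L.map t₁ ≫ adj.counit.app S.X₁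
      τ₂ := L.map t₂ ≫ adj.counit.app S.X₂
      τ₃ := L.map t₃ ≫ adj.counit.app S.X₃
      comm₁₂ := k₁₂
      comm₂₃ := k₂₃ }
  have hnat := ShortComplex.ShortExact.extClass_naturality (hS'.map_of_exact L) hS φ
  rw [Φ_apply, Φ_apply, Ext.mapExactFunctor_comp, Ext.mapExactFunctor_comp,
    Ext.mapExactFunctor_comp, Ext.mapExactFunctor_mk₀, Ext.mapExactFunctor_mk₀,
    Ext.mapExactFunctor_extClass]
  have h1 := assoc4 (Ext.mk₀ θ) ((e.mapExactFunctor L).comp (hS'.map_of_exact L).extClass rfl)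
    (L.map t₁) (adj.counit.app S.X₁)
  have h2 := assoc4 (Ext.mk₀ θ) (e.mapExactFunctor L) (L.map t₃) (adj.counit.app S.X₃)
  refine h1.trans ?_
  rw [h2]
  exact comp_aux (Ext.mk₀ θ) (e.mapExactFunctor L) (hS'.map_of_exact L).extClass
    (Ext.mk₀ (L.map t₁ ≫ adj.counit.app S.X₁)) (Ext.mk₀ (L.map t₃ ≫ adj.counit.app S.X₃))
    hS.extClass hnat

variable [EnoughInjectives D]

/-- `Φ` is always injective in degree one. -/
theorem Φ_one_injective [IsIso θ] (F : D) : Function.Injective (Φ adj θ F 1) := by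
  have : PreservesFiniteLimits R := by
    have := adj.rightAdjoint_preservesLimits
    infer_instance
  have hS := sesInj_shortExact F
  have hex := (Functor.preservesFiniteLimits_iff_forall_exact_map_and_mono R).1
    inferInstance _ hS
  have hmono : Mono (R.map (sesInj F).f) := hex.2
  -- the image sequence
  let S' : ShortComplex C := ShortComplex.mk (R.map (sesInj F).f) (cokernel.π (R.map (sesInj F).f))
    (cokernel.condition _)
  have hS' : S'.ShortExact :=
    { exact := ShortComplex.exact_cokernel _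
      mono_f := hmono
      epi_g := inferInstanceAs (Epi (cokernel.π (R.map (sesInj F).f))) }
  let j : S'.X₃ ⟶ R.obj (sesInj F).X₃ :=
    cokernel.desc (R.map (sesInj F).f) (R.map (sesInj F).g) ((sesInj F).map R).zero
  have hj : Mono j := ShortComplex.Exact.mono_cokernelDesc hex.1
  have hπj : cokernel.π (R.map (sesInj F).f) ≫ j = R.map (sesInj F).g := cokernel.π_desc _ _ _
  have : Injective (R.obj (sesInj F).X₂) := Injective.injective_of_adjoint adj (sesInj F).X₂
  have : Injective S'.X₂ := this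
  rw [injective_iff_map_eq_zero]
  intro x hx
  obtain ⟨x', rfl⟩ := Ext.covariant_sequence_exact₁ a hS' x (Ext.eq_zero_of_injective _) rfl
  have hδ := Φ_δ' adj θ hS hS' (𝟙 _) (𝟙 _) j (by simp [S']) (by simp [S', hπj]) 0 x'
  rw [Ext.comp_mk₀_id] at hδ
  replace hx := hδ.symm.trans hx
  obtain ⟨y'', hy''⟩ := Ext.covariant_sequence_exact₃ b hS _ rfl hx
  obtain ⟨x'', rfl⟩ := (Φ_zero_bijective adj θ (sesInj F).X₂).2 y''
  rw [← Φ_naturality] at hy''
  have h3 := (Φ_zero_bijective adj θ (sesInj F).X₃).1 hy''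
  -- `x'' ≫ R g = x' ≫ j`, hence `x' = x'' ≫ π`
  obtain ⟨u', rfl⟩ := (Ext.mk₀_bijective _ _).2 x'
  obtain ⟨u'', rfl⟩ := (Ext.mk₀_bijective _ _).2 x''
  rw [Ext.mk₀_comp_mk₀, Ext.mk₀_comp_mk₀] at h3
  have h4 : u'' ≫ R.map (sesInj F).g = u' ≫ j := (Ext.mk₀_bijective _ _).1 h3
  have h5 : u' = u'' ≫ cokernel.π (R.map (sesInj F).f) := by
    rw [← cancel_mono j, Category.assoc, hπj, h4]
  rw [h5, ← Ext.mk₀_comp_mk₀]
  have hz : (Ext.mk₀ S'.g).comp hS'.extClass (zero_add 1) = 0 := hS'.comp_extClass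
  exact (Ext.comp_assoc_of_second_deg_zero _ _ _ _).trans
    ((congrArg (fun z => (Ext.mk₀ u'').comp z _) hz).trans (Ext.comp_zero _ _ _ _ _))

open Groth.Agent.Lib.Helper5 in
/-- Truncated degenerate Leray: if `R^q R F = 0` for `1 ≤ q ≤ n`, then `Φ` is bijective in degrees
`≤ n` and injective in degree `n + 1`. -/
theorem Φ_trunc [IsIso θ] (n : ℕ) : ∀ (F : D),
    (∀ q : ℕ, q < n → IsZero ((R.rightDerived (q + 1)).obj F)) →
      (∀ p : ℕ, p ≤ n → Function.Bijective (Φ adj θ F p)) ∧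
        Function.Injective (Φ adj θ F (n + 1)) := by
  have : PreservesFiniteLimits R := by
    have := adj.rightAdjoint_preservesLimits
    infer_instance
  induction n with
  | zero =>
    intro F _
    refine ⟨fun p hp => ?_, Φ_one_injective adj θ F⟩
    obtain rfl : p = 0 := by omega
    exact Φ_zero_bijective adj θ F
  | succ n ih =>
    intro F hF
    have hS := sesInj_shortExact F
    have hQ : ∀ q : ℕ, q < n → IsZero ((R.rightDerived (q + 1)).obj (sesInj F).X₃) := fun q hq =>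
      isZero_rightDerived_succ_X₃ R hS q (hF (q + 1) (by omega))
    have hI : ∀ q : ℕ, IsZero ((R.rightDerived (q + 1)).obj (sesInj F).X₂) := fun q =>
      R.isZero_rightDerived_obj_injective_succ q _
    have hRS : ((sesInj F).map R).ShortExact := by
      have h := (Functor.preservesFiniteLimits_iff_forall_exact_map_and_mono R).1
        inferInstance _ hS
      exact ShortComplex.ShortExact.mk' h.1 h.2
        (epi_map_g_of_isZero_rightDerived_one R hS (hF 0 (by omega)))
    have : Injective ((sesInj F).map R).X₂ := Injective.injective_of_adjoint adj (sesInj F).X₂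
    have b2 : ∀ p, Function.Bijective (Φ adj θ (sesInj F).X₂ p) := fun p =>
      Φ_bijective adj θ p _ hI
    obtain ⟨b3, i3⟩ := ih _ hQ
    -- injectivity in degree `m + 1` whenever `Φ_Q` is injective in degree `m`
    have inj : ∀ m : ℕ, Function.Injective (Φ adj θ (sesInj F).X₃ m) →
        Function.Injective (Φ adj θ F (m + 1)) := by
      intro m hm
      rw [injective_iff_map_eq_zero]
      intro x hx
      obtain ⟨x', rfl⟩ := Ext.covariant_sequence_exact₁ a hRS x (Ext.eq_zero_of_injective _) rfl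
      replace hx := (Φ_δ adj θ hS hRS m x').symm.trans hx
      obtain ⟨y'', hy''⟩ := Ext.covariant_sequence_exact₃ b hS _ rfl hx
      obtain ⟨x'', rfl⟩ := (b2 m).2 y''
      rw [← Φ_naturality] at hy''
      have h3 := hm hy''
      rw [← h3]
      have hz : (Ext.mk₀ ((sesInj F).map R).g).comp hRS.extClass (zero_add 1) = 0 :=
        hRS.comp_extClass
      exact (Ext.comp_assoc_of_second_deg_zero _ _ _ _).trans
        ((congrArg (fun z => x''.comp z _) hz).trans (Ext.comp_zero _ _ _ _ _))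
    have surj : ∀ m : ℕ, Function.Surjective (Φ adj θ (sesInj F).X₃ m) →
        Function.Surjective (Φ adj θ F (m + 1)) := by
      intro m hm y
      obtain ⟨y', rfl⟩ := Ext.covariant_sequence_exact₁ b hS y (Ext.eq_zero_of_injective _) rfl
      obtain ⟨x', rfl⟩ := hm y'
      exact ⟨x'.comp hRS.extClass rfl, Φ_δ adj θ hS hRS m x'⟩
    refine ⟨fun p hp => ?_, inj (n + 1) i3⟩
    cases p with
    | zero => exact Φ_zero_bijective adj θ F
    | succ m => exact ⟨inj m (b3 m (by omega)).1, surj m (b3 m (by omega)).2⟩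

end Groth.Agent.Lib.Helper55.PhiTrunc
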