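import Groth.Agent.Lib.Helper55.WellIntersect
import Groth.Agent.Lib.Helper55.DimAttained

/-! Dimension of the preimage of a locally closed subset under a morphism with fibres of constant
dimension, over a field; base change of the off-diagonal part of `X ×_S X` (helper55). -/

set_option autoImplicit false

universe u

namespace Groth.Agent.Lib.Helper55

open AlgebraicGeometry CategoryTheory CategoryTheory.Limits TopologicalSpace Topology

section preimage

variable {k : Type u} [Field k] {A' A : Scheme.{u}} (qA : A ⟶ Spec (CommRingCat.of k))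
  [LocallyOfFiniteType qA] (h : A' ⟶ A) [LocallyOfFiniteType h]

include qA in
/-- The dimension of a locally closed subset of a scheme locally of finite type over a field is the
supremum of the dimensions of the closures of its points. -/
theorem topologicalKrullDim_eq_iSup_of_isLocallyClosed {T : Set A} (hT : IsLocallyClosed T) :
    topologicalKrullDim ↥T = ⨆ t : ↥T, topologicalKrullDim ↥(closure ({t.1} : Set A)) := by
  have : QuasiSober ↥T := quasiSober_of_isLocallyClosed hT
  rw [topologicalKrullDim_eq_iSup_closure]
  refine iSup_congr fun t => ?_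
  rw [topologicalKrullDim_closure_subtype_inter,
    topologicalKrullDim_closure_inter_eq_of_isLocallyClosed qA hT t.1 t.2]

include qA in
/-- If all fibres of `h` over the points of the locally closed subset `T` have dimension `d`, then
`dim h⁻¹(T) = dim T + d`. -/
theorem topologicalKrullDim_preimage_eq_add {T : Set A} (hT : IsLocallyClosed T) (d : ℕ)
    (hd : ∀ t ∈ T, topologicalKrullDim ↥(h.fiber t) = d) :
    topologicalKrullDim ↥(h ⁻¹' T) = topologicalKrullDim ↥T + (d : WithBot ℕ∞) := by
  have hT' : IsLocallyClosed (h ⁻¹' T) := hT.preimage h.continuous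
  apply le_antisymm
  · rw [topologicalKrullDim_eq_iSup_of_isLocallyClosed (h ≫ qA) hT']
    refine iSup_le fun t' => ?_
    obtain ⟨a, b, ha, hb, hab⟩ := exists_dim_closure_eq_add qA h t'.1
    rw [hab, Nat.cast_add]
    have h1 : ((a : ℕ) : WithBot ℕ∞) ≤ topologicalKrullDim ↥T := by
      rw [← ha, ← topologicalKrullDim_closure_inter_eq_of_isLocallyClosed qA hT (h t'.1) t'.2]
      exact topologicalKrullDim_mono_set Set.inter_subset_right
    have h2 : ((b : ℕ) : WithBot ℕ∞) ≤ (d : WithBot ℕ∞) := by
      rw [← hb, ← hd (h t'.1) t'.2]
      exact topologicalKrullDim_subspace_le _ _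
    exact add_le_add h1 h2
  · rw [topologicalKrullDim_eq_iSup_of_isLocallyClosed qA hT]
    have hconst : (d : WithBot ℕ∞) = ⨆ _ : Unit, (d : WithBot ℕ∞) := (ciSup_const).symm
    rw [hconst]
    refine iSup_add_iSup_le_withBot _ _ _ ?_
    intro t _
    have hfib := hd t.1 t.2
    rw [topologicalKrullDim_eq_iSup_closure (X := ↥(h.fiber t.1))] at hfib
    obtain ⟨z, hz⟩ := exists_eq_of_iSup_eq_natCast _ d hfib
    obtain ⟨a, b, ha, hb, hab⟩ := exists_dim_closure_eq_add' qA h t.1 z (h.fiberι t.1 z) rfl
    have hx : h (h.fiberι t.1 z) = t.1 := by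
      have : h.fiberι t.1 z ∈ Set.range (h.fiberι t.1) := ⟨z, rfl⟩
      rw [h.range_fiberι] at this
      exact this
    rw [hx] at ha
    have hbd : b = d := by
      rw [hz] at hb
      exact_mod_cast hb.symm
    have hmem : h.fiberι t.1 z ∈ h ⁻¹' T := by
      change h (h.fiberι t.1 z) ∈ T
      rw [hx]
      exact t.2
    rw [ha, ← hbd, ← Nat.cast_add, ← hab,
      ← topologicalKrullDim_closure_inter_eq_of_isLocallyClosed (h ≫ qA) hT' _ hmem]
    exact topologicalKrullDim_mono_set Set.inter_subset_right

end preimage

section fibreBC

variable {X S X' S' : Scheme.{u}} (f : X ⟶ S) [LocallyOfFiniteType f] (g : S' ⟶ S)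
    (g' : X' ⟶ X) (f' : X' ⟶ S') (hsq : IsPullback g' f' f g)

include hsq in
/-- The dimension of the fibres is invariant under base change. -/
theorem topologicalKrullDim_fiber_eq_of_isPullback (s' : S') :
    topologicalKrullDim ↥(f'.fiber s') = topologicalKrullDim ↥(f.fiber (g s')) := by
  have hlft' : LocallyOfFiniteType f' :=
    MorphismProperty.of_isPullback (P := @LocallyOfFiniteType) hsq ‹_›
  apply le_antisymm
  · rw [topologicalKrullDim_fiber_le_iff]
    intro x' hx'
    rw [fibreDimAt_eq_of_isPullback f g g' f' hsq x']
    have h1 : f (g' x') = g s' := by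
      rw [← hx']
      exact congr(($(hsq.w)) x')
    exact (topologicalKrullDim_fiber_le_iff f (g s') _).mp le_rfl (g' x') h1
  · rw [topologicalKrullDim_fiber_le_iff]
    intro x hx
    obtain ⟨p, hp1, hp2⟩ := Scheme.Pullback.exists_preimage_pullback (f := f) (g := g) x s' hx
    have h1 : g' (hsq.isoPullback.inv p) = x := by
      rw [← hp1, ← Scheme.Hom.comp_apply, hsq.isoPullback_inv_fst]
    have h2 : f' (hsq.isoPullback.inv p) = s' := by
      rw [← hp2, ← Scheme.Hom.comp_apply, hsq.isoPullback_inv_snd]
    rw [← h1, ← fibreDimAt_eq_of_isPullback f g g' f' hsq]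
    exact (topologicalKrullDim_fiber_le_iff f' s' _).mp le_rfl _ h2

end fibreBC

section range

/-- In a cartesian square of schemes, the range of the first projection is the preimage of the
range of the other map. -/
theorem range_fst_of_isPullback {P X Y Z : Scheme.{u}} {a : P ⟶ X} {b : P ⟶ Y} {f : X ⟶ Z}
    {g : Y ⟶ Z} (h : IsPullback a b f g) : Set.range a = f ⁻¹' Set.range g := by
  rw [← Scheme.Pullback.range_fst, ← h.isoPullback_hom_fst, Scheme.Hom.comp_base,
    TopCat.coe_comp, Set.range_comp, Set.range_eq_univ.mpr h.isoPullback.hom.surjective,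
    Set.image_univ]

end range

section diag

variable {X S S' : Scheme.{u}} (f : X ⟶ S) (g : S' ⟶ S)

/-- The canonical map `X' ×_{S'} X' ⟶ X ×_S X`, where `X' = X ×_S S'`. -/
noncomputable def pullbackSqMap :
    pullback (pullback.snd f g) (pullback.snd f g) ⟶ pullback f f :=
  pullback.map _ _ _ _ (pullback.fst f g) (pullback.fst f g) g pullback.condition.symm
    pullback.condition.symm

@[reassoc]
theorem pullbackSqMap_fst : pullbackSqMap f g ≫ pullback.fst f f =
    pullback.fst (pullback.snd f g) (pullback.snd f g) ≫ pullback.fst f g := by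
  unfold pullbackSqMap pullback.map
  exact pullback.lift_fst _ _ _

@[reassoc]
theorem pullbackSqMap_snd : pullbackSqMap f g ≫ pullback.snd f f =
    pullback.snd (pullback.snd f g) (pullback.snd f g) ≫ pullback.fst f g := by
  unfold pullbackSqMap pullback.map
  exact pullback.lift_snd _ _ _

theorem isPullback_pullbackSqMap_fst :
    IsPullback (pullbackSqMap f g) (pullback.fst (pullback.snd f g) (pullback.snd f g))
      (pullback.fst f f) (pullback.fst f g) := by
  have hA := (IsPullback.of_hasPullback (pullback.snd f g) (pullback.snd f g)).flip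
  have hB := IsPullback.of_hasPullback f g
  have h1 := hA.paste_horiz hB
  have hR := (IsPullback.of_hasPullback f f).flip
  refine IsPullback.of_right ?_ (pullbackSqMap_fst f g) hR
  rw [pullbackSqMap_snd, pullback.condition]
  exact h1

/-- `X' ×_{S'} X'` is the base change of `X ×_S X` along `g`. -/
theorem isPullback_pullbackSqMap :
    IsPullback (pullbackSqMap f g)
      (pullback.fst (pullback.snd f g) (pullback.snd f g) ≫ pullback.snd f g)
      (pullback.fst f f ≫ f) g :=
  (isPullback_pullbackSqMap_fst f g).paste_vert (IsPullback.of_hasPullback f g)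

/-- The diagonal of the base change is the base change of the diagonal. -/
theorem isPullback_diagonal_pullbackSqMap :
    IsPullback (pullback.diagonal (pullback.snd f g)) (pullback.fst f g) (pullbackSqMap f g)
      (pullback.diagonal f) := by
  refine IsPullback.of_right ?_ ?_ (isPullback_pullbackSqMap_fst f g).flip
  · rw [pullback.diagonal_fst, pullback.diagonal_fst]
    exact IsPullback.of_id_fst
  · apply pullback.hom_ext
    · rw [Category.assoc, pullbackSqMap_fst, pullback.diagonal_fst_assoc, Category.assoc,
        pullback.diagonal_fst, Category.comp_id]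
    · rw [Category.assoc, pullbackSqMap_snd, pullback.diagonal_snd_assoc, Category.assoc,
        pullback.diagonal_snd, Category.comp_id]

/-- The diagonal of the base change is the preimage of the diagonal. -/
theorem range_diagonal_pullbackSqMap :
    Set.range (pullback.diagonal (pullback.snd f g)) =
      (pullbackSqMap f g) ⁻¹' Set.range (pullback.diagonal f) :=
  range_fst_of_isPullback (isPullback_diagonal_pullbackSqMap f g)

end diag

end Groth.Agent.Lib.Helper55
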