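import Mathlib
import Groth.Agent.Lib.Helper16.ProConsAffine
import Groth.Agent.Lib.Helper16.ProConsScheme
import Groth.Agent.Lib.Helper16.ProConsMore

set_option autoImplicit false
universe u

namespace Groth.Agent.Lib.Helper55

open AlgebraicGeometry CategoryTheory Topology Groth.Agent.Lib.Helper16

/-- A closed subset of a scheme is pro-constructible. -/
theorem isProConstructible_of_isClosed {X : Scheme.{u}} {Z : Set X} (hZ : IsClosed Z) :
    ProCons.IsProConstructible Z := by
  intro x
  obtain ⟨U, hU, hxU⟩ := exists_affine_nhd x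
  obtain ⟨_, _, _, _, _⟩ := spectral_of_isAffineOpen hU
  refine ⟨U, U.2, hxU, {C : Set (U : Set X) | IsConstructible C ∧ Subtype.val ⁻¹' Z ⊆ C},
    fun C hC => hC.1.isLocallyConstructible, ?_⟩
  apply subset_antisymm
  · intro w hw C hC
    exact hC.2 hw
  · intro w hw
    by_contra hne
    obtain ⟨V, ⟨hVo, hVc⟩, hwV, hVZ⟩ :=
      (PrespectralSpace.isTopologicalBasis (X := (U : Set X))).exists_subset_of_mem_open
        (show w ∈ (Subtype.val ⁻¹' Z : Set (U : Set X))ᶜ from hne)
        (hZ.preimage continuous_subtype_val).isOpen_compl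
    exact (hw Vᶜ ⟨(hVc.isConstructible hVo).compl, fun z hz hzV => hVZ hzV hz⟩) hwV

/-- A pro-constructible subset of a scheme is retrocompact. -/
theorem isRetrocompact_of_isProConstructible {X : Scheme.{u}} {E : Set X}
    (hE : ProCons.IsProConstructible E) : IsRetrocompact E := by
  intro K hKc hKo
  obtain ⟨s, hs, hK⟩ := (isCompact_and_isOpen_iff_finite_and_eq_biUnion_affineOpens
    (X := X) (U := K)).mp ⟨hKc, hKo⟩
  have : E ∩ K = ⋃ i ∈ s, E ∩ (i : Set X) := by
    rw [hK, Set.inter_iUnion₂]
  rw [this]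
  refine hs.isCompact_biUnion fun i _ => ?_
  obtain ⟨T, g, hg⟩ := exists_spec_range_eq_inter hE i.2
  rw [← hg]
  exact isCompact_range g.continuous


/-- A locally closed retrocompact subset of a scheme is pro-constructible. -/
theorem isProConstructible_of_isLocallyClosed_of_isRetrocompact {X : Scheme.{u}} {E : Set X}
    (hlc : IsLocallyClosed E) (hrc : IsRetrocompact E) : ProCons.IsProConstructible E := by
  intro x
  obtain ⟨U, hU, hxU⟩ := exists_affine_nhd x
  obtain ⟨_, _, _, _, _⟩ := spectral_of_isAffineOpen hU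
  set EU : Set (U : Set X) := Subtype.val ⁻¹' E with hEU
  have hEUc : IsCompact EU := by
    have h1 : IsCompact (E ∩ (U : Set X)) := hrc hU.isCompact U.2
    rw [hEU, Subtype.isCompact_iff, Subtype.image_preimage_coe, Set.inter_comm]
    exact h1
  have hEUlc : IsLocallyClosed EU := hlc.preimage continuous_subtype_val
  have hO : IsOpen (coborder EU) := hEUlc.isOpen_coborder
  -- a compact open `K` with `EU ⊆ K ⊆ coborder EU`
  obtain ⟨K, hKo, hKc, hEK, hKO⟩ : ∃ K : Set (U : Set X), IsOpen K ∧ IsCompact K ∧ EU ⊆ K ∧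
      K ⊆ coborder EU := by
    have hb := PrespectralSpace.isTopologicalBasis (X := (U : Set X))
    choose! V hV hmem hsub using fun (e : (U : Set X)) (he : e ∈ EU) =>
      hb.exists_subset_of_mem_open (subset_coborder he) hO
    obtain ⟨t, ht, htfin, htcov⟩ := hEUc.elim_finite_subcover_image (b := EU) (c := V)
      (fun e he => (hV e he).1) (fun e he => Set.mem_biUnion he (hmem e he))
    refine ⟨⋃ e ∈ t, V e, isOpen_biUnion fun e he => (hV e (ht he)).1,
      htfin.isCompact_biUnion fun e he => (hV e (ht he)).2, htcov, ?_⟩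
    exact Set.iUnion₂_subset fun e he => hsub e (ht he)
  refine ⟨U, U.2, hxU, {C : Set (U : Set X) | IsConstructible C ∧ EU ⊆ C},
    fun C hC => hC.1.isLocallyConstructible, ?_⟩
  apply subset_antisymm
  · intro w hw C hC
    exact hC.2 hw
  · intro w hw
    by_contra hne
    have hwK : w ∈ K := hw K ⟨hKc.isConstructible hKo, hEK⟩
    have hwcl : w ∉ closure EU := by
      intro hcl
      apply hne
      have : w ∈ coborder EU ∩ closure EU := ⟨hKO hwK, hcl⟩
      rwa [coborder_inter_closure] at this
    obtain ⟨V, ⟨hVo, hVc⟩, hwV, hVZ⟩ :=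
      (PrespectralSpace.isTopologicalBasis (X := (U : Set X))).exists_subset_of_mem_open
        (show w ∈ (closure EU)ᶜ from hwcl) isClosed_closure.isOpen_compl
    exact (hw Vᶜ ⟨(hVc.isConstructible hVo).compl,
      fun z hz hzV => hVZ hzV (subset_closure hz)⟩) hwV

end Groth.Agent.Lib.Helper55
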