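import Mathlib.RingTheory.MvPolynomial.Ideal
import Mathlib.RingTheory.MvPolynomial.Homogeneous
import Mathlib.RingTheory.Ideal.Maps

/-!
# The ideal of `MvPolynomial σ R` generated by a set of variables is prime (for `R` a domain)
-/

set_option autoImplicit false

namespace Groth.Agent.Lib.Helper55

open MvPolynomial

variable {σ : Type*} {R : Type*} [CommRing R]

open Classical in
/-- The algebra endomorphism of the polynomial ring killing the variables in `s`. -/
noncomputable def killVars (s : Set σ) : MvPolynomial σ R →ₐ[R] MvPolynomial σ R :=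
  aeval (fun j ↦ if j ∈ s then 0 else X j)

lemma killVars_X_of_mem {s : Set σ} {j : σ} (hj : j ∈ s) :
    killVars (R := R) s (X j) = 0 := by
  simp [killVars, hj]

lemma killVars_X_of_notMem {s : Set σ} {j : σ} (hj : j ∉ s) :
    killVars (R := R) s (X j) = X j := by
  simp [killVars, hj]

theorem ker_killVars (s : Set σ) :
    RingHom.ker (killVars (R := R) s) = Ideal.span (X '' s : Set (MvPolynomial σ R)) := by
  apply le_antisymm
  · intro p hp
    rw [RingHom.mem_ker] at hp
    have key : (Ideal.Quotient.mkₐ R (Ideal.span (X '' s : Set (MvPolynomial σ R)))).comp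
        (killVars s) = Ideal.Quotient.mkₐ R (Ideal.span (X '' s : Set (MvPolynomial σ R))) := by
      apply MvPolynomial.algHom_ext
      intro j
      by_cases hj : j ∈ s
      · rw [AlgHom.comp_apply, killVars_X_of_mem hj, map_zero]
        symm
        rw [Ideal.Quotient.mkₐ_eq_mk, Ideal.Quotient.eq_zero_iff_mem]
        exact Ideal.subset_span ⟨j, hj, rfl⟩
      · rw [AlgHom.comp_apply, killVars_X_of_notMem hj]
    have := congr($key p)
    rw [AlgHom.comp_apply] at this
    have hp' : killVars (R := R) s p = 0 := hp
    rw [hp', map_zero] at this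
    rw [← Ideal.Quotient.eq_zero_iff_mem, ← Ideal.Quotient.mkₐ_eq_mk R]
    exact this.symm
  · rw [Ideal.span_le]
    rintro _ ⟨j, hj, rfl⟩
    exact killVars_X_of_mem hj

theorem isPrime_span_X_image [IsDomain R] (s : Set σ) :
    (Ideal.span (X '' s : Set (MvPolynomial σ R))).IsPrime := by
  rw [← ker_killVars]
  exact RingHom.ker_isPrime _

theorem X_mem_span_X_image_iff [Nontrivial R] {s : Set σ} {j : σ} :
    (X j : MvPolynomial σ R) ∈ Ideal.span (X '' s : Set (MvPolynomial σ R)) ↔ j ∈ s := by
  classical
  rw [mem_ideal_span_X_image]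
  constructor
  · intro h
    obtain ⟨i, hi, hne⟩ := h (Finsupp.single j 1) (by
      rw [MvPolynomial.mem_support_iff, MvPolynomial.coeff_X, if_pos rfl]
      exact one_ne_zero)
    rw [Finsupp.single_apply] at hne
    split_ifs at hne with hji
    · exact hji ▸ hi
    · exact absurd rfl hne
  · intro hj m hm
    rw [MvPolynomial.mem_support_iff, MvPolynomial.coeff_X] at hm
    split_ifs at hm with h
    · exact ⟨j, hj, by rw [← h]; simp⟩
    · exact absurd rfl hm

end Groth.Agent.Lib.Helper55
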