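import Groth.Agent.Lib.Helper55.ProjDimAlg
import Groth.Agent.Lib.Helper55.IrredComponents
import Groth.Agent.S10829

/-!
# Dimension theory in projective space over a field (helper55)

`T = ProjectiveSpectrum (CohB1.polyGrading n k)`.  For a point `x : T` (a relevant homogeneous
prime of `S = k[x₀,…,xₙ]`), `dim closure {x} + 1 = dim S/x`.
-/

set_option autoImplicit false

namespace Groth.Agent.Lib.Helper55

universe u

open Order MvPolynomial HomogeneousIdeal

variable (k : Type u) [Field k] (n : ℕ)

local notation "S" => MvPolynomial (Fin (n + 1)) k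
local notation "𝒜" => CohB1.polyGrading n k
local notation "T" => ProjectiveSpectrum (CohB1.polyGrading n k)

/-- Cancelling `+ 1` against a natural number in `WithBot ℕ∞`. -/
theorem eq_natCast_of_add_one_eq {a : WithBot ℕ∞} {t : ℕ} (h : a + 1 = ((t + 1 : ℕ) : WithBot ℕ∞)) :
    a = (t : WithBot ℕ∞) := by
  induction a with
  | bot => exact absurd h (by rw [WithBot.bot_add]; exact (WithBot.natCast_ne_bot _).symm)
  | coe a =>
    have h' : ((a + 1 : ℕ∞) : WithBot ℕ∞) = (((t + 1 : ℕ) : ℕ∞) : WithBot ℕ∞) := by
      exact_mod_cast h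
    rw [WithBot.coe_inj] at h'
    have : a = t := by
      cases a with
      | top =>
        exfalso
        have h'' : (⊤ : ℕ∞) = ((t + 1 : ℕ) : ℕ∞) := h'
        exact ENat.top_ne_natCast _ h''
      | coe a =>
        norm_cast at h' ⊢
        omega
    rw [this]
    rfl

/-- The degree zero projection is the constant coefficient. -/
theorem proj_zero_eq (f : S) : GradedRing.proj 𝒜 0 f = C (coeff 0 f) := by
  rw [GradedRing.proj_apply]
  have : DirectSum.decompose 𝒜 f = MvPolynomial.decomposition.decompose' f := rfl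
  rw [this, decomposition.decompose'_apply, homogeneousComponent_zero]

theorem mem_irrelevant_iff_constantCoeff (f : S) :
    f ∈ (irrelevant 𝒜).toIdeal ↔ constantCoeff f = 0 := by
  change GradedRing.proj 𝒜 0 f = 0 ↔ _
  rw [proj_zero_eq, map_eq_zero_iff C (C_injective _ _)]
  rfl

theorem irrelevant_eq_ker : (irrelevant 𝒜).toIdeal = RingHom.ker (constantCoeff (R := k) (σ := Fin (n + 1))) := by
  ext f
  rw [mem_irrelevant_iff_constantCoeff, RingHom.mem_ker]

theorem irrelevant_isMaximal : ((irrelevant 𝒜).toIdeal).IsMaximal := by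
  rw [irrelevant_eq_ker]
  exact RingHom.ker_isMaximal_of_surjective _ (fun c => ⟨C c, constantCoeff_C _ c⟩)

theorem ringKrullDim_quotient_irrelevant :
    ringKrullDim (S ⧸ (irrelevant 𝒜).toIdeal) = 0 :=
  ringKrullDim_eq_zero_of_isField
    ((Ideal.Quotient.maximal_ideal_iff_isField_quotient _).mp (irrelevant_isMaximal k n))

/-- A proper homogeneous ideal is contained in the irrelevant ideal. -/
theorem le_irrelevant_of_isHomogeneous (Q : Ideal S) (hQ : Q.IsHomogeneous 𝒜) (hne : Q ≠ ⊤) :
    Q ≤ (irrelevant 𝒜).toIdeal := by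
  intro a ha
  rw [mem_irrelevant_iff_constantCoeff]
  by_contra hc
  have h1 : (DirectSum.decompose 𝒜 a 0 : S) ∈ Q := hQ 0 ha
  have h2 : (DirectSum.decompose 𝒜 a 0 : S) = C (coeff 0 a) := by
    rw [← GradedRing.proj_apply, proj_zero_eq]
  rw [h2] at h1
  exact hne (Ideal.eq_top_of_isUnit_mem _ h1 ((IsUnit.mk0 _ hc).map C))

/-- A homogeneous prime `Q` with `dim S/Q ≥ 1` is a point of projective space. -/
theorem exists_point_of_isHomogeneous (Q : Ideal S) [hQp : Q.IsPrime] (hQ : Q.IsHomogeneous 𝒜)
    (hd : 1 ≤ ringKrullDim (S ⧸ Q)) : ∃ y : T, y.asHomogeneousIdeal.toIdeal = Q := by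
  refine ⟨⟨⟨Q, hQ⟩, hQp, ?_⟩, rfl⟩
  intro h
  have h1 : (irrelevant 𝒜).toIdeal ≤ Q := h
  have h2 : Q = (irrelevant 𝒜).toIdeal :=
    le_antisymm (le_irrelevant_of_isHomogeneous k n Q hQ hQp.ne_top) h1
  rw [h2, ringKrullDim_quotient_irrelevant] at hd
  exact absurd hd (by decide)

theorem one_le_ringKrullDim_quotient (x : T) :
    1 ≤ ringKrullDim (S ⧸ x.asHomogeneousIdeal.toIdeal) := by
  have h1 := Groth.Agent.S10829.toIdeal_lt_irrelevant k n x
  have : ((irrelevant 𝒜).toIdeal).IsPrime := (irrelevant_isMaximal k n).isPrime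
  have h2 := ringKrullDim_quotient_add_one_le_of_lt h1
  rw [ringKrullDim_quotient_irrelevant, zero_add] at h2
  exact h2

theorem exists_nat_ringKrullDim_quotient (P : Ideal S) [hP : P.IsPrime] :
    ∃ s : ℕ, ringKrullDim (S ⧸ P) = s := by
  have hdom : IsDomain (S ⧸ P) := (Ideal.Quotient.isDomain_iff_prime _).mpr hP
  obtain ⟨s, hs, -⟩ := exists_ringKrullDim_eq_and_trdeg_eq k (S ⧸ P)
  exact ⟨s, hs⟩

/-- Let `x` be a point, `s` a finite set such that `x + (s)` is a proper homogeneous ideal.  Then
every minimal prime `Q` over it is homogeneous with `dim S/x ≤ dim S/Q + |s|`, and if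
`|s| < dim S/x`, `Q` is a point. -/
theorem exists_point_of_mem_minimalPrimes (x : T) (s : Finset S)
    (hI : (x.asHomogeneousIdeal.toIdeal ⊔ Ideal.span (s : Set S)).IsHomogeneous 𝒜)
    (Q : Ideal S) (hQ : Q ∈ (x.asHomogeneousIdeal.toIdeal ⊔ Ideal.span (s : Set S)).minimalPrimes)
    (hd : (s.card : WithBot ℕ∞) + 1 ≤ ringKrullDim (S ⧸ x.asHomogeneousIdeal.toIdeal)) :
    ∃ y : T, y.asHomogeneousIdeal.toIdeal = Q := by
  have hQp : Q.IsPrime := hQ.1.1
  have hQh : Q.IsHomogeneous 𝒜 := isHomogeneous_of_mem_minimalPrimes 𝒜 hI hQ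
  have h1 := ringKrullDim_quotient_le_add_card_of_mem_minimalPrimes k S
    x.asHomogeneousIdeal.toIdeal Q s hQ
  apply exists_point_of_isHomogeneous k n Q hQh
  obtain ⟨t, ht⟩ := exists_nat_ringKrullDim_quotient k n Q
  obtain ⟨t', ht'⟩ := exists_nat_ringKrullDim_quotient k n x.asHomogeneousIdeal.toIdeal
  rw [ht] at h1 ⊢
  rw [ht'] at h1 hd
  have e1 : t' ≤ t + s.card := by exact_mod_cast h1
  have e2 : s.card + 1 ≤ t' := by exact_mod_cast hd
  have e3 : 1 ≤ t := by omega
  exact_mod_cast e3

/-- A point `q` of `V₊(I)` (with `I` homogeneous) which is minimal among the points of `V₊(I)` is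
a minimal prime over `I`. -/
theorem mem_minimalPrimes_of_minimal (I : Ideal S) (hI : I.IsHomogeneous 𝒜) (q : T)
    (hq : I ≤ q.asHomogeneousIdeal.toIdeal)
    (hmin : ∀ y : T, I ≤ y.asHomogeneousIdeal.toIdeal → y ≤ q → y = q) :
    q.asHomogeneousIdeal.toIdeal ∈ I.minimalPrimes := by
  obtain ⟨p, hp, hpq⟩ := Ideal.exists_minimalPrimes_le hq
  have hpp : p.IsPrime := hp.1.1
  have hph : p.IsHomogeneous 𝒜 := isHomogeneous_of_mem_minimalPrimes 𝒜 hI hp
  let y : T := ⟨⟨p, hph⟩, hpp, fun h => q.not_irrelevant_le (le_trans h hpq)⟩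
  have hy : y = q := hmin y hp.1.2 hpq
  rw [← hy]
  exact hp

/-- **The coheight of a point of projective space** is `dim S/x - 1`. -/
theorem coheight_add_one_eq (x : T) :
    ((coheight x : ℕ∞) : WithBot ℕ∞) + 1 = ringKrullDim (S ⧸ x.asHomogeneousIdeal.toIdeal) := by
  apply le_antisymm
  · have h1 := coheight_le_coheight_apply_of_strictMono _
      (Groth.Agent.S10829.toPrimeSpectrum_strictMono k n) (x : WithTop T)
    rw [coheight_coe_withTop] at h1
    have h2 := ringKrullDim_quotient_eq_coheight
      (Groth.Agent.S10829.toPrimeSpectrum k n (x : WithTop T))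
    have h3 : (Groth.Agent.S10829.toPrimeSpectrum k n (x : WithTop T)).asIdeal =
      x.asHomogeneousIdeal.toIdeal := rfl
    rw [h3] at h2
    rw [h2]
    exact_mod_cast h1
  · obtain ⟨t, ht⟩ := exists_nat_ringKrullDim_quotient k n x.asHomogeneousIdeal.toIdeal
    have h1 := one_le_ringKrullDim_quotient k n x
    rw [ht] at h1 ⊢
    have ht1 : 1 ≤ t := by exact_mod_cast h1
    obtain ⟨m, rfl⟩ : ∃ m, t = m + 1 := ⟨t - 1, by omega⟩
    clear h1 ht1
    suffices h : (m : ℕ∞) ≤ coheight x by
      have : ((m : ℕ∞) : WithBot ℕ∞) + 1 ≤ ((coheight x : ℕ∞) : WithBot ℕ∞) + 1 :=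
        add_le_add_left (by exact_mod_cast h) 1
      exact_mod_cast this
    induction m generalizing x with
    | zero => exact bot_le
    | succ m ih =>
      -- find a homogeneous element of positive degree outside `x`
      have hx := x.not_irrelevant_le
      have hx' : ¬ (irrelevant 𝒜).toIdeal ≤ x.asHomogeneousIdeal.toIdeal := hx
      rw [HomogeneousIdeal.toIdeal_irrelevant_le] at hx'
      push Not at hx'
      obtain ⟨i, hi, hle⟩ := hx'
      obtain ⟨f, hf, hfx⟩ := SetLike.not_le_iff_exists.mp hle
      have hfhom : SetLike.IsHomogeneousElem 𝒜 f := ⟨i, hf⟩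
      have hI : (x.asHomogeneousIdeal.toIdeal ⊔
          Ideal.span (({f} : Finset S) : Set S)).IsHomogeneous 𝒜 := by
        apply Ideal.IsHomogeneous.sup x.asHomogeneousIdeal.isHomogeneous
        apply Ideal.homogeneous_span
        intro g hg
        rw [Finset.coe_singleton, Set.mem_singleton_iff] at hg
        rw [hg]
        exact hfhom
      have hIle : x.asHomogeneousIdeal.toIdeal ⊔ Ideal.span (({f} : Finset S) : Set S) ≤
          (irrelevant 𝒜).toIdeal := by
        apply sup_le (Groth.Agent.S10829.toIdeal_lt_irrelevant k n x).le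
        rw [Ideal.span_le]
        intro g hg
        rw [Finset.coe_singleton, Set.mem_singleton_iff] at hg
        rw [hg]
        exact HomogeneousIdeal.mem_irrelevant_of_mem _ hi hf
      have hIne : x.asHomogeneousIdeal.toIdeal ⊔ Ideal.span (({f} : Finset S) : Set S) ≠ ⊤ :=
        fun h => (irrelevant_isMaximal k n).ne_top (top_le_iff.mp (h ▸ hIle))
      obtain ⟨Q, hQ⟩ := Ideal.nonempty_minimalPrimes hIne
      obtain ⟨y, hy⟩ := exists_point_of_mem_minimalPrimes k n x {f} hI Q hQ (by
        rw [ht, Finset.card_singleton]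
        norm_cast
        omega)
      have hQ' : Q ∈ (x.asHomogeneousIdeal.toIdeal ⊔ Ideal.span ({f} : Set S)).minimalPrimes := by
        simpa using hQ
      have hfx' : f ∉ x.asHomogeneousIdeal.toIdeal := hfx
      have h2 := ringKrullDim_quotient_eq_add_one_of_mem_minimalPrimes k S
        x.asHomogeneousIdeal.toIdeal Q f hfx' hQ'
      rw [ht, ← hy] at h2
      obtain ⟨t, ht2⟩ := exists_nat_ringKrullDim_quotient k n y.asHomogeneousIdeal.toIdeal
      have ht3 : t = m + 1 := by
        rw [ht2] at h2
        have : m + 1 + 1 = t + 1 := by exact_mod_cast h2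
        omega
      rw [ht3] at ht2
      have h3 := ih y ht2
      have hxy : x < y := by
        refine lt_of_le_of_ne ?_ ?_
        · change x.asHomogeneousIdeal.toIdeal ≤ y.asHomogeneousIdeal.toIdeal
          rw [hy]
          exact le_sup_left.trans hQ.1.2
        · rintro rfl
          apply hfx'
          rw [hy]
          exact hQ'.1.2 (Ideal.mem_sup_right (Ideal.mem_span_singleton_self f))
      calc ((m + 1 : ℕ) : ℕ∞) = (m : ℕ∞) + 1 := by norm_cast
        _ ≤ coheight y + 1 := add_le_add_left h3 1
        _ ≤ coheight x := coheight_add_one_le hxy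

/-- The generic point of projective space: the zero ideal. -/
noncomputable def botPoint : T :=
  ⟨⟨⊥, Ideal.IsHomogeneous.bot 𝒜⟩, Ideal.isPrime_bot, fun h => by
    have h1 : (X 0 : S) ∈ (irrelevant 𝒜).toIdeal :=
      HomogeneousIdeal.mem_irrelevant_of_mem _ one_pos (isHomogeneous_X k 0)
    have h2 : (X 0 : S) ∈ (⊥ : Ideal S) := h h1
    exact X_ne_zero (0 : Fin (n + 1)) ((Ideal.mem_bot).mp h2)⟩

theorem botPoint_toIdeal : (botPoint k n).asHomogeneousIdeal.toIdeal = ⊥ := rfl

theorem ringKrullDim_quotient_botPoint :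
    ringKrullDim (S ⧸ (botPoint k n).asHomogeneousIdeal.toIdeal) = ((n + 1 : ℕ) : WithBot ℕ∞) := by
  rw [botPoint_toIdeal, ringKrullDim_eq_of_ringEquiv (RingEquiv.quotientBot S),
    MvPolynomial.ringKrullDim_of_isNoetherianRing, ringKrullDim_eq_zero_of_field, zero_add,
    Nat.card_eq_fintype_card, Fintype.card_fin]

/-- Any point of `V₊(I)` (with `I` homogeneous) lies above a point which is a minimal prime of
`I`. -/
theorem exists_minimalPrime_point_le (I : Ideal S) (hI : I.IsHomogeneous 𝒜) (y : T)
    (hy : I ≤ y.asHomogeneousIdeal.toIdeal) :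
    ∃ q : T, q.asHomogeneousIdeal.toIdeal ∈ I.minimalPrimes ∧ q ≤ y := by
  obtain ⟨p, hp, hpq⟩ := Ideal.exists_minimalPrimes_le hy
  have hpp : p.IsPrime := hp.1.1
  have hph : p.IsHomogeneous 𝒜 := isHomogeneous_of_mem_minimalPrimes 𝒜 hI hp
  exact ⟨⟨⟨p, hph⟩, hpp, fun h => y.not_irrelevant_le (le_trans h hpq)⟩, hp, hpq⟩

/-- Minimal primes over a nonzero principal ideal have `dim S/Q = n`. -/
theorem ringKrullDim_quotient_of_mem_minimalPrimes_span_singleton (f : S) (hf : f ≠ 0)
    (Q : Ideal S) (hQ : Q ∈ (Ideal.span ({f} : Set S)).minimalPrimes) :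
    ringKrullDim (S ⧸ Q) = (n : WithBot ℕ∞) := by
  have hQp : Q.IsPrime := hQ.1.1
  have h1 := ringKrullDim_quotient_eq_add_one_of_mem_minimalPrimes k S (⊥ : Ideal S) Q f
    (by simpa using hf) (by simpa using hQ)
  rw [← botPoint_toIdeal k n, ringKrullDim_quotient_botPoint] at h1
  exact eq_natCast_of_add_one_eq h1.symm

/-- Minimal primes over a nonzero principal ideal `(f)` are generated by a prime factor of `f`. -/
theorem exists_prime_span_eq_of_mem_minimalPrimes (f : S) (hf : f ≠ 0)
    (Q : Ideal S) (hQ : Q ∈ (Ideal.span ({f} : Set S)).minimalPrimes) :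
    ∃ p : S, Prime p ∧ p ∣ f ∧ Q = Ideal.span {p} := by
  have hQp : Q.IsPrime := hQ.1.1
  have hfQ : f ∈ Q := hQ.1.2 (Ideal.mem_span_singleton_self f)
  have h1 : (UniqueFactorizationMonoid.factors f).prod ∈ Q := by
    obtain ⟨u, hu⟩ := UniqueFactorizationMonoid.factors_prod hf
    rwa [← hu, Ideal.mul_unit_mem_iff_mem _ u.isUnit] at hfQ
  obtain ⟨p, hp1, hp2⟩ := (hQp.multiset_prod_mem_iff_exists_mem _).1 h1
  have hpprime : Prime p := UniqueFactorizationMonoid.prime_of_factor p hp1
  have hpf : p ∣ f := UniqueFactorizationMonoid.dvd_of_mem_factors hp1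
  refine ⟨p, hpprime, hpf, ?_⟩
  have h2 : (Ideal.span {p}).IsPrime := (Ideal.span_singleton_prime hpprime.ne_zero).mpr hpprime
  have h3 : Ideal.span {f} ≤ Ideal.span {p} := Ideal.span_singleton_le_span_singleton.mpr hpf
  have h4 : Ideal.span {p} ≤ Q := (Ideal.span_singleton_le_iff_mem _).mpr hp2
  exact le_antisymm (hQ.2 ⟨h2, h3⟩ h4) h4

/-- A principal prime ideal which is homogeneous is generated by a homogeneous prime element. -/
theorem exists_isHomogeneous_prime_of_span_isHomogeneous (p : S) (hp : Prime p)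
    (hI : (Ideal.span ({p} : Set S)).IsHomogeneous 𝒜) :
    ∃ (d : ℕ) (f : S), f.IsHomogeneous d ∧ Prime f ∧ Ideal.span ({f} : Set S) = Ideal.span {p} := by
  have hp0 : p ≠ 0 := hp.ne_zero
  obtain ⟨i, hi⟩ : ∃ i, homogeneousComponent i p ≠ 0 := by
    by_contra h
    push Not at h
    apply hp0
    rw [← sum_homogeneousComponent p]
    exact Finset.sum_eq_zero fun i _ => h i
  have hmem : homogeneousComponent i p ∈ Ideal.span ({p} : Set S) := by
    have h1 : (DirectSum.decompose 𝒜 p i : S) ∈ Ideal.span ({p} : Set S) :=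
      hI i (Ideal.mem_span_singleton_self p)
    have h2 : DirectSum.decompose 𝒜 p = MvPolynomial.decomposition.decompose' p := rfl
    rwa [h2, decomposition.decompose'_apply] at h1
  obtain ⟨c, hc⟩ := Ideal.mem_span_singleton'.mp hmem
  have hc0 : c ≠ 0 := by
    rintro rfl
    rw [zero_mul] at hc
    exact hi hc.symm
  have hhom : (homogeneousComponent i p).IsHomogeneous i := homogeneousComponent_isHomogeneous i p
  have hdeg1 : (homogeneousComponent i p).totalDegree = i := hhom.totalDegree hi
  have hdeg2 : i ≤ p.totalDegree := by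
    by_contra h
    exact hi (homogeneousComponent_eq_zero i p (not_le.mp h))
  have hdeg3 : (c * p).totalDegree = c.totalDegree + p.totalDegree :=
    totalDegree_mul_of_isDomain hc0 hp0
  rw [hc, hdeg1] at hdeg3
  have hc1 : c.totalDegree = 0 := by omega
  rw [totalDegree_eq_zero_iff_eq_C] at hc1
  have hcu : IsUnit c := by
    rw [hc1]
    apply (IsUnit.mk0 _ _).map C
    intro h0
    rw [h0, map_zero] at hc1
    exact hc0 hc1
  have hassoc : Associated p (homogeneousComponent i p) := by
    obtain ⟨u, hu⟩ := hcu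
    refine ⟨u, ?_⟩
    rw [hu, mul_comm]
    exact hc
  exact ⟨i, homogeneousComponent i p, hhom, hassoc.prime hp,
    (Ideal.span_singleton_eq_span_singleton.mpr hassoc).symm⟩

section Topology

open AlgebraicGeometry

instance quasiSober_projectiveSpectrum : QuasiSober T :=
  inferInstanceAs (QuasiSober ↥(Proj 𝒜))

instance t0Space_projectiveSpectrum : T0Space T :=
  inferInstanceAs (T0Space ↥(Proj 𝒜))

variable {k n}

theorem specializes_iff_le (x y : T) : x ⤳ y ↔ x ≤ y := by
  rw [ProjectiveSpectrum.le_iff_mem_closure, specializes_iff_mem_closure]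

theorem closure_singleton_eq_Ici (x : T) : closure ({x} : Set T) = Set.Ici x := by
  ext y
  rw [Set.mem_Ici, ProjectiveSpectrum.le_iff_mem_closure]

theorem closure_singleton_eq_zeroLocus (x : T) :
    closure ({x} : Set T) = ProjectiveSpectrum.zeroLocus 𝒜 (x.asHomogeneousIdeal.toIdeal : Set S) := by
  ext y
  rw [← ProjectiveSpectrum.le_iff_mem_closure, ProjectiveSpectrum.mem_zeroLocus]
  rfl

/-- The specialization order on a closed point-closure is dual to the ideal order. -/
noncomputable def specializationClosureOrderIso (x : T) :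
    Specialization ↥(closure ({x} : Set T)) ≃o (Set.Ici x)ᵒᵈ where
  toFun a := OrderDual.toDual ⟨(Specialization.ofEquiv a).1,
    (ProjectiveSpectrum.le_iff_mem_closure _ x _).mpr (Specialization.ofEquiv a).2⟩
  invFun b := Specialization.toEquiv ⟨(OrderDual.ofDual b).1,
    (ProjectiveSpectrum.le_iff_mem_closure _ x _).mp (OrderDual.ofDual b).2⟩
  left_inv a := rfl
  right_inv b := rfl
  map_rel_iff' := by
    intro a b
    change (Specialization.ofEquiv b).1 ≤ (Specialization.ofEquiv a).1 ↔
      Specialization.ofEquiv b ⤳ Specialization.ofEquiv a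
    rw [← specializes_iff_le, Topology.IsInducing.subtypeVal.specializes_iff]

/-- The specialization order on a subspace of projective space is dual to the ideal order. -/
noncomputable def specializationSubtypeOrderIso (Y : Set T) :
    Specialization ↥Y ≃o (↥Y)ᵒᵈ where
  toFun a := OrderDual.toDual (Specialization.ofEquiv a)
  invFun b := Specialization.toEquiv (OrderDual.ofDual b)
  left_inv a := rfl
  right_inv b := rfl
  map_rel_iff' := by
    intro a b
    change (Specialization.ofEquiv b).1 ≤ (Specialization.ofEquiv a).1 ↔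
      Specialization.ofEquiv b ⤳ Specialization.ofEquiv a
    rw [← specializes_iff_le, Topology.IsInducing.subtypeVal.specializes_iff]

/-- The dimension of a closed subset of projective space is the Krull dimension of its poset of
points. -/
theorem topologicalKrullDim_eq_krullDim_of_isClosed (Y : Set T) (hY : IsClosed Y) :
    topologicalKrullDim ↥Y = krullDim ↥Y := by
  have : QuasiSober ↥Y := hY.isClosedEmbedding_subtypeVal.quasiSober
  have h1 : topologicalKrullDim ↥Y = krullDim (Specialization ↥Y) :=
    le_antisymm (Groth.Agent.S10838.topologicalKrullDim_le_specialization _)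
      (Groth.Agent.S10838.krullDim_specialization_le _)
  rw [h1, krullDim_eq_of_orderIso (specializationSubtypeOrderIso Y), krullDim_orderDual]

variable (k n)

/-- **Dimension of an irreducible closed subset of projective space.** -/
theorem topologicalKrullDim_closure_singleton_add_one (x : T) :
    topologicalKrullDim ↥(closure ({x} : Set T)) + 1 =
      ringKrullDim (S ⧸ x.asHomogeneousIdeal.toIdeal) := by
  have hcl : IsClosed (closure ({x} : Set T)) := isClosed_closure
  have : QuasiSober ↥(closure ({x} : Set T)) := hcl.isClosedEmbedding_subtypeVal.quasiSober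
  have h1 : topologicalKrullDim ↥(closure ({x} : Set T)) =
      krullDim (Specialization ↥(closure ({x} : Set T))) :=
    le_antisymm (Groth.Agent.S10838.topologicalKrullDim_le_specialization _)
      (Groth.Agent.S10838.krullDim_specialization_le _)
  rw [h1, krullDim_eq_of_orderIso (specializationClosureOrderIso x), krullDim_orderDual,
    ← coheight_eq_krullDim_Ici]
  exact coheight_add_one_eq k n x

/-- Irreducible closed subsets of projective space correspond to points, reversing the order. -/
noncomputable def irreducibleClosedsOrderIso :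
    TopologicalSpace.IrreducibleCloseds T ≃o Tᵒᵈ where
  toFun Z := OrderDual.toDual Z.isIrreducible'.genericPoint
  invFun x := ⟨closure {OrderDual.ofDual x}, isIrreducible_singleton.closure, isClosed_closure⟩
  left_inv Z := by
    apply TopologicalSpace.IrreducibleCloseds.ext
    exact (Z.isIrreducible'.isGenericPoint_genericPoint Z.isClosed').def
  right_inv x := by
    apply congrArg OrderDual.toDual
    exact ((isIrreducible_singleton.closure (X := T)).isGenericPoint_genericPoint
      isClosed_closure).eq isGenericPoint_closure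
  map_rel_iff' := by
    intro Z W
    change W.isIrreducible'.genericPoint ≤ Z.isIrreducible'.genericPoint ↔ Z ≤ W
    have hZ := (Z.isIrreducible'.isGenericPoint_genericPoint Z.isClosed')
    have hW := (W.isIrreducible'.isGenericPoint_genericPoint W.isClosed')
    rw [← specializes_iff_le, hW.specializes_iff_mem, hZ.mem_closed_set_iff W.isClosed']
    rfl

theorem irreducibleClosedsOrderIso_apply (Z : TopologicalSpace.IrreducibleCloseds T) :
    closure {OrderDual.ofDual (irreducibleClosedsOrderIso (k := k) (n := n) Z)} = (Z : Set T) :=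
  (Z.isIrreducible'.isGenericPoint_genericPoint Z.isClosed').def

/-- Every irreducible closed subset of projective space is the closure of a point. -/
theorem exists_closure_singleton_eq (X : Set T) (hXc : IsClosed X) (hXi : IsIrreducible X) :
    ∃ x : T, closure ({x} : Set T) = X :=
  ⟨hXi.genericPoint, (hXi.isGenericPoint_genericPoint hXc).def⟩

/-- Irreducible components of `V₊(I)` (`I` homogeneous) are closures of points which are minimal
primes over `I`. -/
theorem exists_minimalPrime_of_mem_irreducibleComponents (I : Ideal S) (hI : I.IsHomogeneous 𝒜)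
    (Y : Set T) (hY : ∀ y : T, y ∈ Y ↔ I ≤ y.asHomogeneousIdeal.toIdeal) (C : Set ↥Y)
    (hC : C ∈ irreducibleComponents ↥Y) :
    ∃ q : T, q.asHomogeneousIdeal.toIdeal ∈ I.minimalPrimes ∧
      Subtype.val '' C = closure ({q} : Set T) ∧
      topologicalKrullDim ↥C + 1 = ringKrullDim (S ⧸ q.asHomogeneousIdeal.toIdeal) := by
  have hYc : IsClosed Y := by
    have : Y = ProjectiveSpectrum.zeroLocus 𝒜 (I : Set S) := by
      ext y
      rw [hY, ProjectiveSpectrum.mem_zeroLocus]
      rfl
    rw [this]
    exact ProjectiveSpectrum.isClosed_zeroLocus 𝒜 _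
  obtain ⟨q, hqY, hqC, hmin, hdim⟩ := exists_genericPoint_of_mem_irreducibleComponents Y hYc C hC
  refine ⟨q, ?_, hqC, ?_⟩
  · apply mem_minimalPrimes_of_minimal k n I hI q ((hY q).mp hqY)
    intro y hy hyq
    have h1 : y ⤳ q := (specializes_iff_le y q).mpr hyq
    have h2 : q ≤ y := (specializes_iff_le q y).mp (hmin y ((hY y).mpr hy) h1)
    exact le_antisymm hyq h2
  · rw [hdim]
    exact topologicalKrullDim_closure_singleton_add_one k n q

end Topology

end Groth.Agent.Lib.Helper55
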