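import Groth.Agent.Lib.Helper55.Catenary
import Mathlib.RingTheory.GradedAlgebra.Radical
import Mathlib.RingTheory.Ideal.KrullsHeightTheorem
import Mathlib.RingTheory.Ideal.MinimalPrime.Localization

/-!
# Algebraic lemmas for projective dimension theory (helper55)
-/

set_option autoImplicit false

namespace Groth.Agent.Lib.Helper55

universe u

open Order

section General

variable {R : Type*} [CommRing R]

/-- `dim R/P` is the coheight of `P` in the prime spectrum. -/
theorem ringKrullDim_quotient_eq_coheight (P : PrimeSpectrum R) :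
    ringKrullDim (R ⧸ P.asIdeal) = (coheight P : WithBot ℕ∞) := by
  rw [ringKrullDim_quotient, coheight_eq_krullDim_Ici]
  have : PrimeSpectrum.zeroLocus (P.asIdeal : Set R) = Set.Ici P := by
    ext x
    simp only [PrimeSpectrum.mem_zeroLocus, SetLike.coe_subset_coe, Set.mem_Ici]
    rfl
  rw [this]

/-- For primes `P < Q`, `dim R/Q + 1 ≤ dim R/P`. -/
theorem ringKrullDim_quotient_add_one_le_of_lt {P Q : Ideal R} [hP : P.IsPrime] [hQ : Q.IsPrime]
    (h : P < Q) : ringKrullDim (R ⧸ Q) + 1 ≤ ringKrullDim (R ⧸ P) := by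
  have h1 := ringKrullDim_quotient_eq_coheight (⟨P, hP⟩ : PrimeSpectrum R)
  have h2 := ringKrullDim_quotient_eq_coheight (⟨Q, hQ⟩ : PrimeSpectrum R)
  rw [h1, h2]
  have h3 : (⟨P, hP⟩ : PrimeSpectrum R) < ⟨Q, hQ⟩ := h
  exact_mod_cast coheight_add_one_le h3

end General

section Graded

variable {A σ : Type*} [CommRing A] [SetLike σ A] [AddSubgroupClass σ A] (𝒜 : ℕ → σ) [GradedRing 𝒜]

/-- Minimal primes over a homogeneous ideal are homogeneous. -/
theorem isHomogeneous_of_mem_minimalPrimes {I Q : Ideal A} (hI : I.IsHomogeneous 𝒜)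
    (hQ : Q ∈ I.minimalPrimes) : Q.IsHomogeneous 𝒜 := by
  have hQp : Q.IsPrime := hQ.1.1
  have h1 : ((Q.homogeneousCore 𝒜).toIdeal).IsPrime := hQp.homogeneousCore
  have h2 : I ≤ (Q.homogeneousCore 𝒜).toIdeal := by
    have := (Ideal.homogeneousCore.gc 𝒜 (⟨I, hI⟩ : HomogeneousIdeal 𝒜) Q).mp hQ.1.2
    exact this
  have h3 : (Q.homogeneousCore 𝒜).toIdeal ≤ Q := Ideal.toIdeal_homogeneousCore_le 𝒜 Q
  have h4 : Q ≤ (Q.homogeneousCore 𝒜).toIdeal := hQ.2 ⟨h1, h2⟩ h3
  rw [Ideal.IsHomogeneous.iff_eq]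
  exact le_antisymm h3 h4

end Graded

section FiniteType

variable (k A : Type u) [Field k] [CommRing A] [Algebra k A] [Algebra.FiniteType k A]

include k

/-- **Krull's height theorem + dimension formula**: if `Q` is a minimal prime over `P + (s)` with
`P` prime in a finitely generated algebra over a field, then `dim A/P ≤ dim A/Q + |s|`. -/
theorem ringKrullDim_quotient_le_add_card_of_mem_minimalPrimes (P Q : Ideal A) [hP : P.IsPrime]
    (s : Finset A) (hQ : Q ∈ (P ⊔ Ideal.span (s : Set A)).minimalPrimes) :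
    ringKrullDim (A ⧸ P) ≤ ringKrullDim (A ⧸ Q) + (s.card : WithBot ℕ∞) := by
  classical
  have hQp : Q.IsPrime := hQ.1.1
  have hPQ : P ≤ Q := le_sup_left.trans hQ.1.2
  have hsurj : Function.Surjective (Ideal.Quotient.mk P) := Ideal.Quotient.mk_surjective
  have hdom : IsDomain (A ⧸ P) := (Ideal.Quotient.isDomain_iff_prime _).mpr hP
  have hnoeth : IsNoetherianRing (A ⧸ P) := Algebra.FiniteType.isNoetherianRing k (A ⧸ P)
  have hker : RingHom.ker (Ideal.Quotient.mk P) ≤ Q := by
    rw [Ideal.mk_ker]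
    exact hPQ
  have hprime : (Q.map (Ideal.Quotient.mk P)).IsPrime :=
    Ideal.map_isPrime_of_surjective hsurj hker
  have hmin : Q.map (Ideal.Quotient.mk P) ∈
      (Ideal.span ((s.image (Ideal.Quotient.mk P) : Finset (A ⧸ P)) : Set (A ⧸ P))).minimalPrimes := by
    have h1 := Ideal.minimalPrimes_map_of_surjective hsurj (Ideal.span (s : Set A))
    rw [Ideal.mk_ker, Ideal.map_span] at h1
    rw [Finset.coe_image, h1, sup_comm]
    exact ⟨Q, hQ, rfl⟩
  have hht : (Q.map (Ideal.Quotient.mk P)).height ≤ s.card :=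
    (Ideal.height_le_card_of_mem_minimalPrimes_span_finset hmin).trans
      (by exact_mod_cast Finset.card_image_le)
  have hH := ringKrullDim_quotient_add_height k (A ⧸ P) (Q.map (Ideal.Quotient.mk P))
  rw [ringKrullDim_eq_of_ringEquiv (DoubleQuot.quotQuotEquivQuotOfLE hPQ)] at hH
  rw [← hH]
  exact add_le_add_right (by exact_mod_cast hht) _

/-- If `Q` is a minimal prime over `P + (f)` with `f ∉ P`, then `dim A/P = dim A/Q + 1`. -/
theorem ringKrullDim_quotient_eq_add_one_of_mem_minimalPrimes (P Q : Ideal A) [hP : P.IsPrime]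
    (f : A) (hf : f ∉ P) (hQ : Q ∈ (P ⊔ Ideal.span ({f} : Set A)).minimalPrimes) :
    ringKrullDim (A ⧸ P) = ringKrullDim (A ⧸ Q) + 1 := by
  have hQp : Q.IsPrime := hQ.1.1
  apply le_antisymm
  · have := ringKrullDim_quotient_le_add_card_of_mem_minimalPrimes k A P Q {f}
      (by simpa using hQ)
    simpa using this
  · apply ringKrullDim_quotient_add_one_le_of_lt
    refine lt_of_le_of_ne (le_sup_left.trans hQ.1.2) ?_
    rintro rfl
    exact hf (hQ.1.2 (Ideal.mem_sup_right (Ideal.mem_span_singleton_self f)))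

end FiniteType

end Groth.Agent.Lib.Helper55
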