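import Groth.Agent.Lib.Helper55.Catenary
import Groth.Agent.Lib.Helper55.DimPoint
import Groth.Agent.Lib.Helper55.ChartResidue
import Groth.Agent.Lib.Helper55.DimSup
import Mathlib.RingTheory.Ideal.KrullsHeightTheorem

/-! Proper intersection with a regular immersion over a field: Krull's height theorem in charts
(helper55). -/

set_option autoImplicit false

universe u

namespace Groth.Agent.Lib.Helper55

open AlgebraicGeometry CategoryTheory TopologicalSpace Topology

section ring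

/-- **Krull's height theorem for finite type algebras over a field**: if `𝔮` is minimal over
`𝔭 + (s)` with `s` of cardinality at most `c`, then `dim B/𝔭 ≤ dim B/𝔮 + c`. -/
theorem ringKrullDim_quotient_le_add_of_mem_minimalPrimes (k : Type u) [Field k] (B : Type u)
    [CommRing B] [Algebra k B] [Algebra.FiniteType k B] (𝔭 𝔮 : Ideal B) [𝔭.IsPrime] [𝔮.IsPrime]
    (s : Finset B) (c : ℕ) (hs : s.card ≤ c)
    (h𝔮 : 𝔮 ∈ (𝔭 ⊔ Ideal.span (s : Set B)).minimalPrimes) :
    ringKrullDim (B ⧸ 𝔭) ≤ ringKrullDim (B ⧸ 𝔮) + (c : WithBot ℕ∞) := by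
  classical
  have hle : 𝔭 ≤ 𝔮 := le_sup_left.trans h𝔮.1.2
  have hsurj : Function.Surjective (Ideal.Quotient.mk 𝔭) := Ideal.Quotient.mk_surjective
  have hQp : (𝔮.map (Ideal.Quotient.mk 𝔭)).IsPrime :=
    Ideal.map_isPrime_of_surjective hsurj (by rw [Ideal.mk_ker]; exact hle)
  have hQmin : 𝔮.map (Ideal.Quotient.mk 𝔭) ∈
      ((Ideal.span (s : Set B)).map (Ideal.Quotient.mk 𝔭)).minimalPrimes := by
    rw [Ideal.minimalPrimes_map_of_surjective hsurj, Ideal.mk_ker, sup_comm]
    exact ⟨𝔮, h𝔮, rfl⟩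
  have hspan : (Ideal.span (s : Set B)).map (Ideal.Quotient.mk 𝔭) =
      Ideal.span ((s.image (Ideal.Quotient.mk 𝔭) : Finset (B ⧸ 𝔭)) : Set (B ⧸ 𝔭)) := by
    rw [Ideal.map_span, Finset.coe_image]
  rw [hspan] at hQmin
  have hN : IsNoetherianRing (B ⧸ 𝔭) := Algebra.FiniteType.isNoetherianRing k (B ⧸ 𝔭)
  have hht : (𝔮.map (Ideal.Quotient.mk 𝔭)).height ≤ (c : ℕ∞) :=
    (Ideal.height_le_card_of_mem_minimalPrimes_span_finset hQmin).trans
      (by exact_mod_cast Finset.card_image_le.trans hs)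
  have hdim := ringKrullDim_quotient_add_height k (B ⧸ 𝔭) (𝔮.map (Ideal.Quotient.mk 𝔭))
  have hiso : ringKrullDim ((B ⧸ 𝔭) ⧸ 𝔮.map (Ideal.Quotient.mk 𝔭)) = ringKrullDim (B ⧸ 𝔮) :=
    ringKrullDim_eq_of_ringEquiv (DoubleQuot.quotQuotEquivQuotOfLE hle)
  rw [← hdim, hiso]
  gcongr
  exact_mod_cast hht

end ring

section immersion

variable {W X : Scheme.{u}} (ι : W ⟶ X)

theorem app_surjective_congr {U U' : X.Opens} (h : U' = U)
    (hs : Function.Surjective (ι.app U').hom) : Function.Surjective (ι.app U).hom := by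
  subst h
  exact hs

variable (U : X.Opens) (hU : IsAffineOpen U)

include hU in
/-- If `ι` restricts to a closed immersion over the affine open `U`, then `ι.app U` is
surjective. -/
theorem app_surjective_of_isClosedImmersion_restrict [IsClosedImmersion (ι ∣_ U)] :
    Function.Surjective (ι.app U).hom := by
  have : IsAffine (U : Scheme.{u}) := hU
  have h1 := (ι ∣_ U).app_surjective ⊤ (isAffineOpen_top _)
  rw [morphismRestrict_app] at h1
  have hiso : Function.Bijective
      (W.presheaf.map (eqToHom (image_morphismRestrict_preimage ι U ⊤)).op).hom :=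
    ConcreteCategory.bijective_of_isIso _
  have h2 : Function.Surjective (ι.app (U.ι ''ᵁ ⊤)).hom := by
    intro b
    obtain ⟨a, ha⟩ := h1 ((W.presheaf.map (eqToHom (image_morphismRestrict_preimage ι U ⊤)).op).hom b)
    exact ⟨a, hiso.1 ha⟩
  exact app_surjective_congr ι (by simp) h2

include hU in
/-- If `ι` restricts to a closed immersion over the affine open `U`, the points of `U` in the range
of `ι` are those whose prime contains the kernel of `ι.app U`. -/
theorem mem_range_iff_ker_le [IsClosedImmersion (ι ∣_ U)] (x : X) (hx : x ∈ U) :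
    x ∈ Set.range ι ↔ RingHom.ker (ι.app U).hom ≤ (hU.primeIdealOf ⟨x, hx⟩).asIdeal := by
  have : IsAffine (U : Scheme.{u}) := hU
  have hV : IsAffineOpen (ι ⁻¹ᵁ U) :=
    (IsClosedImmersion.isAffine_surjective_of_isAffine (ι ∣_ U)).1
  have happ : ι.appLE U (ι ⁻¹ᵁ U) le_rfl = ι.app U := ι.appLE_eq_app
  constructor
  · rintro ⟨w, rfl⟩
    have hw : w ∈ ι ⁻¹ᵁ U := hx
    have h1 := primeIdealOf_comap ι (le_refl (ι ⁻¹ᵁ U)) w hw hV hU
    rw [h1]
    intro a ha
    rw [Ideal.mem_comap, happ, RingHom.mem_ker.mp ha]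
    exact zero_mem _
  · intro hle
    have hsurj := app_surjective_of_isClosedImmersion_restrict ι U hU
    have hmem : hU.primeIdealOf ⟨x, hx⟩ ∈
        PrimeSpectrum.zeroLocus (RingHom.ker (ι.app U).hom : Set Γ(X, U)) := hle
    rw [← _root_.range_comap_of_surjective _ _ hsurj] at hmem
    obtain ⟨𝔮, h𝔮⟩ := hmem
    obtain ⟨w, hw, hw𝔮⟩ := exists_primeIdealOf_eq hV 𝔮
    refine ⟨w, ?_⟩
    apply primeIdealOf_injective hU (ι w) x hw hx
    apply PrimeSpectrum.ext
    rw [primeIdealOf_comap ι (le_refl (ι ⁻¹ᵁ U)) w hw hV hU, hw𝔮, happ, ← h𝔮]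
    rfl

end immersion

section chart

variable {k : Type u} [Field k] {C : Scheme.{u}} (p : C ⟶ Spec (CommRingCat.of k))
  [LocallyOfFiniteType p]

include p in
/-- **Krull's height theorem in a chart**: if, inside the affine open `V` of a scheme locally of
finite type over a field, the set `T` is cut out by at most `c` equations and `ξ` is a maximal point
of `closure {η} ∩ T`, then `dim closure {η} ≤ dim closure {ξ} + c`. -/
theorem dim_closure_le_add_of_maximal {V : C.Opens} (hV : IsAffineOpen V) (η ξ : C) (hη : η ∈ V)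
    (hξ : ξ ∈ V) (hηξ : η ⤳ ξ) (s : Finset Γ(C, V)) (c : ℕ) (hs : s.card ≤ c) (T : Set C)
    (hT : ∀ (x : C) (hx : x ∈ V), x ∈ T ↔ ∀ g ∈ s, g ∈ (hV.primeIdealOf ⟨x, hx⟩).asIdeal)
    (hξT : ξ ∈ T) (hmax : ∀ ξ' ∈ T, η ⤳ ξ' → ξ' ⤳ ξ → ξ' = ξ) :
    topologicalKrullDim ↥(closure ({η} : Set C)) ≤
      topologicalKrullDim ↥(closure ({ξ} : Set C)) + (c : WithBot ℕ∞) := by
  let _ : C.Over (Spec (CommRingCat.of k)) := ⟨p⟩
  have hlft : LocallyOfFiniteType (C ↘ Spec (CommRingCat.of k)) := ‹LocallyOfFiniteType p›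
  let _ : Algebra k Γ(C, V) := (sectionsMap k C V).toAlgebra
  have hft : Algebra.FiniteType k Γ(C, V) := sectionsMap_finiteType k C V hV
  have h1 := topologicalKrullDim_closure_chart p hV.fromSpec (hV.primeIdealOf ⟨η, hη⟩)
  have h2 := topologicalKrullDim_closure_chart p hV.fromSpec (hV.primeIdealOf ⟨ξ, hξ⟩)
  rw [hV.fromSpec_primeIdealOf] at h1 h2
  rw [h1, h2]
  have h𝔭 : (hV.primeIdealOf ⟨η, hη⟩).asIdeal.IsPrime := (hV.primeIdealOf _).2
  have h𝔮 : (hV.primeIdealOf ⟨ξ, hξ⟩).asIdeal.IsPrime := (hV.primeIdealOf _).2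
  refine ringKrullDim_quotient_le_add_of_mem_minimalPrimes k Γ(C, V) _ _ s c hs ?_
  refine ⟨⟨h𝔮, sup_le ((primeIdealOf_le_iff_specializes hV η ξ hη hξ).mpr hηξ) ?_⟩, ?_⟩
  · rw [Ideal.span_le]
    intro g hg
    exact (hT ξ hξ).mp hξT g hg
  · rintro 𝔮' ⟨h𝔮'p, h𝔮'le⟩ h𝔮'𝔮
    obtain ⟨ξ', hξ'V, hξ'⟩ := exists_primeIdealOf_eq hV ⟨𝔮', h𝔮'p⟩
    have hξ'I : (hV.primeIdealOf ⟨ξ', hξ'V⟩).asIdeal = 𝔮' := congrArg PrimeSpectrum.asIdeal hξ'
    have hηξ' : η ⤳ ξ' := by
      rw [← primeIdealOf_le_iff_specializes hV η ξ' hη hξ'V, hξ'I]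
      exact le_sup_left.trans h𝔮'le
    have hξ'ξ : ξ' ⤳ ξ := by
      rw [← primeIdealOf_le_iff_specializes hV ξ' ξ hξ'V hξ, hξ'I]
      exact h𝔮'𝔮
    have hξ'T : ξ' ∈ T := by
      rw [hT ξ' hξ'V, hξ'I]
      intro g hg
      exact h𝔮'le (Ideal.mem_sup_right (Ideal.subset_span hg))
    have := hmax ξ' hξ'T hηξ' hξ'ξ
    subst this
    rw [hξ'I]

end chart

section top

variable {X : Type*} [TopologicalSpace X]

/-- A locally closed subspace of a quasi-sober space is quasi-sober. -/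
theorem quasiSober_of_isLocallyClosed [QuasiSober X] {S : Set X} (hS : IsLocallyClosed S) :
    QuasiSober ↥S := by
  obtain ⟨O, F, hO, hF, rfl⟩ := hS
  have : QuasiSober ↥O := hO.isOpenEmbedding_subtypeVal.quasiSober
  have hg : IsClosedEmbedding (Set.inclusion (Set.inter_subset_left : O ∩ F ⊆ O)) := by
    refine ⟨IsEmbedding.inclusion _, ?_⟩
    rw [Set.range_inclusion]
    have : {x : ↥O | (x : X) ∈ O ∩ F} = Subtype.val ⁻¹' F := by
      ext x
      simp only [Set.mem_ofPred_eq, Set.mem_inter_iff, Set.mem_preimage]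
      exact ⟨fun h => h.2, fun h => ⟨x.2, h⟩⟩
    rw [this]
    exact hF.preimage continuous_subtype_val
  exact hg.quasiSober

/-- An irreducible component of a locally closed subspace `S` of a sober space is the closure (in
`S`) of a maximal point of `S`. -/
theorem exists_maximal_of_mem_irreducibleComponents [QuasiSober X] [T0Space X] {S : Set X}
    (hS : IsLocallyClosed S) (Q : Set ↥S) (hQ : Q ∈ irreducibleComponents ↥S) :
    ∃ (ξ : X) (hξ : ξ ∈ S), (∀ ξ' ∈ S, ξ' ⤳ ξ → ξ' = ξ) ∧ Q = closure {(⟨ξ, hξ⟩ : ↥S)} := by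
  have : QuasiSober ↥S := quasiSober_of_isLocallyClosed hS
  obtain ⟨z, hz⟩ := QuasiSober.sober hQ.1 (isClosed_of_mem_irreducibleComponents Q hQ)
  refine ⟨z.1, z.2, ?_, hz.def.symm⟩
  intro ξ' hξ' hspec
  have h1 : (⟨ξ', hξ'⟩ : ↥S) ⤳ z := IsInducing.subtypeVal.specializes_iff.mp hspec
  have h2 : Q ⊆ closure {(⟨ξ', hξ'⟩ : ↥S)} := by
    rw [← hz.def]
    exact specializes_iff_closure_subset.mp h1
  have h3 : closure {(⟨ξ', hξ'⟩ : ↥S)} ⊆ Q := hQ.2 isIrreducible_singleton.closure h2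
  have h4 : z ⤳ (⟨ξ', hξ'⟩ : ↥S) := by
    rw [specializes_iff_mem_closure, hz.def]
    exact h3 (subset_closure rfl)
  exact congrArg Subtype.val (h1.antisymm h4).eq

/-- The closure of a point in a subspace, as a subspace of the ambient space. -/
theorem topologicalKrullDim_closure_subtype_inter {S : Set X} (z : ↥S) :
    topologicalKrullDim ↥(closure ({z} : Set ↥S)) =
      topologicalKrullDim ↥(closure ({z.1} : Set X) ∩ S) := by
  have h := topologicalKrullDim_closure_inter_range_eq (Subtype.val : ↥S → X)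
    IsEmbedding.subtypeVal z
  rw [Subtype.range_coe] at h
  exact h.symm

end top

section scheme

variable {k : Type u} [Field k] {C : Scheme.{u}} (p : C ⟶ Spec (CommRingCat.of k))
  [LocallyOfFiniteType p]

include p in
/-- The trace of the closure of a point on a locally closed subset containing it has the same
dimension. -/
theorem topologicalKrullDim_closure_inter_eq_of_isLocallyClosed {S : Set C}
    (hS : IsLocallyClosed S) (ξ : C) (hξ : ξ ∈ S) :
    topologicalKrullDim ↥(closure ({ξ} : Set C) ∩ S) =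
      topologicalKrullDim ↥(closure ({ξ} : Set C)) := by
  refine le_antisymm (topologicalKrullDim_inter_le _ _) ?_
  obtain ⟨O, F, hO, hF, rfl⟩ := hS
  rw [← topologicalKrullDim_closure_inter_opens_eq p ξ ⟨O, hO⟩ hξ.1]
  refine topologicalKrullDim_mono_set ?_
  rintro x ⟨hx1, hx2⟩
  exact ⟨hx1, hx2, (hF.closure_subset_iff.mpr (Set.singleton_subset_iff.mpr hξ.2)) hx1⟩

include p in
/-- **Krull's height theorem for the pullback of a locally complete intersection**: let `π : C ⟶ X`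
with `C` locally of finite type over a field, `ι : W ⟶ X` a morphism which near `π ξ` is a closed
immersion cut out by `c` equations, and `ξ` a maximal point of `closure {η} ∩ π⁻¹(ι(W))`. Then
`dim closure {η} ≤ dim closure {ξ} + c`. -/
theorem dim_closure_le_add_of_maximal_preimage {X W : Scheme.{u}} (π : C ⟶ X) (ι : W ⟶ X) (c : ℕ)
    (η ξ : C) (hηξ : η ⤳ ξ) (w : W) (hw : ι w = π ξ) (U : X.affineOpens) (hwU : ι w ∈ U.1)
    [IsClosedImmersion (ι ∣_ U.1)] (rs : List Γ(X, U.1)) (hlen : rs.length = c)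
    (hker : RingHom.ker (ι.app U.1).hom = Ideal.ofList rs)
    (hmax : ∀ ξ' ∈ π ⁻¹' Set.range ι, η ⤳ ξ' → ξ' ⤳ ξ → ξ' = ξ) :
    topologicalKrullDim ↥(closure ({η} : Set C)) ≤
      topologicalKrullDim ↥(closure ({ξ} : Set C)) + (c : WithBot ℕ∞) := by
  classical
  have hξU : ξ ∈ π ⁻¹ᵁ U.1 := by
    change π ξ ∈ U.1
    rw [← hw]
    exact hwU
  obtain ⟨V, hV, hξV, e⟩ := exists_isAffineOpen_mem_and_subset (x := ξ) (U := π ⁻¹ᵁ U.1) hξU
  have hηV : η ∈ V := hηξ.mem_open V.2 hξV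
  have hξT : ξ ∈ π ⁻¹' Set.range ι := ⟨w, hw⟩
  refine dim_closure_le_add_of_maximal p hV η ξ hηV hξV hηξ
    (rs.map (π.appLE U.1 V e).hom).toFinset c ?_ (π ⁻¹' Set.range ι) ?_ hξT hmax
  · exact (List.toFinset_card_le _).trans (by rw [List.length_map, hlen])
  · intro x hx
    rw [Set.mem_preimage, mem_range_iff_ker_le ι U.1 U.2 (π x) (e hx), hker,
      primeIdealOf_comap π e x hx hV U.2, Ideal.span_le]
    constructor
    · intro h g hg
      rw [List.mem_toFinset, List.mem_map] at hg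
      obtain ⟨r, hr, rfl⟩ := hg
      exact h hr
    · intro h r hr
      exact h _ (List.mem_toFinset.mpr (List.mem_map.mpr ⟨r, hr, rfl⟩))

end scheme

end Groth.Agent.Lib.Helper55
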