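import Groth.Prelude.Def_EtBCD
import Groth.Agent.S8542

/-!
# Sections of the base change map for sheaves of sets (helper55)

`bc0_secPull`: for a commutative square `hb ≫ p = pY ≫ h`, the base change map
`h^* p_* F̄ ⟶ pY_* hb^* F̄` on global sections over `Y`, composed with `secPull h`, is
`secPull hb` (up to the canonical identifications of sections over terminal objects).
-/

set_option autoImplicit false
universe u
open CategoryTheory CategoryTheory.Limits AlgebraicGeometry Opposite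

namespace Groth.Agent.Lib.Helper55.SecPullBC

open Groth.Agent.S8542

variable {X Y Xb Yb : Scheme.{u}} (h : Y ⟶ X) (p : Xb ⟶ X) (hb : Yb ⟶ Xb) (pY : Yb ⟶ Y)
  (w : hb ≫ p = pY ≫ h) (Fb : EtDesc.Sh Xb)

/-- the adjoint of the base change map -/
lemma unit_comp_push_bc0 :
    (EtDesc.adjSh h).unit.app ((EtDesc.pushSh p).obj Fb) ≫
        (EtDesc.pushSh h).map (EtBC.baseChange0Sh p h pY hb w Fb) =
      (EtDesc.pushSh p).map ((EtDesc.adjSh hb).unit.app Fb) ≫
        (EtDesc.pushCompSh p hb).hom.app _ ≫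
        (EtBC.pushCongrSh w).hom.app _ ≫ (EtDesc.pushCompSh h pY).inv.app _ := by
  have h1 := (EtDesc.adjSh h).homEquiv_unit (f := EtBC.baseChange0Sh p h pY hb w Fb)
  exact h1.symm.trans (Equiv.apply_symm_apply _ _)

set_option backward.isDefEq.respectTransparency.types false in
lemma exists_map_pushCompSh_hom {A B C : Scheme.{u}} (f : B ⟶ C) (g : A ⟶ B) (H : EtDesc.Sh A)
    (U : C.Etale) :
    ∃ m : (EtCoh.bc (g ≫ f)).obj U ⟶ (EtCoh.bc g).obj ((EtCoh.bc f).obj U),
      ((EtDesc.pushCompSh f g).hom.app H).hom.app (op U) = H.obj.map m.op :=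
  ⟨_, rfl⟩

set_option backward.isDefEq.respectTransparency.types false in
lemma exists_map_pushCompSh_inv {A B C : Scheme.{u}} (f : B ⟶ C) (g : A ⟶ B) (H : EtDesc.Sh A)
    (U : C.Etale) :
    ∃ m : (EtCoh.bc g).obj ((EtCoh.bc f).obj U) ⟶ (EtCoh.bc (g ≫ f)).obj U,
      ((EtDesc.pushCompSh f g).inv.app H).hom.app (op U) = H.obj.map m.op :=
  ⟨_, rfl⟩

set_option backward.isDefEq.respectTransparency.types false in
lemma exists_map_pushCongrSh {A C : Scheme.{u}} {k k' : A ⟶ C} (e : k = k') (H : EtDesc.Sh A)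
    (U : C.Etale) :
    ∃ m : (EtCoh.bc k').obj U ⟶ (EtCoh.bc k).obj U,
      ((EtBC.pushCongrSh e).hom.app H).hom.app (op U) = H.obj.map m.op :=
  ⟨_, rfl⟩

lemma map_map_apply {A : Scheme.{u}} (H : EtDesc.Sh A) {U V W : A.Etale} (f : U ⟶ V) (g : V ⟶ W)
    (x : H.obj.obj (op W)) :
    H.obj.map f.op (H.obj.map g.op x) = H.obj.map (f ≫ g).op x := by
  rw [op_comp, Functor.map_comp_apply]

/-- `secPull` in terms of the unit -/
lemma unit_app_eq_map_secPull {A B : Scheme.{u}} (f : A ⟶ B) (F : EtDesc.Sh B)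
    (s : EtDesc.sect F (EtCoh.top B)) :
    ((EtDesc.adjSh f).unit.app F).hom.app (op (EtCoh.top B)) s =
      ((EtDesc.pullSh f).obj F).obj.map (EtCore.bcTopIso f).hom.op (EtDesc.secPull f F s) := by
  unfold EtDesc.secPull
  rw [map_map_apply, Iso.hom_inv_id]
  simp

/-- the key compatibility: base change map on global sections -/
theorem bc0_secPull (η : EtDesc.sect ((EtDesc.pushSh p).obj Fb) (EtCoh.top X)) :
    (EtBC.baseChange0Sh p h pY hb w Fb).hom.app (op (EtCoh.top Y))
        (EtDesc.secPull h ((EtDesc.pushSh p).obj Fb) η) =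
      ((EtDesc.pullSh hb).obj Fb).obj.map
        ((EtCore.topIsTerminal Yb).from ((EtCoh.bc pY).obj (EtCoh.top Y))).op
        (EtDesc.secPull hb Fb (Fb.obj.map (EtCore.bcTopIso p).inv.op η)) := by
  obtain ⟨m1, hm1⟩ := exists_map_pushCompSh_hom p hb ((EtDesc.pullSh hb).obj Fb) (EtCoh.top X)
  obtain ⟨m2, hm2⟩ := exists_map_pushCongrSh w ((EtDesc.pullSh hb).obj Fb) (EtCoh.top X)
  obtain ⟨m3, hm3⟩ := exists_map_pushCompSh_inv h pY ((EtDesc.pullSh hb).obj Fb) (EtCoh.top X)
  -- step 1: naturality of the base change map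
  have s1 : (EtBC.baseChange0Sh p h pY hb w Fb).hom.app (op (EtCoh.top Y))
        (EtDesc.secPull h ((EtDesc.pushSh p).obj Fb) η) =
      ((EtDesc.pullSh hb).obj Fb).obj.map ((EtCoh.bc pY).map (EtCore.bcTopIso h).inv).op
        ((EtBC.baseChange0Sh p h pY hb w Fb).hom.app (op ((EtCoh.bc h).obj (EtCoh.top X)))
          (((EtDesc.adjSh h).unit.app ((EtDesc.pushSh p).obj Fb)).hom.app (op (EtCoh.top X)) η)) := by
    unfold EtDesc.secPull
    exact hom_app_nat (EtBC.baseChange0Sh p h pY hb w Fb) (EtCore.bcTopIso h).inv.op _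
  -- step 2: the transposition identity evaluated at `η`
  have s2 := congrArg (fun ψ => ψ.hom.app (op (EtCoh.top X)) η) (unit_comp_push_bc0 h p hb pY w Fb)
  have s2' : (EtBC.baseChange0Sh p h pY hb w Fb).hom.app (op ((EtCoh.bc h).obj (EtCoh.top X)))
          (((EtDesc.adjSh h).unit.app ((EtDesc.pushSh p).obj Fb)).hom.app (op (EtCoh.top X)) η) =
      ((EtDesc.pullSh hb).obj Fb).obj.map m3.op (((EtDesc.pullSh hb).obj Fb).obj.map m2.op
        (((EtDesc.pullSh hb).obj Fb).obj.map m1.op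
          (((EtDesc.adjSh hb).unit.app Fb).hom.app (op ((EtCoh.bc p).obj (EtCoh.top X))) η))) := by
    rw [← hm1, ← hm2, ← hm3]
    exact s2
  -- step 3: naturality of the unit of `hb`
  have hσ : Fb.obj.map (EtCore.bcTopIso p).hom.op (Fb.obj.map (EtCore.bcTopIso p).inv.op η) = η := by
    rw [map_map_apply, Iso.hom_inv_id]
    simp
  have s3 : ((EtDesc.adjSh hb).unit.app Fb).hom.app (op ((EtCoh.bc p).obj (EtCoh.top X))) η =
      ((EtDesc.pullSh hb).obj Fb).obj.map ((EtCoh.bc hb).map (EtCore.bcTopIso p).hom).op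
        (((EtDesc.adjSh hb).unit.app Fb).hom.app (op (EtCoh.top Xb))
          (Fb.obj.map (EtCore.bcTopIso p).inv.op η)) := by
    conv_lhs => rw [← hσ]
    exact hom_app_nat ((EtDesc.adjSh hb).unit.app Fb) (EtCore.bcTopIso p).hom.op _
  rw [s1, s2', s3, unit_app_eq_map_secPull, map_map_apply, map_map_apply, map_map_apply,
    map_map_apply, map_map_apply]
  exact congrArg (fun m => ((EtDesc.pullSh hb).obj Fb).obj.map (Quiver.Hom.op m) _)
    ((EtCore.topIsTerminal Yb).hom_ext _ _)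

/-! ### `secPull` and composition -/

section Comp

variable {A B C : Scheme.{u}} (a : A ⟶ B) (b : B ⟶ C) (F : EtDesc.Sh C)

lemma unit_comp_push_pullCompSh :
    (EtDesc.adjSh (a ≫ b)).unit.app F ≫
        (EtDesc.pushSh (a ≫ b)).map ((EtDesc.pullCompSh a b).hom.app F) =
      ((EtDesc.adjSh b).unit.app F ≫
        (EtDesc.pushSh b).map ((EtDesc.adjSh a).unit.app ((EtDesc.pullSh b).obj F))) ≫
        (EtDesc.pushCompSh b a).hom.app ((EtDesc.pullSh a).obj ((EtDesc.pullSh b).obj F)) := by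
  have h1 := Adjunction.unit_leftAdjointUniq_hom_app (EtDesc.adjSh (a ≫ b))
    (((EtDesc.adjSh b).comp (EtDesc.adjSh a)).ofNatIsoRight (EtDesc.pushCompSh b a)) F
  refine h1.trans ?_
  simp [Adjunction.ofNatIsoRight]

/-- `secPull` is compatible with composition -/
theorem secPull_comp (s : EtDesc.sect F (EtCoh.top C)) :
    ((EtDesc.pullCompSh a b).hom.app F).hom.app (op (EtCoh.top A))
        (EtDesc.secPull (a ≫ b) F s) =
      EtDesc.secPull a ((EtDesc.pullSh b).obj F) (EtDesc.secPull b F s) := by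
  obtain ⟨m, hm⟩ := exists_map_pushCompSh_hom b a
    ((EtDesc.pullSh a).obj ((EtDesc.pullSh b).obj F)) (EtCoh.top C)
  have s1 : ((EtDesc.pullCompSh a b).hom.app F).hom.app (op (EtCoh.top A))
        (EtDesc.secPull (a ≫ b) F s) =
      ((EtDesc.pullSh a).obj ((EtDesc.pullSh b).obj F)).obj.map (EtCore.bcTopIso (a ≫ b)).inv.op
        (((EtDesc.pullCompSh a b).hom.app F).hom.app (op ((EtCoh.bc (a ≫ b)).obj (EtCoh.top C)))
          (((EtDesc.adjSh (a ≫ b)).unit.app F).hom.app (op (EtCoh.top C)) s)) := by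
    unfold EtDesc.secPull
    exact hom_app_nat ((EtDesc.pullCompSh a b).hom.app F) (EtCore.bcTopIso (a ≫ b)).inv.op _
  have s2 := congrArg (fun ψ => ψ.hom.app (op (EtCoh.top C)) s) (unit_comp_push_pullCompSh a b F)
  have s2' : ((EtDesc.pullCompSh a b).hom.app F).hom.app (op ((EtCoh.bc (a ≫ b)).obj (EtCoh.top C)))
          (((EtDesc.adjSh (a ≫ b)).unit.app F).hom.app (op (EtCoh.top C)) s) =
      ((EtDesc.pullSh a).obj ((EtDesc.pullSh b).obj F)).obj.map m.op
        (((EtDesc.adjSh a).unit.app ((EtDesc.pullSh b).obj F)).hom.app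
          (op ((EtCoh.bc b).obj (EtCoh.top C)))
          (((EtDesc.adjSh b).unit.app F).hom.app (op (EtCoh.top C)) s)) := by
    rw [← hm]
    exact s2
  have s3 : EtDesc.secPull a ((EtDesc.pullSh b).obj F) (EtDesc.secPull b F s) =
      ((EtDesc.pullSh a).obj ((EtDesc.pullSh b).obj F)).obj.map (EtCore.bcTopIso a).inv.op
        (((EtDesc.pullSh a).obj ((EtDesc.pullSh b).obj F)).obj.map
          ((EtCoh.bc a).map (EtCore.bcTopIso b).inv).op
          (((EtDesc.adjSh a).unit.app ((EtDesc.pullSh b).obj F)).hom.app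
            (op ((EtCoh.bc b).obj (EtCoh.top C)))
            (((EtDesc.adjSh b).unit.app F).hom.app (op (EtCoh.top C)) s))) := by
    unfold EtDesc.secPull
    congr 1
    exact hom_app_nat ((EtDesc.adjSh a).unit.app ((EtDesc.pullSh b).obj F))
      (EtCore.bcTopIso b).inv.op _
  rw [s1, s2', s3, map_map_apply, map_map_apply]
  exact congrArg (fun k => ((EtDesc.pullSh a).obj ((EtDesc.pullSh b).obj F)).obj.map
      (Quiver.Hom.op k) _)
    ((IsTerminal.isTerminalObj (EtCoh.bc a) _ (EtCore.bcTopIsTerminal b)).hom_ext _ _)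

end Comp

end Groth.Agent.Lib.Helper55.SecPullBC
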