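import Groth.Agent.Lib.Helper55.SectionCompUO
import Groth.Agent.Lib.Helper55.UnivOpenValuation
import Groth.Agent.Lib.Helper55.ChevalleySemicont
import Groth.Agent.Lib.Helper55.LqfAffineUO
import Groth.Agent.Lib.Helper12.UniqueComponent
import Groth.Agent.Lib.Helper12.GeomRedFibreInv
import Groth.Agent.Lib.Helper78.DVRScheme

/-!
# Local constancy of `y ↦ dim X⁰_y` (EGA IV 15.6.6 (ii)) (helper55)
-/

set_option autoImplicit false
universe u

namespace Groth.Agent.Lib.Helper55.SectionCompConst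

open AlgebraicGeometry CategoryTheory CategoryTheory.Limits Topology TopologicalSpace
open Groth.Agent.Lib.Helper55.SectionCompUO

/-- In a quasi-sober space with a Noetherian open neighbourhood `U` of `y₀`, a closed set
containing all the maximal generizations of `y₀` is a neighbourhood of `y₀`. -/
theorem mem_nhds_of_maximal_generizations_mem {Y : Type*} [TopologicalSpace Y] [QuasiSober Y]
    (U : Set Y) (hU : IsOpen U) [NoetherianSpace ↥U] (y₀ : Y) (hy₀ : y₀ ∈ U)
    (F : Set Y) (hF : IsClosed F)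
    (h : ∀ y' : Y, y' ⤳ y₀ → closure {y'} ∈ irreducibleComponents Y → y' ∈ F) :
    F ∈ 𝓝 y₀ := by
  classical
  have : QuasiSober ↥U := hU.isOpenEmbedding_subtypeVal.quasiSober
  have hfin : (irreducibleComponents ↥U).Finite := NoetherianSpace.finite_irreducibleComponents
  set u₀ : ↥U := ⟨y₀, hy₀⟩ with hu₀
  set 𝒢 : Set (Set ↥U) := {Z | Z ∈ irreducibleComponents ↥U ∧ u₀ ∉ Z} with h𝒢
  have h𝒢fin : 𝒢.Finite := hfin.subset (fun Z hZ => hZ.1)
  have hGcl : IsClosed (⋃₀ 𝒢) := by
    rw [Set.sUnion_eq_biUnion]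
    exact h𝒢fin.isClosed_biUnion (fun Z hZ => isClosed_of_mem_irreducibleComponents Z hZ.1)
  have hWopen : IsOpen (Subtype.val '' (⋃₀ 𝒢)ᶜ : Set Y) :=
    hU.isOpenEmbedding_subtypeVal.isOpenMap _ hGcl.isOpen_compl
  have hy₀W : y₀ ∈ (Subtype.val '' (⋃₀ 𝒢)ᶜ : Set Y) := by
    refine ⟨u₀, ?_, rfl⟩
    rintro ⟨Z, hZ, hu⟩
    exact hZ.2 hu
  refine Filter.mem_of_superset (hWopen.mem_nhds hy₀W) ?_
  rintro _ ⟨u, hu, rfl⟩
  -- the irreducible component of `u` in `U`
  have hZmem := irreducibleComponent_mem_irreducibleComponents u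
  have hu₀Z : u₀ ∈ irreducibleComponent u := by
    by_contra hcon
    exact hu ⟨irreducibleComponent u, ⟨hZmem, hcon⟩, mem_irreducibleComponent⟩
  obtain ⟨ζ, hζ⟩ := QuasiSober.sober (isIrreducible_irreducibleComponent (x := u))
    isClosed_irreducibleComponent
  have hζu : ζ ⤳ u := by
    rw [specializes_iff_mem_closure, hζ.def]; exact mem_irreducibleComponent
  have hζu₀ : ζ ⤳ u₀ := by
    rw [specializes_iff_mem_closure, hζ.def]; exact hu₀Z
  have hζu' : ζ.1 ⤳ u.1 := hζu.map continuous_subtype_val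
  have hζu₀' : ζ.1 ⤳ y₀ := hζu₀.map continuous_subtype_val
  -- `ζ` is a maximal point of `Y`
  have hmax : closure {ζ.1} ∈ irreducibleComponents Y := by
    refine ⟨isIrreducible_singleton.closure, ?_⟩
    intro Z' hZ' hsub
    obtain ⟨z', hz'⟩ := QuasiSober.sober hZ'.closure isClosed_closure
    have hz'ζ : z' ⤳ ζ.1 := by
      rw [specializes_iff_mem_closure, hz'.def]
      exact subset_closure (hsub (subset_closure rfl))
    have hz'U : z' ∈ U := hz'ζ.mem_open hU ζ.2
    have hz'ζU : (⟨z', hz'U⟩ : ↥U) ⤳ ζ := IsInducing.subtypeVal.specializes_iff.mp hz'ζ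
    have h1 : irreducibleComponent u ⊆ closure {(⟨z', hz'U⟩ : ↥U)} := by
      rw [← hζ.def]
      exact closure_minimal (Set.singleton_subset_iff.mpr
        (specializes_iff_mem_closure.mp hz'ζU)) isClosed_closure
    have h2 : closure {(⟨z', hz'U⟩ : ↥U)} ⊆ irreducibleComponent u :=
      hZmem.2 isIrreducible_singleton.closure h1
    have h3 : (⟨z', hz'U⟩ : ↥U) ∈ closure {ζ} := by
      rw [hζ.def]; exact h2 (subset_closure rfl)
    have h4 : ζ ⤳ (⟨z', hz'U⟩ : ↥U) := specializes_iff_mem_closure.mpr h3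
    have h5 : ζ.1 ⤳ z' := h4.map continuous_subtype_val
    intro a ha
    have : a ∈ closure {z'} := hz'.def ▸ subset_closure ha
    exact closure_minimal (Set.singleton_subset_iff.mpr (specializes_iff_mem_closure.mp h5))
      isClosed_closure this
  have hζF : ζ.1 ∈ F := h ζ.1 hζu₀' hmax
  exact hF.closure_subset_iff.mpr (Set.singleton_subset_iff.mpr hζF)
    (specializes_iff_mem_closure.mp hζu')

section genmax

variable {X Y : Scheme.{u}} (f : X ⟶ Y)

/-- The generic point of a maximal irreducible subset of a fibre is a maximal point of the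
fibre. -/
theorem eq_of_specializes_generic_of_fibre_component (y : Y) (Z : Set X)
    (hZmax : ∀ Z' : Set X, IsIrreducible Z' → Z' ⊆ f.base ⁻¹' {y} → Z ⊆ Z' → Z' = Z)
    (ξ : X) (hZcl : Z ⊆ closure {ξ}) (x' : X) (hx'y : f.base x' = y) (hx'ξ : x' ⤳ ξ)
    (hZy : Z ⊆ f.base ⁻¹' {y}) : x' = ξ := by
  have hirr' : IsIrreducible (closure ({x'} : Set X) ∩ f.base ⁻¹' {y}) := by
    refine ⟨⟨x', subset_closure rfl, hx'y⟩, ?_⟩
    rintro U V hU hV ⟨s, hs, hsU⟩ ⟨t, ht, htV⟩
    exact ⟨x', ⟨subset_closure rfl, hx'y⟩,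
      (specializes_iff_mem_closure.mpr hs.1).mem_open hU hsU,
      (specializes_iff_mem_closure.mpr ht.1).mem_open hV htV⟩
  have hsub : Z ⊆ closure ({x'} : Set X) ∩ f.base ⁻¹' {y} := fun z hz =>
    ⟨closure_minimal (Set.singleton_subset_iff.mpr (specializes_iff_mem_closure.mp hx'ξ))
      isClosed_closure (hZcl hz), hZy hz⟩
  have h1 := hZmax _ hirr' Set.inter_subset_right hsub
  have hx'C : x' ∈ Z := h1 ▸ ⟨subset_closure rfl, hx'y⟩
  exact (hx'ξ.antisymm (specializes_iff_mem_closure.mpr (hZcl hx'C))).eq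

/-- A generization inside the fibre of a point of `X⁰_y` lies in `X⁰_y`. -/
theorem mem_connectedComponentIn_of_specializes (y : Y) (x₀ w x : X)
    (hx : x ∈ connectedComponentIn (f.base ⁻¹' {y}) x₀) (hw : f.base w = y) (hwx : w ⤳ x) :
    w ∈ connectedComponentIn (f.base ⁻¹' {y}) x₀ := by
  have hxy' : x ∈ f.base ⁻¹' {y} := connectedComponentIn_subset _ _ hx
  have hirr' : IsPreirreducible (closure ({w} : Set X) ∩ f.base ⁻¹' {y}) := by
    rintro U V hU hV ⟨s, hs, hsU⟩ ⟨t, ht, htV⟩
    exact ⟨w, ⟨subset_closure rfl, hw⟩,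
      (specializes_iff_mem_closure.mpr hs.1).mem_open hU hsU,
      (specializes_iff_mem_closure.mpr ht.1).mem_open hV htV⟩
  have hCC : connectedComponentIn (f.base ⁻¹' {y}) x₀ = connectedComponentIn (f.base ⁻¹' {y}) x :=
    connectedComponentIn_eq hx
  rw [hCC]
  exact hirr'.isPreconnected.subset_connectedComponentIn
    ⟨specializes_iff_mem_closure.mp hwx, hxy'⟩ Set.inter_subset_right ⟨subset_closure rfl, hw⟩

end genmax

section reduction

variable {X Y : Scheme.{u}} (f : X ⟶ Y) [LocallyOfFiniteType f] (g : Y ⟶ X)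
  (hg : g ≫ f = 𝟙 Y)

include hg in
/-- **Reduction.**  On a locally Noetherian base, `y ↦ dim X⁰_y` is constant near `y₀` as soon as
`dim X⁰_{y₀} ≤ dim X⁰_{y'}` for the maximal generizations `y'` of `y₀`. -/
theorem dim_const_of_le_at_maximal_generizations [IsLocallyNoetherian Y]
    (hgi : ∀ y : Y, GeomIrr f g y) (y₀ : Y)
    (hgen : ∀ y' : Y, y' ⤳ y₀ → closure {y'} ∈ irreducibleComponents (Y : Type u) →
      topologicalKrullDim ↥(connectedComponentIn (f.base ⁻¹' {y₀}) (g.base y₀)) ≤
        topologicalKrullDim ↥(connectedComponentIn (f.base ⁻¹' {y'}) (g.base y'))) :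
    ∃ V ∈ nhds y₀, ∀ z ∈ V,
      topologicalKrullDim ↥(connectedComponentIn (f.base ⁻¹' {z}) (g.base z)) =
        topologicalKrullDim ↥(connectedComponentIn (f.base ⁻¹' {y₀}) (g.base y₀)) := by
  have hdim : ∀ y : Y, topologicalKrullDim ↥(connectedComponentIn (f.base ⁻¹' {y}) (g.base y)) =
      FlatMor.fibreDimAt f (g.base y) := fun y =>
    dim_connectedComponentIn_eq_fibreDimAt_of_isIrreducible f g hg y
      (isIrreducible_connectedComponentIn f g hg y (hgi y))
  obtain ⟨n₀, hn₀⟩ := exists_nat_fibreDimAt_eq' f (g.base y₀)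
  simp only [hdim] at hgen ⊢
  rw [hn₀] at hgen
  -- the open set where the dimension is at most `n₀`
  have hV₁ : g.base ⁻¹' {x : X | FlatMor.fibreDimAt f x ≤ n₀} ∈ 𝓝 y₀ :=
    ((isOpen_setOf_fibreDimAt_le f n₀).preimage g.continuous).mem_nhds (by
      change FlatMor.fibreDimAt f (g.base y₀) ≤ n₀
      rw [hn₀])
  -- the closed set where the dimension is at least `n₀`
  have hFcl : IsClosed {y : Y | (n₀ : WithBot ℕ∞) ≤ FlatMor.fibreDimAt f (g.base y)} := by
    rcases Nat.eq_zero_or_pos n₀ with h0 | hpos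
    · have : {y : Y | (n₀ : WithBot ℕ∞) ≤ FlatMor.fibreDimAt f (g.base y)} = Set.univ := by
        ext y
        obtain ⟨k, hk⟩ := exists_nat_fibreDimAt_eq' f (g.base y)
        simp only [Set.mem_ofPred_eq, Set.mem_univ, iff_true, hk, h0]
        exact_mod_cast Nat.zero_le k
      rw [this]; exact isClosed_univ
    · obtain ⟨m, rfl⟩ : ∃ m, n₀ = m + 1 := ⟨n₀ - 1, by omega⟩
      have : {y : Y | ((m + 1 : ℕ) : WithBot ℕ∞) ≤ FlatMor.fibreDimAt f (g.base y)} =
          (g.base ⁻¹' {x : X | FlatMor.fibreDimAt f x ≤ m})ᶜ := by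
        ext y
        obtain ⟨k, hk⟩ := exists_nat_fibreDimAt_eq' f (g.base y)
        simp only [Set.mem_ofPred_eq, Set.mem_compl_iff, Set.mem_preimage, hk]
        constructor
        · intro h1 h2
          have h1' : m + 1 ≤ k := by exact_mod_cast h1
          have h2' : k ≤ m := by exact_mod_cast h2
          omega
        · intro h1
          have : ¬ k ≤ m := fun h => h1 (by exact_mod_cast h)
          have : m + 1 ≤ k := by omega
          exact_mod_cast this
      rw [this]
      exact ((isOpen_setOf_fibreDimAt_le f m).preimage g.continuous).isClosed_compl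
  -- a Noetherian open neighbourhood
  obtain ⟨_, ⟨U, hU, rfl⟩, hy₀U, -⟩ :=
    Y.isBasis_affineOpens.exists_subset_of_mem_open (Set.mem_univ y₀) isOpen_univ
  have hNoeth : IsNoetherianRing Γ(Y, U) := IsLocallyNoetherian.component_noetherian ⟨U, hU⟩
  have hNS : NoetherianSpace ↥(U : Set Y) := noetherianSpace_of_isAffineOpen U hU
  have hF := mem_nhds_of_maximal_generizations_mem (U : Set Y) U.2 y₀ hy₀U _ hFcl hgen
  refine ⟨_, Filter.inter_mem hF hV₁, ?_⟩
  rintro z ⟨hz1, hz2⟩
  rw [hn₀]
  exact le_antisymm hz2 hz1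

include hg in
/-- **EGA IV 15.6.6 (ii), case (β).** -/
theorem dim_const_of_beta [IsLocallyNoetherian Y]
    (hgi : ∀ y : Y, GeomIrr f g y) (y₀ : Y)
    (hopen : ∀ ξ ∈ connectedComponentIn (f.base ⁻¹' {y₀}) (g.base y₀),
      connectedComponentIn (f.base ⁻¹' {y₀}) (g.base y₀) ⊆ closure {ξ} → EGA43.IsUnivOpenAt f ξ)
    (hβ : ∀ y' : Y, y₀ ∈ closure {y'} → closure {y'} ∈ irreducibleComponents (Y : Type u) →
      topologicalKrullDim ↥(f.fiber y') =
        topologicalKrullDim ↥(connectedComponentIn (f.base ⁻¹' {y'}) (g.base y'))) :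
    ∃ V ∈ nhds y₀, ∀ z ∈ V,
      topologicalKrullDim ↥(connectedComponentIn (f.base ⁻¹' {z}) (g.base z)) =
        topologicalKrullDim ↥(connectedComponentIn (f.base ⁻¹' {y₀}) (g.base y₀)) := by
  apply dim_const_of_le_at_maximal_generizations f g hg hgi y₀
  intro y' hy' hmax
  have hfgy : f.base (g.base y₀) = y₀ := section_apply f g hg y₀
  have hgyC : g.base y₀ ∈ connectedComponentIn (f.base ⁻¹' {y₀}) (g.base y₀) :=
    mem_connectedComponentIn hfgy
  have hirr := isIrreducible_connectedComponentIn f g hg y₀ (hgi y₀)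
  have hZmax : ∀ Z' : Set X, IsIrreducible Z' → Z' ⊆ f.base ⁻¹' {y₀} →
      connectedComponentIn (f.base ⁻¹' {y₀}) (g.base y₀) ⊆ Z' →
      Z' = connectedComponentIn (f.base ⁻¹' {y₀}) (g.base y₀) := fun Z' hZ' hZ'y hsub =>
    connectedComponentIn_maximal_of_isIrreducible f y₀ (g.base y₀) hgyC Z' hZ' hZ'y hsub
  obtain ⟨ξ, hξZ, hfξ, hZcl, n, hn1, hn2, hn3⟩ :=
    exists_generic_of_fibre_component f y₀ _ (connectedComponentIn_subset _ _) hirr hZmax
  have hUO := hopen ξ hξZ hZcl
  -- `ξ` is a maximal point of its fibre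
  have hξmax : ∀ x' : X, f.base x' = f.base ξ → ξ ∈ closure {x'} → x' = ξ := by
    intro x' hx' hξx'
    have hx'y : f.base x' = y₀ := hx'.trans hfξ
    have hirr' : IsIrreducible (closure ({x'} : Set X) ∩ f.base ⁻¹' {y₀}) := by
      refine ⟨⟨x', subset_closure rfl, hx'y⟩, ?_⟩
      rintro U V hU hV ⟨s, hs, hsU⟩ ⟨t, ht, htV⟩
      exact ⟨x', ⟨subset_closure rfl, hx'y⟩,
        (specializes_iff_mem_closure.mpr hs.1).mem_open hU hsU,
        (specializes_iff_mem_closure.mpr ht.1).mem_open hV htV⟩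
    have hsub : connectedComponentIn (f.base ⁻¹' {y₀}) (g.base y₀) ⊆
        closure ({x'} : Set X) ∩ f.base ⁻¹' {y₀} := fun z hz =>
      ⟨closure_minimal (Set.singleton_subset_iff.mpr hξx') isClosed_closure (hZcl hz),
        connectedComponentIn_subset _ _ hz⟩
    have h1 := hZmax _ hirr' Set.inter_subset_right hsub
    have hx'C : x' ∈ connectedComponentIn (f.base ⁻¹' {y₀}) (g.base y₀) :=
      h1 ▸ ⟨subset_closure rfl, hx'y⟩
    exact ((specializes_iff_mem_closure.mpr hξx').antisymm
      (specializes_iff_mem_closure.mpr (hZcl hx'C))).eq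
  have h14 := fibreDimAt_le_dim_opens_inter_fibre_of_isUnivOpenAt f ξ hξmax hUO ⊤ trivial y'
    (by rw [hfξ]; exact hy')
  have hset : ((⊤ : X.Opens) : Set X) ∩ f.base ⁻¹' {y'} = f.base ⁻¹' {y'} := by simp
  rw [hset] at h14
  rw [hn1, ← hn3]
  refine h14.trans (le_of_eq ?_)
  rw [← hβ y' (specializes_iff_mem_closure.mp hy') hmax]
  exact (IsHomeomorph.topologicalKrullDim_eq _ (f.fiberHomeo y').isHomeomorph).symm

include hg in
/-- **Core of case (α)**: over a Noetherian valuation ring. -/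
theorem dim_le_of_alpha_valuationRing {A : Type u} [CommRing A] [IsDomain A] [ValuationRing A]
    [IsNoetherianRing A] (hgi : ∀ y : Y, GeomIrr f g y) (h : Spec (CommRingCat.of A) ⟶ Y)
    (hopen : ∀ ξ ∈ connectedComponentIn (f.base ⁻¹' {h (IsLocalRing.closedPoint A)})
        (g.base (h (IsLocalRing.closedPoint A))),
      connectedComponentIn (f.base ⁻¹' {h (IsLocalRing.closedPoint A)})
        (g.base (h (IsLocalRing.closedPoint A))) ⊆ closure {ξ} → EGA43.IsUnivOpenAt f ξ)
    (hα : ∀ (y : Y) (z : f.fiber y), (f.fiberι y) z = g (h (IsLocalRing.closedPoint A)) →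
      FBase.IsGeomReducedAt (f.fiberToSpecResidueField y) z) :
    topologicalKrullDim ↥(connectedComponentIn (f.base ⁻¹' {h (IsLocalRing.closedPoint A)})
        (g.base (h (IsLocalRing.closedPoint A)))) ≤
      topologicalKrullDim ↥(connectedComponentIn
        (f.base ⁻¹' {h (genericPoint ↥(Spec (CommRingCat.of A)))})
        (g.base (h (genericPoint ↥(Spec (CommRingCat.of A)))))) := by
  set c : ↥(Spec (CommRingCat.of A)) := IsLocalRing.closedPoint A with hc
  set η : ↥(Spec (CommRingCat.of A)) := genericPoint ↥(Spec (CommRingCat.of A)) with hη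
  have hNoeth : IsLocallyNoetherian (Spec (CommRingCat.of A)) := by
    have : IsNoetherianRing (CommRingCat.of A) := ‹IsNoetherianRing A›
    infer_instance
  have hsq : IsPullback (pullback.fst f h) (pullback.snd f h) f h := IsPullback.of_hasPullback f h
  let σ : Spec (CommRingCat.of A) ⟶ pullback f h :=
    pullback.lift (h ≫ g) (𝟙 _) (by rw [Category.assoc, hg]; simp)
  have hσg : σ ≫ pullback.fst f h = h ≫ g := pullback.lift_fst _ _ _
  have hσ : σ ≫ pullback.snd f h = 𝟙 _ := pullback.lift_snd _ _ _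
  have hσpt : ∀ t, pullback.snd f h (σ t) = t := fun t => by
    have := congr($(hσ) t)
    rwa [Scheme.Hom.comp_apply] at this
  have hσgpt : ∀ t, pullback.fst f h (σ t) = g (h t) := fun t => by
    have := congr($(hσg) t)
    rwa [Scheme.Hom.comp_apply, Scheme.Hom.comp_apply] at this
  have hDirr : ∀ t, IsIrreducible (connectedComponentIn ((pullback.snd f h) ⁻¹' {t}) (σ t)) :=
    fun t => isIrreducible_connectedComponentIn_baseChange f g hg hsq σ hσ hσg t (hgi _)
  have hσD : ∀ t, σ t ∈ connectedComponentIn ((pullback.snd f h) ⁻¹' {t}) (σ t) := fun t =>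
    mem_connectedComponentIn (hσpt t)
  have hDmax : ∀ t, ∀ Z' : Set ↥(pullback f h), IsIrreducible Z' →
      Z' ⊆ (pullback.snd f h) ⁻¹' {t} →
      connectedComponentIn ((pullback.snd f h) ⁻¹' {t}) (σ t) ⊆ Z' →
      Z' = connectedComponentIn ((pullback.snd f h) ⁻¹' {t}) (σ t) := fun t Z' hZ' hZ'y hsub =>
    connectedComponentIn_maximal_of_isIrreducible (pullback.snd f h) t (σ t) (hσD t) Z' hZ' hZ'y
      hsub
  obtain ⟨ξc, hξcD, hfξc, hDccl, nc, hnc1, hnc2, hnc3⟩ :=
    exists_generic_of_fibre_component (pullback.snd f h) c _ (connectedComponentIn_subset _ _)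
      (hDirr c) (hDmax c)
  obtain ⟨ξη, hξηD, hfξη, hDηcl, nη, hnη1, hnη2, hnη3⟩ :=
    exists_generic_of_fibre_component (pullback.snd f h) η _ (connectedComponentIn_subset _ _)
      (hDirr η) (hDmax η)
  rw [← dim_connectedComponentIn_baseChange f g hg hsq σ hσ hσg c (hgi _),
    ← dim_connectedComponentIn_baseChange f g hg hsq σ hσ hσg η (hgi _), hnc1, hnη1, ← hnη3]
  -- specializations
  have hξcσ : ξc ⤳ σ c := specializes_iff_mem_closure.mpr (hDccl (hσD c))
  have hξησ : ξη ⤳ σ c :=
    (specializes_iff_mem_closure.mpr (hDηcl (hσD η))).trans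
      ((genericPoint_specializes c).map σ.continuous)
  -- `ξη` is a maximal point of `P`
  have hξηmax : ∀ w : ↥(pullback f h), w ⤳ ξη → w = ξη := by
    intro w hw
    have h1 : pullback.snd f h w ⤳ η := by
      have := hw.map (pullback.snd f h).continuous
      rwa [hfξη] at this
    have h2 : pullback.snd f h w = η := (h1.antisymm (genericPoint_specializes _)).eq
    exact eq_of_specializes_generic_of_fibre_component (pullback.snd f h) η _ (hDmax η) ξη hDηcl w
      h2 hw (connectedComponentIn_subset _ _)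
  -- a maximal point above `ξc`
  obtain ⟨ζ₂, hζ₂⟩ := QuasiSober.sober (isIrreducible_irreducibleComponent (x := ξc))
    isClosed_irreducibleComponent
  have hζ₂ξc : ζ₂ ⤳ ξc := by
    rw [specializes_iff_mem_closure, hζ₂.def]; exact mem_irreducibleComponent
  have hζ₂max : ∀ w : ↥(pullback f h), w ⤳ ζ₂ → w = ζ₂ := by
    intro w hw
    have h1 : irreducibleComponent ξc ⊆ closure {w} := by
      rw [← hζ₂.def]
      exact closure_minimal (Set.singleton_subset_iff.mpr (specializes_iff_mem_closure.mp hw))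
        isClosed_closure
    have h2 : closure {w} ⊆ irreducibleComponent ξc :=
      (irreducibleComponent_mem_irreducibleComponents ξc).2 isIrreducible_singleton.closure h1
    have h3 : w ∈ closure {ζ₂} := by rw [hζ₂.def]; exact h2 (subset_closure rfl)
    exact (hw.antisymm (specializes_iff_mem_closure.mpr h3)).eq
  -- the maximal points of the closed fibre generizing `σ c`
  have hK : ∀ w : ↥(pullback f h), pullback.snd f h w = pullback.snd f h (σ c) → w ⤳ σ c →
      (∀ w' : ↥(pullback f h), pullback.snd f h w' = pullback.snd f h (σ c) → w' ⤳ w → w' = w) →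
      w = ξc := by
    intro w hw hwσ hwmax
    rw [hσpt] at hw
    have hwD : w ∈ connectedComponentIn ((pullback.snd f h) ⁻¹' {c}) (σ c) :=
      mem_connectedComponentIn_of_specializes (pullback.snd f h) c (σ c) w (σ c) (hσD c) hw hwσ
    have h1 : ξc ⤳ w := specializes_iff_mem_closure.mpr (hDccl hwD)
    exact (hwmax ξc (by rw [hσpt]; exact hfξc) h1).symm
  -- `f_V` is universally open at `ξc`
  have hUOξc : EGA43.IsUnivOpenAt (pullback.snd f h) ξc := by
    have hξcD' := hξcD
    rw [connectedComponentIn_baseChange_eq f g hg hsq σ hσ hσg c] at hξcD'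
    refine Groth.Agent.Lib.Helper24.isUnivOpenAt_of_isPullback
      (hopen (pullback.fst f h ξc) hξcD'.2 ?_) hsq ξc rfl
    intro x hx
    have hxy' : x ∈ f.base ⁻¹' {h c} := connectedComponentIn_subset _ _ hx
    obtain ⟨p, hp1, hp2⟩ := Scheme.Pullback.exists_preimage_pullback (f := f) (g := h) x c hxy'
    have hpD : p ∈ connectedComponentIn ((pullback.snd f h) ⁻¹' {c}) (σ c) := by
      rw [connectedComponentIn_baseChange_eq f g hg hsq σ hσ hσg c]
      exact ⟨hp2, by rw [hp1]; exact hx⟩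
    have h1 : ξc ⤳ p := specializes_iff_mem_closure.mpr (hDccl hpD)
    have h2 := h1.map (pullback.fst f h).continuous
    rw [hp1] at h2
    exact specializes_iff_mem_closure.mp h2
  have hopen' := Groth.Agent.Lib.Helper12.UniqueComponent.fibreForm_of_pointForm
    (pullback.snd f h) (σ c) (fun w hw hwσ hwmax => by
      rw [hK w hw hwσ hwmax]; exact hUOξc)
  -- geometric reducedness
  have hred' : FBase.IsGeomReducedAt
      ((pullback.snd f h).fiberToSpecResidueField (pullback.snd f h (σ c)))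
      ((pullback.snd f h).asFiber (σ c)) := by
    obtain ⟨z, hz⟩ : pullback.fst f h (σ c) ∈
        Set.range (f.fiberι (h (pullback.snd f h (σ c)))) := by
      rw [f.range_fiberι]
      have := congr($(hsq.w) (σ c))
      rwa [Scheme.Hom.comp_apply, Scheme.Hom.comp_apply] at this
    refine (Groth.Agent.Lib.Helper12.GeomRedFibreInv.geomReducedAt_fibre_iff_of_isPullback hsq
      (σ c) _ rfl z hz).mpr (hα _ z ?_)
    rw [hz, hσgpt]
  have hY' := Groth.Agent.Lib.Helper55.LqfAffineUO.isGeomUnibranch_stalk_valuationRing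
    (A := A) (pullback.snd f h (σ c))
  have huniq' : ∀ z₁ z₂ : ↥(pullback f h), pullback.snd f h z₁ = pullback.snd f h (σ c) →
      z₁ ⤳ σ c →
      (∀ w : ↥(pullback f h), pullback.snd f h w = pullback.snd f h (σ c) → w ⤳ z₁ → w = z₁) →
      pullback.snd f h z₂ = pullback.snd f h (σ c) → z₂ ⤳ σ c →
      (∀ w : ↥(pullback f h), pullback.snd f h w = pullback.snd f h (σ c) → w ⤳ z₂ → w = z₂) →
      z₁ = z₂ := fun z₁ z₂ h1 h1' h1'' h2 h2' h2'' =>
    (hK z₁ h1 h1' h1'').trans (hK z₂ h2 h2' h2'').symm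
  have hkey := Groth.Agent.Lib.Helper12.UniqueComponent.eq_of_maximal (pullback.snd f h) (σ c)
    hopen' hred' hY' huniq' ξη ζ₂ hξησ hξηmax (hζ₂ξc.trans hξcσ) hζ₂max
  have hspec : ξη ⤳ ξc := hkey ▸ hζ₂ξc
  exact trdeg_le_fibreDimAt_of_specializes_of_valuationRing (pullback.snd f h) ξc ξη hspec hfξη nc
    hnc2

include hg in
/-- **EGA IV 15.6.6 (ii), case (α).** -/
theorem dim_const_of_alpha [IsLocallyNoetherian Y]
    (hgi : ∀ y : Y, GeomIrr f g y) (y₀ : Y)
    (hopen : ∀ ξ ∈ connectedComponentIn (f.base ⁻¹' {y₀}) (g.base y₀),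
      connectedComponentIn (f.base ⁻¹' {y₀}) (g.base y₀) ⊆ closure {ξ} → EGA43.IsUnivOpenAt f ξ)
    (hα : FBase.IsGeomReducedAt (f.fiberToSpecResidueField (f.base (g.base y₀)))
      (f.asFiber (g.base y₀))) :
    ∃ V ∈ nhds y₀, ∀ z ∈ V,
      topologicalKrullDim ↥(connectedComponentIn (f.base ⁻¹' {z}) (g.base z)) =
        topologicalKrullDim ↥(connectedComponentIn (f.base ⁻¹' {y₀}) (g.base y₀)) := by
  apply dim_const_of_le_at_maximal_generizations f g hg hgi y₀
  intro y' hy' _
  by_cases hne : y' = y₀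
  · subst hne; exact le_rfl
  obtain ⟨A, h, hA, hcl, hgen⟩ := Groth.Agent.Lib.Helper78.exists_dvr_specialization (𝟙 Y) y' y₀
    hy' (Ne.symm hne)
  -- the generic point maps to `y'`
  have hη : h (genericPoint ↥(Spec (CommRingCat.of A))) = y' := by
    have hb : genericPoint ↥(Spec (CommRingCat.of A)) =
        (Spec.map (CommRingCat.ofHom A.subtype)) (IsLocalRing.closedPoint (Y.residueField y')) := by
      rw [genericPoint_eq_bot_of_affine]
      apply PrimeSpectrum.ext
      change (⊥ : Ideal A) = Ideal.comap A.subtype _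
      rw [IsLocalRing.closedPoint]
      simp only [IsLocalRing.maximalIdeal_eq_bot]
      rw [← RingHom.ker_eq_comap_bot]
      exact ((RingHom.injective_iff_ker_eq_bot _).mp A.subtype_injective).symm
    rw [hb]
    have h2 := congr(($hgen) (IsLocalRing.closedPoint (Y.residueField y')))
    rw [Scheme.Hom.comp_apply, Scheme.Hom.comp_apply] at h2
    refine h2.trans ?_
    exact Scheme.fromSpecResidueField_apply y' _
  have hα' : ∀ (y : Y) (z : f.fiber y), (f.fiberι y) z = g y₀ →
      FBase.IsGeomReducedAt (f.fiberToSpecResidueField y) z := by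
    intro y z hz
    have hy : f.base (g.base y₀) = y := by
      have h1 : (f.fiberι y) z ∈ Set.range (f.fiberι y) := ⟨z, rfl⟩
      rw [f.range_fiberι] at h1
      rw [← hz]; exact h1
    subst hy
    have hzeq : z = f.asFiber (g.base y₀) := by
      apply (f.fiberι _).isEmbedding.injective
      rw [hz, f.fiberι_asFiber]
    rw [hzeq]; exact hα
  have key := dim_le_of_alpha_valuationRing f g hg hgi h (by rw [hcl]; exact hopen)
    (by rw [hcl]; exact hα')
  rw [hcl, hη] at key
  exact key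

end reduction

end Groth.Agent.Lib.Helper55.SectionCompConst
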