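import Mathlib
import Groth.Agent.Lib.Helper55.EquidimCriterion
import Groth.Agent.Lib.Helper55.ZeroLocusEquidim
import Groth.Agent.Lib.Helper55.ChevalleyBound
import Groth.Agent.Lib.Helper55.FibreDimFormula
import Groth.Agent.Lib.Helper2.ConnDim2
import Groth.Agent.Lib.Helper2.HartshorneConnGlobal

/-! Connected components of fibres along a section: dimension under generization
(EGA IV 15.6.x) (helper55). -/

set_option autoImplicit false
universe u

namespace Groth.Agent.Lib.Helper55

open AlgebraicGeometry CategoryTheory Topology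

section top

variable {T : Type*} [TopologicalSpace T]

/-- The dimension of the image in the ambient space of a subset of a subspace. -/
theorem topologicalKrullDim_image_val (A : Set T) (S : Set ↥A) :
    topologicalKrullDim ↥(Subtype.val '' S) = topologicalKrullDim ↥S :=
  (IsHomeomorph.topologicalKrullDim_eq _
    (IsEmbedding.subtypeVal.homeomorphImage S).isHomeomorph).symm

/-- The local dimension is at most the dimension of any open neighbourhood. -/
theorem localDim_le_of_isOpen (x : T) (U : Set T) (hU : IsOpen U) (hx : x ∈ U) :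
    FlatMor.localDim T x ≤ topologicalKrullDim ↥U := by
  unfold FlatMor.localDim
  exact iInf_le (fun U : {U : TopologicalSpace.Opens T // x ∈ U} =>
    topologicalKrullDim ↥(U.1 : Set T)) ⟨⟨U, hU⟩, hx⟩

/-- Openness of connected components is invariant under homeomorphisms. -/
theorem isOpen_connectedComponent_of_homeomorph {A B : Type*} [TopologicalSpace A]
    [TopologicalSpace B] (h : A ≃ₜ B) (hA : ∀ a : A, IsOpen (connectedComponent a)) (b : B) :
    IsOpen (connectedComponent b) := by
  have h1 := h.image_connectedComponentIn (s := Set.univ) (x := h.symm b) trivial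
  rw [connectedComponentIn_univ, Set.image_univ, h.surjective.range_eq, connectedComponentIn_univ,
    h.apply_symm_apply] at h1
  rw [← h1]
  exact h.isOpenMap _ (hA _)

end top

section fibre

variable {X Y : Scheme.{u}} (f : X ⟶ Y) [LocallyOfFiniteType f]

/-- The local fibre dimension is a natural number. -/
theorem exists_nat_fibreDimAt_eq' (x : X) : ∃ k : ℕ, FlatMor.fibreDimAt f x = k := by
  obtain ⟨n, -, hfd⟩ := fibreDimAt_eq_stalk_fiber_add_trdeg f x
  obtain ⟨d, hd⟩ := exists_nat_ringKrullDim_stalk_fiber f x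
  refine ⟨d + n, ?_⟩
  rw [hfd, hd]
  push_cast
  rfl

/-- The connected components of a set-theoretic fibre are open in the fibre. -/
theorem isOpen_connectedComponent_fibre (y : Y) (p : ↥(f.base ⁻¹' {y})) :
    IsOpen (connectedComponent p) := by
  have hlft : LocallyOfFiniteType (f.fiberToSpecResidueField y) :=
    MorphismProperty.pullback_snd (P := @LocallyOfFiniteType) _ _ inferInstance
  haveI : IsLocallyNoetherian (f.fiber y) :=
    LocallyOfFiniteType.isLocallyNoetherian (f.fiberToSpecResidueField y)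
  exact isOpen_connectedComponent_of_homeomorph (f.fiberHomeo y)
    (fun a => Groth.Agent.Lib.Helper2.isOpen_connectedComponent_of_isLocallyNoetherian _ a) p

/-- The local fibre dimension at a point is at most the dimension of the connected component of
the fibre through the point. -/
theorem fibreDimAt_le_dim_connectedComponentIn (y : Y) (x : X) (hx : f.base x = y) :
    FlatMor.fibreDimAt f x ≤ topologicalKrullDim ↥(connectedComponentIn (f.base ⁻¹' {y}) x) := by
  subst hx
  rw [fibreDimAt_eq_localDim_preimage f x]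
  have hxF : x ∈ f.base ⁻¹' {f.base x} := rfl
  rw [connectedComponentIn_eq_image hxF, topologicalKrullDim_image_val]
  exact localDim_le_of_isOpen _ _ (isOpen_connectedComponent_fibre f _ _) mem_connectedComponent

/-- **The generic point of an irreducible component of a set-theoretic fibre.** -/
theorem exists_generic_of_fibre_component (y : Y) (Z : Set X) (hZy : Z ⊆ f.base ⁻¹' {y})
    (hZ : IsIrreducible Z)
    (hZmax : ∀ Z' : Set X, IsIrreducible Z' → Z' ⊆ f.base ⁻¹' {y} → Z ⊆ Z' → Z' = Z) :
    ∃ ζ : X, ζ ∈ Z ∧ f ζ = y ∧ Z ⊆ closure {ζ} ∧ ∃ n : ℕ, topologicalKrullDim ↥Z = n ∧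
      @Algebra.trdeg (Y.residueField (f ζ)) (X.residueField ζ) _ _
        (f.residueFieldMap ζ).hom.toAlgebra = n ∧ FlatMor.fibreDimAt f ζ = n := by
  have hqs : QuasiSober ↥X := inferInstance
  obtain ⟨ζ₀, hζ₀⟩ := hqs.sober hZ.closure isClosed_closure
  obtain ⟨z₀, hz₀⟩ := hZ.nonempty
  have hirr : ∀ w : X, f w = y → IsIrreducible (closure ({w} : Set X) ∩ f.base ⁻¹' {y}) := by
    intro w hw
    refine ⟨⟨w, subset_closure rfl, hw⟩, ?_⟩
    rintro U V hU hV ⟨s, hs, hsU⟩ ⟨t, ht, htV⟩
    have hwU : w ∈ U := (specializes_iff_mem_closure.mpr hs.1).mem_open hU hsU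
    have hwV : w ∈ V := (specializes_iff_mem_closure.mpr ht.1).mem_open hV htV
    exact ⟨w, ⟨subset_closure rfl, hw⟩, hwU, hwV⟩
  have hfζ₀ : f ζ₀ = y := by
    have h1 : ζ₀ ⤳ z₀ := by
      rw [specializes_iff_mem_closure, hζ₀.def]
      exact subset_closure hz₀
    have h2 : f ζ₀ ⤳ y := by
      have h := h1.map f.continuous
      have hz₀y : f z₀ = y := hZy hz₀
      rwa [hz₀y] at h
    have h3 : y ⤳ f ζ₀ := by
      have hsub : closure Z ⊆ f.base ⁻¹' closure {y} :=
        closure_minimal (fun z hz => subset_closure (hZy hz))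
          (isClosed_closure.preimage f.continuous)
      have hmem : ζ₀ ∈ closure Z := hζ₀.def ▸ subset_closure rfl
      exact specializes_iff_mem_closure.mpr (hsub hmem)
    exact (h2.antisymm h3).eq
  have hZsub : Z ⊆ closure ({ζ₀} : Set X) ∩ f.base ⁻¹' {y} :=
    fun z hz => ⟨hζ₀.def ▸ subset_closure hz, hZy hz⟩
  have hZeq : closure ({ζ₀} : Set X) ∩ f.base ⁻¹' {y} = Z :=
    hZmax _ (hirr ζ₀ hfζ₀) Set.inter_subset_right hZsub
  have hζ₀Z : ζ₀ ∈ Z := hZeq ▸ ⟨subset_closure rfl, hfζ₀⟩
  have hZcl : Z ⊆ closure ({ζ₀} : Set X) := fun z hz => (hZsub hz).1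
  have hmaxζ : ∀ w : X, f w = f ζ₀ → w ⤳ ζ₀ → w = ζ₀ := by
    intro w hw hwζ
    have hfw : f w = y := hw.trans hfζ₀
    have hsub : Z ⊆ closure ({w} : Set X) ∩ f.base ⁻¹' {y} := fun z hz =>
      ⟨specializes_iff_mem_closure.mp (hwζ.trans (specializes_iff_mem_closure.mpr (hZcl hz))),
        hZy hz⟩
    have h1 := hZmax _ (hirr w hfw) Set.inter_subset_right hsub
    have hwZ : w ∈ Z := h1 ▸ ⟨subset_closure rfl, hfw⟩
    exact (hwζ.antisymm (specializes_iff_mem_closure.mpr (hZcl hwZ))).eq
  obtain ⟨n, hn1, hn2⟩ := exists_dim_closure_inter_fibre_eq_trdeg f ζ₀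
  have hset : closure ({ζ₀} : Set X) ∩ f ⁻¹' {f ζ₀} = Z := by
    rw [hfζ₀]
    exact hZeq
  rw [hset] at hn1
  obtain ⟨z, hfz, hzζ, -, m, hm1, hm2, -, -⟩ := exists_maximal_point_fiber f ζ₀
  have hzeq : z = ζ₀ := hmaxζ z hfz hzζ
  subst hzeq
  have hmn : m = n := by exact_mod_cast hm1.symm.trans hn2
  exact ⟨z, hζ₀Z, hfζ₀, hZcl, n, hn1, hn2, by rw [hm2, hmn]⟩

end fibre

section section_

variable {X Y : Scheme.{u}} (f : X ⟶ Y) [LocallyOfFiniteType f] (g : Y ⟶ X) (hg : g ≫ f = 𝟙 Y)

omit [LocallyOfFiniteType f] in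
include hg in
theorem section_apply (y : Y) : f.base (g.base y) = y := by
  have := congr(($hg) y)
  exact this

include hg in
/-- **EGA IV 15.6.x (i).** If the fibre over a generization `y'` of `y` has an irreducible
component `Z` through `g y'`, then `dim Z ≤ dim X⁰_y`. -/
theorem dim_fibre_component_le_dim_connectedComponentIn (y y' : Y) (hy : y' ⤳ y) (Z : Set X)
    (hZy : Z ⊆ f.base ⁻¹' {y'}) (hZ : IsIrreducible Z)
    (hZmax : ∀ Z' : Set X, IsIrreducible Z' → Z' ⊆ f.base ⁻¹' {y'} → Z ⊆ Z' → Z' = Z)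
    (hgZ : g.base y' ∈ Z) :
    topologicalKrullDim ↥Z ≤
      topologicalKrullDim ↥(connectedComponentIn (f.base ⁻¹' {y}) (g.base y)) := by
  obtain ⟨ζ, hζZ, hfζ, hZcl, n, hn1, hn2, hn3⟩ :=
    exists_generic_of_fibre_component f y' Z hZy hZ hZmax
  have h1 : ζ ⤳ g.base y' := specializes_iff_mem_closure.mpr (hZcl hgZ)
  have h2 : g.base y' ⤳ g.base y := hy.map g.continuous
  calc topologicalKrullDim ↥Z = FlatMor.fibreDimAt f ζ := by rw [hn1, hn3]
    _ ≤ FlatMor.fibreDimAt f (g.base y') := fibreDimAt_le_of_specializes' f _ _ h1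
    _ ≤ FlatMor.fibreDimAt f (g.base y) := fibreDimAt_le_of_specializes' f _ _ h2
    _ ≤ _ := fibreDimAt_le_dim_connectedComponentIn f y (g.base y) (section_apply f g hg y)

include hg in
/-- **EGA IV 15.6.x (ii).** If moreover `X⁰_y` is irreducible of the same dimension as the
component `Z` of the fibre over `y'` through `g y'`, then `X⁰_y ⊆ closure Z`. -/
theorem connectedComponentIn_subset_closure_fibre_component (y y' : Y) (hy : y' ⤳ y) (Z : Set X)
    (hZy : Z ⊆ f.base ⁻¹' {y'}) (hZ : IsIrreducible Z)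
    (hZmax : ∀ Z' : Set X, IsIrreducible Z' → Z' ⊆ f.base ⁻¹' {y'} → Z ⊆ Z' → Z' = Z)
    (hgZ : g.base y' ∈ Z)
    (hirr : IsIrreducible (connectedComponentIn (f.base ⁻¹' {y}) (g.base y)))
    (hdim : topologicalKrullDim ↥(connectedComponentIn (f.base ⁻¹' {y}) (g.base y)) =
      topologicalKrullDim ↥Z) :
    connectedComponentIn (f.base ⁻¹' {y}) (g.base y) ⊆ closure Z := by
  classical
  obtain ⟨ζ, hζZ, hfζ, hZcl, n, hn1, hn2, hn3⟩ :=
    exists_generic_of_fibre_component f y' Z hZy hZ hZmax
  have h1 : ζ ⤳ g.base y' := specializes_iff_mem_closure.mpr (hZcl hgZ)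
  have h2 : g.base y' ⤳ g.base y := hy.map g.continuous
  have hζy : ζ ⤳ g.base y := h1.trans h2
  have hfgy : f.base (g.base y) = y := section_apply f g hg y
  set C := connectedComponentIn (f.base ⁻¹' {y}) (g.base y) with hC
  have hCF : C ⊆ f.base ⁻¹' {y} := connectedComponentIn_subset _ _
  have hgyF : g.base y ∈ f.base ⁻¹' {y} := hfgy
  have hgyC : g.base y ∈ C := mem_connectedComponentIn hgyF
  suffices hsub : C ⊆ closure ({ζ} : Set X) from
    hsub.trans (closure_mono (Set.singleton_subset_iff.mpr hζZ))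
  -- the trace of `closure {ζ}` on `C` has dimension at least `n`
  have hgyT : g.base y ∈ closure ({ζ} : Set X) := specializes_iff_mem_closure.mp hζy
  have hkey := trdeg_le_localDim_inter_fibre f ⟨closure {ζ}, isClosed_closure⟩ (g.base y) ζ hgyT
    (subset_closure rfl) hζy n hn2
  have hset : ((⟨closure {ζ}, isClosed_closure⟩ : TopologicalSpace.Closeds X) : Set X) ∩
      f ⁻¹' {f (g.base y)} = closure ({ζ} : Set X) ∩ f.base ⁻¹' {y} := by
    have : f (g.base y) = y := hfgy
    rw [this]
    rfl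
  rw [localDim_congr_set hset (g.base y) _ ⟨hgyT, hgyF⟩] at hkey
  -- the open neighbourhood of `g y` in `closure {ζ} ∩ F` cut out by `C`
  set O : Set ↥(closure ({ζ} : Set X) ∩ f.base ⁻¹' {y}) := {a | (a : X) ∈ C} with hO
  have hOopen : IsOpen O := by
    have hcont : Continuous (Set.inclusion (Set.inter_subset_right :
        closure ({ζ} : Set X) ∩ f.base ⁻¹' {y} ⊆ f.base ⁻¹' {y})) := continuous_inclusion _
    have hpre : O = (Set.inclusion (Set.inter_subset_right :
        closure ({ζ} : Set X) ∩ f.base ⁻¹' {y} ⊆ f.base ⁻¹' {y})) ⁻¹'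
          connectedComponent (⟨g.base y, hgyF⟩ : ↥(f.base ⁻¹' {y})) := by
      ext a
      simp only [hO, hC, Set.mem_ofPred_eq, Set.mem_preimage]
      rw [connectedComponentIn_eq_image hgyF]
      constructor
      · rintro ⟨b, hb, hba⟩
        have : b = Set.inclusion Set.inter_subset_right a := Subtype.ext hba
        rw [← this]; exact hb
      · intro ha
        exact ⟨_, ha, rfl⟩
    rw [hpre]
    exact (isOpen_connectedComponent_fibre f y _).preimage hcont
  have h3 := localDim_le_of_isOpen (⟨g.base y, hgyT, hgyF⟩ :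
    ↥(closure ({ζ} : Set X) ∩ f.base ⁻¹' {y})) O hOopen hgyC
  have hOimg : Subtype.val '' O = closure ({ζ} : Set X) ∩ C := by
    ext x
    constructor
    · rintro ⟨a, ha, rfl⟩
      exact ⟨a.2.1, ha⟩
    · rintro ⟨hx1, hx2⟩
      exact ⟨⟨x, hx1, hCF hx2⟩, hx2, rfl⟩
  rw [← topologicalKrullDim_image_val, hOimg] at h3
  have hn_le : (n : WithBot ℕ∞) ≤ topologicalKrullDim ↥(closure ({ζ} : Set X) ∩ C) := hkey.trans h3
  -- work inside the irreducible space `C`
  haveI : IrreducibleSpace ↥C := Subtype.irreducibleSpace hirr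
  set K : Set ↥C := {c | (c : X) ∈ closure ({ζ} : Set X)} with hK
  have hKcl : IsClosed K := isClosed_closure.preimage continuous_subtype_val
  have hKimg : Subtype.val '' K = closure ({ζ} : Set X) ∩ C := by
    ext x
    constructor
    · rintro ⟨c, hc, rfl⟩
      exact ⟨hc, c.2⟩
    · rintro ⟨hx1, hx2⟩
      exact ⟨⟨x, hx2⟩, hx1, rfl⟩
  have hdimK : topologicalKrullDim ↥K = topologicalKrullDim ↥(closure ({ζ} : Set X) ∩ C) := by
    rw [← topologicalKrullDim_image_val, hKimg]
  have hdimU : topologicalKrullDim ↥(Set.univ : Set ↥C) = (n : WithBot ℕ∞) := by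
    rw [IsHomeomorph.topologicalKrullDim_eq _ (Homeomorph.Set.univ ↥C).isHomeomorph, hdim, hn1]
  have hKuniv : K = Set.univ := by
    by_contra hne
    have hlt := Groth.Agent.Lib.Helper2.topologicalKrullDim_lt_of_ssubset_of_isIrreducible
      (Set.subset_univ K) hne hKcl (IrreducibleSpace.isIrreducible_univ ↥C)
      (by rw [hdimU]; exact WithBot.coe_lt_coe.mpr (ENat.natCast_lt_top n))
    rw [hdimU, hdimK] at hlt
    exact absurd hn_le (not_le.mpr hlt)
  intro x hx
  have : (⟨x, hx⟩ : ↥C) ∈ K := by rw [hKuniv]; trivial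
  exact this

omit [LocallyOfFiniteType f] in
/-- An irreducible connected component of a fibre is a maximal irreducible subset of the fibre. -/
theorem connectedComponentIn_maximal_of_isIrreducible (y : Y) (x : X)
    (hx : x ∈ connectedComponentIn (f.base ⁻¹' {y}) x)
    (Z' : Set X) (hZ' : IsIrreducible Z') (hZ'y : Z' ⊆ f.base ⁻¹' {y})
    (hsub : connectedComponentIn (f.base ⁻¹' {y}) x ⊆ Z') :
    Z' = connectedComponentIn (f.base ⁻¹' {y}) x :=
  Set.Subset.antisymm
    (hZ'.isPreirreducible.isPreconnected.subset_connectedComponentIn (hsub hx) hZ'y) hsub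

include hg in
/-- If `X⁰_y` is irreducible its dimension is the local fibre dimension at `g y`. -/
theorem dim_connectedComponentIn_eq_fibreDimAt_of_isIrreducible (y : Y)
    (hirr : IsIrreducible (connectedComponentIn (f.base ⁻¹' {y}) (g.base y))) :
    topologicalKrullDim ↥(connectedComponentIn (f.base ⁻¹' {y}) (g.base y)) =
      FlatMor.fibreDimAt f (g.base y) := by
  have hfgy : f.base (g.base y) = y := section_apply f g hg y
  have hgyC : g.base y ∈ connectedComponentIn (f.base ⁻¹' {y}) (g.base y) :=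
    mem_connectedComponentIn hfgy
  obtain ⟨ζ, hζZ, hfζ, hZcl, n, hn1, hn2, hn3⟩ :=
    exists_generic_of_fibre_component f y _ (connectedComponentIn_subset _ _) hirr
      (fun Z' hZ' hZ'y hsub =>
        connectedComponentIn_maximal_of_isIrreducible f y (g.base y) hgyC Z' hZ' hZ'y hsub)
  apply le_antisymm
  · rw [hn1, ← hn3]
    exact fibreDimAt_le_of_specializes' f _ _ (specializes_iff_mem_closure.mpr (hZcl hgyC))
  · exact fibreDimAt_le_dim_connectedComponentIn f y (g.base y) hfgy

include hg in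
/-- **EGA IV 15.6.x.** If all `X⁰_y` are irreducible then `y ↦ dim X⁰_y` is upper
semicontinuous. -/
theorem upperSemicontinuous_dim_connectedComponentIn
    (hirr : ∀ y : Y, IsIrreducible (connectedComponentIn (f.base ⁻¹' {y}) (g.base y))) :
    UpperSemicontinuous (fun y : Y =>
      topologicalKrullDim ↥(connectedComponentIn (f.base ⁻¹' {y}) (g.base y))) := by
  intro y₀ c hc
  obtain ⟨k, hk⟩ := exists_nat_fibreDimAt_eq' f (g.base y₀)
  have hopen : IsOpen {x : X | FlatMor.fibreDimAt f x ≤ k} := isOpen_setOf_fibreDimAt_le f k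
  have hmem : y₀ ∈ g.base ⁻¹' {x : X | FlatMor.fibreDimAt f x ≤ k} := by
    show FlatMor.fibreDimAt f (g.base y₀) ≤ k
    rw [hk]
  refine Filter.mem_of_superset ((hopen.preimage g.continuous).mem_nhds hmem) ?_
  intro z hz
  show topologicalKrullDim ↥(connectedComponentIn (f.base ⁻¹' {z}) (g.base z)) < c
  rw [dim_connectedComponentIn_eq_fibreDimAt_of_isIrreducible f g hg z (hirr z)]
  refine lt_of_le_of_lt hz ?_
  have hc' : topologicalKrullDim ↥(connectedComponentIn (f.base ⁻¹' {y₀}) (g.base y₀)) < c := hc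
  rw [dim_connectedComponentIn_eq_fibreDimAt_of_isIrreducible f g hg y₀ (hirr y₀), hk] at hc'
  exact hc'

end section_

end Groth.Agent.Lib.Helper55
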