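import Groth.Agent.Lib.Helper78.SectionComp
import Groth.Agent.Lib.Helper55.SectionComponents
import Groth.Agent.Lib.Helper55.FiberBaseChange
import Groth.Agent.H72.OpenAt

/-!
# Section components with geometrically irreducible fibre components (helper55)

EGA IV 15.6.6 (iii): if the components `X⁰_y` (connected component of the fibre through `g y`) are
geometrically irreducible and `y ↦ dim X⁰_y` is constant near `y`, then `f` is universally open
at every point of `X⁰_y`.  No Noetherian hypothesis (only `f` locally of finite presentation).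
-/

set_option autoImplicit false
universe u

namespace Groth.Agent.Lib.Helper55.SectionCompUO

open AlgebraicGeometry CategoryTheory CategoryTheory.Limits Topology

/-- Locally of finite type over a locally Noetherian base is locally of finite presentation. -/
theorem lfp_of_lft_of_isLocallyNoetherian {X Y : Scheme.{u}} (f : X ⟶ Y)
    [LocallyOfFiniteType f] [IsLocallyNoetherian Y] : LocallyOfFinitePresentation f := by
  rw [HasRingHomProperty.iff_appLE (P := @LocallyOfFinitePresentation)]
  intro U V e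
  have : IsNoetherianRing Γ(Y, U.1) := IsLocallyNoetherian.component_noetherian U
  exact RingHom.FinitePresentation.of_finiteType.1
    (HasRingHomProperty.appLE (P := @LocallyOfFiniteType) f inferInstance U V e)

/-- The geometric irreducibility hypothesis on `X⁰_y`, in the form used by the milestones. -/
def GeomIrr {X Y : Scheme.{u}} (f : X ⟶ Y) (g : Y ⟶ X) (y : Y) : Prop :=
  ∀ (K : Type u) [Field K] [Algebra (IsLocalRing.ResidueField (Y.presheaf.stalk y)) K],
    IsIrreducible ((FBase.bcπ (f.fiberToSpecResidueField y) K ≫ f.fiberι y).base ⁻¹'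
      (connectedComponentIn (f.base ⁻¹' {y}) (g.base y)))

/-- The preimage of a geometrically irreducible `X⁰_y` in a fibre of a base change is
irreducible. -/
theorem isIrreducible_baseChange_component {X Y P T : Scheme.{u}} (f : X ⟶ Y) (g : Y ⟶ X)
    {a : T ⟶ Y} {pr : P ⟶ X} {fT : P ⟶ T} (hsq : IsPullback pr fT f a) (t : T)
    (hgi : GeomIrr f g (a t)) :
    IsIrreducible {p : P | fT p = t ∧ pr p ∈ connectedComponentIn (f ⁻¹' {a t}) (g (a t))} := by
  let _ : Algebra (IsLocalRing.ResidueField (Y.presheaf.stalk (a t))) (T.residueField t) :=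
    (a.residueFieldMap t).hom.toAlgebra
  have hK := hgi (T.residueField t)
  obtain ⟨ψ, hψι, hpb⟩ : ∃ ψ : fT.fiber t ⟶ f.fiber (a t),
      ψ ≫ f.fiberι (a t) = fT.fiberι t ≫ pr ∧
      IsPullback ψ (fT.fiberToSpecResidueField t) (f.fiberToSpecResidueField (a t))
        (Spec.map (a.residueFieldMap t)) :=
    ⟨_, pullback.lift_fst _ _ _, isPullback_fiberToSpecResidueField_of_isPullback hsq t⟩
  let e : fT.fiber t ≅ FBase.bc (f.fiberToSpecResidueField (a t)) (T.residueField t) :=
    hpb.isoPullback
  have he : e.hom ≫ FBase.bcπ (f.fiberToSpecResidueField (a t)) (T.residueField t) = ψ :=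
    hpb.isoPullback_hom_fst
  have himg := hK.image (e.inv ≫ fT.fiberι t) (e.inv ≫ fT.fiberι t).continuous.continuousOn
  convert himg using 1
  ext p
  simp only [Set.mem_ofPred_eq, Set.mem_image, Set.mem_preimage]
  constructor
  · rintro ⟨hp, hpC⟩
    obtain ⟨z', hz'⟩ : p ∈ Set.range (fT.fiberι t) := by rw [fT.range_fiberι]; exact hp
    refine ⟨e.hom z', ?_, ?_⟩
    · have h1 : (FBase.bcπ (f.fiberToSpecResidueField (a t)) (T.residueField t) ≫
          f.fiberι (a t)) (e.hom z') = pr p := by
        rw [← Scheme.Hom.comp_apply, ← Category.assoc, he, hψι, Scheme.Hom.comp_apply, hz']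
      rw [h1]; exact hpC
    · rw [← Scheme.Hom.comp_apply, Iso.hom_inv_id_assoc]; exact hz'
  · rintro ⟨s, hs, rfl⟩
    refine ⟨?_, ?_⟩
    · have : (e.inv ≫ fT.fiberι t) s ∈ Set.range (fT.fiberι t) := ⟨e.inv s, rfl⟩
      rw [fT.range_fiberι] at this
      exact this
    · have h1 : pr ((e.inv ≫ fT.fiberι t) s) =
          (FBase.bcπ (f.fiberToSpecResidueField (a t)) (T.residueField t) ≫
          f.fiberι (a t)) s := by
        rw [← Scheme.Hom.comp_apply, Category.assoc, ← hψι, ← he, Category.assoc,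
          Iso.inv_hom_id_assoc]
      rw [h1]; exact hs

/-- The section component of a fibre of a base change is the preimage of the section component
downstairs. -/
theorem connectedComponentIn_baseChange_eq {X Y P T : Scheme.{u}} (f : X ⟶ Y) (g : Y ⟶ X)
    (hg : g ≫ f = 𝟙 Y) {a : T ⟶ Y} {pr : P ⟶ X} {fT : P ⟶ T} (hsq : IsPullback pr fT f a)
    (σ : T ⟶ P) (hσ : σ ≫ fT = 𝟙 T) (hσg : σ ≫ pr = a ≫ g) (t : T) :
    connectedComponentIn (fT ⁻¹' {t}) (σ t) =
      {p : P | fT p = t ∧ pr p ∈ connectedComponentIn (f ⁻¹' {a t}) (g (a t))} := by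
  have hsc := Groth.Agent.Lib.Helper78.SectionComp.sectionComponents_baseChange f g hg fT pr a hsq
    σ hσ hσg
  have hyy : ∀ p : P, f (pr p) = a (fT p) := fun p => by
    have := congr($(hsq.w) p)
    rw [Scheme.Hom.comp_apply, Scheme.Hom.comp_apply] at this
    exact this
  have key : ∀ p : P, p ∈ connectedComponentIn (fT ⁻¹' {fT p}) (σ (fT p)) ↔
      pr p ∈ connectedComponentIn (f ⁻¹' {a (fT p)}) (g (a (fT p))) := by
    intro p
    have h1 : p ∈ MoreMor.sectionComponents fT σ ↔ p ∈ pr ⁻¹' MoreMor.sectionComponents f g := by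
      rw [hsc]
    have h2 : (p ∈ pr ⁻¹' MoreMor.sectionComponents f g) ↔
        pr p ∈ connectedComponentIn (f ⁻¹' {f (pr p)}) (g (f (pr p))) := Iff.rfl
    rw [hyy] at h2
    exact h1.trans h2
  ext p
  constructor
  · intro hp
    have hpt' : p ∈ fT ⁻¹' {t} := connectedComponentIn_subset _ _ hp
    have hpt : fT p = t := hpt'
    subst hpt
    exact ⟨rfl, (key p).mp hp⟩
  · rintro ⟨hpt, hp⟩
    subst hpt
    exact (key p).mpr hp

/-- Irreducibility of the section components of a base change. -/
theorem isIrreducible_connectedComponentIn_baseChange {X Y P T : Scheme.{u}} (f : X ⟶ Y)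
    (g : Y ⟶ X) (hg : g ≫ f = 𝟙 Y) {a : T ⟶ Y} {pr : P ⟶ X} {fT : P ⟶ T}
    (hsq : IsPullback pr fT f a) (σ : T ⟶ P) (hσ : σ ≫ fT = 𝟙 T) (hσg : σ ≫ pr = a ≫ g) (t : T)
    (hgi : GeomIrr f g (a t)) :
    IsIrreducible (connectedComponentIn (fT ⁻¹' {t}) (σ t)) := by
  rw [connectedComponentIn_baseChange_eq f g hg hsq σ hσ hσg t]
  exact isIrreducible_baseChange_component f g hsq t hgi

/-- `X⁰_y` itself is irreducible. -/
theorem isIrreducible_connectedComponentIn {X Y : Scheme.{u}} (f : X ⟶ Y)
    (g : Y ⟶ X) (hg : g ≫ f = 𝟙 Y) (y : Y) (hgi : GeomIrr f g y) :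
    IsIrreducible (connectedComponentIn (f ⁻¹' {y}) (g y)) := by
  have hsq : IsPullback (𝟙 X) f f (𝟙 Y) := IsPullback.of_horiz_isIso ⟨by simp⟩
  exact isIrreducible_connectedComponentIn_baseChange f g hg hsq g hg (by simp) y hgi

/-- The dimension of the section components is invariant under base change. -/
theorem dim_connectedComponentIn_baseChange {X Y P T : Scheme.{u}} (f : X ⟶ Y)
    [LocallyOfFiniteType f]
    (g : Y ⟶ X) (hg : g ≫ f = 𝟙 Y) {a : T ⟶ Y} {pr : P ⟶ X} {fT : P ⟶ T}
    (hsq : IsPullback pr fT f a) (σ : T ⟶ P) (hσ : σ ≫ fT = 𝟙 T) (hσg : σ ≫ pr = a ≫ g) (t : T)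
    (hgi : GeomIrr f g (a t)) :
    topologicalKrullDim ↥(connectedComponentIn (fT ⁻¹' {t}) (σ t)) =
      topologicalKrullDim ↥(connectedComponentIn (f ⁻¹' {a t}) (g (a t))) := by
  have : LocallyOfFiniteType fT :=
    MorphismProperty.of_isPullback (P := @LocallyOfFiniteType) hsq inferInstance
  rw [dim_connectedComponentIn_eq_fibreDimAt_of_isIrreducible fT σ hσ t
      (isIrreducible_connectedComponentIn_baseChange f g hg hsq σ hσ hσg t hgi),
    dim_connectedComponentIn_eq_fibreDimAt_of_isIrreducible f g hg (a t)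
      (isIrreducible_connectedComponentIn f g hg (a t) hgi),
    fibreDimAt_eq_of_isPullback f a pr fT hsq (σ t)]
  have : pr (σ t) = g (a t) := by
    have := congr($(hσg) t)
    rw [Scheme.Hom.comp_apply, Scheme.Hom.comp_apply] at this
    exact this
  rw [this]

/-- **EGA IV 15.6.6 (iii)** (no Noetherian hypothesis). -/
theorem isUnivOpenAt_of_dim_const {X Y : Scheme.{u}} (f : X ⟶ Y)
    [LocallyOfFinitePresentation f] (g : Y ⟶ X) (hg : g ≫ f = 𝟙 Y)
    (hgi : ∀ y : Y, GeomIrr f g y) (y : Y)
    (hc : ∃ V ∈ nhds y, ∀ z ∈ V,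
      topologicalKrullDim ↥(connectedComponentIn (f.base ⁻¹' {z}) (g.base z)) =
        topologicalKrullDim ↥(connectedComponentIn (f.base ⁻¹' {y}) (g.base y))) :
    ∀ x ∈ connectedComponentIn (f.base ⁻¹' {y}) (g.base y), EGA43.IsUnivOpenAt f x := by
  intro x hx T a x' hx'
  obtain ⟨V, hV, hVdim⟩ := hc
  have hsq : IsPullback (pullback.fst f a) (pullback.snd f a) f a := IsPullback.of_hasPullback f a
  let σ : T ⟶ pullback f a := pullback.lift (a ≫ g) (𝟙 T) (by rw [Category.assoc, hg]; simp)
  have hσg : σ ≫ pullback.fst f a = a ≫ g := pullback.lift_fst _ _ _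
  have hσ : σ ≫ pullback.snd f a = 𝟙 T := pullback.lift_snd _ _ _
  have hfxy' : x ∈ f ⁻¹' {y} := connectedComponentIn_subset _ _ hx
  have hfxy : f x = y := hfxy'
  have hat : a (pullback.snd f a x') = y := by
    have := congr($(hsq.w) x')
    rw [Scheme.Hom.comp_apply, Scheme.Hom.comp_apply] at this
    rw [← this]
    exact (congrArg f hx').trans hfxy
  apply Groth.Agent.H72.OpenAt.isOpenAt_of_genLift_scheme
  intro t' ht'
  have hat' : a t' ∈ V := by
    have h1 : a t' ⤳ y := by
      have := ht'.map a.continuous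
      rwa [hat] at this
    exact mem_of_mem_nhds (h1 hV)
  -- the two section components upstairs
  have hirr' := isIrreducible_connectedComponentIn_baseChange f g hg hsq σ hσ hσg t' (hgi _)
  have hirr := isIrreducible_connectedComponentIn_baseChange f g hg hsq σ hσ hσg
    (pullback.snd f a x') (hgi _)
  have hdim : topologicalKrullDim ↥(connectedComponentIn ((pullback.snd f a) ⁻¹'
        {pullback.snd f a x'}) (σ (pullback.snd f a x'))) =
      topologicalKrullDim ↥(connectedComponentIn ((pullback.snd f a) ⁻¹' {t'}) (σ t')) := by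
    rw [dim_connectedComponentIn_baseChange f g hg hsq σ hσ hσg _ (hgi _),
      dim_connectedComponentIn_baseChange f g hg hsq σ hσ hσg _ (hgi _), hVdim _ hat', hat]
  have hσt' : σ t' ∈ (pullback.snd f a) ⁻¹' {t'} := by
    have := congr($(hσ) t')
    rw [Scheme.Hom.comp_apply] at this
    exact this
  have hgZ : σ t' ∈ connectedComponentIn ((pullback.snd f a) ⁻¹' {t'}) (σ t') :=
    mem_connectedComponentIn hσt'
  have hmax : ∀ Z' : Set ↥(pullback f a), IsIrreducible Z' → Z' ⊆ (pullback.snd f a) ⁻¹' {t'} →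
      connectedComponentIn ((pullback.snd f a) ⁻¹' {t'}) (σ t') ⊆ Z' →
      Z' = connectedComponentIn ((pullback.snd f a) ⁻¹' {t'}) (σ t') := fun Z' hZ' hZ'y hsub =>
    connectedComponentIn_maximal_of_isIrreducible (pullback.snd f a) t' (σ t') hgZ Z' hZ' hZ'y hsub
  have hsub := connectedComponentIn_subset_closure_fibre_component (pullback.snd f a) σ hσ
    (pullback.snd f a x') t' ht' _ (connectedComponentIn_subset _ _) hirr' hmax hgZ hirr hdim
  obtain ⟨ζ, hζZ, hfζ, hZcl, -⟩ := exists_generic_of_fibre_component (pullback.snd f a) t' _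
    (connectedComponentIn_subset _ _) hirr' hmax
  have hx'C : x' ∈ connectedComponentIn ((pullback.snd f a) ⁻¹' {pullback.snd f a x'})
      (σ (pullback.snd f a x')) := by
    rw [connectedComponentIn_baseChange_eq f g hg hsq σ hσ hσg]
    refine ⟨rfl, ?_⟩
    rw [hat, hx']
    exact hx
  refine ⟨ζ, ?_, hfζ⟩
  rw [specializes_iff_mem_closure]
  exact closure_minimal hZcl isClosed_closure (hsub hx'C)

end Groth.Agent.Lib.Helper55.SectionCompUO
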