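import Groth.Agent.Lib.Helper55.SpreadOutUnique
import Mathlib.AlgebraicGeometry.Restrict

/-!
# Helper lemmas for spreading out isomorphisms of local rings
-/

set_option autoImplicit false
universe u

open AlgebraicGeometry CategoryTheory

namespace Groth.Agent.Lib.Helper55

variable {X Y S : Scheme.{u}}

lemma fromSpecStalkOfMem_homOfLE {U U' : X.Opens} (h : U ≤ U') {x : X} (hx : x ∈ U) :
    U.fromSpecStalkOfMem x hx ≫ X.homOfLE h = U'.fromSpecStalkOfMem x (h hx) := by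
  rw [← cancel_mono U'.ι, Category.assoc, X.homOfLE_ι, Scheme.Opens.fromSpecStalkOfMem_ι,
    Scheme.Opens.fromSpecStalkOfMem_ι]

lemma fromSpecStalkOfMem_closedPoint (U : X.Opens) {x : X} (hx : x ∈ U) :
    U.fromSpecStalkOfMem x hx (IsLocalRing.closedPoint _) = ⟨x, hx⟩ := by
  apply U.ι.isOpenEmbedding.injective
  rw [← Scheme.Hom.comp_apply, Scheme.Opens.fromSpecStalkOfMem_ι, Scheme.fromSpecStalk_closedPoint]
  rfl

/-- Uniqueness of spreading out, for morphisms out of an open subscheme, with the smaller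
neighbourhood again an open of the ambient scheme. -/
theorem spread_out_unique_opens {Z : Scheme.{u}} (sZ : Z ⟶ S) [LocallyOfFiniteType sZ]
    {U₁ : X.Opens} {x : X} (hx : x ∈ U₁) (a b : U₁.toScheme ⟶ Z) (hS : a ≫ sZ = b ≫ sZ)
    (e : U₁.fromSpecStalkOfMem x hx ≫ a = U₁.fromSpecStalkOfMem x hx ≫ b) :
    ∃ (U₂ : X.Opens) (h : U₂ ≤ U₁), x ∈ U₂ ∧ X.homOfLE h ≫ a = X.homOfLE h ≫ b := by
  obtain ⟨W, hxW, hW⟩ := spread_out_unique_of_locallyOfFiniteType' (T := U₁.toScheme) sZ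
      (t := (⟨x, hx⟩ : U₁)) a b hS (by
    simp only [Scheme.Opens.fromSpecStalkOfMem, Category.assoc] at e
    rwa [cancel_epi] at e)
  refine ⟨U₁.ι ''ᵁ W, U₁.ι_image_le W, ⟨⟨x, hx⟩, hxW, rfl⟩, ?_⟩
  rw [← Scheme.Opens.isoImage_ι_inv_ι, Category.assoc, Category.assoc, hW]

/-- If `F : T ⟶ Y` is a monomorphism and `G : V ⟶ T` is a section of `F` over the open `V ⊆ Y`,
then the restriction of `F` over `V` is an isomorphism. -/
theorem isIso_morphismRestrict_of_mono_of_section {T : Scheme.{u}} (F : T ⟶ Y) [Mono F]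
    (V : Y.Opens) (G : V.toScheme ⟶ T) (hG : G ≫ F = V.ι) : IsIso (F ∣_ V) := by
  have hrange : Set.range G ⊆ Set.range (F ⁻¹ᵁ V).ι := by
    rintro _ ⟨v, rfl⟩
    rw [Scheme.Opens.range_ι]
    change F (G v) ∈ V
    rw [← Scheme.Hom.comp_apply, hG]
    exact v.2
  let G' : V.toScheme ⟶ (F ⁻¹ᵁ V).toScheme := IsOpenImmersion.lift (F ⁻¹ᵁ V).ι G hrange
  have hG' : G' ≫ (F ⁻¹ᵁ V).ι = G := IsOpenImmersion.lift_fac _ _ _
  refine ⟨G', ?_, ?_⟩
  · rw [← cancel_mono (F ⁻¹ᵁ V).ι, ← cancel_mono F]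
    simp only [Category.assoc, Category.id_comp]
    rw [reassoc_of% hG', hG, morphismRestrict_ι]
  · rw [← cancel_mono V.ι]
    simp only [Category.assoc, Category.id_comp]
    rw [morphismRestrict_ι, reassoc_of% hG', hG]

end Groth.Agent.Lib.Helper55
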