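import Groth.Agent.Lib.Helper55.SpreadOutFP
import Mathlib.AlgebraicGeometry.Morphisms.FiniteType

/-!
# Uniqueness of spreading out when the target is locally of finite type

Stacks 0BX6 without the germ-injectivity hypothesis on the source: if `Z` is locally of finite type
over `S`, two `S`-morphisms `T ⟶ Z` that agree at `t` and on the stalk at `t` agree on an open
neighbourhood of `t`.
-/

set_option autoImplicit false
universe u

open AlgebraicGeometry CategoryTheory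

namespace Groth.Agent.Lib.Helper55

set_option backward.isDefEq.respectTransparency.types false in
theorem spread_out_unique_of_locallyOfFiniteType {T Z S : Scheme.{u}} (sZ : Z ⟶ S)
    [LocallyOfFiniteType sZ] {t : T} (a b : T ⟶ Z) (hS : a ≫ sZ = b ≫ sZ) (e : a t = b t)
    (H : a.stalkMap t =
      Z.presheaf.stalkSpecializes (Inseparable.of_eq e.symm).specializes ≫ b.stalkMap t) :
    ∃ (U : T.Opens), t ∈ U ∧ U.ι ≫ a = U.ι ≫ b := by
  obtain ⟨_, ⟨W₀ : S.Opens, hW₀, rfl⟩, hxW₀, -⟩ :=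
    S.isBasis_affineOpens.exists_subset_of_mem_open (Set.mem_univ (sZ (a t))) isOpen_univ
  obtain ⟨_, ⟨V : Z.Opens, hV, rfl⟩, hxV, hVW₀⟩ :=
    Z.isBasis_affineOpens.exists_subset_of_mem_open (show a t ∈ sZ ⁻¹ᵁ W₀ from hxW₀)
      (sZ ⁻¹ᵁ W₀).isOpen
  have hVW₀' : V ≤ sZ ⁻¹ᵁ W₀ := hVW₀
  have hxV' : b t ∈ V := e ▸ hxV
  have htU₁ : t ∈ a ⁻¹ᵁ V ⊓ b ⁻¹ᵁ V := ⟨hxV, hxV'⟩
  have hα : a ⁻¹ᵁ V ⊓ b ⁻¹ᵁ V ≤ a ⁻¹ᵁ V := inf_le_left
  have hβ : a ⁻¹ᵁ V ⊓ b ⁻¹ᵁ V ≤ b ⁻¹ᵁ V := inf_le_right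
  obtain ⟨U, hxU, hUU₁, HU⟩ := exists_res_eq_of_finiteType (X := T) (R := Γ(S, W₀))
    (A := Γ(Z, V)) (U₁ := a ⁻¹ᵁ V ⊓ b ⁻¹ᵁ V) (x := t) htU₁ (sZ.appLE W₀ V hVW₀')
    (sZ.finiteType_appLE hW₀ hV hVW₀') (a.appLE V _ hα) (b.appLE V _ hβ)
    (by
      rw [Scheme.Hom.appLE_comp_appLE, Scheme.Hom.appLE_comp_appLE]
      congr 1)
    (by
      simp only [Scheme.Hom.appLE, Category.assoc, T.presheaf.germ_res',
        ← Scheme.Hom.germ_stalkMap, H]
      simp only [TopCat.Presheaf.germ_stalkSpecializes_assoc, Scheme.Hom.germ_stalkMap])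
  refine ⟨U, hxU, ?_⟩
  rw [← Scheme.Hom.resLE_comp_ι _ (hUU₁.trans hα), ← Scheme.Hom.resLE_comp_ι _ (hUU₁.trans hβ)]
  congr 1
  have : IsAffine V := hV
  rw [Scheme.Hom.appLE_map, Scheme.Hom.appLE_map] at HU
  suffices ∀ (U₀ V₀) (eU : U = U₀) (eV : V = V₀),
      a.appLE V₀ U₀ (eU ▸ eV ▸ hUU₁.trans hα) =
        b.appLE V₀ U₀ (eU ▸ eV ▸ hUU₁.trans hβ) by
    rw [← cancel_mono V.toScheme.isoSpec.hom]
    simp only [Scheme.isoSpec, asIso_hom, Scheme.toSpecΓ_naturality,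
      Scheme.Hom.app_eq_appLE, Scheme.Hom.resLE_appLE]
    congr 2
    apply this <;> simp
  rintro U V rfl rfl
  exact HU

/-- Variant with the hypothesis stated as an equality of scheme morphisms out of `Spec 𝒪_{T,t}`. -/
theorem spread_out_unique_of_locallyOfFiniteType' {T Z S : Scheme.{u}} (sZ : Z ⟶ S)
    [LocallyOfFiniteType sZ] {t : T} (a b : T ⟶ Z) (hS : a ≫ sZ = b ≫ sZ)
    (e : T.fromSpecStalk t ≫ a = T.fromSpecStalk t ≫ b) :
    ∃ (U : T.Opens), t ∈ U ∧ U.ι ≫ a = U.ι ≫ b := by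
  fapply spread_out_unique_of_locallyOfFiniteType sZ a b hS
  · simpa using congr($e (IsLocalRing.closedPoint _))
  · apply Spec.map_injective
    rw [← cancel_mono (Z.fromSpecStalk _)]
    simpa [Scheme.SpecMap_stalkSpecializes_fromSpecStalk]

end Groth.Agent.Lib.Helper55
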