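/-
Helper library (helper55): spectra of finitely generated algebras as closed subschemes of affine
spaces, and base change of the lifting property for ordered pairs of points along preimmersions.
-/
import Mathlib
import Groth.Prelude.Def_W4c2submetdescSubtr

set_option autoImplicit false
universe u
open CategoryTheory AlgebraicGeometry Limits Topology

namespace Groth.Agent.Lib.Helper55.SubtrAffineSpace

/-- The lifting property for ordered pairs of points is stable under base change along a
preimmersion. -/
theorem isSSubtrusive_pullback_snd_of_isPreimmersion {P B T : Scheme.{u}} (p : P ⟶ B) (h : T ⟶ B)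
    [IsPreimmersion h] (hp : Subtr.IsSSubtrusive p) : Subtr.IsSSubtrusive (pullback.snd p h) := by
  intro t t' htt'
  obtain ⟨x, x', hxx', hx, hx'⟩ := hp (htt'.map h.continuous)
  obtain ⟨z, hz1, hz2⟩ := Scheme.Pullback.exists_preimage_pullback x t hx
  obtain ⟨z', hz1', hz2'⟩ := Scheme.Pullback.exists_preimage_pullback x' t' hx'
  refine ⟨z, z', ?_, hz2, hz2'⟩
  rw [← (pullback.fst p h).isEmbedding.isInducing.specializes_iff, hz1, hz1']
  exact hxx'

section AffineSpace

open AffineSpace

variable {n : Type u}

lemma homOfVector_comp_map {X S T : Scheme.{u}} (a : X ⟶ S) (b : S ⟶ T) (v : n → Γ(X, ⊤)) :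
    homOfVector a v ≫ AffineSpace.map n b = homOfVector (a ≫ b) v := by
  ext1
  · simp
  · rw [Scheme.Hom.comp_appTop, CommRingCat.comp_apply]
    erw [map_appTop_coord]
    rw [homOfVector_appTop_coord, homOfVector_appTop_coord]

instance isPreimmersion_map {S T : Scheme.{u}} (b : S ⟶ T) [IsPreimmersion b] :
    IsPreimmersion (AffineSpace.map n b) :=
  MorphismProperty.of_isPullback (P := @IsPreimmersion) (isPullback_map (n := n) b).flip
    inferInstance

/-- The spectrum of an `R`-algebra generated by a family `v` is a closed subscheme of the affine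
space over `Spec R`. -/
theorem isClosedImmersion_homOfVector (R : CommRingCat.{u}) (C : Type u) [CommRing C]
    [Algebra R C] (v : n → C) (hv : Algebra.adjoin R (Set.range v) = ⊤) :
    IsClosedImmersion (homOfVector (S := Spec R)
      (Spec.map (CommRingCat.ofHom (algebraMap R C)))
      (fun i => (Scheme.ΓSpecIso (CommRingCat.of C)).inv (v i))) := by
  apply IsClosedImmersion.of_surjective_of_isAffine
  set h := homOfVector (S := Spec R) (Spec.map (CommRingCat.ofHom (algebraMap R C)))
      (fun i => (Scheme.ΓSpecIso (CommRingCat.of C)).inv (v i)) with hh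
  have key : ∀ c : C, (Scheme.ΓSpecIso (CommRingCat.of C)).inv c ∈ h.appTop.hom.range := by
    intro c
    have hc : c ∈ Algebra.adjoin R (Set.range v) := by rw [hv]; trivial
    induction hc using Algebra.adjoin_induction with
    | mem x hx =>
      obtain ⟨i, rfl⟩ := hx
      exact ⟨coord _ i, homOfVector_appTop_coord _ _ i⟩
    | algebraMap r =>
      refine ⟨(𝔸(n; Spec R) ↘ Spec R).appTop ((Scheme.ΓSpecIso R).inv r), ?_⟩
      have h1 : h ≫ 𝔸(n; Spec R) ↘ Spec R = Spec.map (CommRingCat.ofHom (algebraMap R C)) :=
        homOfVector_over _ _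
      have h2 := congr($(congrArg Scheme.Hom.appTop h1) ((Scheme.ΓSpecIso R).inv r))
      rw [Scheme.Hom.comp_appTop, CommRingCat.comp_apply] at h2
      refine h2.trans ?_
      have h3 := congr($(Scheme.ΓSpecIso_inv_naturality (CommRingCat.ofHom (algebraMap R C))) r)
      rw [CommRingCat.comp_apply, CommRingCat.comp_apply] at h3
      exact h3.symm
    | add x y _ _ hx hy =>
      rw [map_add]
      exact add_mem hx hy
    | mul x y _ _ hx hy =>
      rw [map_mul]
      exact mul_mem hx hy
  intro γ
  obtain ⟨a, ha⟩ := key ((Scheme.ΓSpecIso (CommRingCat.of C)).hom γ)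
  refine ⟨a, ha.trans ?_⟩
  rw [← CommRingCat.comp_apply, Iso.hom_inv_id]
  rfl

end AffineSpace

end Groth.Agent.Lib.Helper55.SubtrAffineSpace
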