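import Mathlib
import Groth.Agent.Lib.Helper75.ValSpec2
import Groth.Agent.S14769
import Groth.Agent.Lib.Helper55.ValuationFlat

/-! Composite valuation rings, chains of specializations through a valuation ring, and lifting of
chains along universally S-subtrusive morphisms (helper55). -/

set_option autoImplicit false
universe u

namespace Groth.Agent.Lib.Helper55

open AlgebraicGeometry CategoryTheory Topology IsLocalRing Groth.Agent.Lib.Helper75

/-- The composite of a valuation ring `V₁` with a valuation subring `A` of its residue field: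
the subring of elements of `V₁` whose residue lies in `A`. -/
def compositeSubring (V₁ : Type u) [CommRing V₁] [IsLocalRing V₁]
    (A : ValuationSubring (ResidueField V₁)) : Subring V₁ :=
  A.toSubring.comap (residue V₁)

theorem mem_compositeSubring {V₁ : Type u} [CommRing V₁] [IsLocalRing V₁]
    (A : ValuationSubring (ResidueField V₁)) (a : V₁) :
    a ∈ compositeSubring V₁ A ↔ residue V₁ a ∈ A := Iff.rfl

instance compositeSubring_valuationRing (V₁ : Type u) [CommRing V₁] [IsDomain V₁]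
    [ValuationRing V₁] (A : ValuationSubring (ResidueField V₁)) :
    ValuationRing (compositeSubring V₁ A) := by
  have : PreValuationRing (compositeSubring V₁ A) := by
    refine ⟨?_⟩
    intro a b
    -- either `c ∈ V` or `c⁻¹ ∈ V` for `c : V₁`
    have key : ∀ c : V₁, c ∈ compositeSubring V₁ A ∨
        ∃ d : V₁, d ∈ compositeSubring V₁ A ∧ c * d = 1 := by
      intro c
      by_cases hc : residue V₁ c ∈ A
      · exact Or.inl hc
      · right
        have hc0 : residue V₁ c ≠ 0 := fun h => hc (h ▸ A.zero_mem)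
        have hu : IsUnit c := by
          by_contra hnu
          exact hc0 ((residue_eq_zero_iff c).mpr ((mem_maximalIdeal c).mpr hnu))
        obtain ⟨u, rfl⟩ := hu
        refine ⟨(↑u⁻¹ : V₁), ?_, by simp⟩
        rw [mem_compositeSubring]
        have h1 : residue V₁ (↑u⁻¹ : V₁) = (residue V₁ (u : V₁))⁻¹ := by
          refine eq_inv_of_mul_eq_one_left ?_
          rw [← map_mul]
          simp
        rw [h1]
        exact (A.mem_or_inv_mem _).resolve_left hc
    obtain ⟨c, hc⟩ := ValuationRing.cond (a : V₁) (b : V₁)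
    rcases hc with hc | hc
    · rcases key c with h | ⟨d, hd, hcd⟩
      · exact ⟨⟨c, h⟩, Or.inl (Subtype.ext hc)⟩
      · refine ⟨⟨d, hd⟩, Or.inr (Subtype.ext ?_)⟩
        change (b : V₁) * d = a
        rw [← hc, mul_assoc, hcd, mul_one]
    · rcases key c with h | ⟨d, hd, hcd⟩
      · exact ⟨⟨c, h⟩, Or.inr (Subtype.ext hc)⟩
      · refine ⟨⟨d, hd⟩, Or.inl (Subtype.ext ?_)⟩
        change (a : V₁) * d = b
        rw [← hc, mul_assoc, hcd, mul_one]
  exact { }


/-- A chain of two specializations `y₂ ⤳ y₁ ⤳ y` in a scheme is the image of a chain of three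
points of the spectrum of a valuation ring (a composite of two valuation rings). -/
theorem exists_valuationRing_of_chain {S : Scheme.{u}} {y₂ y₁ y : S} (h₂ : y₂ ⤳ y₁)
    (h₁ : y₁ ⤳ y) :
    ∃ (V : Type u) (_ : CommRing V) (_ : IsDomain V) (_ : ValuationRing V)
      (g : Spec (CommRingCat.of V) ⟶ S) (p₂ p₁ p : Spec (CommRingCat.of V)),
      p₂ ⤳ p₁ ∧ p₁ ⤳ p ∧ g p₂ = y₂ ∧ g p₁ = y₁ ∧ g p = y := by
  obtain ⟨V₁, _, _, _, g₁, hcl, hbot⟩ := exists_valuationRing_of_specializes' h₂
  subst hcl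
  let θ₁ : S.presheaf.stalk (g₁ (clPoint V₁)) ⟶ CommRingCat.of V₁ :=
    Scheme.stalkClosedPointTo g₁
  let sp : S.presheaf.stalk y ⟶ S.presheaf.stalk (g₁ (clPoint V₁)) :=
    S.presheaf.stalkSpecializes h₁
  let φ₀ : S.presheaf.stalk y →+* ResidueField V₁ := (residue V₁).comp (sp ≫ θ₁).hom
  obtain ⟨A, hA, hAloc⟩ := exists_factor_valuationRing φ₀
  let ψ : S.presheaf.stalk y →+* compositeSubring V₁ A :=
    (sp ≫ θ₁).hom.codRestrict (compositeSubring V₁ A) (fun a => hA a)
  have hψloc : IsLocalHom ψ := by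
    refine ⟨fun a ha => ?_⟩
    obtain ⟨w, hw⟩ := ha.exists_right_inv
    have hw' : (sp ≫ θ₁).hom a * (w : V₁) = 1 := congrArg Subtype.val hw
    have hu : IsUnit ((φ₀.codRestrict A.toSubring hA) a) := by
      refine IsUnit.of_mul_eq_one (⟨residue V₁ (w : V₁), w.2⟩ : A.toSubring) ?_
      apply Subtype.ext
      change residue V₁ ((sp ≫ θ₁).hom a) * residue V₁ (w : V₁) = 1
      rw [← map_mul, hw', map_one]
    exact hAloc.map_nonunit a hu
  let g : Spec (CommRingCat.of (compositeSubring V₁ A)) ⟶ S :=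
    Spec.map (CommRingCat.ofHom ψ) ≫ S.fromSpecStalk y
  let j : Spec (CommRingCat.of V₁) ⟶ Spec (CommRingCat.of (compositeSubring V₁ A)) :=
    Spec.map (CommRingCat.ofHom (compositeSubring V₁ A).subtype)
  have hjg : j ≫ g = g₁ := by
    have h1 : CommRingCat.ofHom ψ ≫ CommRingCat.ofHom (compositeSubring V₁ A).subtype =
        sp ≫ θ₁ := by
      ext a
      rfl
    have h2 : Spec.map sp ≫ S.fromSpecStalk y = S.fromSpecStalk (g₁ (clPoint V₁)) :=
      Scheme.SpecMap_stalkSpecializes_fromSpecStalk h₁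
    change Spec.map _ ≫ Spec.map _ ≫ _ = _
    rw [← Spec.map_comp_assoc, h1, Spec.map_comp_assoc, h2]
    exact Scheme.Spec_stalkClosedPointTo_fromSpecStalk g₁
  refine ⟨compositeSubring V₁ A, inferInstance, inferInstance, inferInstance, g,
    j (botPoint V₁), j (clPoint V₁), clPoint (compositeSubring V₁ A), ?_, ?_, ?_, ?_, ?_⟩
  · exact (botPoint_specializes_clPoint V₁).map j.continuous
  · exact specializes_clPoint _ _
  · rw [← Scheme.Hom.comp_apply, hjg, hbot]
  · rw [← Scheme.Hom.comp_apply, hjg]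
  · have h1 : Spec.map (CommRingCat.ofHom ψ) (clPoint (compositeSubring V₁ A)) =
        closedPoint (S.presheaf.stalk y) :=
      comap_closedPoint (S := compositeSubring V₁ A) ψ
    change S.fromSpecStalk y (Spec.map (CommRingCat.ofHom ψ) (clPoint _)) = y
    rw [h1]
    exact S.fromSpecStalk_closedPoint


/-- **Chains lift along universally S-subtrusive morphisms.** -/
theorem exists_chain_lift_of_univSSubtrusive {X Y : Scheme.{u}} (f : X ⟶ Y)
    (hf : Subtr.UnivSSubtrusive f) {y₂ y₁ y : Y} (h₂ : y₂ ⤳ y₁) (h₁ : y₁ ⤳ y) :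
    ∃ x₂ x₁ x : X, x₂ ⤳ x₁ ∧ x₁ ⤳ x ∧ f x₂ = y₂ ∧ f x₁ = y₁ ∧ f x = y := by
  obtain ⟨V, _, _, _, g, p₂, p₁, p, hp₂, hp₁, hg₂, hg₁, hg⟩ :=
    exists_valuationRing_of_chain h₂ h₁
  obtain ⟨V', _, _, _, a, b, hb, hab⟩ := (Groth.Agent.S14769.result f).mp hf V g
  have hflat : Flat b := flat_of_isIntegral_of_isDominant b
  obtain ⟨q, hq⟩ := b.surjective p
  obtain ⟨q₁, hq₁q, hq₁⟩ := (Flat.generalizingMap b) (hq ▸ hp₁)
  obtain ⟨q₂, hq₂q₁, hq₂⟩ := (Flat.generalizingMap b) (hq₁ ▸ hp₂)
  have key : ∀ w : Spec (CommRingCat.of V'), f (a w) = g (b w) := by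
    intro w
    rw [← Scheme.Hom.comp_apply, hab, Scheme.Hom.comp_apply]
  refine ⟨a q₂, a q₁, a q, hq₂q₁.map a.continuous, hq₁q.map a.continuous, ?_, ?_, ?_⟩
  · rw [key, hq₂, hg₂]
  · rw [key, hq₁, hg₁]
  · rw [key, hq, hg]

end Groth.Agent.Lib.Helper55
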