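/-
Helper library (helper55): the lifting property for ordered pairs of points (S-subtrusiveness)
passes to cofiltered limits of schemes with affine transition maps.
-/
import Mathlib
import Groth.Prelude.Def_W4c2submetdescSubtr
import Groth.Agent.S14788
import Groth.Agent.Lib.Helper23.LimPoints
import Groth.Agent.Lib.Helper23.ProConsClosure
import Groth.Agent.Lib.Helper55.ProConsRetro
import Groth.Agent.Lib.Helper13.LimDescent

set_option autoImplicit false
universe u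
open CategoryTheory AlgebraicGeometry Limits Topology

namespace Groth.Agent.Lib.Helper55.SubtrLimit

open Groth.Agent.Lib.Helper16 Groth.Agent.Lib.Helper23 Groth.Agent.Lib.Helper55

/-- Intersections of two pro-constructible subsets of a scheme are pro-constructible. -/
theorem isProConstructible_inter₂ {X : Scheme.{u}} {E F : Set X}
    (hE : ProCons.IsProConstructible E) (hF : ProCons.IsProConstructible F) :
    ProCons.IsProConstructible (E ∩ F) := by
  intro x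
  obtain ⟨U, hU, hxU⟩ := exists_affine_nhd x
  obtain ⟨_, _, _, _, _⟩ := spectral_of_isAffineOpen hU
  obtain ⟨S₁, hS₁, hES₁⟩ := exists_sInter_of_isProConstructible hE (W := (U : Set X)) U.2
  obtain ⟨S₂, hS₂, hES₂⟩ := exists_sInter_of_isProConstructible hF (W := (U : Set X)) U.2
  refine ⟨U, U.2, hxU, S₁ ∪ S₂, ?_, ?_⟩
  · rintro T (hT | hT)
    · exact (hS₁ T hT).isLocallyConstructible
    · exact (hS₂ T hT).isLocallyConstructible
  · rw [Set.sInter_union, ← hES₁, ← hES₂, Set.preimage_inter]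

theorem isProConstructible_univ' {X : Scheme.{u}} :
    ProCons.IsProConstructible (Set.univ : Set X) :=
  isProConstructible_of_isLocallyConstructible IsLocallyConstructible.univ

theorem isIndConstructible_empty' {X : Scheme.{u}} :
    ProCons.IsIndConstructible (∅ : Set X) :=
  isIndConstructible_of_isLocallyConstructible IsLocallyConstructible.empty

/-- Fibres of a morphism of schemes over points are pro-constructible. -/
theorem isProConstructible_fiber {X Y : Scheme.{u}} (f : X ⟶ Y) (y : Y) :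
    ProCons.IsProConstructible (f ⁻¹' {y}) :=
  isProConstructible_preimage f (Groth.Agent.S14788.isProConstructible_singleton y)

/-- In a quasi-separated scheme the set of generizations of a point is pro-constructible. -/
theorem isProConstructible_generizations {X : Scheme.{u}} [QuasiSeparatedSpace X] (p : X) :
    ProCons.IsProConstructible {z : X | z ⤳ p} := by
  have := isProConstructible_image (X.fromSpecStalk p) Set.univ isProConstructible_univ'
  rwa [Set.image_univ, Scheme.range_fromSpecStalk] at this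

section

variable {J : Type u} [Category.{u} J] [IsCofiltered J] (𝒳 𝒴 : J ⥤ Scheme.{u}) (F : 𝒳 ⟶ 𝒴)
  (cX : Cone 𝒳) (hcX : IsLimit cX) (cY : Cone 𝒴)
  [∀ {i j : J} (a : i ⟶ j), IsAffineHom (𝒳.map a)]
  (f : cX.pt ⟶ cY.pt) (hf : ∀ j, f ≫ cY.π.app j = cX.π.app j ≫ F.app j)
  (hinj : ∀ p q : cY.pt, (∀ j, cY.π.app j p = cY.π.app j q) → p = q)

include hcX hf hinj in
/-- Lifting of an ordered pair of points through a limit of morphisms, when all stages of the
source system are quasi-compact and quasi-separated. -/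
theorem exists_lift_of_forall_of_qcqs [∀ j, CompactSpace (𝒳.obj j)]
    [∀ j, QuasiSeparatedSpace (𝒳.obj j)] {y y' : cY.pt}
    (H : ∀ j, ∃ x x' : 𝒳.obj j, x' ⤳ x ∧ F.app j x = cY.π.app j y ∧ F.app j x' = cY.π.app j y') :
    ∃ x x' : cX.pt, x' ⤳ x ∧ f x = y ∧ f x' = y' := by
  obtain ⟨j₀⟩ := IsCofiltered.nonempty (C := J)
  have hnat : ∀ {i j : J} (a : i ⟶ j) (z : 𝒳.obj i), F.app j (𝒳.map a z) = 𝒴.map a (F.app i z) := by
    intro i j a z
    have := congr($(F.naturality a) z)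
    simpa only [Scheme.Hom.comp_apply] using this
  have hconeY : ∀ {i j : J} (a : i ⟶ j) (p : cY.pt), 𝒴.map a (cY.π.app i p) = cY.π.app j p := by
    intro i j a p
    have := congr($(cY.w a) p)
    simpa only [Scheme.Hom.comp_apply] using this
  have hconeX : ∀ {i j : J} (a : i ⟶ j) (p : cX.pt), 𝒳.map a (cX.π.app i p) = cX.π.app j p := by
    intro i j a p
    have := congr($(cX.w a) p)
    simpa only [Scheme.Hom.comp_apply] using this
  have hfpt : ∀ (j : J) (p : cX.pt), cY.π.app j (f p) = F.app j (cX.π.app j p) := by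
    intro j p
    have := congr($(hf j) p)
    simpa only [Scheme.Hom.comp_apply] using this
  -- Step 1: a point of the closure of the fibre over `y'` lying over `y`
  let E : ∀ j, Set (𝒳.obj j) := fun j =>
    closure (F.app j ⁻¹' {cY.π.app j y'}) ∩ (F.app j ⁻¹' {cY.π.app j y})
  have hE : ∀ j, ProCons.IsProConstructible (E j) := fun j =>
    isProConstructible_inter₂ (isProConstructible_of_isClosed isClosed_closure)
      (isProConstructible_fiber _ _)
  have hEm : ∀ {i j : J} (a : i ⟶ j), Set.MapsTo (𝒳.map a) (E i \ ∅) (E j \ ∅) := by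
    intro i j a z hz
    rw [Set.sdiff_empty] at hz ⊢
    refine ⟨?_, ?_⟩
    · have h1 : 𝒳.map a z ∈ closure (𝒳.map a '' (F.app i ⁻¹' {cY.π.app i y'})) :=
        image_closure_subset_closure_image (𝒳.map a).continuous ⟨z, hz.1, rfl⟩
      refine closure_mono ?_ h1
      rintro _ ⟨w, hw, rfl⟩
      change F.app j (𝒳.map a w) = _
      rw [hnat, (hw : F.app i w = _), hconeY]
    · change F.app j (𝒳.map a z) = _
      rw [hnat, (hz.2 : F.app i z = _), hconeY]
  have hEne : ∀ j, (E j \ ∅).Nonempty := by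
    intro j
    obtain ⟨x, x', hxx', hx, hx'⟩ := H j
    rw [Set.sdiff_empty]
    exact ⟨x, hxx'.mem_closed isClosed_closure (subset_closure hx'), hx⟩
  obtain ⟨x, hx⟩ := exists_mem_of_forall_nonempty_of_isProConstructible_diff 𝒳 cX hcX j₀ E
    (fun _ => ∅) hE (fun _ => isIndConstructible_empty') hEm hEne
  simp only [Set.sdiff_empty] at hx
  have hfx : f x = y := hinj _ _ fun j => by rw [hfpt]; exact (hx j).2
  -- Step 2: a generization of `x` over `y'`
  let G : ∀ j, Set (𝒳.obj j) := fun j =>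
    (F.app j ⁻¹' {cY.π.app j y'}) ∩ {z | z ⤳ cX.π.app j x}
  have hG : ∀ j, ProCons.IsProConstructible (G j) := fun j =>
    isProConstructible_inter₂ (isProConstructible_fiber _ _) (isProConstructible_generizations _)
  have hGm : ∀ {i j : J} (a : i ⟶ j), Set.MapsTo (𝒳.map a) (G i \ ∅) (G j \ ∅) := by
    intro i j a z hz
    rw [Set.sdiff_empty] at hz ⊢
    refine ⟨?_, ?_⟩
    · change F.app j (𝒳.map a z) = _
      rw [hnat, (hz.1 : F.app i z = _), hconeY]
    · have h1 : 𝒳.map a z ⤳ 𝒳.map a (cX.π.app i x) := (hz.2 : z ⤳ _).map (𝒳.map a).continuous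
      rw [hconeX] at h1
      exact h1
  have hGne : ∀ j, (G j \ ∅).Nonempty := by
    intro j
    rw [Set.sdiff_empty]
    obtain ⟨z, hz, hzx⟩ := exists_specializes_of_mem_closure_of_isProConstructible
      (isProConstructible_fiber (F.app j) (cY.π.app j y')) (hx j).1
    exact ⟨z, hz, hzx⟩
  obtain ⟨x', hx'⟩ := exists_mem_of_forall_nonempty_of_isProConstructible_diff 𝒳 cX hcX j₀ G
    (fun _ => ∅) hG (fun _ => isIndConstructible_empty') hGm hGne
  simp only [Set.sdiff_empty] at hx'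
  refine ⟨x, x', specializes_of_forall_π_app 𝒳 cX hcX fun j => (hx' j).2, hfx, ?_⟩
  exact hinj _ _ fun j => by rw [hfpt]; exact (hx' j).1

end

section General

variable {J : Type u} [Category.{u} J] [IsCofiltered J] (𝒳 𝒴 : J ⥤ Scheme.{u}) (F : 𝒳 ⟶ 𝒴)
  (cX : Cone 𝒳) (hcX : IsLimit cX) (cY : Cone 𝒴)
  [∀ {i j : J} (a : i ⟶ j), IsAffineHom (𝒳.map a)]
  (f : cX.pt ⟶ cY.pt) (hf : ∀ j, f ≫ cY.π.app j = cX.π.app j ≫ F.app j)
  (hinj : ∀ p q : cY.pt, (∀ j, cY.π.app j p = cY.π.app j q) → p = q)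

include hcX hf hinj in
/-- Lifting of an ordered pair of points through a limit of morphisms: it is enough that one
stage of the source system be quasi-compact and that the pair lift at a cofinal set of stages. -/
theorem exists_lift_of_forall (j₀ : J) [CompactSpace (𝒳.obj j₀)] {y y' : cY.pt}
    (H : ∀ j, ∃ (j' : J) (_ : j' ⟶ j) (x x' : 𝒳.obj j'),
      x' ⤳ x ∧ F.app j' x = cY.π.app j' y ∧ F.app j' x' = cY.π.app j' y') :
    ∃ x x' : cX.pt, x' ⤳ x ∧ f x = y ∧ f x' = y' := by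
  classical
  have hnat : ∀ {i j : J} (a : i ⟶ j) (z : 𝒳.obj i), F.app j (𝒳.map a z) = 𝒴.map a (F.app i z) := by
    intro i j a z
    have := congr($(F.naturality a) z)
    simpa only [Scheme.Hom.comp_apply] using this
  have hconeY : ∀ {i j : J} (a : i ⟶ j) (p : cY.pt), 𝒴.map a (cY.π.app i p) = cY.π.app j p := by
    intro i j a p
    have := congr($(cY.w a) p)
    simpa only [Scheme.Hom.comp_apply] using this
  -- lifts at every stage
  have H' : ∀ j, ∃ x x' : 𝒳.obj j, x' ⤳ x ∧ F.app j x = cY.π.app j y ∧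
      F.app j x' = cY.π.app j y' := by
    intro j
    obtain ⟨j', a, x, x', hxx', hx, hx'⟩ := H j
    refine ⟨𝒳.map a x, 𝒳.map a x', hxx'.map (𝒳.map a).continuous, ?_, ?_⟩
    · rw [hnat, hx, hconeY]
    · rw [hnat, hx', hconeY]
  -- a finite affine cover of the quasi-compact stage
  obtain ⟨t, ht⟩ := isCompact_univ.elim_finite_subcover
    (fun U : (𝒳.obj j₀).affineOpens => ((U : (𝒳.obj j₀).Opens) : Set (𝒳.obj j₀)))
    (fun U => U.1.2) (fun x _ => by
      have h1 : x ∈ (⨆ U : (𝒳.obj j₀).affineOpens, (U : (𝒳.obj j₀).Opens)) := by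
        rw [iSup_affineOpens_eq_top]; trivial
      obtain ⟨U, hU⟩ := TopologicalSpace.Opens.mem_iSup.mp h1
      exact Set.mem_iUnion.mpr ⟨U, hU⟩)
  -- pigeonhole: one member of the cover contains lifts at all stages
  have hA : ∃ U ∈ t, ∀ k : Over j₀, ∃ x x' : 𝒳.obj k.left, x' ⤳ x ∧
      F.app k.left x = cY.π.app k.left y ∧ F.app k.left x' = cY.π.app k.left y' ∧
      𝒳.map k.hom x ∈ (U : (𝒳.obj j₀).Opens) := by
    by_contra hcon
    push Not at hcon
    have hnon : Nonempty (Over j₀) := ⟨Over.mk (𝟙 j₀)⟩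
    choose! k hk using hcon
    obtain ⟨l, hl⟩ := IsCofiltered.inf_objs_exists (t.image k)
    obtain ⟨x, x', hxx', hx, hx'⟩ := H' l.left
    obtain ⟨U, hUt, hxU⟩ := Set.mem_iUnion₂.mp (ht (Set.mem_univ (𝒳.map l.hom x)))
    obtain ⟨ψ⟩ := hl (Finset.mem_image_of_mem k hUt)
    apply hk U hUt (𝒳.map ψ.left x) (𝒳.map ψ.left x') (hxx'.map (𝒳.map ψ.left).continuous)
    · rw [hnat, hx, hconeY]
    · rw [hnat, hx', hconeY]
    · rw [over_map_apply]
      exact hxU
  obtain ⟨⟨U, hU⟩, -, hUlift⟩ := hA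
  -- restrict the system to `U`
  have haff : ∀ k : Over j₀, IsAffine ((opensDiagram 𝒳 j₀ U).obj k) := fun k => hU.preimage _
  have hcpt : ∀ k : Over j₀, CompactSpace ((opensDiagram 𝒳 j₀ U).obj k) := fun k => inferInstance
  have hqs : ∀ k : Over j₀, QuasiSeparatedSpace ((opensDiagram 𝒳 j₀ U).obj k) :=
    fun k => inferInstance
  let ι : ∀ k : Over j₀, (opensDiagram 𝒳 j₀ U).obj k ⟶ 𝒳.obj k.left :=
    fun k => (opensDiagramι 𝒳 j₀ U).app k
  have hι : ∀ k : Over j₀, IsOpenEmbedding (ι k) := fun k =>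
    Scheme.Hom.isOpenEmbedding ((opensDiagramι 𝒳 j₀ U).app k)
  let F' : opensDiagram 𝒳 j₀ U ⟶ Over.forget j₀ ⋙ 𝒴 :=
    opensDiagramι 𝒳 j₀ U ≫ Functor.whiskerLeft (Over.forget j₀) F
  let cY' : Cone (Over.forget j₀ ⋙ 𝒴) := cY.whisker (Over.forget j₀)
  have hf' : ∀ k : Over j₀, ((cX.π.app j₀ ⁻¹ᵁ U).ι ≫ f) ≫ cY'.π.app k =
      (opensCone 𝒳 cX j₀ U).π.app k ≫ F'.app k := by
    intro k
    have h2 : (opensCone 𝒳 cX j₀ U).π.app k ≫ ι k = (cX.π.app j₀ ⁻¹ᵁ U).ι ≫ cX.π.app k.left :=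
      Scheme.Hom.resLE_comp_ι _ _
    change ((cX.π.app j₀ ⁻¹ᵁ U).ι ≫ f) ≫ cY.π.app k.left =
      (opensCone 𝒳 cX j₀ U).π.app k ≫ ι k ≫ F.app k.left
    rw [Category.assoc, hf, ← Category.assoc, ← h2]
    exact Category.assoc _ _ _
  have hinj' : ∀ p q : cY'.pt, (∀ k, cY'.π.app k p = cY'.π.app k q) → p = q := by
    intro p q hpq
    apply hinj
    intro j
    have h1 := hpq (Over.mk (IsCofiltered.minToRight j j₀))
    change cY.π.app (IsCofiltered.min j j₀) p = cY.π.app (IsCofiltered.min j j₀) q at h1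
    rw [← hconeY (IsCofiltered.minToLeft j j₀) p, ← hconeY (IsCofiltered.minToLeft j j₀) q, h1]
  have Hres : ∀ k : Over j₀, ∃ x x' : (opensDiagram 𝒳 j₀ U).obj k, x' ⤳ x ∧
      F'.app k x = cY'.π.app k y ∧ F'.app k x' = cY'.π.app k y' := by
    intro k
    obtain ⟨x, x', hxx', hx, hx', hxU⟩ := hUlift k
    have hx'U : 𝒳.map k.hom x' ∈ (U : (𝒳.obj j₀).Opens) :=
      (hxx'.map (𝒳.map k.hom).continuous).mem_open U.2 hxU
    refine ⟨⟨x, hxU⟩, ⟨x', hx'U⟩, ?_, hx, hx'⟩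
    exact ((hι k).isInducing.specializes_iff).mp hxx'
  obtain ⟨x, x', hxx', hx, hx'⟩ := exists_lift_of_forall_of_qcqs (opensDiagram 𝒳 j₀ U)
    (Over.forget j₀ ⋙ 𝒴) F' (opensCone 𝒳 cX j₀ U) (isLimitOpensCone 𝒳 cX hcX j₀ U) cY'
    ((cX.π.app j₀ ⁻¹ᵁ U).ι ≫ f) hf' hinj' Hres
  exact ⟨(cX.π.app j₀ ⁻¹ᵁ U).ι x, (cX.π.app j₀ ⁻¹ᵁ U).ι x',
    hxx'.map (cX.π.app j₀ ⁻¹ᵁ U).ι.continuous, hx, hx'⟩

end General

section Transfer

/-- The lifting property for ordered pairs of points only depends on the morphism up to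
isomorphism of pullback squares over a fixed `f₀`. -/
theorem isSSubtrusive_of_isPullback_of_iso {X₀ Y₀ P B P' B' : Scheme.{u}} {f₀ : X₀ ⟶ Y₀}
    {a : P ⟶ X₀} {p : P ⟶ B} {b : B ⟶ Y₀} {a' : P' ⟶ X₀} {q : P' ⟶ B'} {b' : B' ⟶ Y₀}
    (h : IsPullback p a b f₀) (h' : IsPullback q a' b' f₀) (e : B ≅ B') (he : e.hom ≫ b' = b)
    (hp : Subtr.IsSSubtrusive p) : Subtr.IsSSubtrusive q := by
  have h'' : IsPullback (p ≫ e.hom) a b' f₀ :=
    h.of_iso (Iso.refl P) e (Iso.refl X₀) (Iso.refl Y₀) (by simp) (by simp) (by simp [he])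
      (by simp)
  let ε : P ≅ P' := h''.isoIsPullback _ _ h'
  have hε : ε.hom ≫ q = p ≫ e.hom := h''.isoIsPullback_hom_fst _ _ h'
  intro y y' hyy'
  have h1 : e.inv y' ⤳ e.inv y := hyy'.map e.inv.continuous
  obtain ⟨x, x', hxx', hx, hx'⟩ := hp h1
  refine ⟨ε.hom x, ε.hom x', hxx'.map ε.hom.continuous, ?_, ?_⟩
  · have := congr($hε x)
    simp only [Scheme.Hom.comp_apply] at this
    rw [this, hx, ← Scheme.Hom.comp_apply, e.inv_hom_id]
    rfl
  · have := congr($hε x')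
    simp only [Scheme.Hom.comp_apply] at this
    rw [this, hx', ← Scheme.Hom.comp_apply, e.inv_hom_id]
    rfl

end Transfer

section BaseChangeMap

variable {S T X₀ Y₀ : Scheme.{u}} (h : T ⟶ S) (f₀ : X₀ ⟶ Y₀) (g₀ : Y₀ ⟶ S)

/-- The base change `T ×_S X₀ ⟶ T ×_S Y₀` of `f₀ : X₀ ⟶ Y₀` (over `S`). -/
noncomputable def bcMap : pullback h (f₀ ≫ g₀) ⟶ pullback h g₀ :=
  pullback.lift (pullback.fst _ _) (pullback.snd _ _ ≫ f₀)
    (by rw [Category.assoc, pullback.condition])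

@[reassoc (attr := simp)]
lemma bcMap_fst : bcMap h f₀ g₀ ≫ pullback.fst h g₀ = pullback.fst h (f₀ ≫ g₀) :=
  pullback.lift_fst _ _ _

@[reassoc (attr := simp)]
lemma bcMap_snd : bcMap h f₀ g₀ ≫ pullback.snd h g₀ = pullback.snd h (f₀ ≫ g₀) ≫ f₀ :=
  pullback.lift_snd _ _ _

lemma isPullback_bcMap :
    IsPullback (bcMap h f₀ g₀) (pullback.snd h (f₀ ≫ g₀)) (pullback.snd h g₀) f₀ := by
  refine IsPullback.of_right (h₁₂ := pullback.fst h g₀) (h₂₂ := g₀) (v₁₃ := h) ?_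
    (bcMap_snd h f₀ g₀) (IsPullback.of_hasPullback h g₀)
  rw [bcMap_fst]
  exact IsPullback.of_hasPullback h (f₀ ≫ g₀)

end BaseChangeMap

section ResMap

variable {S T X₀ Y₀ U : Scheme.{u}} (h : T ⟶ S) (f₀ : X₀ ⟶ Y₀) (g₀ : Y₀ ⟶ S) (j : U ⟶ X₀)

/-- The morphism `T ×_S U ⟶ T ×_S X₀` induced by `j : U ⟶ X₀`. -/
noncomputable def resMap : pullback h ((j ≫ f₀) ≫ g₀) ⟶ pullback h (f₀ ≫ g₀) :=
  pullback.map h ((j ≫ f₀) ≫ g₀) h (f₀ ≫ g₀) (𝟙 T) j (𝟙 S) (by simp) (by simp)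

@[reassoc]
lemma resMap_fst : resMap h f₀ g₀ j ≫ pullback.fst h (f₀ ≫ g₀) =
    pullback.fst h ((j ≫ f₀) ≫ g₀) := by
  unfold resMap pullback.map
  exact (pullback.lift_fst _ _ _).trans (Category.comp_id _)

@[reassoc]
lemma resMap_snd : resMap h f₀ g₀ j ≫ pullback.snd h (f₀ ≫ g₀) =
    pullback.snd h ((j ≫ f₀) ≫ g₀) ≫ j := by
  unfold resMap pullback.map
  exact pullback.lift_snd _ _ _

lemma resMap_bcMap : resMap h f₀ g₀ j ≫ bcMap h f₀ g₀ = bcMap h (j ≫ f₀) g₀ := by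
  apply pullback.hom_ext
  · exact (Category.assoc _ _ _).trans ((whisker_eq _ (bcMap_fst h f₀ g₀)).trans
      ((resMap_fst h f₀ g₀ j).trans (bcMap_fst h (j ≫ f₀) g₀).symm))
  · exact (Category.assoc _ _ _).trans ((whisker_eq _ (bcMap_snd h f₀ g₀)).trans
      ((Category.assoc _ _ _).symm.trans ((eq_whisker (resMap_snd h f₀ g₀ j) f₀).trans
        ((Category.assoc _ _ _).trans (bcMap_snd h (j ≫ f₀) g₀).symm))))

instance [IsOpenImmersion j] : IsOpenImmersion (resMap h f₀ g₀ j) := by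
  delta resMap; infer_instance

lemma range_resMap :
    Set.range (resMap h f₀ g₀ j) = pullback.snd h (f₀ ≫ g₀) ⁻¹' Set.range j := by
  simp [resMap, Scheme.Pullback.range_map]

end ResMap

section Sys

open Groth.Agent.Lib.Helper13.LimDescent

variable {I : Type u} [SmallCategory I] [IsCofiltered I] (D : I ⥤ Scheme.{u}) (c : Cone D)
  (hc : IsLimit c) [∀ {i j : I} (a : i ⟶ j), IsAffineHom (D.map a)] (i₀ : I)
  {X₀ Y₀ : Scheme.{u}} (f₀ : X₀ ⟶ Y₀) (g₀ : Y₀ ⟶ D.obj i₀)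

/-- The natural transformation between the systems of base changes. -/
noncomputable def stageNat : sys D i₀ (f₀ ≫ g₀) ⟶ sys D i₀ g₀ where
  app k := bcMap (D.map k.hom) f₀ g₀
  naturality k k' a := by
    apply pullback.hom_ext
    · have h1 := sys_map_fst D i₀ (f₀ ≫ g₀) a
      have h2 := sys_map_fst D i₀ g₀ a
      have h3 := bcMap_fst (D.map k.hom) f₀ g₀
      have h4 := bcMap_fst (D.map k'.hom) f₀ g₀
      have e1 : ((sys D i₀ (f₀ ≫ g₀)).map a ≫ bcMap (D.map k'.hom) f₀ g₀) ≫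
          pullback.fst (D.map k'.hom) g₀ = pullback.fst (D.map k.hom) (f₀ ≫ g₀) ≫ D.map a.left :=
        (Category.assoc _ _ _).trans ((whisker_eq _ h4).trans h1)
      have e2 : (bcMap (D.map k.hom) f₀ g₀ ≫ (sys D i₀ g₀).map a) ≫
          pullback.fst (D.map k'.hom) g₀ = pullback.fst (D.map k.hom) (f₀ ≫ g₀) ≫ D.map a.left :=
        (Category.assoc _ _ _).trans ((whisker_eq _ h2).trans
          ((Category.assoc _ _ _).symm.trans (eq_whisker h3 _)))
      exact e1.trans e2.symm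
    · have h1 := sys_map_snd D i₀ (f₀ ≫ g₀) a
      have h2 := sys_map_snd D i₀ g₀ a
      have h3 := bcMap_snd (D.map k.hom) f₀ g₀
      have h4 := bcMap_snd (D.map k'.hom) f₀ g₀
      have e1 : ((sys D i₀ (f₀ ≫ g₀)).map a ≫ bcMap (D.map k'.hom) f₀ g₀) ≫
          pullback.snd (D.map k'.hom) g₀ = pullback.snd (D.map k.hom) (f₀ ≫ g₀) ≫ f₀ :=
        (Category.assoc _ _ _).trans ((whisker_eq _ h4).trans
          ((Category.assoc _ _ _).symm.trans (eq_whisker h1 _)))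
      have e2 : (bcMap (D.map k.hom) f₀ g₀ ≫ (sys D i₀ g₀).map a) ≫
          pullback.snd (D.map k'.hom) g₀ = pullback.snd (D.map k.hom) (f₀ ≫ g₀) ≫ f₀ :=
        (Category.assoc _ _ _).trans ((whisker_eq _ h2).trans h3)
      exact e1.trans e2.symm

omit [IsCofiltered I] [∀ {i j : I} (a : i ⟶ j), IsAffineHom (D.map a)] in
lemma bcMap_comp_sysCone_π (k : Over i₀) :
    bcMap (c.π.app i₀) f₀ g₀ ≫ (sysCone D c i₀ g₀).π.app k =
      (sysCone D c i₀ (f₀ ≫ g₀)).π.app k ≫ bcMap (D.map k.hom) f₀ g₀ := by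
  apply pullback.hom_ext
  · have h1 := sysCone_π_fst D c i₀ (f₀ ≫ g₀) k
    have h2 := sysCone_π_fst D c i₀ g₀ k
    have h3 := bcMap_fst (D.map k.hom) f₀ g₀
    have h4 := bcMap_fst (c.π.app i₀) f₀ g₀
    have e1 : (bcMap (c.π.app i₀) f₀ g₀ ≫ (sysCone D c i₀ g₀).π.app k) ≫
        pullback.fst (D.map k.hom) g₀ = pullback.fst (c.π.app i₀) (f₀ ≫ g₀) ≫ c.π.app k.left :=
      (Category.assoc _ _ _).trans ((whisker_eq _ h2).trans
        ((Category.assoc _ _ _).symm.trans (eq_whisker h4 _)))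
    have e2 : ((sysCone D c i₀ (f₀ ≫ g₀)).π.app k ≫ bcMap (D.map k.hom) f₀ g₀) ≫
        pullback.fst (D.map k.hom) g₀ = pullback.fst (c.π.app i₀) (f₀ ≫ g₀) ≫ c.π.app k.left :=
      (Category.assoc _ _ _).trans ((whisker_eq _ h3).trans h1)
    exact e1.trans e2.symm
  · have h1 := sysCone_π_snd D c i₀ (f₀ ≫ g₀) k
    have h2 := sysCone_π_snd D c i₀ g₀ k
    have h3 := bcMap_snd (D.map k.hom) f₀ g₀
    have h4 := bcMap_snd (c.π.app i₀) f₀ g₀
    have e1 : (bcMap (c.π.app i₀) f₀ g₀ ≫ (sysCone D c i₀ g₀).π.app k) ≫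
        pullback.snd (D.map k.hom) g₀ = pullback.snd (c.π.app i₀) (f₀ ≫ g₀) ≫ f₀ :=
      (Category.assoc _ _ _).trans ((whisker_eq _ h2).trans h4)
    have e2 : ((sysCone D c i₀ (f₀ ≫ g₀)).π.app k ≫ bcMap (D.map k.hom) f₀ g₀) ≫
        pullback.snd (D.map k.hom) g₀ = pullback.snd (c.π.app i₀) (f₀ ≫ g₀) ≫ f₀ :=
      (Category.assoc _ _ _).trans ((whisker_eq _ h3).trans
        ((Category.assoc _ _ _).symm.trans (eq_whisker h1 _)))
    exact e1.trans e2.symm

include hc in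
/-- Lifting of an ordered pair of points of the limit, when `X₀` is quasi-compact. -/
theorem exists_lift_bcMap_of_compact [CompactSpace X₀] {y y' : ↥(pullback (c.π.app i₀) g₀)}
    (H : ∀ k : Over i₀, ∃ (k' : Over i₀) (_ : k' ⟶ k)
      (x x' : ↥(pullback (D.map k'.hom) (f₀ ≫ g₀))),
      x' ⤳ x ∧ bcMap (D.map k'.hom) f₀ g₀ x = (sysCone D c i₀ g₀).π.app k' y ∧
        bcMap (D.map k'.hom) f₀ g₀ x' = (sysCone D c i₀ g₀).π.app k' y') :
    ∃ x x' : ↥(pullback (c.π.app i₀) (f₀ ≫ g₀)), x' ⤳ x ∧ bcMap (c.π.app i₀) f₀ g₀ x = y ∧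
      bcMap (c.π.app i₀) f₀ g₀ x' = y' := by
  have hcpt : CompactSpace ((sys D i₀ (f₀ ≫ g₀)).obj (Over.mk (𝟙 i₀))) := inferInstance
  exact exists_lift_of_forall (sys D i₀ (f₀ ≫ g₀)) (sys D i₀ g₀) (stageNat D i₀ f₀ g₀)
    (sysCone D c i₀ (f₀ ≫ g₀)) (isLimitSysCone D c i₀ (f₀ ≫ g₀) hc) (sysCone D c i₀ g₀)
    (bcMap (c.π.app i₀) f₀ g₀) (bcMap_comp_sysCone_π D c i₀ f₀ g₀)
    (fun p q h => eq_of_forall_π_app_eq (sys D i₀ g₀) (sysCone D c i₀ g₀)
      (isLimitSysCone D c i₀ g₀ hc) h) (Over.mk (𝟙 i₀)) H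

include hc in
/-- **Limit theorem**: if the base changes of a quasi-compact `f₀` to a cofinal set of stages
have the lifting property for ordered pairs of points, so does the base change to the limit. -/
theorem isSSubtrusive_bcMap_of_forall [QuasiCompact f₀]
    (H : ∀ k : Over i₀, ∃ (k' : Over i₀) (_ : k' ⟶ k),
      Subtr.IsSSubtrusive (bcMap (D.map k'.hom) f₀ g₀)) :
    Subtr.IsSSubtrusive (bcMap (c.π.app i₀) f₀ g₀) := by
  intro y y' hyy'
  obtain ⟨V₀, hV₀, hyV₀⟩ := exists_affine_nhd (pullback.snd (c.π.app i₀) g₀ y)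
  have hy'V₀ : pullback.snd (c.π.app i₀) g₀ y' ∈ V₀ :=
    (hyy'.map (pullback.snd (c.π.app i₀) g₀).continuous).mem_open V₀.2 hyV₀
  have hcptU : CompactSpace ((f₀ ⁻¹ᵁ V₀ : X₀.Opens) : Scheme.{u}) :=
    isCompact_iff_compactSpace.mp (QuasiCompact.isCompact_preimage (f := f₀) _ V₀.2 hV₀.isCompact)
  have hrange : Set.range (f₀ ⁻¹ᵁ V₀).ι = f₀ ⁻¹' (V₀ : Set Y₀) := by
    rw [Scheme.Opens.range_ι]; rfl
  -- membership of lifts in the range of the restriction map
  have hmem : ∀ {T : Scheme.{u}} (h : T ⟶ D.obj i₀) (x : ↥(pullback h (f₀ ≫ g₀)))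
      (z : ↥(pullback h g₀)), bcMap h f₀ g₀ x = z → pullback.snd h g₀ z ∈ V₀ →
      ∃ w : ↥(pullback h (((f₀ ⁻¹ᵁ V₀).ι ≫ f₀) ≫ g₀)), resMap h f₀ g₀ (f₀ ⁻¹ᵁ V₀).ι w = x := by
    intro T h x z hxz hz
    have : x ∈ Set.range (resMap h f₀ g₀ (f₀ ⁻¹ᵁ V₀).ι) := by
      rw [range_resMap, hrange]
      change f₀ (pullback.snd h (f₀ ≫ g₀) x) ∈ V₀
      have h1 := congr($(bcMap_snd h f₀ g₀) x)
      simp only [Scheme.Hom.comp_apply] at h1
      rw [← h1, hxz]
      exact hz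
    exact this
  have hsnd : ∀ (k : Over i₀) (p : ↥(pullback (c.π.app i₀) g₀)),
      pullback.snd (D.map k.hom) g₀ ((sysCone D c i₀ g₀).π.app k p) =
        pullback.snd (c.π.app i₀) g₀ p := by
    intro k p
    have h1 := congr($(sysCone_π_snd D c i₀ g₀ k) p)
    exact h1
  obtain ⟨w, w', hww', hw, hw'⟩ := exists_lift_bcMap_of_compact D c hc i₀
    ((f₀ ⁻¹ᵁ V₀).ι ≫ f₀) g₀ (y := y) (y' := y') (by
      intro k
      obtain ⟨k', a, hk'⟩ := H k
      refine ⟨k', a, ?_⟩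
      have h1 : (sysCone D c i₀ g₀).π.app k' y' ⤳ (sysCone D c i₀ g₀).π.app k' y :=
        hyy'.map ((sysCone D c i₀ g₀).π.app k').continuous
      obtain ⟨x, x', hxx', hx, hx'⟩ := hk' h1
      obtain ⟨w, rfl⟩ := hmem (D.map k'.hom) x _ hx (by rw [hsnd]; exact hyV₀)
      obtain ⟨w', rfl⟩ := hmem (D.map k'.hom) x' _ hx' (by rw [hsnd]; exact hy'V₀)
      refine ⟨w, w', ?_, ?_, ?_⟩
      · exact ((resMap (D.map k'.hom) f₀ g₀
          (f₀ ⁻¹ᵁ V₀).ι).isOpenEmbedding.isInducing.specializes_iff).mp hxx'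
      · rw [← hx, ← resMap_bcMap]; rfl
      · rw [← hx', ← resMap_bcMap]; rfl)
  refine ⟨resMap (c.π.app i₀) f₀ g₀ (f₀ ⁻¹ᵁ V₀).ι w, resMap (c.π.app i₀) f₀ g₀ (f₀ ⁻¹ᵁ V₀).ι w',
    hww'.map (resMap (c.π.app i₀) f₀ g₀ (f₀ ⁻¹ᵁ V₀).ι).continuous, ?_, ?_⟩
  · rw [← hw, ← resMap_bcMap]; rfl
  · rw [← hw', ← resMap_bcMap]; rfl

end Sys

end Groth.Agent.Lib.Helper55.SubtrLimit
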