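import Mathlib

/-! Quasi-finiteness over a valuation ring from going-down and generic algebraicity (helper55).

Let `R` be a valuation domain and `A` an `R`-algebra satisfying going-down (e.g. flat) all of
whose elements are algebraic over `R` (e.g. the generic fibre is finite).  Then the primes of `A`
in a fixed fibre over `R` are pairwise incomparable; if moreover `A` is of finite type, then
`A` is quasi-finite over `R`. -/

set_option autoImplicit false

namespace Groth.Agent.Lib.Helper55

open Polynomial TensorProduct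

section Normalize

variable {R : Type*} [CommRing R] [IsDomain R] [ValuationRing R]

/-- In a valuation ring, a nonempty finite family has an element dividing all the others. -/
theorem exists_dvd_of_finset (s : Finset ℕ) (hs : s.Nonempty) (c : ℕ → R) :
    ∃ n ∈ s, ∀ m ∈ s, c n ∣ c m := by
  induction hs using Finset.Nonempty.cons_induction with
  | singleton a => exact ⟨a, by simp, by simp⟩
  | cons a s ha hs ih =>
    obtain ⟨n, hn, h⟩ := ih
    rcases ValuationRing.dvd_total (c a) (c n) with h1 | h1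
    · refine ⟨a, by simp, fun m hm ↦ ?_⟩
      rcases Finset.mem_cons.mp hm with rfl | hm
      · exact dvd_rfl
      · exact h1.trans (h m hm)
    · refine ⟨n, by simp [hn], fun m hm ↦ ?_⟩
      rcases Finset.mem_cons.mp hm with rfl | hm
      · exact h1
      · exact h m hm

/-- Over a valuation domain every nonzero polynomial is a nonzero constant times a polynomial
with a coefficient equal to one. -/
theorem exists_eq_C_mul_of_ne_zero (p : R[X]) (hp : p ≠ 0) :
    ∃ (c : R) (q : R[X]) (n : ℕ), c ≠ 0 ∧ p = C c * q ∧ q.coeff n = 1 := by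
  have hs : p.support.Nonempty := by
    rwa [Finset.nonempty_iff_ne_empty, Ne, Polynomial.support_eq_empty]
  obtain ⟨n, hn, h⟩ := exists_dvd_of_finset p.support hs p.coeff
  have hc : p.coeff n ≠ 0 := Polynomial.mem_support_iff.mp hn
  have hdvd : C (p.coeff n) ∣ p := by
    rw [Polynomial.C_dvd_iff_dvd_coeff]
    intro m
    by_cases hm : m ∈ p.support
    · exact h m hm
    · rw [Polynomial.notMem_support_iff.mp hm]
      exact dvd_zero _
  obtain ⟨q, hq⟩ := hdvd
  refine ⟨p.coeff n, q, n, hc, hq, ?_⟩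
  have h1 : p.coeff n = p.coeff n * q.coeff n := by
    conv_lhs => rw [hq, Polynomial.coeff_C_mul]
  exact (mul_left_cancel₀ hc (by rw [mul_one]; exact h1)).symm

end Normalize

section Incomparable

variable {R A : Type*} [CommRing R] [IsDomain R] [ValuationRing R] [CommRing A] [Algebra R A]

/-- If `a` is algebraic over the valuation domain `R` and `Q₀` is a prime of `A` over `(0)`,
then `a` is, modulo `Q₀`, a root of a polynomial with a coefficient equal to one. -/
theorem exists_aeval_mem_of_isAlgebraic (Q₀ : Ideal A) [Q₀.IsPrime]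
    (h0 : Q₀.comap (algebraMap R A) = ⊥) (a : A) (ha : IsAlgebraic R a) :
    ∃ (q : R[X]) (n : ℕ), q.coeff n = 1 ∧ aeval a q ∈ Q₀ := by
  obtain ⟨p, hp, hpa⟩ := ha
  obtain ⟨c, q, n, hc, rfl, hn⟩ := exists_eq_C_mul_of_ne_zero p hp
  refine ⟨q, n, hn, ?_⟩
  have h1 : algebraMap R A c * aeval a q ∈ Q₀ := by
    have : aeval a (C c * q) = algebraMap R A c * aeval a q := by
      rw [map_mul, aeval_C]
    rw [← this, hpa]
    exact Q₀.zero_mem
  rcases (Ideal.IsPrime.mem_or_mem inferInstance h1) with h2 | h2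
  · exfalso
    apply hc
    have : c ∈ Q₀.comap (algebraMap R A) := h2
    rw [h0] at this
    exact this
  · exact h2

/-- Primes of `A` in one fibre over the valuation domain `R` are incomparable, provided `A`
satisfies going-down and is algebraic over `R`. -/
theorem eq_of_le_of_comap_eq [Algebra.HasGoingDown R A] [Algebra.IsAlgebraic R A]
    (Q₁ Q₂ : Ideal A) [Q₁.IsPrime] [Q₂.IsPrime] (hle : Q₁ ≤ Q₂)
    (h : Q₁.comap (algebraMap R A) = Q₂.comap (algebraMap R A)) : Q₁ = Q₂ := by
  refine le_antisymm hle fun a ha ↦ ?_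
  by_contra ha1
  haveI : Q₁.LiesOver (Q₁.under R) := ⟨rfl⟩
  obtain ⟨Q₀, hQ₀, hQ₀p, hQ₀o⟩ :=
    Ideal.exists_ideal_le_liesOver_of_le (p := (⊥ : Ideal R)) (q := Q₁.under R) Q₁ bot_le
  have h0 : Q₀.comap (algebraMap R A) = ⊥ := hQ₀o.over.symm
  obtain ⟨q, n, hn, hq⟩ := exists_aeval_mem_of_isAlgebraic Q₀ h0 a (Algebra.IsAlgebraic.isAlgebraic a)
  have hne : q.map (Ideal.Quotient.mk (Q₁.comap (algebraMap R A))) ≠ 0 := by
    intro h0
    have h1 := congrArg (fun r ↦ r.coeff n) h0
    simp only [Polynomial.coeff_map, hn, map_one, Polynomial.coeff_zero] at h1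
    have : (Q₁.comap (algebraMap R A)).IsPrime := inferInstance
    have hnt : Nontrivial (R ⧸ Q₁.comap (algebraMap R A)) :=
      Ideal.Quotient.nontrivial_iff.mpr this.ne_top
    exact one_ne_zero h1
  have hlt := Ideal.comap_lt_comap_of_root_mem_sdiff (f := algebraMap R A) hle
    (r := a) ⟨ha, ha1⟩ hne (by rw [← Polynomial.aeval_def]; exact hQ₀ hq)
  rw [h] at hlt
  exact lt_irrefl _ hlt

/-- **Quasi-finiteness over a valuation ring.**  A finite type algebra over a valuation domain
satisfying going-down, all of whose elements are algebraic over the base, is quasi-finite. -/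
theorem quasiFinite_of_hasGoingDown_of_isAlgebraic [Algebra.FiniteType R A]
    [Algebra.HasGoingDown R A] [Algebra.IsAlgebraic R A] : Algebra.QuasiFinite R A := by
  refine ⟨fun P _ ↦ ?_⟩
  rw [Module.finite_iff_isArtinianRing, isArtinianRing_iff_isNoetherianRing_krullDimLE_zero]
  refine ⟨Algebra.FiniteType.isNoetherianRing P.ResidueField _,
    Ring.KrullDimLE.mk₀ fun I hI ↦ ?_⟩
  obtain ⟨M, hM, hIM⟩ := Ideal.exists_le_maximal I hI.ne_top
  have hMp : M.IsPrime := hM.isPrime
  let e := PrimeSpectrum.primesOverOrderIsoFiber R A P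
  have hle : e.symm ⟨I, hI⟩ ≤ e.symm ⟨M, hMp⟩ := e.symm.monotone hIM
  have heq : e.symm ⟨I, hI⟩ = e.symm ⟨M, hMp⟩ := by
    have h1 := (e.symm ⟨I, hI⟩).2
    have h2 := (e.symm ⟨M, hMp⟩).2
    haveI := h1.1
    haveI := h2.1
    refine Subtype.ext (eq_of_le_of_comap_eq (R := R) _ _ hle ?_)
    exact (h1.2.over.symm).trans h2.2.over
  have := e.symm.injective heq
  have hIM' : I = M := congrArg PrimeSpectrum.asIdeal this
  rw [hIM']
  exact hM

end Incomparable

section Algebraic

variable {R : Type*} [CommRing R] [IsDomain R] (K : Type*) [Field K] [Algebra R K]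
  [IsFractionRing R K] (A : Type*) [CommRing A] [Algebra R A]

/-- If the generic fibre `K ⊗[R] A` is finite over `K = Frac R`, then `A` is algebraic
over `R`. -/
theorem isAlgebraic_of_finite_tensor [Module.Finite K (K ⊗[R] A)] : Algebra.IsAlgebraic R A := by
  refine ⟨fun a ↦ ?_⟩
  have h1 : IsIntegral K ((1 : K) ⊗ₜ[R] a) := Algebra.IsIntegral.isIntegral _
  have h2 : IsAlgebraic R ((1 : K) ⊗ₜ[R] a) :=
    (IsFractionRing.isAlgebraic_iff R K (K ⊗[R] A)).mpr h1.isAlgebraic
  obtain ⟨p, hp, hpa⟩ := h2
  have h3 : (Algebra.TensorProduct.includeRight : A →ₐ[R] K ⊗[R] A) (aeval a p) = 0 := by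
    rw [← Polynomial.aeval_algHom_apply]
    exact hpa
  have hloc : IsLocalizedModule (nonZeroDivisors R) (TensorProduct.mk R K A 1) :=
    (isLocalizedModule_iff_isBaseChange (nonZeroDivisors R) K (TensorProduct.mk R K A 1)).mpr
      (TensorProduct.isBaseChange R A K)
  have h4 : (TensorProduct.mk R K A 1) (aeval a p) = 0 := h3
  rw [IsLocalizedModule.eq_zero_iff (nonZeroDivisors R)] at h4
  obtain ⟨s, hs⟩ := h4
  refine ⟨C (s : R) * p, mul_ne_zero ?_ hp, ?_⟩
  · rw [Ne, Polynomial.C_eq_zero]
    exact nonZeroDivisors.coe_ne_zero s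
  · rw [map_mul, aeval_C, ← Algebra.smul_def]
    exact hs

end Algebraic

end Groth.Agent.Lib.Helper55
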