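import Groth.Agent.Lib.Helper55.ProperIntersection
import Groth.Agent.Lib.Helper55.FiberTrdeg
import Groth.Agent.Lib.Helper55.ChevalleyBound
import Groth.Agent.Lib.Helper12.ConstrTop

/-! Tools for "well-intersecting" closed subsets relative to a morphism of finite type schemes over a
field: Chevalley at the generic point, points of `X ×_S X` off the diagonal, and the dimension of
locally closed subsets (helper55). -/

set_option autoImplicit false

universe u

namespace Groth.Agent.Lib.Helper55

open AlgebraicGeometry CategoryTheory CategoryTheory.Limits TopologicalSpace Topology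

section chevalley

variable {X S : Scheme.{u}} [IsNoetherian X] [IsNoetherian S] (f : X ⟶ S) [LocallyOfFiniteType f]

/-- If `η` is the generic point of `Y`, `Z` is closed and `f(Y) ⊆ closure (f(Y) ∩ f(Z))`, then
`f η ∈ f(Z)` (Chevalley's theorem). -/
theorem map_genericPoint_mem_image (Y Z : Set X) (hZ : IsClosed Z) (η : X)
    (hη : IsGenericPoint η Y) (h : f '' Y ⊆ closure (f '' Y ∩ f '' Z)) : f η ∈ f '' Z := by
  have hfp : LocallyOfFinitePresentation f :=
    LocallyOfFinitePresentation.iff_locallyOfFiniteType.mpr inferInstance
  have hZc : IsConstructible Z := Helper12.ConstrTop.isConstructible_of_isClosed hZ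
  have hE : IsConstructible (f '' Z) := f.isConstructible_image hZc
  have hT : IsIrreducible (closure ({f η} : Set S)) := isIrreducible_singleton.closure
  have hYT : f '' Y ⊆ closure {f η} := by
    rintro _ ⟨y, hy, rfl⟩
    have h1 : η ⤳ y := by
      rw [specializes_iff_mem_closure, hη.def]
      exact hy
    exact specializes_iff_mem_closure.mp (h1.map f.continuous)
  have hd : closure ({f η} : Set S) ⊆ closure (f '' Z ∩ closure {f η}) := by
    have h1 : f η ∈ f '' Y := ⟨η, hη.mem, rfl⟩
    have h2 : f η ∈ closure (f '' Y ∩ f '' Z) := h h1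
    have h3 : f '' Y ∩ f '' Z ⊆ f '' Z ∩ closure {f η} := fun s hs => ⟨hs.2, hYT hs.1⟩
    exact closure_minimal (Set.singleton_subset_iff.mpr (closure_mono h3 h2)) isClosed_closure
  obtain ⟨U, hU, ⟨s, hsU, hsT⟩, hsub⟩ := Helper12.ConstrTop.exists_open_of_dense_trace hE hT hd
  have hηU : f η ∈ U := (specializes_iff_mem_closure.mpr hsT).mem_open hU hsU
  exact hsub ⟨hηU, subset_closure rfl⟩

end chevalley

section pullback

variable {X S : Scheme.{u}} (f : X ⟶ S)

/-- Two distinct points with the same image are the projections of a point of `X ×_S X` off the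
diagonal. -/
theorem exists_pullback_point_not_mem_diagonal (x z : X) (h : f x = f z) (hne : x ≠ z) :
    ∃ p : ↥(pullback f f), pullback.fst f f p = x ∧ pullback.snd f f p = z ∧
      p ∉ Set.range (pullback.diagonal f) := by
  obtain ⟨p, hp1, hp2⟩ := Scheme.Pullback.exists_preimage_pullback (f := f) (g := f) x z h
  refine ⟨p, hp1, hp2, ?_⟩
  rintro ⟨w, rfl⟩
  apply hne
  rw [← hp1, ← hp2, ← Scheme.Hom.comp_apply, ← Scheme.Hom.comp_apply, pullback.diagonal_fst,
    pullback.diagonal_snd]

end pullback

section dim

variable {k : Type u} [Field k] {A B : Scheme.{u}} (q : B ⟶ Spec (CommRingCat.of k))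
  [LocallyOfFiniteType q] (g : A ⟶ B) [LocallyOfFiniteType g]

include q in
/-- The closure of the image of a point of a locally closed subset `W` has dimension at most
`dim W`. -/
theorem dim_closure_map_le_of_mem_isLocallyClosed {W : Set A} (hW : IsLocallyClosed W) (p : A)
    (hp : p ∈ W) :
    topologicalKrullDim ↥(closure ({g p} : Set B)) ≤ topologicalKrullDim ↥W := by
  obtain ⟨a, b, ha, -, hab⟩ := exists_dim_closure_eq_add q g p
  have h1 : topologicalKrullDim ↥(closure ({g p} : Set B)) ≤
      topologicalKrullDim ↥(closure ({p} : Set A)) := by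
    rw [ha, hab]
    exact_mod_cast Nat.le_add_right a b
  refine h1.trans ?_
  rw [← topologicalKrullDim_closure_inter_eq_of_isLocallyClosed (g ≫ q) hW p hp]
  exact topologicalKrullDim_mono_set Set.inter_subset_right

end dim

section lift

/-- A morphism from a reduced scheme whose image lies in the image of a closed immersion factors
through it. -/
theorem exists_lift_of_range_subset {Z X T : Scheme.{u}} (i : Z ⟶ X) [IsClosedImmersion i]
    [IsReduced T] (t : T ⟶ X) (h : Set.range t ⊆ Set.range i) : ∃ t' : T ⟶ Z, t' ≫ i = t := by
  have hsurj : Surjective (pullback.snd i t) := by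
    refine ⟨fun y => ?_⟩
    obtain ⟨z, hz⟩ := h ⟨y, rfl⟩
    obtain ⟨p, -, hp⟩ := Scheme.Pullback.exists_preimage_pullback (f := i) (g := t) z y hz
    exact ⟨p, hp⟩
  have hiso : IsIso (pullback.snd i t) := isIso_of_isClosedImmersion_of_surjective _
  refine ⟨inv (pullback.snd i t) ≫ pullback.fst i t, ?_⟩
  rw [Category.assoc, pullback.condition, IsIso.inv_hom_id_assoc]

variable {X S : Scheme.{u}} (f : X ⟶ S) [IsSeparated f]

/-- If every point of `X ×_S X` both of whose projections equal `x` lies on the diagonal, the
residue field extension at `x` is purely inseparable. -/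
theorem isPurelyInseparable_residueFieldMap_of_forall_mem_diagonal (x : X)
    (h : ∀ p : ↥(pullback f f), pullback.fst f f p = x → pullback.snd f f p = x →
      p ∈ Set.range (pullback.diagonal f)) :
    (f.residueFieldMap x).hom.IsPurelyInseparable := by
  let _ : Algebra (S.residueField (f x)) (X.residueField x) := (f.residueFieldMap x).hom.toAlgebra
  change IsPurelyInseparable (S.residueField (f x)) (X.residueField x)
  have hne : Nonempty (X.residueField x →+* AlgebraicClosure (X.residueField x)) :=
    ⟨algebraMap _ _⟩
  refine IsPurelyInseparable.of_injective_comp_algebraMap _ _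
    (AlgebraicClosure (X.residueField x)) ?_
  intro σ τ hστ
  have hστ' : σ.comp (f.residueFieldMap x).hom = τ.comp (f.residueFieldMap x).hom := hστ
  let sσ : Spec (.of (AlgebraicClosure (X.residueField x))) ⟶ X :=
    Spec.map (CommRingCat.ofHom σ) ≫ X.fromSpecResidueField x
  let sτ : Spec (.of (AlgebraicClosure (X.residueField x))) ⟶ X :=
    Spec.map (CommRingCat.ofHom τ) ≫ X.fromSpecResidueField x
  have hcomm : sσ ≫ f = sτ ≫ f := by
    simp only [sσ, sτ, Category.assoc]
    rw [← Scheme.Hom.SpecMap_residueFieldMap_fromSpecResidueField, ← Spec.map_comp_assoc,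
      ← Spec.map_comp_assoc]
    congr 2
    ext a
    exact congr($hστ' a)
  let t := pullback.lift sσ sτ hcomm
  have ht : Set.range t ⊆ Set.range (pullback.diagonal f) := by
    rintro _ ⟨y, rfl⟩
    apply h
    · rw [← Scheme.Hom.comp_apply, pullback.lift_fst]
      exact Scheme.fromSpecResidueField_apply x _
    · rw [← Scheme.Hom.comp_apply, pullback.lift_snd]
      exact Scheme.fromSpecResidueField_apply x _
  obtain ⟨t', ht'⟩ := exists_lift_of_range_subset (pullback.diagonal f) t ht
  have h1 : sσ = t' := by
    have := congr($ht' ≫ pullback.fst f f)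
    rw [Category.assoc, pullback.diagonal_fst, Category.comp_id, pullback.lift_fst] at this
    exact this.symm
  have h2 : sτ = t' := by
    have := congr($ht' ≫ pullback.snd f f)
    rw [Category.assoc, pullback.diagonal_snd, Category.comp_id, pullback.lift_snd] at this
    exact this.symm
  have h3 : Spec.map (CommRingCat.ofHom σ) = Spec.map (CommRingCat.ofHom τ) := by
    rw [← cancel_mono (X.fromSpecResidueField x)]
    exact h1.trans h2.symm
  have h4 := Spec.map_injective h3
  exact congrArg CommRingCat.Hom.hom h4

end lift

end Groth.Agent.Lib.Helper55
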